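import Mathlib

/-! Descent of flatness along a faithfully flat map on the source side, algebraic and for schemes. -/

namespace Groth.Agent.Lib.helper6

open TensorProduct

theorem H6_flat_of_flat_of_faithfullyFlat (A B C : Type*) [CommRing A] [CommRing B] [CommRing C]
    [Algebra A B] [Algebra B C] [Algebra A C] [IsScalarTower A B C]
    [Module.Flat A C] [Module.FaithfullyFlat B C] : Module.Flat A B := by
  rw [Module.Flat.iff_lTensor_preserves_injective_linearMap]
  intro N P _ _ _ _ f hf
  have h1 : Function.Injective (f.baseChange B) ↔ Function.Injective (f.lTensor B) := Iff.rfl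
  rw [← h1, ← Module.FaithfullyFlat.lTensor_injective_iff_injective B C]
  have hC : Function.Injective (f.lTensor C) :=
    Module.Flat.lTensor_preserves_injective_linearMap f hf
  have comm : ∀ x : C ⊗[B] (B ⊗[A] N),
      TensorProduct.AlgebraTensorModule.cancelBaseChange A B B C P
        ((f.baseChange B).lTensor C x) =
      (f.lTensor C) (TensorProduct.AlgebraTensorModule.cancelBaseChange A B B C N x) := by
    intro x
    induction x using TensorProduct.induction_on with
    | zero => simp
    | add x y hx hy => simp only [map_add, hx, hy]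
    | tmul c y =>
      induction y using TensorProduct.induction_on with
      | zero => simp
      | add x y hx hy =>
        simp only [tmul_add, map_add, hx, hy]
      | tmul b n =>
        simp
  intro x y hxy
  apply (TensorProduct.AlgebraTensorModule.cancelBaseChange A B B C N).injective
  apply hC
  rw [← comm, ← comm, hxy]

theorem H6_ringHom_flat_of_comp {A B C : Type*} [CommRing A] [CommRing B] [CommRing C]
    [IsLocalRing B] [IsLocalRing C]
    (φ : A →+* B) (ψ : B →+* C) [IsLocalHom ψ] (hψ : ψ.Flat) (hc : (ψ.comp φ).Flat) : φ.Flat := by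
  algebraize [φ, ψ, ψ.comp φ]
  haveI : IsLocalHom (algebraMap B C) := ‹IsLocalHom ψ›
  haveI : Module.FaithfullyFlat B C := Module.FaithfullyFlat.of_flat_of_isLocalHom
  exact H6_flat_of_flat_of_faithfullyFlat A B C

universe u

open AlgebraicGeometry CategoryTheory in
theorem H6_flat_of_flat_comp {X' X Y : Scheme.{u}} (h : X' ⟶ X) (f : X ⟶ Y) [Flat h]
    [Surjective h] [Flat (h ≫ f)] : Flat f := by
  apply Flat.of_stalkMap
  intro x
  obtain ⟨x', rfl⟩ := h.surjective x
  have h1 := Flat.stalkMap (h ≫ f) x'
  rw [Scheme.Hom.stalkMap_comp] at h1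
  have h2 := Flat.stalkMap h x'
  exact H6_ringHom_flat_of_comp (f.stalkMap (h x')).hom (h.stalkMap x').hom h2 h1

end Groth.Agent.Lib.helper6
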