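import Mathlib
import Groth.Agent.S13710

set_option autoImplicit false
universe u
open CategoryTheory CategoryTheory.Limits AlgebraicGeometry

namespace Groth.Agent.Lib.helper6

theorem H6_isIso_app_of_flat_baseChange {X Y Y' Z X'' Z' : Scheme.{u}} [IsAffine Y] [IsAffine Z]
    [CompactSpace X] [QuasiSeparatedSpace X]
    (f : X ⟶ Y) (g : Y' ⟶ Y) [Flat g] (q : Z ⟶ Y) (t : X ⟶ Z) (htq : t ≫ q = f)
    [IsIso t.appTop]
    {g' : Z' ⟶ Z} {s : Z' ⟶ Y'} (HZ : IsPullback g' s q g)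
    {a : X'' ⟶ X} {r : X'' ⟶ Y'} (HX : IsPullback a r f g)
    (t' : X'' ⟶ Z') (h1 : t' ≫ g' = a ≫ t) (h2 : t' ≫ s = r)
    (V : Y'.Opens) (hV : IsAffineOpen V) : IsIso (t'.app (s ⁻¹ᵁ V)) := by
  have e1 : V ≤ g ⁻¹ᵁ ⊤ := le_top
  have e2 : (⊤ : Z.Opens) ≤ q ⁻¹ᵁ ⊤ := le_top
  have e3 : (⊤ : X.Opens) ≤ f ⁻¹ᵁ ⊤ := le_top
  have e4 : s ⁻¹ᵁ V = g' ⁻¹ᵁ ⊤ ⊓ s ⁻¹ᵁ V := by simp
  have e5 : t' ⁻¹ᵁ (s ⁻¹ᵁ V) = a ⁻¹ᵁ ⊤ ⊓ r ⁻¹ᵁ V := by
    rw [← h2]; simp
  have iZ : IsIso (pushoutSection HZ e1 e2 e4) :=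
    isIso_pushoutSection_of_isAffineOpen HZ e1 e2 e4 (isAffineOpen_top Y) hV (isAffineOpen_top Z)
  have iX : IsIso (pushoutSection HX e1 e3 e5) :=
    isIso_pushoutSection_of_isQuasiSeparated_of_flat_right HX e1 e3 e5 (isAffineOpen_top Y) hV
      CompactSpace.isCompact_univ isQuasiSeparated_univ
  have e6 : (⊤ : X.Opens) ≤ t ⁻¹ᵁ ⊤ := le_top
  have c1 : q.appLE ⊤ ⊤ e2 ≫ t.appLE ⊤ ⊤ e6 = 𝟙 _ ≫ f.appLE ⊤ ⊤ e3 := by
    rw [Scheme.Hom.appLE_comp_appLE, Category.id_comp]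
    simp only [htq]
  have c2 : g.appLE ⊤ V e1 ≫ 𝟙 _ = 𝟙 _ ≫ g.appLE ⊤ V e1 := by simp
  have : IsIso (t.appLE ⊤ ⊤ e6) := by
    have : t.appLE ⊤ ⊤ e6 = t.appTop := by simp [Scheme.Hom.appTop, Scheme.Hom.appLE]
    rw [this]; infer_instance
  let m := pushout.map (q.appLE ⊤ ⊤ e2) (g.appLE ⊤ V e1) (f.appLE ⊤ ⊤ e3) (g.appLE ⊤ V e1)
    (t.appLE ⊤ ⊤ e6) (𝟙 _) (𝟙 _) c1 c2
  have key : m ≫ pushoutSection HX e1 e3 e5 = pushoutSection HZ e1 e2 e4 ≫ t'.app (s ⁻¹ᵁ V) := by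
    apply pushout.hom_ext
    · simp only [m, pushout.inl_desc_assoc, pushout.inl_desc, Category.assoc]
      rw [Scheme.Hom.app_eq_appLE, Scheme.Hom.appLE_comp_appLE, Scheme.Hom.appLE_comp_appLE]
      simp only [h1]
    · simp only [m, pushout.inr_desc_assoc, pushout.inr_desc, Category.assoc]
      rw [Scheme.Hom.app_eq_appLE, Scheme.Hom.appLE_comp_appLE, Category.id_comp]
      simp only [h2]
  have : t'.app (s ⁻¹ᵁ V) = inv (pushoutSection HZ e1 e2 e4) ≫ m ≫ pushoutSection HX e1 e3 e5 := by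
    rw [key, IsIso.inv_hom_id_assoc]
  rw [this]
  infer_instance


theorem H6_isIso_of_flat_baseChange {X Y Y' Z X'' Z' : Scheme.{u}} [IsAffine Y] [IsAffine Z]
    [CompactSpace X] [QuasiSeparatedSpace X]
    (f : X ⟶ Y) (g : Y' ⟶ Y) [Flat g] (q : Z ⟶ Y) (t : X ⟶ Z) (htq : t ≫ q = f)
    [IsIso t.appTop]
    {g' : Z' ⟶ Z} {s : Z' ⟶ Y'} (HZ : IsPullback g' s q g)
    {a : X'' ⟶ X} {r : X'' ⟶ Y'} (HX : IsPullback a r f g) [IsAffineHom r]
    (t' : X'' ⟶ Z') (h1 : t' ≫ g' = a ≫ t) (h2 : t' ≫ s = r) : IsIso t' := by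
  have hs : IsAffineHom s :=
    MorphismProperty.of_isPullback (P := @IsAffineHom) HZ (inferInstance : IsAffineHom q)
  have : IsAffineHom (t' ≫ s) := by rw [h2]; infer_instance
  have ht' : IsAffineHom t' := IsAffineHom.of_comp t' s
  have hcov : ⨆ V : Y'.affineOpens, s ⁻¹ᵁ V.1 = ⊤ := by
    rw [← Scheme.Hom.preimage_iSup, iSup_affineOpens_eq_top]; rfl
  have hloc : ∀ V : Y'.affineOpens, IsIso (t' ∣_ (s ⁻¹ᵁ V.1)) := by
    intro V
    rw [isIso_morphismRestrict_iff_isIso_app (f := t') (V.2.preimage s)]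
    exact H6_isIso_app_of_flat_baseChange f g q t htq HZ HX t' h1 h2 V.1 V.2
  exact (IsZariskiLocalAtTarget.iff_of_iSup_eq_top (P := MorphismProperty.isomorphisms Scheme)
    (fun V : Y'.affineOpens => s ⁻¹ᵁ V.1) hcov).mpr hloc

/-- Affine base: if `f : X ⟶ Y` is qcqs with `Y` affine and the base change of `f` along a flat
surjective `g` is affine then `X` is affine. -/
theorem H6_isAffine_of_flat_baseChange {X Y Y' : Scheme.{u}} [IsAffine Y] (f : X ⟶ Y) (g : Y' ⟶ Y)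
    [Flat g] [Surjective g] [QuasiCompact f] [QuasiSeparated f]
    [IsAffineHom (pullback.snd f g)] : IsAffine X := by
  haveI : CompactSpace X := QuasiCompact.compactSpace_of_compactSpace f
  haveI : QuasiSeparatedSpace X := quasiSeparatedSpace_of_quasiSeparated f
  obtain ⟨t, ht⟩ : ∃ t : X ⟶ Spec Γ(X, ⊤), t = X.toSpecΓ := ⟨_, rfl⟩
  obtain ⟨q, hq⟩ : ∃ q : Spec Γ(X, ⊤) ⟶ Y, q = Spec.map f.appTop ≫ Y.isoSpec.inv := ⟨_, rfl⟩
  have htq : t ≫ q = f := by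
    rw [ht, hq, ← Category.assoc, ← Scheme.toSpecΓ_naturality, Category.assoc]
    simp [Scheme.isoSpec]
  have htop : IsIso t.appTop := by
    rw [ht, Scheme.toSpecΓ_appTop]; infer_instance
  suffices IsIso t by
    rw [ht] at this
    exact ⟨this⟩
  clear ht hq
  have HZ : IsPullback (pullback.fst q g) (pullback.snd q g) q g := IsPullback.of_hasPullback q g
  have H1 : IsPullback (pullback.fst t (pullback.fst q g)) (pullback.snd t (pullback.fst q g)) t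
      (pullback.fst q g) := IsPullback.of_hasPullback _ _
  have HX : IsPullback (pullback.fst t (pullback.fst q g))
      (pullback.snd t (pullback.fst q g) ≫ pullback.snd q g) f g := by
    have := H1.paste_vert HZ
    rwa [htq] at this
  haveI : IsAffineHom (pullback.snd t (pullback.fst q g) ≫ pullback.snd q g) := by
    have : pullback.snd t (pullback.fst q g) ≫ pullback.snd q g
        = HX.isoPullback.hom ≫ pullback.snd f g := (HX.isoPullback_hom_snd).symm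
    rw [this]; infer_instance
  rw [Groth.Agent.S13710.result t (pullback.fst q g)]
  refine ⟨inferInstance, ?_⟩
  exact H6_isIso_of_flat_baseChange f g q t htq HZ HX _ pullback.condition.symm rfl

end Groth.Agent.Lib.helper6
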