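import Mathlib

set_option autoImplicit false
universe u v w

open scoped TensorProduct

namespace Groth.Agent.Lib.helper6

section

variable {K : Type u} {A : Type v} {B : Type w} [Field K] [Ring A] [Ring B] [Algebra K A] [Algebra K B]

/-- Coefficients of an element of `A ⊗ B` along a basis of `B`. -/
noncomputable def H6_coef {ι : Type*} (e : Module.Basis ι K B) : A ⊗[K] B ≃ₗ[K] ι →₀ A :=
  haveI := Classical.decEq ι
  TensorProduct.equivFinsuppOfBasisRight e

theorem H6_coef_tmul {ι : Type*} (e : Module.Basis ι K B) (a : A) (b : B) (i : ι) :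
    H6_coef e (a ⊗ₜ[K] b) i = e.repr b i • a := by
  classical
  unfold H6_coef
  convert TensorProduct.equivFinsuppOfBasisRight_apply_tmul_apply e a b i

theorem H6_coef_mul {ι : Type*} (e : Module.Basis ι K B) (a' a'' : A) (x : A ⊗[K] B) (i : ι) :
    H6_coef e ((a' ⊗ₜ[K] (1 : B)) * x * (a'' ⊗ₜ[K] (1 : B))) i = a' * H6_coef e x i * a'' := by
  induction x using TensorProduct.induction_on with
  | zero => simp
  | tmul a b =>
    rw [Algebra.TensorProduct.tmul_mul_tmul, Algebra.TensorProduct.tmul_mul_tmul, one_mul, mul_one,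
      H6_coef_tmul, H6_coef_tmul, mul_smul_comm, smul_mul_assoc]
  | add x y hx hy =>
    rw [mul_add, add_mul, map_add, Finsupp.add_apply, hx, hy, map_add, Finsupp.add_apply, mul_add,
      add_mul]

theorem H6_coef_sum {ι : Type*} (e : Module.Basis ι K B) (x : A ⊗[K] B) :
    x = (H6_coef e x).sum fun i m => m ⊗ₜ[K] e i := by
  classical
  have := TensorProduct.equivFinsuppOfBasisRight_symm_apply (M := A) e (H6_coef e x)
  rw [← this]
  unfold H6_coef
  convert ((TensorProduct.equivFinsuppOfBasisRight e).symm_apply_apply x).symm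

/-- Elements all of whose coefficients are scalars come from `B`. -/
theorem H6_exists_of_coef_scalar {ι : Type*} (e : Module.Basis ι K B)
    (y : A ⊗[K] B) (h : ∀ i, ∃ l : K, H6_coef e y i = algebraMap K A l) :
    ∃ b : B, y = (1 : A) ⊗ₜ[K] b := by
  classical
  have hmem : y ∈ (Algebra.TensorProduct.includeRight : B →ₐ[K] A ⊗[K] B).range := by
    rw [H6_coef_sum e y]
    apply Subalgebra.sum_mem
    intro i _
    obtain ⟨l, hl⟩ := h i
    refine ⟨l • e i, ?_⟩
    show (1 : A) ⊗ₜ[K] (l • e i) = _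
    rw [hl, TensorProduct.tmul_smul, TensorProduct.smul_tmul', Algebra.algebraMap_eq_smul_one]
  obtain ⟨b, hb⟩ := hmem
  exact ⟨b, hb.symm⟩

/-- Elements all of whose coefficients are central come from `B`. -/
theorem H6_exists_of_coef_central [Algebra.IsCentral K A] {ι : Type*} (e : Module.Basis ι K B)
    (y : A ⊗[K] B) (h : ∀ i (c : A), c * H6_coef e y i = H6_coef e y i * c) :
    ∃ b : B, y = (1 : A) ⊗ₜ[K] b := by
  classical
  have hmem : y ∈ (Algebra.TensorProduct.includeRight : B →ₐ[K] A ⊗[K] B).range := by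
    rw [H6_coef_sum e y]
    apply Subalgebra.sum_mem
    intro i _
    have hc : H6_coef e y i ∈ Subalgebra.center K A := by
      rw [Subalgebra.mem_center_iff]
      intro c
      exact h i c
    obtain ⟨l, hl⟩ := (Algebra.IsCentral.mem_center_iff K).1 hc
    refine ⟨l • e i, ?_⟩
    show (1 : A) ⊗ₜ[K] (l • e i) = _
    rw [hl, TensorProduct.tmul_smul, TensorProduct.smul_tmul', Algebra.algebraMap_eq_smul_one]
  obtain ⟨b, hb⟩ := hmem
  exact ⟨b, hb.symm⟩

theorem H6_tensor_ideal_one_mem [Algebra.IsCentral K A] [IsSimpleRing A] [IsSimpleRing B]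
    (I : TwoSidedIdeal (A ⊗[K] B)) :
    ∀ (n : ℕ) (x : A ⊗[K] B), x ∈ I → x ≠ 0 →
      (H6_coef (Module.Basis.ofVectorSpace K B) x).support.card = n → (1 : A ⊗[K] B) ∈ I := by
  classical
  set e := Module.Basis.ofVectorSpace K B with he
  intro n
  induction n using Nat.strong_induction_on with
  | _ n ih =>
  intro x hxI hx0 hcard
  -- a nonzero coefficient
  have hne : H6_coef e x ≠ 0 := by
    intro h0
    apply hx0
    exact (H6_coef e).injective (by rw [h0, map_zero])
  obtain ⟨j₀, hj₀⟩ := Finsupp.support_nonempty_iff.2 hne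
  have hj₀' : H6_coef e x j₀ ≠ 0 := Finsupp.mem_support_iff.1 hj₀
  -- the ideal of possible `j₀`-coefficients
  let J : TwoSidedIdeal A := TwoSidedIdeal.mk'
    {c | ∃ y ∈ I, (∀ i, i ∉ (H6_coef e x).support → H6_coef e y i = 0) ∧ H6_coef e y j₀ = c}
    ⟨0, I.zero_mem, fun i _ => by rw [map_zero]; rfl, by rw [map_zero]; rfl⟩
    (by
      rintro c c' ⟨y, hy, hy1, hy2⟩ ⟨y', hy', hy1', hy2'⟩
      refine ⟨y + y', I.add_mem hy hy', fun i hi => ?_, ?_⟩
      · rw [map_add, Finsupp.add_apply, hy1 i hi, hy1' i hi, add_zero]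
      · rw [map_add, Finsupp.add_apply, hy2, hy2'])
    (by
      rintro c ⟨y, hy, hy1, hy2⟩
      refine ⟨-y, I.neg_mem hy, fun i hi => ?_, ?_⟩
      · rw [map_neg, Finsupp.neg_apply, hy1 i hi, neg_zero]
      · rw [map_neg, Finsupp.neg_apply, hy2])
    (by
      rintro c' c ⟨y, hy, hy1, hy2⟩
      refine ⟨(c' ⊗ₜ[K] (1 : B)) * y * ((1 : A) ⊗ₜ[K] (1 : B)),
        I.mul_mem_right _ _ (I.mul_mem_left _ _ hy), fun i hi => ?_, ?_⟩
      · rw [H6_coef_mul, hy1 i hi, mul_zero, zero_mul]
      · rw [H6_coef_mul, hy2, mul_one])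
    (by
      rintro c c' ⟨y, hy, hy1, hy2⟩
      refine ⟨((1 : A) ⊗ₜ[K] (1 : B)) * y * (c' ⊗ₜ[K] (1 : B)),
        I.mul_mem_right _ _ (I.mul_mem_left _ _ hy), fun i hi => ?_, ?_⟩
      · rw [H6_coef_mul, hy1 i hi, mul_zero, zero_mul]
      · rw [H6_coef_mul, hy2, one_mul])
  have hJx : H6_coef e x j₀ ∈ J := by
    rw [TwoSidedIdeal.mem_mk']
    exact ⟨x, hxI, fun i hi => Finsupp.notMem_support_iff.1 hi, rfl⟩
  have hJtop : J = ⊤ := by
    rcases eq_bot_or_eq_top J with h | h
    · exfalso
      rw [h, TwoSidedIdeal.mem_bot] at hJx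
      exact hj₀' hJx
    · exact h
  have h1J : (1 : A) ∈ J := by rw [hJtop]; trivial
  rw [TwoSidedIdeal.mem_mk'] at h1J
  obtain ⟨y, hyI, hy1, hy2⟩ := h1J
  have hysupp : (H6_coef e y).support ⊆ (H6_coef e x).support := by
    intro i hi
    by_contra hni
    exact (Finsupp.mem_support_iff.1 hi) (hy1 i hni)
  have hy0 : y ≠ 0 := by
    intro h0
    rw [h0, map_zero] at hy2
    exact one_ne_zero hy2.symm
  -- commutators
  by_cases hcomm : ∀ (c : A), (c ⊗ₜ[K] (1 : B)) * y - y * (c ⊗ₜ[K] (1 : B)) = 0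
  · -- all coefficients central
    have hcen : ∀ i (c : A), c * H6_coef e y i = H6_coef e y i * c := by
      intro i c
      have h1 := congrArg (fun z => H6_coef e z i) (hcomm c)
      simp only [map_sub, Finsupp.sub_apply, map_zero, Finsupp.zero_apply] at h1
      have h2 := H6_coef_mul e c 1 y i
      have h3 := H6_coef_mul e 1 c y i
      rw [Algebra.TensorProduct.one_def.symm, mul_one, mul_one] at h2
      rw [Algebra.TensorProduct.one_def.symm, one_mul, one_mul] at h3
      rw [h2, h3] at h1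
      exact sub_eq_zero.1 h1
    obtain ⟨b, hb⟩ := H6_exists_of_coef_central e y hcen
    have hb0 : b ≠ 0 := by
      intro h0
      apply hy0
      rw [hb, h0, TensorProduct.tmul_zero]
    let JB : TwoSidedIdeal B :=
      TwoSidedIdeal.comap (Algebra.TensorProduct.includeRight : B →ₐ[K] A ⊗[K] B) I
    have hbJ : b ∈ JB := by
      rw [TwoSidedIdeal.mem_comap]
      show (1 : A) ⊗ₜ[K] b ∈ I
      rw [← hb]
      exact hyI
    have hJBtop : JB = ⊤ := by
      rcases eq_bot_or_eq_top JB with h | h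
      · exfalso
        rw [h, TwoSidedIdeal.mem_bot] at hbJ
        exact hb0 hbJ
      · exact h
    have h1 : (1 : B) ∈ JB := by rw [hJBtop]; trivial
    rw [TwoSidedIdeal.mem_comap] at h1
    have h2 : (Algebra.TensorProduct.includeRight : B →ₐ[K] A ⊗[K] B) 1 = 1 := map_one _
    rw [h2] at h1
    exact h1
  · -- a shorter nonzero element
    push_neg at hcomm
    obtain ⟨c, hc⟩ := hcomm
    set z := (c ⊗ₜ[K] (1 : B)) * y - y * (c ⊗ₜ[K] (1 : B)) with hz
    have hzI : z ∈ I := I.sub_mem (I.mul_mem_left _ _ hyI) (I.mul_mem_right _ _ hyI)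
    have hzcoef : ∀ i, H6_coef e z i = c * H6_coef e y i - H6_coef e y i * c := by
      intro i
      have h2 := H6_coef_mul e c 1 y i
      have h3 := H6_coef_mul e 1 c y i
      rw [Algebra.TensorProduct.one_def.symm, mul_one, mul_one] at h2
      rw [Algebra.TensorProduct.one_def.symm, one_mul, one_mul] at h3
      rw [hz, map_sub, Finsupp.sub_apply, h2, h3]
    have hzsupp : (H6_coef e z).support ⊆ (H6_coef e x).support.erase j₀ := by
      intro i hi
      rw [Finset.mem_erase]
      have hi' := Finsupp.mem_support_iff.1 hi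
      rw [hzcoef] at hi'
      constructor
      · rintro rfl
        apply hi'
        rw [hy2, mul_one, one_mul, sub_self]
      · by_contra hni
        apply hi'
        rw [hy1 i hni, mul_zero, zero_mul, sub_self]
    have hlt : (H6_coef e z).support.card < n := by
      calc (H6_coef e z).support.card ≤ ((H6_coef e x).support.erase j₀).card :=
            Finset.card_le_card hzsupp
        _ < (H6_coef e x).support.card := Finset.card_erase_lt_of_mem hj₀
        _ = n := hcard
    exact ih _ hlt z hzI hc rfl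

/-- The tensor product of a central simple algebra with a simple algebra is simple. -/
theorem H6_isSimpleRing_tensor [Algebra.IsCentral K A] [IsSimpleRing A] [IsSimpleRing B] :
    IsSimpleRing (A ⊗[K] B) := by
  classical
  haveI : Nontrivial (A ⊗[K] B) := by
    refine ⟨⟨0, 1, ?_⟩⟩
    intro h
    have hinj : Function.Injective (Algebra.TensorProduct.includeRight : B →ₐ[K] A ⊗[K] B) :=
      Algebra.TensorProduct.includeRight_injective (algebraMap K A).injective
    have : (Algebra.TensorProduct.includeRight : B →ₐ[K] A ⊗[K] B) 0 =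
        (Algebra.TensorProduct.includeRight : B →ₐ[K] A ⊗[K] B) 1 := by
      rw [map_zero, map_one]; exact h
    exact zero_ne_one (hinj this)
  refine ⟨⟨fun I => ?_⟩⟩
  by_cases hI : I = ⊥
  · exact Or.inl hI
  · right
    have : ∃ x ∈ I, x ≠ 0 := by
      by_contra hcon
      push_neg at hcon
      apply hI
      rw [eq_bot_iff]
      intro x hx
      rw [TwoSidedIdeal.mem_bot]
      exact hcon x hx
    obtain ⟨x, hx, hx0⟩ := this
    exact (TwoSidedIdeal.one_mem_iff I).1 (H6_tensor_ideal_one_mem I _ x hx hx0 rfl)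

end

end Groth.Agent.Lib.helper6
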