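import Mathlib
import Groth.Agent.Lib.helper6.CSATensor

set_option autoImplicit false
universe u v w

open scoped TensorProduct

namespace Groth.Agent.Lib.helper6

section BaseChange

variable {k : Type u} [Field k] {A : Type v} [Ring A] [Algebra k A]
  {L : Type w} [Field L] [Algebra k L]

/-- Base change of a central algebra is central. -/
theorem H6_isCentral_baseChange [Algebra.IsCentral k A] : Algebra.IsCentral L (L ⊗[k] A) := by
  classical
  refine ⟨fun y hy => ?_⟩
  rw [Subalgebra.mem_center_iff] at hy
  set y' : A ⊗[k] L := Algebra.TensorProduct.comm k L A y with hy'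
  let e := Module.Basis.ofVectorSpace k L
  have hcomm : ∀ c : A, (c ⊗ₜ[k] (1 : L)) * y' = y' * (c ⊗ₜ[k] (1 : L)) := by
    intro c
    have h1 := hy ((1 : L) ⊗ₜ[k] c)
    have h2 := congrArg (Algebra.TensorProduct.comm k L A) h1
    rw [map_mul, map_mul, Algebra.TensorProduct.comm_tmul] at h2
    exact h2
  obtain ⟨l, hl⟩ := H6_exists_of_coef_central e y' (by
    intro i c
    have h1 := H6_coef_mul e c 1 y' i
    have h2 := H6_coef_mul e 1 c y' i
    rw [Algebra.TensorProduct.one_def.symm, mul_one, mul_one] at h1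
    rw [Algebra.TensorProduct.one_def.symm, one_mul, one_mul] at h2
    rw [← h1, ← h2, hcomm c])
  have h3 : y = l ⊗ₜ[k] (1 : A) := by
    have : y = (Algebra.TensorProduct.comm k L A).symm y' := by
      rw [hy', AlgEquiv.symm_apply_apply]
    rw [this, hl]
    rfl
  rw [h3]
  exact ⟨l, rfl⟩

theorem H6_isSimpleRing_baseChange [Algebra.IsCentral k A] [IsSimpleRing A] :
    IsSimpleRing (L ⊗[k] A) := by
  haveI : IsSimpleRing (A ⊗[k] L) := H6_isSimpleRing_tensor
  exact IsSimpleRing.of_ringEquiv (Algebra.TensorProduct.comm k A L).toRingEquiv inferInstance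

end BaseChange

section Split

variable {L : Type u} [Field L]

theorem H6_isCentral_of_matrix {D : Type v} [Ring D] [Algebra L D] (n : ℕ) [NeZero n]
    [Algebra.IsCentral L (Matrix (Fin n) (Fin n) D)] : Algebra.IsCentral L D := by
  refine ⟨fun a ha => ?_⟩
  rw [Subalgebra.mem_center_iff] at ha
  have h1 : Matrix.scalar (Fin n) a ∈ Subalgebra.center L (Matrix (Fin n) (Fin n) D) := by
    rw [Subalgebra.mem_center_iff]
    intro M
    exact (Matrix.scalar_commute a (fun r => (ha r).symm) M).symm
  have h2 := Algebra.IsCentral.out h1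
  obtain ⟨l, hl⟩ := h2
  refine ⟨l, ?_⟩
  have := congrFun (congrFun hl 0) 0
  simpa [Matrix.algebraMap_matrix_apply] using this

/-- A finite-dimensional central simple algebra over a separably closed field is split. -/
theorem H6_split_sepClosed [IsSepClosed L] (B : Type v) [Ring B] [Algebra L B]
    [Algebra.IsCentral L B] [IsSimpleRing B] [FiniteDimensional L B] :
    ∃ m : ℕ, m ≠ 0 ∧ Nonempty (B ≃ₐ[L] Matrix (Fin m) (Fin m) L) := by
  classical
  haveI := IsArtinianRing.of_finite L B
  obtain ⟨n, hn, D, _, _, _, ⟨e⟩⟩ := IsSimpleRing.exists_algEquiv_matrix_divisionRing_finite L B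
  haveI : Algebra.IsCentral L (Matrix (Fin n) (Fin n) D) :=
    Algebra.IsCentral.of_algEquiv L _ _ e
  haveI : Algebra.IsCentral L D := H6_isCentral_of_matrix n
  have htop : (⊥ : Subalgebra L D) = ⊤ := by
    by_contra hne
    obtain ⟨x, hx, hsep⟩ := JacobsonNoether.exists_separable_and_not_isCentral' (L := L) (D := D) hne
    apply hx
    have hint : IsIntegral L x := Algebra.IsIntegral.isIntegral x
    have hdeg := IsSepClosed.degree_eq_one_of_irreducible L (minpoly.irreducible hint) hsep
    have := minpoly.mem_range_of_degree_eq_one L x hdeg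
    exact this
  have hbij : Function.Bijective (Algebra.ofId L D) := by
    constructor
    · exact (algebraMap L D).injective
    · intro d
      have : d ∈ (⊥ : Subalgebra L D) := by rw [htop]; trivial
      exact this
  exact ⟨n, hn.out, ⟨e.trans (AlgEquiv.mapMatrix (AlgEquiv.ofBijective _ hbij).symm)⟩⟩

end Split

theorem H6_split_baseChange_sepClosed {k : Type u} [Field k] {A : Type v} [Ring A] [Algebra k A]
    [Algebra.IsCentral k A] [IsSimpleRing A] [FiniteDimensional k A]
    (L : Type w) [Field L] [IsSepClosed L] [Algebra k L] :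
    ∃ m : ℕ, m ≠ 0 ∧ Nonempty (L ⊗[k] A ≃ₐ[L] Matrix (Fin m) (Fin m) L) := by
  haveI : Algebra.IsCentral L (L ⊗[k] A) := H6_isCentral_baseChange
  haveI : IsSimpleRing (L ⊗[k] A) := H6_isSimpleRing_baseChange
  exact H6_split_sepClosed (L ⊗[k] A)

end Groth.Agent.Lib.helper6
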