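import Mathlib

set_option autoImplicit false
set_option linter.style.haveILetI false

namespace Groth.Agent.Lib.helper6

universe u

section

variable {S : Type u} [CommRing S] (𝔫 : Ideal S)

lemma H6_evalₐ_algebraMap (n : ℕ) (s : S) :
    AdicCompletion.evalₐ 𝔫 n (algebraMap S (AdicCompletion 𝔫 S) s) = Ideal.Quotient.mk _ s := by
  rw [AdicCompletion.algebraMap_apply, Algebra.algebraMap_self, RingHom.id_apply,
    AdicCompletion.evalₐ_of]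

lemma H6_evalₐ_map_zero (n : ℕ) (y : AdicCompletion 𝔫 S)
    (hy : y ∈ (𝔫 ^ n).map (algebraMap S (AdicCompletion 𝔫 S))) :
    AdicCompletion.evalₐ 𝔫 n y = 0 := by
  have hle : (𝔫 ^ n).map (algebraMap S (AdicCompletion 𝔫 S)) ≤
      RingHom.ker ((AdicCompletion.evalₐ 𝔫 n : AdicCompletion 𝔫 S →ₐ[S] S ⧸ 𝔫 ^ n) :
        AdicCompletion 𝔫 S →+* S ⧸ 𝔫 ^ n) := by
    rw [Ideal.map_le_iff_le_comap]
    intro z hz
    rw [Ideal.mem_comap, RingHom.mem_ker]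
    show AdicCompletion.evalₐ 𝔫 n (algebraMap S (AdicCompletion 𝔫 S) z) = 0
    rw [H6_evalₐ_algebraMap]
    exact Ideal.Quotient.eq_zero_iff_mem.2 hz
  exact hle hy

lemma H6_adic_approx (h𝔫 : 𝔫.FG) (n : ℕ) (x : AdicCompletion 𝔫 S) :
    ∃ s : S, x - algebraMap S (AdicCompletion 𝔫 S) s ∈
      (𝔫 ^ n).map (algebraMap S (AdicCompletion 𝔫 S)) := by
  obtain ⟨s, hs⟩ := Ideal.Quotient.mk_surjective (AdicCompletion.evalₐ 𝔫 n x)
  refine ⟨s, ?_⟩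
  have h0 : AdicCompletion.evalₐ 𝔫 n (x - algebraMap S (AdicCompletion 𝔫 S) s) = 0 := by
    rw [map_sub, H6_evalₐ_algebraMap, hs, sub_self]
  have hle : 𝔫 ^ n ≤ (𝔫 ^ n • ⊤ : Ideal S) := by
    rw [smul_eq_mul, Ideal.mul_top]
  have h1 : AdicCompletion.eval 𝔫 S n (x - algebraMap S (AdicCompletion 𝔫 S) s) = 0 := by
    rw [← AdicCompletion.factor_evalₐ_eq_eval 𝔫 _ hle, h0, map_zero]
  have h2 : x - algebraMap S (AdicCompletion 𝔫 S) s ∈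
      (𝔫 ^ n • ⊤ : Submodule S (AdicCompletion 𝔫 S)) := by
    rw [AdicCompletion.pow_smul_top_eq_ker_eval h𝔫]
    exact h1
  rw [Ideal.smul_top_eq_map] at h2
  exact h2

end

section

variable {R S : Type u} [CommRing R] [CommRing S] [Algebra R S] (𝔫 : Ideal S)

/-- extension of a map killing `𝔫^k` to the completion. -/
lemma H6_adic_extend {T : Type u} [CommRing T] [Algebra R T] (ψ : S →ₐ[R] T) (k : ℕ)
    (hk : ∀ x ∈ 𝔫 ^ k, ψ x = 0) :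
    ∃ ψh : AdicCompletion 𝔫 S →ₐ[R] T,
      (∀ x ∈ (𝔫.map (algebraMap S (AdicCompletion 𝔫 S))) ^ k, ψh x = 0) ∧
        ∀ s, ψh (algebraMap S (AdicCompletion 𝔫 S) s) = ψ s := by
  let ψb : S ⧸ 𝔫 ^ k →ₐ[R] T := Ideal.Quotient.liftₐ (𝔫 ^ k) ψ hk
  refine ⟨ψb.comp ((AdicCompletion.evalₐ 𝔫 k).restrictScalars R), ?_, ?_⟩
  · intro x hx
    rw [← Ideal.map_pow] at hx
    show ψb (AdicCompletion.evalₐ 𝔫 k x) = 0
    rw [H6_evalₐ_map_zero 𝔫 k x hx, map_zero]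
  · intro s
    show ψb (AdicCompletion.evalₐ 𝔫 k (algebraMap S (AdicCompletion 𝔫 S) s)) = ψ s
    rw [H6_evalₐ_algebraMap]
    rfl

/-- a lift on `S` gives a lift on the completion. -/
lemma H6_adic_lift_completion {E : Type u} [CommRing E] [Algebra R E] (h𝔫 : 𝔫.FG)
    (J : Ideal E) (N : ℕ) (hJ : J ^ N = ⊥)
    (ψh : AdicCompletion 𝔫 S →ₐ[R] E ⧸ J) (k : ℕ)
    (hk : ∀ x ∈ (𝔫.map (algebraMap S (AdicCompletion 𝔫 S))) ^ k, ψh x = 0)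
    (χ : S →ₐ[R] E)
    (hχ : ∀ s, Ideal.Quotient.mk J (χ s) = ψh (algebraMap S (AdicCompletion 𝔫 S) s)) :
    ∃ χh : AdicCompletion 𝔫 S →ₐ[R] E, (Ideal.Quotient.mkₐ R J).comp χh = ψh := by
  have h1 : ∀ x ∈ 𝔫 ^ k, χ x ∈ J := fun x hx => by
    rw [← Ideal.Quotient.eq_zero_iff_mem, hχ]
    refine hk _ ?_
    rw [← Ideal.map_pow]
    exact Ideal.mem_map_of_mem _ hx
  have h2 : ∀ x ∈ 𝔫 ^ (k * N + k), χ x = 0 := by
    intro x hx
    have hle : (𝔫 ^ k).map χ.toRingHom ≤ J :=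
      Ideal.map_le_iff_le_comap.2 (fun x hx => h1 x hx)
    have h3 : χ x ∈ ((𝔫 ^ k).map χ.toRingHom) ^ N := by
      rw [← Ideal.map_pow, ← pow_mul]
      exact Ideal.mem_map_of_mem χ.toRingHom (Ideal.pow_le_pow_right (Nat.le_add_right _ _) hx)
    have h4 := Ideal.pow_right_mono hle N h3
    rwa [hJ, Ideal.mem_bot] at h4
  obtain ⟨M, hM⟩ : ∃ M, M = k * N + k := ⟨_, rfl⟩
  rw [← hM] at h2
  let χb : S ⧸ 𝔫 ^ M →ₐ[R] E := Ideal.Quotient.liftₐ (𝔫 ^ M) χ h2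
  refine ⟨χb.comp ((AdicCompletion.evalₐ 𝔫 M).restrictScalars R), ?_⟩
  ext x
  obtain ⟨s, hs⟩ := H6_adic_approx 𝔫 h𝔫 M x
  have hy1 : AdicCompletion.evalₐ 𝔫 M (x - algebraMap S (AdicCompletion 𝔫 S) s) = 0 :=
    H6_evalₐ_map_zero 𝔫 M _ hs
  have hy2 : ψh (x - algebraMap S (AdicCompletion 𝔫 S) s) = 0 := by
    refine hk _ ?_
    rw [← Ideal.map_pow]
    exact Ideal.map_mono (Ideal.pow_le_pow_right (by omega)) hs
  have e1 : AdicCompletion.evalₐ 𝔫 M x =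
      AdicCompletion.evalₐ 𝔫 M (algebraMap S (AdicCompletion 𝔫 S) s) := by
    rw [← sub_eq_zero, ← map_sub]; exact hy1
  have e2 : ψh x = ψh (algebraMap S (AdicCompletion 𝔫 S) s) := by
    rw [← sub_eq_zero, ← map_sub]; exact hy2
  show Ideal.Quotient.mk J (χb (AdicCompletion.evalₐ 𝔫 M x)) = ψh x
  rw [e1, e2, ← hχ, H6_evalₐ_algebraMap]
  rfl

end

end Groth.Agent.Lib.helper6
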