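import Mathlib
import Groth.Prelude.Def_CAlgX
import Groth.Agent.Lib.helper6.AdicFS

set_option autoImplicit false
set_option linter.style.haveILetI false

namespace Groth.Agent.Lib.helper6

universe u

lemma H6_kill_sq {R E : Type u} [CommRing R] [CommRing E] (ρ : R →+* E) (𝔪 : Ideal R)
    (J : Ideal E) (hJ : J ^ 2 = ⊥) (n : ℕ) (h1 : ∀ m ∈ 𝔪 ^ n, ρ m ∈ J) :
    ∀ m ∈ 𝔪 ^ (n * 2), ρ m = 0 := by
  intro x hx
  have hle : (𝔪 ^ n).map ρ ≤ J := Ideal.map_le_iff_le_comap.2 (fun x hx => h1 x hx)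
  have h3 : ρ x ∈ ((𝔪 ^ n).map ρ) ^ 2 := by
    rw [← Ideal.map_pow, ← pow_mul]
    exact Ideal.mem_map_of_mem ρ hx
  have h4 := Ideal.pow_right_mono hle 2 h3
  rwa [hJ, Ideal.mem_bot] at h4

lemma H6_map_pow_le {R T : Type u} [CommRing R] [CommRing T] [Algebra R T] (𝔪 : Ideal R)
    (I : Ideal T) (c : ℕ) (hc : (𝔪 ^ c).map (algebraMap R T) ≤ I) (k : ℕ) :
    ∀ m ∈ 𝔪 ^ (c * k), algebraMap R T m ∈ I ^ k := by
  intro m hm
  have h1 : algebraMap R T m ∈ ((𝔪 ^ c).map (algebraMap R T)) ^ k := by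
    rw [← Ideal.map_pow, ← pow_mul]
    exact Ideal.mem_map_of_mem _ hm
  exact Ideal.pow_right_mono hc k h1

lemma H6_adic_hom_ext {R : Type u} [CommRing R] (𝔪 : Ideal R) (h𝔪 : 𝔪.FG) {X : Type u}
    [CommRing X] (f g : AdicCompletion 𝔪 R →+* X)
    (hfg : ∀ r, f (algebraMap R (AdicCompletion 𝔪 R) r) = g (algebraMap R (AdicCompletion 𝔪 R) r))
    (M : ℕ) (hM : ∀ m ∈ 𝔪 ^ M, f (algebraMap R (AdicCompletion 𝔪 R) m) = 0) : f = g := by
  have hf : ∀ y ∈ (𝔪 ^ M).map (algebraMap R (AdicCompletion 𝔪 R)), f y = 0 := by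
    intro y hy
    have hle : (𝔪 ^ M).map (algebraMap R (AdicCompletion 𝔪 R)) ≤ RingHom.ker f := by
      rw [Ideal.map_le_iff_le_comap]
      intro m hm
      rw [Ideal.mem_comap, RingHom.mem_ker]
      exact hM m hm
    exact hle hy
  have hg : ∀ y ∈ (𝔪 ^ M).map (algebraMap R (AdicCompletion 𝔪 R)), g y = 0 := by
    intro y hy
    have hle : (𝔪 ^ M).map (algebraMap R (AdicCompletion 𝔪 R)) ≤ RingHom.ker g := by
      rw [Ideal.map_le_iff_le_comap]
      intro m hm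
      rw [Ideal.mem_comap, RingHom.mem_ker, ← hfg]
      exact hM m hm
    exact hle hy
  ext x
  obtain ⟨r, hr⟩ := H6_adic_approx 𝔪 h𝔪 M x
  have hx : x = (x - algebraMap R (AdicCompletion 𝔪 R) r) + algebraMap R (AdicCompletion 𝔪 R) r := by
    ring
  rw [hx, map_add, map_add, hf _ hr, hg _ hr, hfg]

theorem H6_fs_completion_base {R T : Type u} [CommRing R] [CommRing T] [Algebra R T]
    (𝔪 : Ideal R) (h𝔪 : 𝔪.FG) (I : Ideal T)
    (hc : ∃ c : ℕ, (𝔪 ^ c).map (algebraMap R T) ≤ I)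
    [Algebra (AdicCompletion 𝔪 R) T] [IsScalarTower R (AdicCompletion 𝔪 R) T] :
    CAlgX.IsAdicFormallySmooth R T I ↔
      CAlgX.IsAdicFormallySmooth (AdicCompletion 𝔪 R) T I := by
  obtain ⟨c, hc⟩ := hc
  constructor
  · intro h E _ _ J hJ φ hk
    obtain ⟨k, hk⟩ := hk
    letI : Algebra R E :=
      ((algebraMap (AdicCompletion 𝔪 R) E).comp (algebraMap R (AdicCompletion 𝔪 R))).toAlgebra
    haveI : IsScalarTower R (AdicCompletion 𝔪 R) E := IsScalarTower.of_algebraMap_eq (fun _ => rfl)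
    obtain ⟨χ, hχ⟩ := h E J hJ (φ.restrictScalars R) ⟨k, hk⟩
    have hχ' : ∀ t, Ideal.Quotient.mk J (χ t) = φ t := fun t =>
      congrArg (fun g => g t) hχ
    have h1 : ∀ m ∈ 𝔪 ^ (c * k), (χ.toRingHom.comp (algebraMap R T)) m ∈ J := by
      intro m hm
      rw [← Ideal.Quotient.eq_zero_iff_mem]
      show Ideal.Quotient.mk J (χ (algebraMap R T m)) = 0
      rw [hχ']
      exact hk _ (H6_map_pow_le 𝔪 I c hc k m hm)
    have h2 := H6_kill_sq (χ.toRingHom.comp (algebraMap R T)) 𝔪 J hJ (c * k) h1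
    have hcomm : (χ.toRingHom.comp (algebraMap (AdicCompletion 𝔪 R) T)) =
        algebraMap (AdicCompletion 𝔪 R) E := by
      refine H6_adic_hom_ext 𝔪 h𝔪 _ _ ?_ (c * k * 2) ?_
      · intro r
        show χ (algebraMap (AdicCompletion 𝔪 R) T (algebraMap R (AdicCompletion 𝔪 R) r)) = _
        rw [← IsScalarTower.algebraMap_apply R (AdicCompletion 𝔪 R) T, χ.commutes]
        rfl
      · intro m hm
        show χ (algebraMap (AdicCompletion 𝔪 R) T (algebraMap R (AdicCompletion 𝔪 R) m)) = _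
        rw [← IsScalarTower.algebraMap_apply R (AdicCompletion 𝔪 R) T]
        exact h2 m hm
    let χ' : T →ₐ[AdicCompletion 𝔪 R] E :=
      { χ.toRingHom with
        commutes' := fun r => congrArg (fun g => g r) hcomm }
    refine ⟨χ', ?_⟩
    ext t
    exact hχ' t
  · intro h E _ _ J hJ φ hk
    obtain ⟨k, hk⟩ := hk
    have h1 : ∀ m ∈ 𝔪 ^ (c * k), (algebraMap R E) m ∈ J := by
      intro m hm
      rw [← Ideal.Quotient.eq_zero_iff_mem]
      have e1 : Ideal.Quotient.mk J (algebraMap R E m) = φ (algebraMap R T m) := by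
        rw [φ.commutes]; rfl
      rw [e1]
      exact hk _ (H6_map_pow_le 𝔪 I c hc k m hm)
    have h2 := H6_kill_sq (algebraMap R E) 𝔪 J hJ (c * k) h1
    obtain ⟨ρ, -, hρ⟩ := H6_adic_extend (R := R) (S := R) 𝔪 (Algebra.ofId R E) (c * k * 2)
      (fun x hx => h2 x hx)
    letI : Algebra (AdicCompletion 𝔪 R) E := ρ.toRingHom.toAlgebra
    haveI : IsScalarTower R (AdicCompletion 𝔪 R) E :=
      IsScalarTower.of_algebraMap_eq (fun r => (hρ r).symm)
    have hcomm : (φ.toRingHom.comp (algebraMap (AdicCompletion 𝔪 R) T)) =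
        (Ideal.Quotient.mk J).comp ρ.toRingHom := by
      refine H6_adic_hom_ext 𝔪 h𝔪 _ _ ?_ (c * k) ?_
      · intro r
        show φ (algebraMap (AdicCompletion 𝔪 R) T (algebraMap R (AdicCompletion 𝔪 R) r)) =
          Ideal.Quotient.mk J (ρ (algebraMap R (AdicCompletion 𝔪 R) r))
        rw [← IsScalarTower.algebraMap_apply R (AdicCompletion 𝔪 R) T, φ.commutes, hρ]
        rfl
      · intro m hm
        show φ (algebraMap (AdicCompletion 𝔪 R) T (algebraMap R (AdicCompletion 𝔪 R) m)) = _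
        rw [← IsScalarTower.algebraMap_apply R (AdicCompletion 𝔪 R) T]
        exact hk _ (H6_map_pow_le 𝔪 I c hc k m hm)
    let φ' : T →ₐ[AdicCompletion 𝔪 R] E ⧸ J :=
      { φ.toRingHom with
        commutes' := fun r => congrArg (fun g => g r) hcomm }
    obtain ⟨χ, hχ⟩ := h E J hJ φ' ⟨k, hk⟩
    refine ⟨χ.restrictScalars R, ?_⟩
    ext t
    exact congrArg (fun g => g t) hχ

end Groth.Agent.Lib.helper6
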