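import Mathlib
import Groth.Prelude.Def_EGA41

set_option autoImplicit false
set_option linter.style.haveILetI false

namespace Groth.Agent.Lib.helper6

universe u

section

variable {A B C : Type u} [CommRing A] [CommRing B] [CommRing C] [Algebra A B] [Algebra A C]

/-- a pair of compatible maps to `C/I₁`, `C/I₂` glue to a map to `C/(I₁ ⊓ I₂)`. -/
lemma H6_fibre_hom (I₁ I₂ I₃ : Ideal C) (h₁ : I₁ ≤ I₃) (h₂ : I₂ ≤ I₃) (h₃ : I₃ ≤ I₁ ⊔ I₂)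
    (v₁ : B →ₐ[A] C ⧸ I₁) (v₂ : B →ₐ[A] C ⧸ I₂)
    (hcompat : ∀ b, Ideal.Quotient.factor h₁ (v₁ b) = Ideal.Quotient.factor h₂ (v₂ b)) :
    ∃ w : B →ₐ[A] C ⧸ (I₁ ⊓ I₂),
      (∀ b, Ideal.Quotient.factor (inf_le_left : I₁ ⊓ I₂ ≤ I₁) (w b) = v₁ b) ∧
        (∀ b, Ideal.Quotient.factor (inf_le_right : I₁ ⊓ I₂ ≤ I₂) (w b) = v₂ b) := by
  have hex : ∀ b, ∃ z : C ⧸ (I₁ ⊓ I₂),
      Ideal.Quotient.factor (inf_le_left : I₁ ⊓ I₂ ≤ I₁) z = v₁ b ∧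
        Ideal.Quotient.factor (inf_le_right : I₁ ⊓ I₂ ≤ I₂) z = v₂ b := by
    intro b
    obtain ⟨x, hx⟩ := Ideal.Quotient.mk_surjective (v₁ b)
    obtain ⟨y, hy⟩ := Ideal.Quotient.mk_surjective (v₂ b)
    have h := hcompat b
    rw [← hx, ← hy, Ideal.Quotient.factor_mk, Ideal.Quotient.factor_mk, Ideal.Quotient.eq] at h
    obtain ⟨i₁, hi₁, i₂, hi₂, hsum⟩ := Submodule.mem_sup.1 (h₃ h)
    refine ⟨Ideal.Quotient.mk _ (x - i₁), ?_, ?_⟩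
    · rw [Ideal.Quotient.factor_mk, ← hx, Ideal.Quotient.eq]
      have : x - i₁ - x = -i₁ := by ring
      rw [this]
      exact I₁.neg_mem hi₁
    · rw [Ideal.Quotient.factor_mk, ← hy, Ideal.Quotient.eq]
      have : x - i₁ - y = i₂ := by linear_combination (-1 : C) * hsum
      rw [this]
      exact hi₂
  have huniq : ∀ z z' : C ⧸ (I₁ ⊓ I₂),
      Ideal.Quotient.factor (inf_le_left : I₁ ⊓ I₂ ≤ I₁) z =
        Ideal.Quotient.factor (inf_le_left : I₁ ⊓ I₂ ≤ I₁) z' →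
      Ideal.Quotient.factor (inf_le_right : I₁ ⊓ I₂ ≤ I₂) z =
        Ideal.Quotient.factor (inf_le_right : I₁ ⊓ I₂ ≤ I₂) z' → z = z' := by
    intro z z' e1 e2
    obtain ⟨c, rfl⟩ := Ideal.Quotient.mk_surjective z
    obtain ⟨c', rfl⟩ := Ideal.Quotient.mk_surjective z'
    rw [Ideal.Quotient.factor_mk, Ideal.Quotient.factor_mk, Ideal.Quotient.eq] at e1 e2
    rw [Ideal.Quotient.eq]
    exact ⟨e1, e2⟩
  choose w hw using hex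
  have hw1 := fun b => (hw b).1
  have hw2 := fun b => (hw b).2
  refine ⟨{ toFun := w
            map_one' := huniq _ _ (by rw [hw1, map_one, map_one]) (by rw [hw2, map_one, map_one])
            map_mul' := fun x y => huniq _ _ (by rw [hw1, map_mul, map_mul, hw1, hw1])
              (by rw [hw2, map_mul, map_mul, hw2, hw2])
            map_zero' := huniq _ _ (by rw [hw1, map_zero, map_zero])
              (by rw [hw2, map_zero, map_zero])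
            map_add' := fun x y => huniq _ _ (by rw [hw1, map_add, map_add, hw1, hw1])
              (by rw [hw2, map_add, map_add, hw2, hw2])
            commutes' := fun a => huniq _ _
              (by
                rw [hw1, AlgHom.commutes]
                rfl)
              (by
                rw [hw2, AlgHom.commutes]
                rfl) }, hw1, hw2⟩

lemma H6_fibre_inj (I₁ I₂ : Ideal C) (z : C ⧸ (I₁ ⊓ I₂))
    (e1 : Ideal.Quotient.factor (inf_le_left : I₁ ⊓ I₂ ≤ I₁) z = 0)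
    (e2 : Ideal.Quotient.factor (inf_le_right : I₁ ⊓ I₂ ≤ I₂) z = 0) : z = 0 := by
  obtain ⟨c, rfl⟩ := Ideal.Quotient.mk_surjective z
  rw [Ideal.Quotient.factor_mk, Ideal.Quotient.eq_zero_iff_mem] at e1 e2
  rw [Ideal.Quotient.eq_zero_iff_mem]
  exact ⟨e1, e2⟩

/-- a ring map into `E` whose reduction mod a nilpotent ideal kills `𝔟^m` kills a power of `𝔟`. -/
lemma H6_kills_pow {E : Type u} [CommRing E] [Algebra A E] (𝔟 : Ideal B) (K : Ideal E) (N : ℕ)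
    (hK : K ^ N = ⊥) (v : B →ₐ[A] E) (m : ℕ) (hm : ∀ x ∈ 𝔟 ^ m, v x ∈ K) :
    ∀ x ∈ 𝔟 ^ (m * N), v x = 0 := by
  intro x hx
  have hle : (𝔟 ^ m).map v.toRingHom ≤ K :=
    Ideal.map_le_iff_le_comap.2 (fun x hx => hm x hx)
  have h3 : v x ∈ ((𝔟 ^ m).map v.toRingHom) ^ N := by
    rw [← Ideal.map_pow, ← pow_mul]
    exact Ideal.mem_map_of_mem v.toRingHom hx
  have h4 := Ideal.pow_right_mono hle N h3
  rwa [hK, Ideal.mem_bot] at h4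

lemma H6_lift_step (𝔞 : Ideal A) (𝔟 : Ideal B) (hB : EGA41.IsFormallySmoothAdic A 𝔞 B 𝔟)
    (I₀ I₁ I₂ I₃ : Ideal C) (h₀₁ : I₀ ≤ I₁) (h₀₂ : I₀ ≤ I₂) (h₁ : I₁ ≤ I₃) (h₂ : I₂ ≤ I₃)
    (h₃ : I₃ ≤ I₁ ⊔ I₂) (N : ℕ) (hN : (I₁ ⊓ I₂) ^ N ≤ I₀)
    (hak : ∃ k : ℕ, (𝔞 ^ k).map (algebraMap A C) ≤ I₀)
    (v₁ : B →ₐ[A] C ⧸ I₁) (v₂ : B →ₐ[A] C ⧸ I₂)
    (hv₁ : ∃ m : ℕ, ∀ x ∈ 𝔟 ^ m, v₁ x = 0) (hv₂ : ∃ m : ℕ, ∀ x ∈ 𝔟 ^ m, v₂ x = 0)
    (hcompat : ∀ b, Ideal.Quotient.factor h₁ (v₁ b) = Ideal.Quotient.factor h₂ (v₂ b)) :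
    ∃ v₀ : B →ₐ[A] C ⧸ I₀, (∃ m : ℕ, ∀ x ∈ 𝔟 ^ m, v₀ x = 0) ∧
      (∀ b, Ideal.Quotient.factor h₀₁ (v₀ b) = v₁ b) ∧
        (∀ b, Ideal.Quotient.factor h₀₂ (v₀ b) = v₂ b) := by
  obtain ⟨w, hw1, hw2⟩ := H6_fibre_hom I₁ I₂ I₃ h₁ h₂ h₃ v₁ v₂ hcompat
  have h₀ : I₀ ≤ I₁ ⊓ I₂ := le_inf h₀₁ h₀₂
  let q : C ⧸ I₀ →ₐ[A] C ⧸ (I₁ ⊓ I₂) := Ideal.Quotient.factorₐ A h₀
  have hqmk : ∀ c : C, q (Ideal.Quotient.mk I₀ c) = Ideal.Quotient.mk (I₁ ⊓ I₂) c := fun c => rfl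
  have hq : Function.Surjective q := Ideal.Quotient.factor_surjective h₀
  let K : Ideal (C ⧸ I₀) := RingHom.ker q
  have hKle : K ≤ (I₁ ⊓ I₂).map (Ideal.Quotient.mk I₀) := by
    intro x hx
    obtain ⟨c, rfl⟩ := Ideal.Quotient.mk_surjective x
    have h1 : q (Ideal.Quotient.mk I₀ c) = 0 := hx
    rw [hqmk, Ideal.Quotient.eq_zero_iff_mem] at h1
    exact Ideal.mem_map_of_mem _ h1
  have hKN : K ^ N = ⊥ := by
    rw [eq_bot_iff]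
    refine (Ideal.pow_right_mono hKle N).trans ?_
    rw [← Ideal.map_pow]
    refine (Ideal.map_mono hN).trans ?_
    rw [Ideal.map_quotient_self]
  have hak' : ∃ k : ℕ, (𝔞 ^ k).map (algebraMap A (C ⧸ I₀)) = ⊥ := by
    obtain ⟨k, hk⟩ := hak
    refine ⟨k, ?_⟩
    rw [eq_bot_iff, IsScalarTower.algebraMap_eq A C (C ⧸ I₀), ← Ideal.map_map]
    refine (Ideal.map_mono hk).trans ?_
    rw [Ideal.Quotient.algebraMap_eq, Ideal.map_quotient_self]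
  let e : ((C ⧸ I₀) ⧸ K) ≃ₐ[A] C ⧸ (I₁ ⊓ I₂) := Ideal.quotientKerAlgEquivOfSurjective hq
  let u' : B →ₐ[A] (C ⧸ I₀) ⧸ K := (e.symm : _ →ₐ[A] _).comp w
  obtain ⟨m₁, hm₁⟩ := hv₁
  obtain ⟨m₂, hm₂⟩ := hv₂
  have hw0 : ∀ x ∈ 𝔟 ^ (m₁ + m₂), w x = 0 := by
    intro x hx
    refine H6_fibre_inj I₁ I₂ _ ?_ ?_
    · rw [hw1]
      exact hm₁ x (Ideal.pow_le_pow_right (Nat.le_add_right _ _) hx)
    · rw [hw2]
      exact hm₂ x (Ideal.pow_le_pow_right (Nat.le_add_left _ _) hx)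
  have hu' : ∃ k' : ℕ, ∀ x ∈ 𝔟 ^ k', u' x = 0 := by
    refine ⟨m₁ + m₂, fun x hx => ?_⟩
    show e.symm (w x) = 0
    rw [hw0 x hx, map_zero]
  obtain ⟨v', hv'⟩ := hB (C ⧸ I₀) K ⟨N, hKN⟩ hak' u' hu'
  have hqv : ∀ b, q (v' b) = w b := by
    intro b
    have h1 := congrArg (fun g => e (g b)) hv'
    have h2 : e (u' b) = w b := e.apply_symm_apply (w b)
    have h3 : e (Ideal.Quotient.mk K (v' b)) = q (v' b) := rfl
    exact h3.symm.trans (h1.trans h2)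
  refine ⟨v', ⟨(m₁ + m₂) * N, ?_⟩, ?_, ?_⟩
  · refine H6_kills_pow 𝔟 K N hKN v' (m₁ + m₂) ?_
    intro x hx
    show q (v' x) = 0
    rw [hqv, hw0 x hx]
  · intro b
    rw [← hw1 b, ← hqv b]
    obtain ⟨c, hc⟩ := Ideal.Quotient.mk_surjective (v' b)
    rw [← hc, hqmk, Ideal.Quotient.factor_mk, Ideal.Quotient.factor_mk]
  · intro b
    rw [← hw2 b, ← hqv b]
    obtain ⟨c, hc⟩ := Ideal.Quotient.mk_surjective (v' b)
    rw [← hc, hqmk, Ideal.Quotient.factor_mk, Ideal.Quotient.factor_mk]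

end

end Groth.Agent.Lib.helper6

namespace Groth.Agent.Lib.helper6

universe u

section

variable {A B C : Type u} [CommRing A] [CommRing B] [CommRing C] [Algebra A B] [Algebra A C]

lemma H6_sup_pow_le (J 𝔠 : Ideal C) (t : ℕ) (hJ : J ^ t ≤ 𝔠) : (J ⊔ 𝔠) ^ t ≤ 𝔠 := by
  have h1 : ((J ⊔ 𝔠) ^ t).map (Ideal.Quotient.mk 𝔠) = ⊥ := by
    rw [Ideal.map_pow, Ideal.map_sup, Ideal.map_quotient_self, sup_bot_eq, ← Ideal.map_pow,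
      eq_bot_iff]
    refine (Ideal.map_mono hJ).trans ?_
    rw [Ideal.map_quotient_self]
  rw [Ideal.map_eq_bot_iff_le_ker, Ideal.mk_ker] at h1
  exact h1

/-- the set of good approximations at level `n`. -/
def H6_Good (𝔟 : Ideal B) (𝔠 J : Ideal C) (u : B →ₐ[A] C ⧸ J) (n : ℕ) : Type u :=
  { v : B →ₐ[A] C ⧸ 𝔠 ^ n // (∃ m : ℕ, ∀ x ∈ 𝔟 ^ m, v x = 0) ∧
      ∀ b, Ideal.Quotient.factor (le_sup_right : 𝔠 ^ n ≤ J ⊔ 𝔠 ^ n) (v b) =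
        Ideal.Quotient.factor (le_sup_left : J ≤ J ⊔ 𝔠 ^ n) (u b) }

lemma H6_good_zero (𝔟 : Ideal B) (𝔠 J : Ideal C) (u : B →ₐ[A] C ⧸ J) :
    Nonempty (H6_Good 𝔟 𝔠 J u 0) := by
  haveI h1 : Subsingleton (C ⧸ 𝔠 ^ 0) :=
    Ideal.Quotient.subsingleton_iff.2 (by rw [pow_zero, Ideal.one_eq_top])
  haveI h2 : Subsingleton (C ⧸ (J ⊔ 𝔠 ^ 0)) :=
    Ideal.Quotient.subsingleton_iff.2 (by rw [pow_zero, Ideal.one_eq_top, sup_top_eq])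
  refine ⟨⟨{ toFun := fun _ => 0
             map_one' := Subsingleton.elim _ _
             map_mul' := fun _ _ => Subsingleton.elim _ _
             map_zero' := rfl
             map_add' := fun _ _ => Subsingleton.elim _ _
             commutes' := fun _ => Subsingleton.elim _ _ }, ⟨0, fun _ _ => rfl⟩,
    fun _ => Subsingleton.elim _ _⟩⟩

lemma H6_good_step (𝔞 : Ideal A) (𝔟 : Ideal B) (𝔠 : Ideal C)
    (hB : EGA41.IsFormallySmoothAdic A 𝔞 B 𝔟)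
    (hAC : ∃ k : ℕ, (𝔞 ^ k).map (algebraMap A C) ≤ 𝔠)
    (J : Ideal C) (hJ : ∃ t : ℕ, J ^ t ≤ 𝔠)
    (u : B →ₐ[A] C ⧸ J) (hu : ∃ k : ℕ, (𝔟 ^ k).map u.toRingHom ≤ 𝔠.map (Ideal.Quotient.mk J))
    (n : ℕ) (g : H6_Good 𝔟 𝔠 J u n) :
    ∃ g' : H6_Good 𝔟 𝔠 J u (n + 1), ∀ b,
      Ideal.Quotient.factor (Ideal.pow_le_pow_right (Nat.le_succ n) : 𝔠 ^ (n + 1) ≤ 𝔠 ^ n)
        (g'.1 b) = g.1 b := by
  obtain ⟨t, ht⟩ := hJ
  obtain ⟨k, hk⟩ := hAC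
  obtain ⟨ku, hku⟩ := hu
  have h₀₁ : 𝔠 ^ (n + 1) ≤ 𝔠 ^ n := Ideal.pow_le_pow_right (Nat.le_succ n)
  have h₀₂ : 𝔠 ^ (n + 1) ≤ J ⊔ 𝔠 ^ (n + 1) := le_sup_right
  have h₁ : 𝔠 ^ n ≤ J ⊔ 𝔠 ^ n := le_sup_right
  have h₂ : J ⊔ 𝔠 ^ (n + 1) ≤ J ⊔ 𝔠 ^ n := sup_le le_sup_left (le_sup_of_le_right h₀₁)
  have h₃ : J ⊔ 𝔠 ^ n ≤ 𝔠 ^ n ⊔ (J ⊔ 𝔠 ^ (n + 1)) :=
    sup_le (le_sup_of_le_right le_sup_left) le_sup_left
  have hN : ∃ N : ℕ, (𝔠 ^ n ⊓ (J ⊔ 𝔠 ^ (n + 1))) ^ N ≤ 𝔠 ^ (n + 1) := by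
    rcases Nat.eq_zero_or_pos n with h0 | hpos
    · subst h0
      refine ⟨t, ?_⟩
      refine (Ideal.pow_right_mono inf_le_right t).trans ?_
      rw [zero_add, pow_one]
      exact H6_sup_pow_le J 𝔠 t ht
    · refine ⟨2, ?_⟩
      refine (Ideal.pow_right_mono inf_le_left 2).trans ?_
      rw [← pow_mul]
      exact Ideal.pow_le_pow_right (by omega)
  obtain ⟨N, hN⟩ := hN
  have hak : ∃ k' : ℕ, (𝔞 ^ k').map (algebraMap A C) ≤ 𝔠 ^ (n + 1) := by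
    refine ⟨k * (n + 1), ?_⟩
    rw [pow_mul, Ideal.map_pow]
    exact Ideal.pow_right_mono hk (n + 1)
  let v₂ : B →ₐ[A] C ⧸ (J ⊔ 𝔠 ^ (n + 1)) :=
    (Ideal.Quotient.factorₐ A (le_sup_left : J ≤ J ⊔ 𝔠 ^ (n + 1))).comp u
  have hv₂ : ∃ m : ℕ, ∀ x ∈ 𝔟 ^ m, v₂ x = 0 := by
    refine ⟨ku * (n + 1), fun x hx => ?_⟩
    have h1 : u x ∈ ((𝔟 ^ ku).map u.toRingHom) ^ (n + 1) := by
      rw [← Ideal.map_pow, ← pow_mul]
      exact Ideal.mem_map_of_mem u.toRingHom hx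
    have h2 := Ideal.pow_right_mono hku (n + 1) h1
    rw [← Ideal.map_pow] at h2
    obtain ⟨c, hc, hcu⟩ := (Ideal.mem_map_iff_of_surjective _ Ideal.Quotient.mk_surjective).1 h2
    show Ideal.Quotient.factor (le_sup_left : J ≤ J ⊔ 𝔠 ^ (n + 1)) (u x) = 0
    rw [← hcu, Ideal.Quotient.factor_mk, Ideal.Quotient.eq_zero_iff_mem]
    exact Ideal.mem_sup_right hc
  have hcompat : ∀ b, Ideal.Quotient.factor h₁ (g.1 b) = Ideal.Quotient.factor h₂ (v₂ b) := by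
    intro b
    rw [g.2.2 b]
    show _ = Ideal.Quotient.factor h₂
      (Ideal.Quotient.factor (le_sup_left : J ≤ J ⊔ 𝔠 ^ (n + 1)) (u b))
    rw [Ideal.Quotient.factor_comp_apply]
  obtain ⟨v₀, hv₀, hv₀1, hv₀2⟩ := H6_lift_step 𝔞 𝔟 hB (𝔠 ^ (n + 1)) (𝔠 ^ n) (J ⊔ 𝔠 ^ (n + 1))
    (J ⊔ 𝔠 ^ n) h₀₁ h₀₂ h₁ h₂ h₃ N hN hak g.1 v₂ g.2.1 hv₂ hcompat
  exact ⟨⟨v₀, hv₀, fun b => hv₀2 b⟩, hv₀1⟩

end

end Groth.Agent.Lib.helper6

namespace Groth.Agent.Lib.helper6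

universe u

theorem H6_lift_complete {A B C : Type u} [CommRing A] [CommRing B] [CommRing C] [Algebra A B]
    [Algebra A C] (𝔞 : Ideal A) (𝔟 : Ideal B) (𝔠 : Ideal C)
    (hB : EGA41.IsFormallySmoothAdic A 𝔞 B 𝔟)
    [IsAdicComplete 𝔠 C] (hAC : ∃ k : ℕ, (𝔞 ^ k).map (algebraMap A C) ≤ 𝔠)
    (J : Ideal C) (hJ : ∃ t : ℕ, J ^ t ≤ 𝔠) [IsHausdorff (𝔠.map (Ideal.Quotient.mk J)) (C ⧸ J)]
    (u : B →ₐ[A] C ⧸ J) (hu : ∃ k : ℕ, (𝔟 ^ k).map u.toRingHom ≤ 𝔠.map (Ideal.Quotient.mk J)) :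
    ∃ v : B →ₐ[A] C, (∃ k : ℕ, (𝔟 ^ k).map v.toRingHom ≤ 𝔠) ∧
      (Ideal.Quotient.mkₐ A J).comp v = u := by
  classical
  have hstep := H6_good_step 𝔞 𝔟 𝔠 hB hAC J hJ u hu
  obtain ⟨g0⟩ := H6_good_zero 𝔟 𝔠 J u
  let seq : (n : ℕ) → H6_Good 𝔟 𝔠 J u n :=
    fun n => Nat.rec g0 (fun n g => Classical.choose (hstep n g)) n
  have hseq : ∀ n b, Ideal.Quotient.factor
      (Ideal.pow_le_pow_right (Nat.le_succ n) : 𝔠 ^ (n + 1) ≤ 𝔠 ^ n) ((seq (n + 1)).1 b) =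
        (seq n).1 b := fun n => Classical.choose_spec (hstep n (seq n))
  let f : (n : ℕ) → B →ₐ[A] C ⧸ 𝔠 ^ n := fun n => (seq n).1
  have hf : ∀ {m n : ℕ} (hle : m ≤ n),
      (Ideal.Quotient.factorₐ A (Ideal.pow_le_pow_right hle)).comp (f n) = f m := by
    intro m n hle
    induction n, hle using Nat.le_induction with
    | base =>
      ext b
      show Ideal.Quotient.factor (Ideal.pow_le_pow_right (le_refl m) : 𝔠 ^ m ≤ 𝔠 ^ m) (f m b) =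
        f m b
      obtain ⟨c, hc⟩ := Ideal.Quotient.mk_surjective (f m b)
      rw [← hc, Ideal.Quotient.factor_mk]
    | succ n hmn ih =>
      ext b
      have h1 : Ideal.Quotient.factor (Ideal.pow_le_pow_right hmn : 𝔠 ^ n ≤ 𝔠 ^ m) (f n b) =
          f m b := congrArg (fun g => g b) ih
      have h2 : Ideal.Quotient.factor
          (Ideal.pow_le_pow_right (Nat.le_succ n) : 𝔠 ^ (n + 1) ≤ 𝔠 ^ n) (f (n + 1) b) = f n b :=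
        hseq n b
      show Ideal.Quotient.factor (Ideal.pow_le_pow_right (Nat.le_succ_of_le hmn) :
        𝔠 ^ (n + 1) ≤ 𝔠 ^ m) (f (n + 1) b) = f m b
      rw [← h1, ← h2, Ideal.Quotient.factor_comp_apply]
  let v : B →ₐ[A] C := IsAdicComplete.liftAlgHom 𝔠 f hf
  have hv : ∀ n b, Ideal.Quotient.mk (𝔠 ^ n) (v b) = f n b :=
    fun n b => IsAdicComplete.mk_liftAlgHom 𝔠 f hf n b
  refine ⟨v, ?_, ?_⟩
  · obtain ⟨m, hm⟩ := (seq 1).2.1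
    refine ⟨m, ?_⟩
    rw [Ideal.map_le_iff_le_comap]
    intro x hx
    rw [Ideal.mem_comap]
    have h1 : Ideal.Quotient.mk (𝔠 ^ 1) (v x) = 0 := by
      rw [hv 1 x]
      exact hm x hx
    rw [Ideal.Quotient.eq_zero_iff_mem, pow_one] at h1
    exact h1
  · ext b
    show Ideal.Quotient.mk J (v b) = u b
    rw [← sub_eq_zero]
    refine IsHausdorff.haus' (I := 𝔠.map (Ideal.Quotient.mk J)) _ ?_
    intro n
    rw [SModEq.zero, smul_eq_mul, Ideal.mul_top, ← Ideal.map_pow]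
    obtain ⟨c', hc'⟩ := Ideal.Quotient.mk_surjective (u b)
    have h1 := (seq n).2.2 b
    have h2 : (seq n).1 b = Ideal.Quotient.mk (𝔠 ^ n) (v b) := (hv n b).symm
    rw [h2, ← hc', Ideal.Quotient.factor_mk, Ideal.Quotient.factor_mk, Ideal.Quotient.eq] at h1
    obtain ⟨j, hj, e, he, hsum⟩ := Submodule.mem_sup.1 h1
    have h3 : Ideal.Quotient.mk J (v b) - u b = Ideal.Quotient.mk J e := by
      rw [← hc', ← map_sub, ← hsum, map_add, Ideal.Quotient.eq_zero_iff_mem.2 hj, zero_add]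
    rw [h3]
    exact Ideal.mem_map_of_mem _ he

end Groth.Agent.Lib.helper6
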