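import Mathlib
import Groth.Prelude.Def_EGA41

set_option autoImplicit false
set_option linter.style.haveILetI false

namespace Groth.Agent.Lib.helper6

universe u
open TensorProduct

section

variable {A B C : Type u} [CommRing A] [CommRing B] [CommRing C] [Algebra A B] [Algebra B C]
  [Algebra A C] [IsScalarTower A B C]
variable {N : Type u} [AddCommGroup N] [Module C N] [Module Cᵐᵒᵖ N] [IsCentralScalar C N]
  [Module B N] [Module A N] [IsScalarTower B C N] [IsScalarTower A C N] [IsScalarTower A B N]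
variable {M : Type u} [AddCommGroup M] [Module C M] [Module Cᵐᵒᵖ M] [IsCentralScalar C M]
  [Module B M] [Module A M] [IsScalarTower B C M] [IsScalarTower A C M] [IsScalarTower A B M]

lemma H6_tsze_mul_eq_zero (x y : TrivSqZeroExt C N) (hx : x.fst = 0) (hy : y.fst = 0) :
    x * y = 0 := by
  ext
  · simp [hx]
  · simp [hx, hy]

noncomputable def H6_derivLin (D : Derivation A B N) : B →ₗ[A] TrivSqZeroExt C N :=
  (TrivSqZeroExt.inlAlgHom A C N).toLinearMap ∘ₗ (IsScalarTower.toAlgHom A B C).toLinearMap +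
    ((TrivSqZeroExt.inrHom C N).restrictScalars A) ∘ₗ D.toLinearMap

lemma H6_derivLin_fst (D : Derivation A B N) (b : B) :
    (H6_derivLin (C := C) D b).fst = algebraMap B C b := by
  simp [H6_derivLin]

lemma H6_derivLin_snd (D : Derivation A B N) (b : B) :
    (H6_derivLin (C := C) D b).snd = D b := by
  simp [H6_derivLin]

noncomputable def H6_derivHom (D : Derivation A B N) : B →ₐ[A] TrivSqZeroExt C N :=
  AlgHom.ofLinearMap (H6_derivLin D)
    (by
      ext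
      · rw [H6_derivLin_fst]; simp
      · rw [H6_derivLin_snd]; simp)
    (fun x y => by
      ext
      · rw [H6_derivLin_fst, TrivSqZeroExt.fst_mul, H6_derivLin_fst, H6_derivLin_fst, map_mul]
      · rw [H6_derivLin_snd, TrivSqZeroExt.snd_mul, H6_derivLin_fst, H6_derivLin_fst,
          H6_derivLin_snd, H6_derivLin_snd, op_smul_eq_smul, algebraMap_smul, algebraMap_smul,
          D.leibniz])

lemma H6_derivHom_fst (D : Derivation A B N) (b : B) :
    (H6_derivHom (C := C) D b).fst = algebraMap B C b := H6_derivLin_fst D b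

lemma H6_derivHom_snd (D : Derivation A B N) (b : B) :
    (H6_derivHom (C := C) D b).snd = D b := H6_derivLin_snd D b

/-- the derivation attached to an algebra map `B → C ⊕ M` lifting `B → C`. -/
noncomputable def H6_homDeriv (v : B →ₐ[A] TrivSqZeroExt C M)
    (hv : ∀ b, (v b).fst = algebraMap B C b) : Derivation A B M where
  toLinearMap := ((TrivSqZeroExt.sndHom C M).restrictScalars A) ∘ₗ v.toLinearMap
  map_one_eq_zero' := by
    show (v 1).snd = 0
    rw [map_one, TrivSqZeroExt.snd_one]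
  leibniz' := fun x y => by
    show (v (x * y)).snd = x • (v y).snd + y • (v x).snd
    rw [map_mul, TrivSqZeroExt.snd_mul, hv, hv, op_smul_eq_smul, algebraMap_smul,
      algebraMap_smul]

lemma H6_homDeriv_apply (v : B →ₐ[A] TrivSqZeroExt C M)
    (hv : ∀ b, (v b).fst = algebraMap B C b) (b : B) : H6_homDeriv v hv b = (v b).snd := rfl

lemma H6_deriv_lift (f : M →ₗ[C] N)
    (hA : ∀ u : B →ₐ[A] TrivSqZeroExt C N, (∀ b, (u b).fst = algebraMap B C b) →
      ∃ v : B →ₐ[A] TrivSqZeroExt C M, ∀ b, TrivSqZeroExt.map f (v b) = u b)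
    (D : Derivation A B N) : ∃ D' : Derivation A B M, ∀ b, f (D' b) = D b := by
  obtain ⟨v, hv⟩ := hA (H6_derivHom D) (H6_derivHom_fst D)
  have hv1 : ∀ b, (v b).fst = algebraMap B C b := by
    intro b
    have h1 := congrArg TrivSqZeroExt.fst (hv b)
    rw [TrivSqZeroExt.fst_map, H6_derivHom_fst] at h1
    exact h1
  refine ⟨H6_homDeriv v hv1, fun b => ?_⟩
  have h2 := congrArg TrivSqZeroExt.snd (hv b)
  rw [TrivSqZeroExt.snd_map, H6_derivHom_snd] at h2
  rw [H6_homDeriv_apply]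
  exact h2

/-- lifting of linear maps out of `C ⊗ Ω` from lifting of derivations. -/
lemma H6_omega_lift (f : M →ₗ[C] N)
    (hA : ∀ u : B →ₐ[A] TrivSqZeroExt C N, (∀ b, (u b).fst = algebraMap B C b) →
      ∃ v : B →ₐ[A] TrivSqZeroExt C M, ∀ b, TrivSqZeroExt.map f (v b) = u b)
    (g : C ⊗[B] Ω[B⁄A] →ₗ[C] N) : ∃ h : C ⊗[B] Ω[B⁄A] →ₗ[C] M, f ∘ₗ h = g := by
  let g₀ : Ω[B⁄A] →ₗ[B] N := (g.restrictScalars B) ∘ₗ (TensorProduct.mk B C Ω[B⁄A] 1)
  obtain ⟨D', hD'⟩ := H6_deriv_lift f hA (g₀.compDer (KaehlerDifferential.D A B))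
  refine ⟨LinearMap.liftBaseChange C D'.liftKaehlerDifferential, ?_⟩
  apply TensorProduct.AlgebraTensorModule.ext
  intro c ω
  have key : (f.restrictScalars B) ∘ₗ D'.liftKaehlerDifferential = g₀ := by
    apply Derivation.liftKaehlerDifferential_unique
    ext b
    have h3 := hD' b
    show f (D'.liftKaehlerDifferential (KaehlerDifferential.D A B b)) =
      g₀ (KaehlerDifferential.D A B b)
    rw [Derivation.liftKaehlerDifferential_comp_D]
    exact h3
  have h1 := congrArg (fun l => l ω) key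
  have hc : c ⊗ₜ[B] ω = c • ((1 : C) ⊗ₜ[B] ω) := by
    rw [TensorProduct.smul_tmul', smul_eq_mul, mul_one]
  rw [hc, map_smul, map_smul]
  congr 1
  rw [LinearMap.comp_apply, LinearMap.liftBaseChange_tmul, one_smul]
  exact h1

end

section

variable {A B : Type u} [CommRing A] [CommRing B] [Algebra A B]

lemma H6_fs_tsze_lift (𝔞 : Ideal A) (𝔟 : Ideal B)
    (hAB : ∃ k : ℕ, (𝔞 ^ k).map (algebraMap A B) ≤ 𝔟)
    (h : EGA41.IsFormallySmoothAdic A 𝔞 B 𝔟) (𝔄 : Ideal B) (h𝔄 : ∃ n : ℕ, 𝔟 ^ n ≤ 𝔄)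
    {M N : Type u} [AddCommGroup M] [AddCommGroup N] [Module (B ⧸ 𝔄) M] [Module (B ⧸ 𝔄) N]
    [Module (B ⧸ 𝔄)ᵐᵒᵖ M] [IsCentralScalar (B ⧸ 𝔄) M]
    [Module (B ⧸ 𝔄)ᵐᵒᵖ N] [IsCentralScalar (B ⧸ 𝔄) N]
    [Module A M] [Module A N] [IsScalarTower A (B ⧸ 𝔄) M] [IsScalarTower A (B ⧸ 𝔄) N]
    (f : M →ₗ[B ⧸ 𝔄] N) (hf : Function.Surjective f)
    (u : B →ₐ[A] TrivSqZeroExt (B ⧸ 𝔄) N) (hu : ∀ b, (u b).fst = algebraMap B (B ⧸ 𝔄) b) :
    ∃ v : B →ₐ[A] TrivSqZeroExt (B ⧸ 𝔄) M, ∀ b, TrivSqZeroExt.map f (v b) = u b := by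
  let q : TrivSqZeroExt (B ⧸ 𝔄) M →ₐ[A] TrivSqZeroExt (B ⧸ 𝔄) N :=
    (TrivSqZeroExt.map f).restrictScalars A
  have hq : Function.Surjective q := by
    intro x
    obtain ⟨m, hm⟩ := hf x.snd
    refine ⟨TrivSqZeroExt.inl x.fst + TrivSqZeroExt.inr m, ?_⟩
    show TrivSqZeroExt.map f (TrivSqZeroExt.inl x.fst + TrivSqZeroExt.inr m) = x
    ext
    · simp
    · simp [hm]
  let J : Ideal (TrivSqZeroExt (B ⧸ 𝔄) M) := RingHom.ker q
  have hJfst : ∀ x ∈ J, x.fst = 0 := by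
    intro x hx
    have h1 : q x = 0 := hx
    have h2 := congrArg TrivSqZeroExt.fst h1
    change (TrivSqZeroExt.map f x).fst = (0 : TrivSqZeroExt (B ⧸ 𝔄) N).fst at h2
    rw [TrivSqZeroExt.fst_map, TrivSqZeroExt.fst_zero] at h2
    exact h2
  have hJ : IsNilpotent J := by
    refine ⟨2, ?_⟩
    rw [pow_two, Ideal.zero_eq_bot, eq_bot_iff, Ideal.mul_le]
    intro x hx y hy
    rw [Ideal.mem_bot]
    exact H6_tsze_mul_eq_zero x y (hJfst x hx) (hJfst y hy)
  obtain ⟨k, hk⟩ := hAB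
  obtain ⟨n, hn⟩ := h𝔄
  have hak : ∃ k' : ℕ, (𝔞 ^ k').map (algebraMap A (TrivSqZeroExt (B ⧸ 𝔄) M)) = ⊥ := by
    refine ⟨k * n, ?_⟩
    rw [eq_bot_iff, Ideal.map_le_iff_le_comap]
    intro a ha
    rw [Ideal.mem_comap, Ideal.mem_bot, TrivSqZeroExt.algebraMap_eq_inl',
      IsScalarTower.algebraMap_apply A B (B ⧸ 𝔄)]
    have h1 : algebraMap A B a ∈ 𝔄 := by
      apply hn
      have h2 : algebraMap A B a ∈ (𝔞 ^ (k * n)).map (algebraMap A B) :=
        Ideal.mem_map_of_mem _ ha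
      rw [pow_mul, Ideal.map_pow] at h2
      exact Ideal.pow_right_mono hk n h2
    rw [Ideal.Quotient.algebraMap_eq, Ideal.Quotient.eq_zero_iff_mem.2 h1, TrivSqZeroExt.inl_zero]
  let e : (TrivSqZeroExt (B ⧸ 𝔄) M ⧸ J) ≃ₐ[A] TrivSqZeroExt (B ⧸ 𝔄) N :=
    Ideal.quotientKerAlgEquivOfSurjective hq
  let u' : B →ₐ[A] TrivSqZeroExt (B ⧸ 𝔄) M ⧸ J := (e.symm : _ →ₐ[A] _).comp u
  have hu0 : ∀ x ∈ 𝔄 * 𝔄, u x = 0 := by
    intro x hx
    refine Submodule.mul_induction_on hx ?_ ?_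
    · intro y hy z hz
      rw [map_mul]
      refine H6_tsze_mul_eq_zero _ _ ?_ ?_
      · rw [hu, Ideal.Quotient.algebraMap_eq, Ideal.Quotient.eq_zero_iff_mem.2 hy]
      · rw [hu, Ideal.Quotient.algebraMap_eq, Ideal.Quotient.eq_zero_iff_mem.2 hz]
    · intro y z hy hz
      rw [map_add, hy, hz, add_zero]
  have hu' : ∃ k' : ℕ, ∀ x ∈ 𝔟 ^ k', u' x = 0 := by
    refine ⟨n * 2, fun x hx => ?_⟩
    have h1 : x ∈ 𝔄 * 𝔄 := by
      rw [pow_mul, pow_two] at hx
      exact Ideal.mul_mono hn hn hx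
    show e.symm (u x) = 0
    rw [hu0 x h1, map_zero]
  obtain ⟨v, hv⟩ := h (TrivSqZeroExt (B ⧸ 𝔄) M) J hJ hak u' hu'
  refine ⟨v, fun b => ?_⟩
  have h1 := congrArg (fun g => e (g b)) hv
  have h2 : e (u' b) = u b := e.apply_symm_apply (u b)
  have h3 : e (Ideal.Quotient.mk J (v b)) = q (v b) := rfl
  exact h3.symm.trans (h1.trans h2)

end

end Groth.Agent.Lib.helper6
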