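import Mathlib
import Groth.Prelude.Def_ArtFun5

set_option autoImplicit false
universe u v

open ArtFun ArtFun.Art CategoryTheory

namespace Groth.Agent.Lib.helper6

variable {Λ : Type u} {k : Type u} [CommRing Λ] [Field k] [Algebra Λ k]

/-- An augmented map from a coefficient ring to an Artinian object kills a power of the maximal ideal. -/
theorem H6_homSet_kills_mpow (R : CRing Λ k) {A : Art Λ k} (φ : HomSet R.carrier R.res A) :
    ∃ n : ℕ, ∀ x ∈ R.mpow n, φ.1 x = 0 := by
  obtain ⟨N, hN⟩ := (isArtinianRing_iff_isNilpotent_maximalIdeal A).mp inferInstance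
  refine ⟨N, ?_⟩
  have hle : Ideal.map φ.1 (IsLocalRing.maximalIdeal R.carrier) ≤ IsLocalRing.maximalIdeal A := by
    rw [Ideal.map_le_iff_le_comap]
    intro x hx
    rw [Ideal.mem_comap, Art.mem_maximalIdeal_iff]
    have h1 : A.res (φ.1 x) = R.res x := congrArg (fun ψ : R.carrier →ₐ[Λ] k => ψ x) φ.2
    rw [h1]
    exact (CRing.mem_maximalIdeal_iff R x).1 hx
  intro x hx
  have h1 : φ.1 x ∈ Ideal.map φ.1 (R.mpow N) := Ideal.mem_map_of_mem _ hx
  rw [Ideal.map_pow] at h1
  have h2 := Ideal.pow_right_mono hle (N + 1) h1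
  rw [pow_succ, hN] at h2
  simpa using h2

/-- The factorisation of an augmented map through a truncation. -/
noncomputable def H6_truncLift (R : CRing Λ k) {A : Art Λ k} (φ : HomSet R.carrier R.res A) (n : ℕ)
    (h : ∀ x ∈ R.mpow n, φ.1 x = 0) : R.trunc n ⟶ A :=
  ⟨Ideal.Quotient.liftₐ (R.mpow n) φ.1 h, by
    apply AlgHom.ext
    intro x
    obtain ⟨a, rfl⟩ := Ideal.Quotient.mk_surjective x
    exact congrArg (fun ψ : R.carrier →ₐ[Λ] k => ψ a) φ.2⟩

theorem H6_truncLift_mk (R : CRing Λ k) {A : Art Λ k} (φ : HomSet R.carrier R.res A) (n : ℕ)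
    (h : ∀ x ∈ R.mpow n, φ.1 x = 0) (a : R.carrier) :
    (H6_truncLift R φ n h) (Ideal.Quotient.mk (R.mpow n) a) = φ.1 a := rfl

theorem H6_map_truncLift (R : CRing Λ k) {A : Art Λ k} (φ : HomSet R.carrier R.res A) (n : ℕ)
    (h : ∀ x ∈ R.mpow n, φ.1 x = 0) : HomSet.map (H6_truncLift R φ n h) (R.truncHom n) = φ :=
  Subtype.ext (AlgHom.ext fun _ => rfl)

theorem H6_art_hom_ext_trunc (R : CRing Λ k) {A : Art Λ k} (n : ℕ) (f g : R.trunc n ⟶ A)
    (h : ∀ a : R.carrier, f (Ideal.Quotient.mk (R.mpow n) a) = g (Ideal.Quotient.mk (R.mpow n) a)) :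
    f = g := by
  apply Art.hom_ext
  apply AlgHom.ext
  intro x
  obtain ⟨a, rfl⟩ := Ideal.Quotient.mk_surjective x
  exact h a

theorem H6_truncMap_mk (R : CRing Λ k) (n : ℕ) (a : R.carrier) :
    (R.truncMap n) (Ideal.Quotient.mk (R.mpow (n + 1)) a) = Ideal.Quotient.mk (R.mpow n) a := rfl

/-- Compatibility of a formal element with iterated transition maps, in lifted form. -/
theorem H6_formalElt_trans {F : Art Λ k ⥤ Type v} (R : CRing Λ k) (u : FormalElt F R) {A : Art Λ k}
    (n n' : ℕ) (hnn' : n ≤ n') (f : R.trunc n ⟶ A) (f' : R.trunc n' ⟶ A)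
    (h : ∀ a : R.carrier, f (Ideal.Quotient.mk (R.mpow n) a) = f' (Ideal.Quotient.mk (R.mpow n') a)) :
    F.map f (u.elt n) = F.map f' (u.elt n') := by
  induction n', hnn' using Nat.le_induction generalizing A with
  | base =>
    have : f = f' := H6_art_hom_ext_trunc R n f f' h
    rw [this]
  | succ m hm ih =>
    have e : f' = R.truncMap m ≫ (H6_truncLift R ⟨f'.toAlgHom.comp (R.truncHom (m + 1)).1, by
        rw [← AlgHom.comp_assoc, f'.res_comp]; exact (R.truncHom (m + 1)).2⟩ m (by
          intro x hx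
          have hx' : Ideal.Quotient.mk (R.mpow n) x = 0 := by
            rw [Ideal.Quotient.eq_zero_iff_mem]
            exact Ideal.pow_le_pow_right (Nat.succ_le_succ hm) hx
          show f' (Ideal.Quotient.mk (R.mpow (m + 1)) x) = 0
          rw [← h x, hx']
          exact map_zero f.toAlgHom)) := by
      apply H6_art_hom_ext_trunc
      intro a
      rfl
    rw [e, FunctorToTypes.map_comp_apply, u.compat]
    apply ih
    intro a
    rw [h a]
    rfl

/-- A family is determined by its formal element, and every formal element comes from a family. -/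
theorem H6_toFormalElt_bijective (R : CRing Λ k) (F : Art Λ k ⥤ Type v) :
    Function.Bijective (fun ξ : Family R.carrier R.res F => ξ.toFormalElt) := by
  classical
  constructor
  · intro ξ ξ' h
    have h' : ∀ n, ξ.app _ (R.truncHom n) = ξ'.app _ (R.truncHom n) := fun n =>
      congrArg (fun u : FormalElt F R => u.elt n) h
    have happ : ξ.app = ξ'.app := by
      funext A φ
      obtain ⟨n, hn⟩ := H6_homSet_kills_mpow R φ
      rw [← H6_map_truncLift R φ n hn, ξ.natural, ξ'.natural, h']
    cases ξ; cases ξ'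
    congr
  · intro u
    have key : ∀ {A : Art Λ k} (φ : HomSet R.carrier R.res A) (n n' : ℕ)
        (h : ∀ x ∈ R.mpow n, φ.1 x = 0) (h' : ∀ x ∈ R.mpow n', φ.1 x = 0),
        F.map (H6_truncLift R φ n h) (u.elt n) = F.map (H6_truncLift R φ n' h') (u.elt n') := by
      intro A φ n n' h h'
      have hmax : ∀ x ∈ R.mpow (max n n'), φ.1 x = 0 := fun x hx =>
        h x (Ideal.pow_le_pow_right (Nat.succ_le_succ (le_max_left n n')) hx)
      rw [H6_formalElt_trans R u n (max n n') (le_max_left _ _) _ (H6_truncLift R φ _ hmax)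
        (fun a => rfl),
        H6_formalElt_trans R u n' (max n n') (le_max_right _ _) _ (H6_truncLift R φ _ hmax)
        (fun a => rfl)]
    let nn : ∀ {A : Art Λ k} (φ : HomSet R.carrier R.res A), ℕ := fun φ =>
      Classical.choose (H6_homSet_kills_mpow R φ)
    have hnn : ∀ {A : Art Λ k} (φ : HomSet R.carrier R.res A), ∀ x ∈ R.mpow (nn φ), φ.1 x = 0 :=
      fun φ => Classical.choose_spec (H6_homSet_kills_mpow R φ)
    refine ⟨⟨fun A φ => F.map (H6_truncLift R φ (nn φ) (hnn φ)) (u.elt (nn φ)), ?_⟩, ?_⟩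
    · intro A B f φ
      have hk : ∀ x ∈ R.mpow (nn φ), (HomSet.map f φ).1 x = 0 := by
        intro x hx
        show f (φ.1 x) = 0
        rw [hnn φ x hx]
        exact map_zero f.toAlgHom
      have e : H6_truncLift R (HomSet.map f φ) (nn φ) hk = H6_truncLift R φ (nn φ) (hnn φ) ≫ f := by
        apply H6_art_hom_ext_trunc
        intro a
        rfl
      rw [key (HomSet.map f φ) (nn (HomSet.map f φ)) (nn φ) (hnn _) hk,
        ← FunctorToTypes.map_comp_apply, e]
    · apply FormalElt.ext'
      intro n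
      show F.map (H6_truncLift R (R.truncHom n) (nn (R.truncHom n)) (hnn _)) (u.elt _) = u.elt n
      have hk : ∀ x ∈ R.mpow n, (R.truncHom n).1 x = 0 := by
        intro x hx
        exact Ideal.Quotient.eq_zero_iff_mem.2 hx
      rw [key (R.truncHom n) _ n (hnn _) hk]
      have : H6_truncLift R (R.truncHom n) n hk = 𝟙 _ := by
        apply H6_art_hom_ext_trunc
        intro a
        rfl
      rw [this, FunctorToTypes.map_id_apply]

end Groth.Agent.Lib.helper6
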