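import Mathlib
import Groth.Prelude.Def_ArtFun

set_option autoImplicit false
universe u v

open ArtFun CategoryTheory

namespace Groth.Agent.Lib.helper6

variable {Λ : Type u} {k : Type u} [CommRing Λ] [Field k] [Algebra Λ k]

/-- The quotient of an object of `Art Λ k` by a proper ideal. -/
noncomputable def H6_artQuot (B : Art Λ k) (J : Ideal B) (hJ : J ≤ IsLocalRing.maximalIdeal B) :
    Art Λ k :=
  haveI : Nontrivial (B ⧸ J) :=
    Ideal.Quotient.nontrivial_iff.mpr (fun h => (IsLocalRing.maximalIdeal.isMaximal B).ne_top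
      (top_le_iff.mp (h ▸ hJ)))
  haveI : IsLocalRing (B ⧸ J) :=
    IsLocalRing.of_surjective' (Ideal.Quotient.mk J) Ideal.Quotient.mk_surjective
  haveI : IsArtinianRing (B ⧸ J) :=
    (Ideal.Quotient.mk_surjective (I := J)).isArtinianRing
  { carrier := B ⧸ J
    res := Ideal.Quotient.liftₐ J B.res (fun a ha => (Art.mem_maximalIdeal_iff B a).mp (hJ ha))
    res_surjective := fun x => by
      obtain ⟨b, hb⟩ := B.res_surjective x
      exact ⟨Ideal.Quotient.mk J b, by simpa using hb⟩ }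

/-- The quotient map. -/
noncomputable def H6_artQuotMk (B : Art Λ k) (J : Ideal B) (hJ : J ≤ IsLocalRing.maximalIdeal B) :
    B ⟶ H6_artQuot B J hJ :=
  Art.homMk (Ideal.Quotient.mkₐ Λ J) (by
    apply AlgHom.ext
    intro b
    rfl)

theorem H6_artQuotMk_apply (B : Art Λ k) (J : Ideal B) (hJ : J ≤ IsLocalRing.maximalIdeal B)
    (b : B) : (H6_artQuotMk B J hJ) b = (Ideal.Quotient.mk J b : B ⧸ J) := rfl

theorem H6_artQuotMk_surjective (B : Art Λ k) (J : Ideal B)
    (hJ : J ≤ IsLocalRing.maximalIdeal B) : Function.Surjective (H6_artQuotMk B J hJ) :=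
  Ideal.Quotient.mk_surjective

theorem H6_artQuotMk_eq_zero_iff (B : Art Λ k) (J : Ideal B)
    (hJ : J ≤ IsLocalRing.maximalIdeal B) (b : B) : (H6_artQuotMk B J hJ) b = 0 ↔ b ∈ J :=
  Ideal.Quotient.eq_zero_iff_mem

/-- Lifting a morphism through the quotient. -/
noncomputable def H6_artQuotLift {A B : Art Λ k} (J : Ideal B)
    (hJ : J ≤ IsLocalRing.maximalIdeal B) (f : B ⟶ A) (h : ∀ b ∈ J, f b = 0) :
    H6_artQuot B J hJ ⟶ A :=
  Art.homMk (Ideal.Quotient.liftₐ J f.toAlgHom h) (by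
    apply AlgHom.ext
    intro x
    obtain ⟨b, rfl⟩ := Ideal.Quotient.mk_surjective x
    exact Art.res_app f b)

theorem H6_artQuotLift_mk {A B : Art Λ k} (J : Ideal B)
    (hJ : J ≤ IsLocalRing.maximalIdeal B) (f : B ⟶ A) (h : ∀ b ∈ J, f b = 0) (b : B) :
    (H6_artQuotLift J hJ f h) ((H6_artQuotMk B J hJ) b) = f b := rfl

theorem H6_artQuotMk_comp_lift {A B : Art Λ k} (J : Ideal B)
    (hJ : J ≤ IsLocalRing.maximalIdeal B) (f : B ⟶ A) (h : ∀ b ∈ J, f b = 0) :
    H6_artQuotMk B J hJ ≫ H6_artQuotLift J hJ f h = f := by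
  apply Art.hom_ext
  apply AlgHom.ext
  intro b
  rfl

/-- Morphisms out of the quotient are determined by their composite with the quotient map. -/
theorem H6_artQuot_hom_ext {A B : Art Λ k} (J : Ideal B)
    (hJ : J ≤ IsLocalRing.maximalIdeal B) (g₁ g₂ : H6_artQuot B J hJ ⟶ A)
    (h : H6_artQuotMk B J hJ ≫ g₁ = H6_artQuotMk B J hJ ≫ g₂) : g₁ = g₂ := by
  apply Art.hom_ext
  apply AlgHom.ext
  intro x
  obtain ⟨b, rfl⟩ := H6_artQuotMk_surjective B J hJ x
  have := congrArg (fun g => g b) h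
  exact this

/-- A bijective morphism in `Art Λ k` is an isomorphism. -/
theorem H6_isIso_of_bijective {A B : Art Λ k} (e : B ⟶ A) (he : Function.Bijective e) :
    IsIso e := by
  let E : B ≃ₐ[Λ] A := AlgEquiv.ofBijective e.toAlgHom he
  have hE : ∀ b, E b = e b := fun b => rfl
  refine ⟨⟨Art.homMk (E.symm : A →ₐ[Λ] B) ?_, ?_, ?_⟩⟩
  · apply AlgHom.ext
    intro a
    obtain ⟨b, rfl⟩ := he.2 a
    show B.res (E.symm (e b)) = A.res (e b)
    rw [← hE, E.symm_apply_apply, hE, Art.res_app]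
  · apply Art.hom_ext
    apply AlgHom.ext
    intro b
    show E.symm (e b) = b
    rw [← hE, E.symm_apply_apply]
  · apply Art.hom_ext
    apply AlgHom.ext
    intro a
    show e (E.symm a) = a
    rw [← hE, E.apply_symm_apply]

end Groth.Agent.Lib.helper6
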