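import Mathlib
import Groth.Prelude.Def_ArtFun
import Groth.Agent.Lib.helper6.ArtQuot

set_option autoImplicit false
universe u v

open ArtFun CategoryTheory

namespace Groth.Agent.Lib.helper6

variable {Λ : Type u} {k : Type u} [CommRing Λ] [Field k] [Algebra Λ k]

/-- Transition map between quotients. -/
noncomputable def H6_artQuotMap (B : Art Λ k) (J J' : Ideal B) (hJJ' : J ≤ J')
    (hJ' : J' ≤ IsLocalRing.maximalIdeal B) :
    H6_artQuot B J (hJJ'.trans hJ') ⟶ H6_artQuot B J' hJ' :=
  H6_artQuotLift J (hJJ'.trans hJ') (H6_artQuotMk B J' hJ')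
    (fun b hb => (H6_artQuotMk_eq_zero_iff B J' hJ' b).mpr (hJJ' hb))

theorem H6_artQuotMap_mk (B : Art Λ k) (J J' : Ideal B) (hJJ' : J ≤ J')
    (hJ' : J' ≤ IsLocalRing.maximalIdeal B) (b : B) :
    (H6_artQuotMap B J J' hJJ' hJ') ((H6_artQuotMk B J (hJJ'.trans hJ')) b) =
      (H6_artQuotMk B J' hJ') b := rfl

/-- The transition map `B/J → B/(J ⊔ (t))` is a small extension when `t ∉ J` and `m t ⊆ J`. -/
theorem H6_artQuotMap_isSmallExt (B : Art Λ k) (J : Ideal B) (t : B) (ht : t ∉ J)
    (hmt : ∀ m ∈ IsLocalRing.maximalIdeal B, m * t ∈ J)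
    (hJ' : J ⊔ Ideal.span {t} ≤ IsLocalRing.maximalIdeal B) :
    Art.IsSmallExt (H6_artQuotMap B J (J ⊔ Ideal.span {t}) le_sup_left hJ') := by
  set J' := J ⊔ Ideal.span {t} with hJ'def
  have hJ : J ≤ IsLocalRing.maximalIdeal B := le_sup_left.trans hJ'
  set r := H6_artQuotMap B J J' le_sup_left hJ' with hr
  set π := H6_artQuotMk B J hJ with hπ
  have hπs := H6_artQuotMk_surjective B J hJ
  have hker : ∀ b : B, r (π b) = 0 ↔ b ∈ J' := by
    intro b
    rw [hr, hπ, H6_artQuotMap_mk, H6_artQuotMk_eq_zero_iff]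
  have hkerEq : RingHom.ker r.toAlgHom = Ideal.span {π t} := by
    apply le_antisymm
    · intro x hx
      obtain ⟨b, rfl⟩ := hπs x
      have hb : b ∈ J' := (hker b).mp hx
      obtain ⟨j, hj, s, hs, rfl⟩ := Submodule.mem_sup.mp hb
      obtain ⟨c, rfl⟩ := Ideal.mem_span_singleton'.mp hs
      rw [Ideal.mem_span_singleton']
      refine ⟨π c, ?_⟩
      have hj0 : π j = 0 := (H6_artQuotMk_eq_zero_iff B J hJ j).mpr hj
      show π.toAlgHom c * π.toAlgHom t = π.toAlgHom (j + c * t)
      rw [map_add, map_mul]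
      have : π.toAlgHom j = 0 := hj0
      rw [this, zero_add]
    · rw [Ideal.span_le]
      intro x hx
      rw [Set.mem_singleton_iff] at hx
      rw [hx]
      show r (π t) = 0
      rw [hker]
      exact Ideal.mem_sup_right (Ideal.mem_span_singleton_self t)
  refine ⟨?_, ?_, ?_, ?_⟩
  · intro y
    obtain ⟨b, rfl⟩ := H6_artQuotMk_surjective B J' hJ' y
    exact ⟨π b, rfl⟩
  · rw [hkerEq]
    intro h
    have : π t ∈ (⊥ : Ideal (H6_artQuot B J hJ)) := by
      rw [← h]; exact Ideal.mem_span_singleton_self _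
    rw [Ideal.mem_bot] at this
    exact ht ((H6_artQuotMk_eq_zero_iff B J hJ t).mp this)
  · rw [hkerEq]
    exact ⟨⟨π t, rfl⟩⟩
  · rw [hkerEq, eq_bot_iff, Ideal.mul_le]
    intro x hx y hy
    obtain ⟨m, rfl⟩ := hπs x
    obtain ⟨c, rfl⟩ := Ideal.mem_span_singleton'.mp hy
    obtain ⟨c', rfl⟩ := hπs c
    have hm : m ∈ IsLocalRing.maximalIdeal B := by
      rw [Art.mem_maximalIdeal_iff] at hx ⊢
      rw [← Art.res_app π m]
      exact hx
    rw [Ideal.mem_bot]
    have : π.toAlgHom m * (π.toAlgHom c' * π.toAlgHom t) = π.toAlgHom (c' * (m * t)) := by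
      rw [map_mul, map_mul]; ring
    show π.toAlgHom m * (π.toAlgHom c' * π.toAlgHom t) = 0
    rw [this]
    exact (H6_artQuotMk_eq_zero_iff B J hJ _).mpr (J.mul_mem_left c' (hmt m hm))


/-- Existence of a socle element in a nonzero quotient `I/J`. -/
theorem H6_exists_socle_elt (B : Art Λ k) (J I : Ideal B) (hJI : J ≤ I) (hne : J ≠ I) :
    ∃ t ∈ I, t ∉ J ∧ ∀ m ∈ IsLocalRing.maximalIdeal B, m * t ∈ J := by
  classical
  obtain ⟨N, hN⟩ := (isArtinianRing_iff_isNilpotent_maximalIdeal B).mp inferInstance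
  have hex : ∃ i : ℕ, IsLocalRing.maximalIdeal B ^ i * I ≤ J := ⟨N, by
    rw [hN]; simp⟩
  have h0 : ¬ (IsLocalRing.maximalIdeal B ^ 0 * I ≤ J) := by
    rw [pow_zero, Ideal.one_eq_top, Ideal.top_mul]
    intro h
    exact hne (le_antisymm hJI h)
  have hpos : Nat.find hex ≠ 0 := by
    intro h
    have := Nat.find_spec hex
    rw [h] at this
    exact h0 this
  obtain ⟨j, hj⟩ := Nat.exists_eq_succ_of_ne_zero hpos
  have hjnot : ¬ (IsLocalRing.maximalIdeal B ^ j * I ≤ J) :=
    Nat.find_min hex (by rw [hj]; exact Nat.lt_succ_self j)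
  obtain ⟨t, htmem, htJ⟩ := SetLike.not_le_iff_exists.mp hjnot
  refine ⟨t, Ideal.mul_le_right htmem, htJ, ?_⟩
  intro m hm
  have hspec := Nat.find_spec hex
  rw [hj, pow_succ', mul_assoc] at hspec
  exact hspec (Ideal.mul_mem_mul hm htmem)

/-- Induction principle: a property of morphisms holding for isomorphisms and small extensions and
stable under composition holds for all surjections. -/
theorem H6_surjective_induction
    (P : ∀ ⦃A B : Art Λ k⦄, (B ⟶ A) → Prop)
    (hiso : ∀ ⦃A B : Art Λ k⦄ (e : B ⟶ A), IsIso e → P e)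
    (hsmall : ∀ ⦃A B : Art Λ k⦄ (p : B ⟶ A), Art.IsSmallExt p → P p)
    (hcomp : ∀ ⦃A B C : Art Λ k⦄ (p : C ⟶ B) (q : B ⟶ A), P p → P q → P (p ≫ q))
    ⦃A B : Art Λ k⦄ (f : B ⟶ A) (hf : Function.Surjective f) : P f := by
  classical
  set I := RingHom.ker f.toAlgHom with hI
  have hImax : I ≤ IsLocalRing.maximalIdeal B := by
    intro b hb
    rw [Art.mem_maximalIdeal_iff, ← Art.res_app f b]
    have : f b = 0 := hb
    rw [this]; exact map_zero A.res
  have hzero : ∀ J : Ideal B, J ≤ I → ∀ b ∈ J, f b = 0 := fun J hJ b hb => hJ hb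
  -- the claim by well-founded induction on ideals
  have key : ∀ J : Ideal B, ∀ hJ : J ≤ I,
      P (H6_artQuotLift J (hJ.trans hImax) f (hzero J hJ)) := by
    intro J
    induction J using WellFoundedGT.induction with
    | ind J ih =>
    intro hJ
    by_cases hJI : J = I
    · apply hiso
      apply H6_isIso_of_bijective
      constructor
      · rw [injective_iff_map_eq_zero]
        intro x hx
        obtain ⟨b, rfl⟩ := H6_artQuotMk_surjective B J (hJ.trans hImax) x
        have hb : f b = 0 := hx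
        have : b ∈ J := by rw [hJI]; exact hb
        exact (H6_artQuotMk_eq_zero_iff B J (hJ.trans hImax) b).mpr this
      · intro a
        obtain ⟨b, rfl⟩ := hf a
        exact ⟨H6_artQuotMk B J (hJ.trans hImax) b, rfl⟩
    · obtain ⟨t, htI, htJ, hmt⟩ := H6_exists_socle_elt B J I hJ hJI
      have hJ'I : J ⊔ Ideal.span {t} ≤ I :=
        sup_le hJ ((Ideal.span_singleton_le_iff_mem I).mpr htI)
      have hlt : J < J ⊔ Ideal.span {t} := by
        refine lt_of_le_of_ne le_sup_left ?_
        intro h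
        apply htJ
        rw [h]
        exact Ideal.mem_sup_right (Ideal.mem_span_singleton_self t)
      have hP' := ih (J ⊔ Ideal.span {t}) hlt hJ'I
      have hsm := H6_artQuotMap_isSmallExt B J t htJ hmt (hJ'I.trans hImax)
      have hPr := hsmall _ hsm
      have hcompP := hcomp _ _ hPr hP'
      have heq : H6_artQuotMap B J (J ⊔ Ideal.span {t}) le_sup_left (hJ'I.trans hImax) ≫
          H6_artQuotLift (J ⊔ Ideal.span {t}) (hJ'I.trans hImax) f (hzero _ hJ'I) =
          H6_artQuotLift J (hJ.trans hImax) f (hzero J hJ) := by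
        apply H6_artQuot_hom_ext
        apply Art.hom_ext
        apply AlgHom.ext
        intro b
        rfl
      rw [heq] at hcompP
      exact hcompP
  have hbot := key ⊥ bot_le
  have hmk : P (H6_artQuotMk B ⊥ (bot_le.trans hImax)) := by
    apply hiso
    apply H6_isIso_of_bijective
    constructor
    · rw [injective_iff_map_eq_zero]
      intro b hb
      have := (H6_artQuotMk_eq_zero_iff B ⊥ (bot_le.trans hImax) b).mp hb
      simpa using this
    · exact H6_artQuotMk_surjective B ⊥ _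
  have := hcomp _ _ hmk hbot
  rw [H6_artQuotMk_comp_lift] at this
  exact this

end Groth.Agent.Lib.helper6
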