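import Mathlib
import Groth.Prelude.Def_ArtFun2

/-!
Helper lemmas for functors of Artin rings (namespace `ArtFun` of the prelude).
-/

set_option autoImplicit false
universe u v

namespace Groth.Agent.Lib.helper6

open ArtFun ArtFun.Art CategoryTheory

variable {Λ k : Type u} [CommRing Λ] [Field k] [Algebra Λ k]

/-- Lifting a compatible pair of augmented algebra maps into a fibre product. -/
theorem H6_fibreProd_lift {B A A' A'' : Art Λ k} {p' : B ⟶ A'} {p'' : B ⟶ A''} {f' : A' ⟶ A}
    {f'' : A'' ⟶ A} (h : IsFibreProd p' p'' f' f'') {R : Type u} [CommRing R] [Algebra Λ R]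
    {resR : R →ₐ[Λ] k} (φ' : HomSet R resR A') (φ'' : HomSet R resR A'')
    (hφ : HomSet.map f' φ' = HomSet.map f'' φ'') :
    ∃ ψ : HomSet R resR B, HomSet.map p' ψ = φ' ∧ HomSet.map p'' ψ = φ'' := by
  have hcomp : ∀ r : R, f' (φ'.1 r) = f'' (φ''.1 r) := by
    intro r
    have := congrArg (fun ψ : HomSet R resR A => ψ.1 r) hφ
    exact this
  choose g hg1 hg2 using fun r : R => h.surj (φ'.1 r) (φ''.1 r) (hcomp r)
  have key : ∀ (b : B) (r : R), p' b = φ'.1 r → p'' b = φ''.1 r → b = g r := by
    intro b r h1 h2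
    exact h.inj _ _ (h1.trans (hg1 r).symm) (h2.trans (hg2 r).symm)
  let G : R →ₐ[Λ] B :=
    { toFun := g
      map_one' := by
        symm; apply key
        · show p'.toAlgHom 1 = φ'.1 1
          rw [map_one, map_one]
        · show p''.toAlgHom 1 = φ''.1 1
          rw [map_one, map_one]
      map_mul' := by
        intro x y
        symm; apply key
        · show p'.toAlgHom (g x * g y) = φ'.1 (x * y)
          rw [map_mul, map_mul]
          show p' (g x) * p' (g y) = _
          rw [hg1, hg1]
        · show p''.toAlgHom (g x * g y) = φ''.1 (x * y)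
          rw [map_mul, map_mul]
          show p'' (g x) * p'' (g y) = _
          rw [hg2, hg2]
      map_zero' := by
        symm; apply key
        · show p'.toAlgHom 0 = φ'.1 0
          rw [map_zero, map_zero]
        · show p''.toAlgHom 0 = φ''.1 0
          rw [map_zero, map_zero]
      map_add' := by
        intro x y
        symm; apply key
        · show p'.toAlgHom (g x + g y) = φ'.1 (x + y)
          rw [map_add, map_add]
          show p' (g x) + p' (g y) = _
          rw [hg1, hg1]
        · show p''.toAlgHom (g x + g y) = φ''.1 (x + y)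
          rw [map_add, map_add]
          show p'' (g x) + p'' (g y) = _
          rw [hg2, hg2]
      commutes' := by
        intro c
        symm; apply key
        · show p'.toAlgHom (algebraMap Λ B c) = φ'.1 (algebraMap Λ R c)
          rw [AlgHom.commutes, AlgHom.commutes]
        · show p''.toAlgHom (algebraMap Λ B c) = φ''.1 (algebraMap Λ R c)
          rw [AlgHom.commutes, AlgHom.commutes] }
  have hGres : B.res.comp G = resR := by
    ext r
    show B.res (g r) = resR r
    rw [← res_app p' (g r), hg1]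
    exact congrArg (fun ψ : R →ₐ[Λ] k => ψ r) φ'.2
  refine ⟨⟨G, hGres⟩, ?_, ?_⟩
  · apply Subtype.ext
    ext r
    exact hg1 r
  · apply Subtype.ext
    ext r
    exact hg2 r

/-- `h_R(k)` has exactly one point. -/
theorem H6_homSet_base_unique {R : Type u} [CommRing R] [Algebra Λ R] (resR : R →ₐ[Λ] k)
    (φ : HomSet R resR (base Λ k)) : φ = ⟨resR, AlgHom.id_comp _⟩ := by
  apply Subtype.ext
  have h2 : (base Λ k).res.comp φ.1 = resR := φ.2
  show φ.1 = resR
  ext r
  exact congrArg (fun ψ : R →ₐ[Λ] k => ψ r) h2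

/-- A versal family over a functor with `F(k)` a point is surjective on every object. -/
theorem H6_versal_surjective {F : Art Λ k ⥤ Type v} {R : Type u} [CommRing R] [Algebra Λ R]
    {resR : R →ₐ[Λ] k} (ξ : Family R resR F) (hξ : IsVersal ξ) (h0 : Subsingleton (F.obj (base Λ k)))
    (A : Art Λ k) : Function.Surjective (ξ.app A) := by
  intro y
  obtain ⟨ψ, -, hψ⟩ := hξ (toBase A) A.res_surjective ⟨resR, AlgHom.id_comp _⟩ y (h0.elim _ _)
  exact ⟨ψ, hψ⟩

/-- A versal family which is surjective on every object gives condition (S1). -/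
theorem H6_s1_of_versal {F : Art Λ k ⥤ Type v} {R : Type u} [CommRing R] [Algebra Λ R]
    {resR : R →ₐ[Λ] k} (ξ : Family R resR F) (hξ : IsVersal ξ)
    (hsurj : ∀ A : Art Λ k, Function.Surjective (ξ.app A)) : S1 F := by
  intro B A A' A'' p' p'' f' f'' h hf'' ⟨⟨a', a''⟩, ha⟩
  have ha' : F.map f' a' = F.map f'' a'' := ha
  obtain ⟨φ', hφ'⟩ := hsurj A' a'
  have h1 : F.map f'' a'' = ξ.app A (HomSet.map f' φ') := by
    rw [ξ.natural, hφ', ha']
  obtain ⟨ψ'', hψ1, hψ2⟩ := hξ f'' hf'' (HomSet.map f' φ') a'' h1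
  obtain ⟨ψ, hψ', hψ''⟩ := H6_fibreProd_lift h φ' ψ'' hψ1.symm
  refine ⟨ξ.app B ψ, ?_⟩
  apply FibProd.ext
  · show F.map p' (ξ.app B ψ) = a'
    rw [← ξ.natural, hψ', hφ']
  · show F.map p'' (ξ.app B ψ) = a''
    rw [← ξ.natural, hψ'', hψ2]

end Groth.Agent.Lib.helper6
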