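import Mathlib
import Groth.Prelude.Def_ArtFun

set_option autoImplicit false
universe u v

open ArtFun

namespace Groth.Agent.Lib.helper6

/-- A module of finite length over a local ring `A` is finite over `R` if the residue field is. -/
theorem H6_finite_of_isFiniteLength {R : Type u} {A : Type v} [CommRing R] [CommRing A] [Algebra R A]
    [IsLocalRing A] (hk : Module.Finite R (A ⧸ IsLocalRing.maximalIdeal A))
    {M : Type*} [AddCommGroup M] [Module A M] (h : IsFiniteLength A M) :
    ∀ [Module R M] [IsScalarTower R A M], Module.Finite R M := by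
  induction h with
  | of_subsingleton => intro _ _; infer_instance
  | @of_simple_quotient M _ _ N hs hN ih =>
    intro _ _
    haveI : Module.Finite R N := ih
    obtain ⟨I, hI, ⟨e⟩⟩ := isSimpleModule_iff_quot_maximal.mp hs
    have hIm : I = IsLocalRing.maximalIdeal A := IsLocalRing.eq_maximalIdeal hI
    subst hIm
    haveI : Module.Finite R (M ⧸ N) := Module.Finite.equiv (e.restrictScalars R).symm
    haveI : Module.Finite R (N.restrictScalars R) := ‹Module.Finite R N›
    haveI : Module.Finite R (M ⧸ N.restrictScalars R) :=
      Module.Finite.equiv (Submodule.Quotient.restrictScalarsEquiv R N).symm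
    exact Module.Finite.of_submodule_quotient (N.restrictScalars R)

variable {Λ : Type u} {k : Type u} [CommRing Λ] [Field k] [Algebra Λ k]

/-- Objects of `Art Λ k` are finite `Λ`-modules when `k` is. -/
theorem H6_art_finite [Module.Finite Λ k] (A : Art Λ k) : Module.Finite Λ A := by
  have hker : RingHom.ker (A.res : A →+* k) = IsLocalRing.maximalIdeal A := by
    ext a
    rw [Art.mem_maximalIdeal_iff, RingHom.mem_ker]
    rfl
  have e : (A ⧸ RingHom.ker (A.res : A →+* k)) ≃ₐ[Λ] k :=
    Ideal.quotientKerAlgEquivOfSurjective A.res_surjective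
  have hk : Module.Finite Λ (A ⧸ IsLocalRing.maximalIdeal A) := by
    rw [← hker]
    exact Module.Finite.equiv e.toLinearEquiv.symm
  have hfl : IsFiniteLength A A :=
    isFiniteLength_iff_isNoetherian_isArtinian.mpr ⟨inferInstance, inferInstance⟩
  exact H6_finite_of_isFiniteLength hk hfl

end Groth.Agent.Lib.helper6
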