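import Mathlib
import Groth.Prelude.Def_ArtFun
import Groth.Agent.Lib.helper6.ArtFin

set_option autoImplicit false
universe u v

open ArtFun

namespace Groth.Agent.Lib.helper6

variable {Λ : Type u} {k : Type u} [CommRing Λ] [Field k] [Algebra Λ k]

theorem H6_art_pullback_exists [IsNoetherianRing Λ] [Module.Finite Λ k]
    {A A₁ A₂ : Art Λ k} (f₁ : A₁ ⟶ A) (f₂ : A₂ ⟶ A) (hf₂ : Function.Surjective f₂) :
    ∃ (B : Art Λ k) (p₁ : B ⟶ A₁) (p₂ : B ⟶ A₂), Art.IsFibreProd p₁ p₂ f₁ f₂ := by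
  classical
  haveI : IsLocalHom f₁.toAlgHom := Art.isLocalHom f₁
  haveI : IsLocalHom f₂.toAlgHom := Art.isLocalHom f₂
  let B := AlgHom.pullback f₁.toAlgHom f₂.toAlgHom
  haveI hloc : IsLocalRing B := AlgHom.isLocalRing_pullback f₁.toAlgHom f₂.toAlgHom
  haveI : Module.Finite Λ A₁ := H6_art_finite A₁
  haveI : Module.Finite Λ A₂ := H6_art_finite A₂
  haveI : IsNoetherian Λ (A₁ × A₂) := inferInstance
  haveI : IsNoetherian Λ B := isNoetherian_submodule' (Subalgebra.toSubmodule B)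
  haveI hnoeth : IsNoetherianRing B := isNoetherian_of_tower Λ inferInstance
  let q₁ : B →ₐ[Λ] A₁ := AlgHom.pullbackFst f₁.toAlgHom f₂.toAlgHom
  let q₂ : B →ₐ[Λ] A₂ := AlgHom.pullbackSnd f₁.toAlgHom f₂.toAlgHom
  have hq₁ : ∀ x : B, x ∈ IsLocalRing.maximalIdeal B → q₁ x ∈ IsLocalRing.maximalIdeal A₁ := by
    intro x hx
    rw [IsLocalRing.mem_maximalIdeal, mem_nonunits_iff] at hx ⊢
    intro hu
    apply hx
    obtain ⟨⟨a₁, a₂⟩, hmem⟩ := x
    rw [AlgHom.isUnit_pullback_mk_iff]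
    refine ⟨hu, ?_⟩
    have hmem' : f₁.toAlgHom a₁ = f₂.toAlgHom a₂ := hmem
    have : IsUnit (f₂.toAlgHom a₂) := by rw [← hmem']; exact hu.map f₁.toAlgHom
    exact isUnit_of_map_unit f₂.toAlgHom a₂ this
  have hq₂ : ∀ x : B, x ∈ IsLocalRing.maximalIdeal B → q₂ x ∈ IsLocalRing.maximalIdeal A₂ := by
    intro x hx
    rw [IsLocalRing.mem_maximalIdeal, mem_nonunits_iff] at hx ⊢
    intro hu
    apply hx
    obtain ⟨⟨a₁, a₂⟩, hmem⟩ := x
    rw [AlgHom.isUnit_pullback_mk_iff]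
    refine ⟨?_, hu⟩
    have hmem' : f₁.toAlgHom a₁ = f₂.toAlgHom a₂ := hmem
    have : IsUnit (f₁.toAlgHom a₁) := by rw [hmem']; exact hu.map f₂.toAlgHom
    exact isUnit_of_map_unit f₁.toAlgHom a₁ this
  obtain ⟨N₁, hN₁⟩ := (isArtinianRing_iff_isNilpotent_maximalIdeal A₁).mp inferInstance
  obtain ⟨N₂, hN₂⟩ := (isArtinianRing_iff_isNilpotent_maximalIdeal A₂).mp inferInstance
  haveI hart : IsArtinianRing B := by
    rw [isArtinianRing_iff_isNilpotent_maximalIdeal]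
    refine ⟨N₁ + N₂, ?_⟩
    rw [Ideal.zero_eq_bot, eq_bot_iff]
    intro x hx
    have h1 : q₁ x = 0 := by
      have : q₁ x ∈ Ideal.map q₁ (IsLocalRing.maximalIdeal B ^ (N₁ + N₂)) :=
        Ideal.mem_map_of_mem _ hx
      rw [Ideal.map_pow] at this
      have hle : Ideal.map q₁ (IsLocalRing.maximalIdeal B) ≤ IsLocalRing.maximalIdeal A₁ := by
        rw [Ideal.map_le_iff_le_comap]
        intro y hy
        exact hq₁ y hy
      have := Ideal.pow_right_mono hle (N₁ + N₂) this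
      rw [pow_add, hN₁] at this
      simpa using this
    have h2 : q₂ x = 0 := by
      have : q₂ x ∈ Ideal.map q₂ (IsLocalRing.maximalIdeal B ^ (N₁ + N₂)) :=
        Ideal.mem_map_of_mem _ hx
      rw [Ideal.map_pow] at this
      have hle : Ideal.map q₂ (IsLocalRing.maximalIdeal B) ≤ IsLocalRing.maximalIdeal A₂ := by
        rw [Ideal.map_le_iff_le_comap]
        intro y hy
        exact hq₂ y hy
      have := Ideal.pow_right_mono hle (N₁ + N₂) this
      rw [pow_add, hN₂] at this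
      simpa using this
    rw [Ideal.mem_bot]
    apply Subtype.ext
    exact Prod.ext h1 h2
  have hq₁surj : Function.Surjective q₁ :=
    AlgHom.surjective_pullbackFst_of_surjective f₁.toAlgHom f₂.toAlgHom hf₂
  let Bo : Art Λ k := Art.of B (A₁.res.comp q₁) (A₁.res_surjective.comp hq₁surj)
  have hres₂ : A₂.res.comp q₂ = A₁.res.comp q₁ := by
    ext ⟨⟨a₁, a₂⟩, hmem⟩
    have hmem' : f₁.toAlgHom a₁ = f₂.toAlgHom a₂ := hmem
    show A₂.res a₂ = A₁.res a₁
    rw [← Art.res_app f₂ a₂, ← Art.res_app f₁ a₁]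
    exact congrArg A.res hmem'.symm
  let p₁ : Bo ⟶ A₁ := Art.homMk q₁ rfl
  let p₂ : Bo ⟶ A₂ := Art.homMk q₂ hres₂
  refine ⟨Bo, p₁, p₂, ?_, ?_, ?_⟩
  · apply Art.hom_ext
    exact AlgHom.pullback_comm_sq f₁.toAlgHom f₂.toAlgHom
  · intro b₁ b₂ h1 h2
    apply Subtype.ext
    exact Prod.ext h1 h2
  · intro a' a'' h
    exact ⟨⟨(a', a''), h⟩, rfl, rfl⟩

end Groth.Agent.Lib.helper6
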