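import Mathlib
import Groth.Prelude.Def_ArtFun2
import Groth.Agent.Lib.helper6.ArtFunBasic
import Groth.Agent.Lib.helper6.ArtPull
import Groth.Agent.Lib.helper6.ArtInd

set_option autoImplicit false
universe u v

open ArtFun ArtFun.Art CategoryTheory

namespace Groth.Agent.Lib.helper6

variable {Λ : Type u} {k : Type u} [CommRing Λ] [Field k] [Algebra Λ k]

/-- Universal property of a fibre product square for morphisms of `Art Λ k`. -/
theorem H6_fibreProd_lift_hom {B A A' A'' C : Art Λ k} {p' : B ⟶ A'} {p'' : B ⟶ A''}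
    {f' : A' ⟶ A} {f'' : A'' ⟶ A} (h : IsFibreProd p' p'' f' f'')
    (g' : C ⟶ A') (g'' : C ⟶ A'') (hg : g' ≫ f' = g'' ≫ f'') :
    ∃ s : C ⟶ B, s ≫ p' = g' ∧ s ≫ p'' = g'' := by
  obtain ⟨ψ, h1, h2⟩ := H6_fibreProd_lift (R := C) (resR := C.res) h
    ⟨g'.toAlgHom, g'.res_comp⟩ ⟨g''.toAlgHom, g''.res_comp⟩ (by
      apply Subtype.ext
      exact congrArg Hom.toAlgHom hg)
  refine ⟨⟨ψ.1, ψ.2⟩, ?_, ?_⟩
  · apply hom_ext
    exact congrArg Subtype.val h1
  · apply hom_ext
    exact congrArg Subtype.val h2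

/-- Pasting of fibre product squares. -/
theorem H6_fibreProd_paste {B B₀ A A₀ A' A'' : Art Λ k} {p' : B ⟶ A'} {p'' : B ⟶ A''}
    {f' : A' ⟶ A} {p : A'' ⟶ A₀} {q : A₀ ⟶ A} (h : IsFibreProd p' p'' f' (p ≫ q))
    {r' : B₀ ⟶ A'} {r₀ : B₀ ⟶ A₀} (h₀ : IsFibreProd r' r₀ f' q)
    (s : B ⟶ B₀) (hs1 : s ≫ r' = p') (hs2 : s ≫ r₀ = p'' ≫ p) :
    IsFibreProd s p'' r₀ p := by
  have e1 : ∀ b : B, r' (s b) = p' b := fun b => congrArg (fun g => g b) hs1
  have e2 : ∀ b : B, r₀ (s b) = p (p'' b) := fun b => congrArg (fun g => g b) hs2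
  refine ⟨hs2, ?_, ?_⟩
  · intro b₁ b₂ h1 h2
    apply h.inj _ _ _ h2
    rw [← e1, ← e1, h1]
  · intro b₀ a'' hb
    have hcompat : f' (r' b₀) = (p ≫ q) a'' := by
      rw [h₀.w_apply b₀, hb]; rfl
    obtain ⟨b, hb1, hb2⟩ := h.surj (r' b₀) a'' hcompat
    refine ⟨b, ?_, hb2⟩
    apply h₀.inj
    · rw [e1, hb1]
    · rw [e2, hb2, hb]


section Induction

variable [IsNoetherianRing Λ] [Module.Finite Λ k] (F : Art Λ k ⥤ Type v)

/-- In a fibre product square over an isomorphism the first projection is bijective. -/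
theorem H6_fibreProd_fst_bijective {B A A' A'' : Art Λ k} {p' : B ⟶ A'} {p'' : B ⟶ A''}
    {f' : A' ⟶ A} {f'' : A'' ⟶ A} (h : IsFibreProd p' p'' f' f'')
    (hf'' : Function.Bijective f'') : Function.Bijective p' := by
  constructor
  · intro b₁ b₂ hb
    apply h.inj _ _ hb
    apply hf''.1
    rw [← h.w_apply, ← h.w_apply, hb]
  · intro a'
    obtain ⟨a'', ha''⟩ := hf''.2 (f' a')
    obtain ⟨b, hb, -⟩ := h.surj a' a'' ha''.symm
    exact ⟨b, hb⟩

/-- Surjectivity of the comparison map: the iso case. -/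
theorem H6_cmp_bijective_of_iso {B A A' A'' : Art Λ k} {p' : B ⟶ A'} {p'' : B ⟶ A''}
    {f' : A' ⟶ A} {f'' : A'' ⟶ A} (h : IsFibreProd p' p'' f' f'') (hiso : IsIso f'') :
    Function.Bijective (cmp F h) := by
  have hbij : Function.Bijective f'' := by
    constructor
    · intro x y hxy
      have := congrArg (fun z => (inv f'') z) hxy
      have e : ∀ z, (inv f'') (f'' z) = z := fun z =>
        congrArg (fun g : A'' ⟶ A'' => g z) (IsIso.hom_inv_id f'')
      simpa [e] using this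
    · intro a
      exact ⟨(inv f'') a, congrArg (fun g : A ⟶ A => g a) (IsIso.inv_hom_id f'')⟩
  haveI : IsIso p' := H6_isIso_of_bijective p' (H6_fibreProd_fst_bijective h hbij)
  have hrel : inv p' ≫ p'' = f' ≫ inv f'' := by
    rw [IsIso.inv_comp_eq, ← Category.assoc, IsIso.eq_comp_inv]
    exact h.w.symm
  constructor
  · intro z₁ z₂ hz
    have h1 : F.map p' z₁ = F.map p' z₂ := congrArg (fun t => t.1.1) hz
    have := congrArg (F.map (inv p')) h1
    rwa [← FunctorToTypes.map_comp_apply, ← FunctorToTypes.map_comp_apply, IsIso.hom_inv_id,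
      FunctorToTypes.map_id_apply, FunctorToTypes.map_id_apply] at this
  · rintro ⟨⟨x', x''⟩, hx⟩
    have hx' : F.map f' x' = F.map f'' x'' := hx
    refine ⟨F.map (inv p') x', ?_⟩
    apply FibProd.ext
    · show F.map p' (F.map (inv p') x') = x'
      rw [← FunctorToTypes.map_comp_apply, IsIso.inv_hom_id, FunctorToTypes.map_id_apply]
    · show F.map p'' (F.map (inv p') x') = x''
      rw [← FunctorToTypes.map_comp_apply, hrel, FunctorToTypes.map_comp_apply, hx',
        ← FunctorToTypes.map_comp_apply, IsIso.hom_inv_id, FunctorToTypes.map_id_apply]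

/-- (S1) follows from its restriction to small extensions. -/
theorem H6_s1_of_hbar (hF : Hbar F) : S1 F := by
  intro B A A' A'' p' p'' f' f'' h hf''
  have key := H6_surjective_induction (Λ := Λ) (k := k)
    (fun A A'' f'' => Function.Surjective f'' ∧
      ∀ (A' B : Art Λ k) (p' : B ⟶ A') (p'' : B ⟶ A'') (f' : A' ⟶ A)
        (h : IsFibreProd p' p'' f' f''), Function.Surjective (cmp F h)) ?_ ?_ ?_ f'' hf''
  · exact key.2 A' B p' p'' f' h
  · intro A A'' e he
    refine ⟨?_, fun A' B p' p'' f' h => (H6_cmp_bijective_of_iso F h he).2⟩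
    intro a
    exact ⟨(inv e) a, congrArg (fun g : A ⟶ A => g a) (IsIso.inv_hom_id e)⟩
  · intro A A'' f'' hsm
    exact ⟨hsm.1, fun A' B p' p'' f' h => hF p' p'' f' f'' h hsm⟩
  · intro A A₀ A'' p q hp hq
    refine ⟨fun a => ?_, ?_⟩
    · obtain ⟨a₀, rfl⟩ := hq.1 a
      obtain ⟨a'', rfl⟩ := hp.1 a₀
      exact ⟨a'', rfl⟩
    · intro A' B p' p'' f' h
      obtain ⟨B₀, r', r₀, h₀⟩ := H6_art_pullback_exists f' q hq.1
      obtain ⟨s, hs1, hs2⟩ := H6_fibreProd_lift_hom h₀ p' (p'' ≫ p) (by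
        rw [Category.assoc]; exact h.w)
      have hpaste := H6_fibreProd_paste h h₀ s hs1 hs2
      rintro ⟨⟨x', x''⟩, hx⟩
      have hx' : F.map f' x' = F.map (p ≫ q) x'' := hx
      rw [FunctorToTypes.map_comp_apply] at hx'
      obtain ⟨z₀, hz₀⟩ := hq.2 A' B₀ r' r₀ f' h₀ ⟨(x', F.map p x''), hx'⟩
      have hz₀1 : F.map r' z₀ = x' := congrArg (fun t => t.1.1) hz₀
      have hz₀2 : F.map r₀ z₀ = F.map p x'' := congrArg (fun t => t.1.2) hz₀
      obtain ⟨z, hz⟩ := hp.2 B₀ B s p'' r₀ hpaste ⟨(z₀, x''), hz₀2⟩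
      have hz1 : F.map s z = z₀ := congrArg (fun t => t.1.1) hz
      have hz2 : F.map p'' z = x'' := congrArg (fun t => t.1.2) hz
      refine ⟨z, ?_⟩
      apply FibProd.ext
      · show F.map p' z = x'
        rw [← hs1, FunctorToTypes.map_comp_apply, hz1, hz₀1]
      · exact hz2

/-- Bijectivity of comparison maps for surjections follows from small extensions. -/
theorem H6_rs_of_rs_small
    (hF : ∀ ⦃B A A' A'' : Art Λ k⦄ (p' : B ⟶ A') (p'' : B ⟶ A'') (f' : A' ⟶ A) (f'' : A'' ⟶ A)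
        (h : IsFibreProd p' p'' f' f''), IsSmallExt f'' → Function.Bijective (cmp F h))
    ⦃B A A' A'' : Art Λ k⦄ (p' : B ⟶ A') (p'' : B ⟶ A'') (f' : A' ⟶ A) (f'' : A'' ⟶ A)
    (h : IsFibreProd p' p'' f' f'') (hf'' : Function.Surjective f'') :
    Function.Bijective (cmp F h) := by
  have key := H6_surjective_induction (Λ := Λ) (k := k)
    (fun A A'' f'' => Function.Surjective f'' ∧
      ∀ (A' B : Art Λ k) (p' : B ⟶ A') (p'' : B ⟶ A'') (f' : A' ⟶ A)
        (h : IsFibreProd p' p'' f' f''), Function.Bijective (cmp F h)) ?_ ?_ ?_ f'' hf''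
  · exact key.2 A' B p' p'' f' h
  · intro A A'' e he
    refine ⟨?_, fun A' B p' p'' f' h => H6_cmp_bijective_of_iso F h he⟩
    intro a
    exact ⟨(inv e) a, congrArg (fun g : A ⟶ A => g a) (IsIso.inv_hom_id e)⟩
  · intro A A'' f'' hsm
    exact ⟨hsm.1, fun A' B p' p'' f' h => hF p' p'' f' f'' h hsm⟩
  · intro A A₀ A'' p q hp hq
    refine ⟨fun a => ?_, ?_⟩
    · obtain ⟨a₀, rfl⟩ := hq.1 a
      obtain ⟨a'', rfl⟩ := hp.1 a₀
      exact ⟨a'', rfl⟩
    · intro A' B p' p'' f' h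
      obtain ⟨B₀, r', r₀, h₀⟩ := H6_art_pullback_exists f' q hq.1
      obtain ⟨s, hs1, hs2⟩ := H6_fibreProd_lift_hom h₀ p' (p'' ≫ p) (by
        rw [Category.assoc]; exact h.w)
      have hpaste := H6_fibreProd_paste h h₀ s hs1 hs2
      constructor
      · intro z₁ z₂ hz
        have h1 : F.map p' z₁ = F.map p' z₂ := congrArg (fun t => t.1.1) hz
        have h2 : F.map p'' z₁ = F.map p'' z₂ := congrArg (fun t => t.1.2) hz
        have hs : F.map s z₁ = F.map s z₂ := by
          apply (hq.2 A' B₀ r' r₀ f' h₀).1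
          apply FibProd.ext
          · show F.map r' (F.map s z₁) = F.map r' (F.map s z₂)
            rw [← FunctorToTypes.map_comp_apply, ← FunctorToTypes.map_comp_apply, hs1, h1]
          · show F.map r₀ (F.map s z₁) = F.map r₀ (F.map s z₂)
            rw [← FunctorToTypes.map_comp_apply, ← FunctorToTypes.map_comp_apply, hs2,
              FunctorToTypes.map_comp_apply, FunctorToTypes.map_comp_apply, h2]
        apply (hp.2 B₀ B s p'' r₀ hpaste).1
        apply FibProd.ext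
        · exact hs
        · exact h2
      · rintro ⟨⟨x', x''⟩, hx⟩
        have hx' : F.map f' x' = F.map (p ≫ q) x'' := hx
        rw [FunctorToTypes.map_comp_apply] at hx'
        obtain ⟨z₀, hz₀⟩ := (hq.2 A' B₀ r' r₀ f' h₀).2 ⟨(x', F.map p x''), hx'⟩
        have hz₀1 : F.map r' z₀ = x' := congrArg (fun t => t.1.1) hz₀
        have hz₀2 : F.map r₀ z₀ = F.map p x'' := congrArg (fun t => t.1.2) hz₀
        obtain ⟨z, hz⟩ := (hp.2 B₀ B s p'' r₀ hpaste).2 ⟨(z₀, x''), hz₀2⟩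
        have hz1 : F.map s z = z₀ := congrArg (fun t => t.1.1) hz
        have hz2 : F.map p'' z = x'' := congrArg (fun t => t.1.2) hz
        refine ⟨z, ?_⟩
        apply FibProd.ext
        · show F.map p' z = x'
          rw [← hs1, FunctorToTypes.map_comp_apply, hz1, hz₀1]
        · exact hz2

end Induction

end Groth.Agent.Lib.helper6
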