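import Mathlib
import Groth.Prelude.Def_ArtFun2
import Groth.Agent.Lib.helper6.ArtSquares

set_option autoImplicit false
universe u v

open ArtFun ArtFun.Art CategoryTheory

namespace Groth.Agent.Lib.helper6

variable {Λ : Type u} {k : Type u} [CommRing Λ] [Field k] [Algebra Λ k]

/-- The kernel of a morphism of `Art Λ k` lies in the maximal ideal. -/
theorem H6_ker_le_maximalIdeal {A B : Art Λ k} (f : B ⟶ A) :
    RingHom.ker f.toAlgHom ≤ IsLocalRing.maximalIdeal B := by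
  intro b hb
  rw [Art.mem_maximalIdeal_iff, ← Art.res_app f b]
  have : f b = 0 := hb
  rw [this]; exact map_zero A.res


/-- The `ε`-coefficient on `dual Λ k`. -/
def H6_sn (x : (dual Λ k : Art Λ k)) : k := TrivSqZeroExt.snd (x : DualNumber k)

theorem H6_sn_one : H6_sn (Λ := Λ) (k := k) 1 = 0 := by
  show (1 : DualNumber k).snd = 0
  simp

theorem H6_sn_zero : H6_sn (Λ := Λ) (k := k) 0 = 0 := by
  show (0 : DualNumber k).snd = 0
  simp

theorem H6_sn_add (x y : (dual Λ k : Art Λ k)) : H6_sn (x + y) = H6_sn x + H6_sn y :=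
  TrivSqZeroExt.snd_add (R := k) (M := k) x y

theorem H6_dn_snd_mul (x y : DualNumber k) :
    (x * y).snd = x.fst * y.snd + y.fst * x.snd := by
  rw [TrivSqZeroExt.snd_mul, smul_eq_mul, MulOpposite.smul_eq_mul_unop, MulOpposite.unop_op,
    mul_comm x.snd]

theorem H6_sn_mul (x y : (dual Λ k : Art Λ k)) :
    H6_sn (x * y) = (dual Λ k).res x * H6_sn y + (dual Λ k).res y * H6_sn x :=
  H6_dn_snd_mul (k := k) x y

theorem H6_sn_algebraMap (r : Λ) : H6_sn (algebraMap Λ (dual Λ k : Art Λ k) r) = 0 := by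
  show (algebraMap Λ (DualNumber k) r).snd = 0
  rw [TrivSqZeroExt.algebraMap_eq_inl', TrivSqZeroExt.snd_inl]

theorem H6_dual_ext (x y : (dual Λ k : Art Λ k)) (h1 : (dual Λ k).res x = (dual Λ k).res y)
    (h2 : H6_sn x = H6_sn y) : x = y :=
  TrivSqZeroExt.ext h1 h2

/-- For a small extension `μ : A' → A`, the fibre product `A' ×_k k[ε]` is also the fibre
product `A' ×_A A'`. -/
theorem H6_smallExt_tangent_gen [IsNoetherianRing Λ] [Module.Finite Λ k] {A A' : Art Λ k}
    (μ : A' ⟶ A) (hμ : IsSmallExt μ) (t : A') (ht : RingHom.ker μ.toAlgHom = Ideal.span {t}) :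
    ∃ (C : Art Λ k) (π₁ : C ⟶ A') (π₂ : C ⟶ dual Λ k) (α : C ⟶ A') (δ : A' ⟶ C),
      IsFibreProd π₁ π₂ (toBase A') (toBase (dual Λ k)) ∧ IsFibreProd π₁ α μ μ ∧
      δ ≫ π₁ = 𝟙 A' ∧ δ ≫ α = 𝟙 A' ∧ δ ≫ π₂ = toBase A' ≫ baseToDual ∧
      ∀ (c : C) (b : A'), A'.res b = H6_sn (π₂ c) → α c = π₁ c + b * t := by
  classical
  obtain ⟨hsurj, hne, -, hkill⟩ := hμ
  obtain ⟨C, π₁, π₂, hC⟩ := H6_art_pullback_exists (toBase A') (toBase (dual Λ k))
    (fun a => ⟨TrivSqZeroExt.inl a, rfl⟩)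
  have htk : t ∈ RingHom.ker μ.toAlgHom := by
    rw [ht]; exact Submodule.mem_span_singleton_self t
  have htm : t ∈ IsLocalRing.maximalIdeal A' := H6_ker_le_maximalIdeal μ htk
  have hmt : ∀ m ∈ IsLocalRing.maximalIdeal A', m * t = 0 := by
    intro m hm
    have : m * t ∈ IsLocalRing.maximalIdeal A' * RingHom.ker μ.toAlgHom :=
      Ideal.mul_mem_mul hm htk
    rw [hkill] at this
    exact this
  have htt : t * t = 0 := hmt t htm
  have ht0 : t ≠ 0 := by
    intro h0
    apply hne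
    rw [ht, h0]
    simp
  -- the map ℓ : k → A', r ↦ (lift of r) * t
  let ℓ : k → A' := fun r => Classical.choose (A'.res_surjective r) * t
  have hℓ : ∀ a : A', ℓ (A'.res a) = a * t := by
    intro a
    have hb := Classical.choose_spec (A'.res_surjective (A'.res a))
    have hm : Classical.choose (A'.res_surjective (A'.res a)) - a ∈ IsLocalRing.maximalIdeal A' := by
      rw [Art.mem_maximalIdeal_iff, map_sub, hb, sub_self]
    have := hmt _ hm
    rw [sub_mul, sub_eq_zero] at this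
    exact this
  have hℓ0 : ℓ 0 = 0 := by
    have := hℓ 0
    rw [map_zero, zero_mul] at this
    exact this
  have hℓadd : ∀ r s : k, ℓ (r + s) = ℓ r + ℓ s := by
    intro r s
    obtain ⟨a, rfl⟩ := A'.res_surjective r
    obtain ⟨b, rfl⟩ := A'.res_surjective s
    rw [← map_add, hℓ, hℓ, hℓ, add_mul]
  have hℓmul : ∀ (a : A') (s : k), ℓ (A'.res a * s) = a * ℓ s := by
    intro a s
    obtain ⟨b, rfl⟩ := A'.res_surjective s
    rw [← map_mul, hℓ, hℓ, mul_assoc]
  have hℓℓ : ∀ r s : k, ℓ r * ℓ s = 0 := by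
    intro r s
    obtain ⟨a, rfl⟩ := A'.res_surjective r
    obtain ⟨b, rfl⟩ := A'.res_surjective s
    rw [hℓ, hℓ]
    calc a * t * (b * t) = a * b * (t * t) := by ring
      _ = 0 := by rw [htt, mul_zero]
  have hℓker : ∀ r : k, μ (ℓ r) = 0 := by
    intro r
    obtain ⟨a, rfl⟩ := A'.res_surjective r
    rw [hℓ]
    have : a * t ∈ RingHom.ker μ.toAlgHom := Ideal.mul_mem_left _ a htk
    exact this
  have hℓinj : ∀ r : k, ℓ r = 0 → r = 0 := by
    intro r hr
    by_contra hr0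
    obtain ⟨a, rfl⟩ := A'.res_surjective r
    rw [hℓ] at hr
    have hau : IsUnit a := by
      by_contra hnu
      have : a ∈ IsLocalRing.maximalIdeal A' := (IsLocalRing.mem_maximalIdeal a).mpr hnu
      rw [Art.mem_maximalIdeal_iff] at this
      exact hr0 this
    exact ht0 ((hau.mul_right_eq_zero).mp hr)
  have hfst : ∀ c : C, (dual Λ k).res (π₂ c) = A'.res (π₁ c) := by
    intro c
    rw [Art.res_app π₂ c, Art.res_app π₁ c]
  let α₀ : C →ₐ[Λ] A' :=
    { toFun := fun c => π₁ c + ℓ (H6_sn (π₂ c))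
      map_one' := by
        show π₁.toAlgHom 1 + ℓ (H6_sn (π₂.toAlgHom 1)) = 1
        rw [map_one, map_one, H6_sn_one, hℓ0, add_zero]
      map_mul' := by
        intro c c'
        show π₁.toAlgHom (c * c') + ℓ (H6_sn (π₂.toAlgHom (c * c'))) =
          (π₁.toAlgHom c + ℓ (H6_sn (π₂.toAlgHom c))) *
          (π₁.toAlgHom c' + ℓ (H6_sn (π₂.toAlgHom c')))
        rw [map_mul, map_mul, H6_sn_mul]
        have e1 : (dual Λ k).res (π₂.toAlgHom c) = A'.res (π₁.toAlgHom c) := hfst c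
        have e2 : (dual Λ k).res (π₂.toAlgHom c') = A'.res (π₁.toAlgHom c') := hfst c'
        rw [e1, e2, hℓadd, hℓmul, hℓmul]
        have := hℓℓ (H6_sn (π₂.toAlgHom c)) (H6_sn (π₂.toAlgHom c'))
        linear_combination (-1 : A') * this
      map_zero' := by
        show π₁.toAlgHom 0 + ℓ (H6_sn (π₂.toAlgHom 0)) = 0
        rw [map_zero, map_zero, H6_sn_zero, hℓ0, add_zero]
      map_add' := by
        intro c c'
        show π₁.toAlgHom (c + c') + ℓ (H6_sn (π₂.toAlgHom (c + c'))) =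
          (π₁.toAlgHom c + ℓ (H6_sn (π₂.toAlgHom c))) +
          (π₁.toAlgHom c' + ℓ (H6_sn (π₂.toAlgHom c')))
        rw [map_add, map_add, H6_sn_add, hℓadd]
        ring
      commutes' := by
        intro r
        show π₁.toAlgHom (algebraMap Λ C r) + ℓ (H6_sn (π₂.toAlgHom (algebraMap Λ C r))) =
          algebraMap Λ A' r
        rw [AlgHom.commutes, AlgHom.commutes, H6_sn_algebraMap, hℓ0, add_zero] }
  have hα₀ : ∀ c : C, α₀ c = π₁ c + ℓ (H6_sn (π₂ c)) := fun c => rfl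
  have hα₀res : A'.res.comp α₀ = C.res := by
    apply AlgHom.ext
    intro c
    show A'.res (α₀ c) = C.res c
    rw [hα₀, map_add, Art.res_app π₁ c]
    have : ℓ (H6_sn (π₂ c)) ∈ IsLocalRing.maximalIdeal A' := by
      apply H6_ker_le_maximalIdeal μ
      exact hℓker _
    rw [Art.mem_maximalIdeal_iff] at this
    rw [this, add_zero]
  let α : C ⟶ A' := Art.homMk α₀ hα₀res
  have hα : ∀ c : C, α c = π₁ c + ℓ (H6_sn (π₂ c)) := fun c => rfl
  -- δ
  have hδc : 𝟙 A' ≫ toBase A' = (toBase A' ≫ baseToDual) ≫ toBase (dual Λ k) := by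
    rw [eq_toBase (𝟙 A' ≫ toBase A'), eq_toBase ((toBase A' ≫ baseToDual) ≫ toBase (dual Λ k))]
  obtain ⟨δ, hδ1, hδ2⟩ := H6_fibreProd_lift_hom hC (𝟙 A') (toBase A' ≫ baseToDual) hδc
  refine ⟨C, π₁, π₂, α, δ, hC, ⟨?_, ?_, ?_⟩, hδ1, ?_, hδ2, ?_⟩
  · apply Art.hom_ext
    apply AlgHom.ext
    intro c
    show μ (π₁ c) = μ (α c)
    rw [hα]
    have : μ (π₁ c + ℓ (H6_sn (π₂ c))) = μ (π₁ c) + μ (ℓ (H6_sn (π₂ c))) :=
      map_add μ.toAlgHom _ _
    rw [this, hℓker, add_zero]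
  · intro c₁ c₂ h1 h2
    rw [hα, hα, h1] at h2
    have h3 := add_left_cancel h2
    have h4 : H6_sn (π₂ c₁) = H6_sn (π₂ c₂) := by
      have : ℓ (H6_sn (π₂ c₁) - H6_sn (π₂ c₂)) = 0 := by
        have e := hℓadd (H6_sn (π₂ c₁) - H6_sn (π₂ c₂)) (H6_sn (π₂ c₂))
        rw [sub_add_cancel, h3] at e
        have e' : ℓ (H6_sn (π₂ c₁) - H6_sn (π₂ c₂)) + ℓ (H6_sn (π₂ c₂)) =
            0 + ℓ (H6_sn (π₂ c₂)) := by
          rw [zero_add]; exact e.symm
        exact add_right_cancel e'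
      exact sub_eq_zero.mp (hℓinj _ this)
    apply hC.inj _ _ h1
    apply H6_dual_ext
    · rw [hfst, hfst, h1]
    · exact h4
  · intro a' a'' ha
    have hk : a'' - a' ∈ RingHom.ker μ.toAlgHom := by
      rw [RingHom.mem_ker, map_sub, sub_eq_zero]
      exact ha.symm
    rw [ht] at hk
    obtain ⟨d, hd⟩ := Submodule.mem_span_singleton.mp hk
    let e : (dual Λ k : Art Λ k) :=
      (TrivSqZeroExt.inl (A'.res a') + TrivSqZeroExt.inr (A'.res d) : DualNumber k)
    have he1 : (dual Λ k).res e = A'.res a' := by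
      show (TrivSqZeroExt.inl (A'.res a') + TrivSqZeroExt.inr (A'.res d) : DualNumber k).fst = _
      simp
    have he2 : H6_sn e = A'.res d := by
      show (TrivSqZeroExt.inl (A'.res a') + TrivSqZeroExt.inr (A'.res d) : DualNumber k).snd = _
      simp
    obtain ⟨c, hc1, hc2⟩ := hC.surj a' e he1.symm
    refine ⟨c, hc1, ?_⟩
    rw [hα, hc1, hc2, he2, hℓ]
    have hd' : d * t = a'' - a' := hd
    rw [hd']; ring
  · apply Art.hom_ext
    apply AlgHom.ext
    intro a
    show α (δ a) = a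
    rw [hα]
    have e1 : π₁ (δ a) = a := congrArg (fun g : A' ⟶ A' => g a) hδ1
    have e2 : π₂ (δ a) = (toBase A' ≫ baseToDual) a := congrArg (fun g : A' ⟶ dual Λ k => g a) hδ2
    rw [e1, e2]
    have : H6_sn ((toBase A' ≫ baseToDual) a : dual Λ k) = 0 := by
      show (algebraMap k (DualNumber k) (A'.res a)).snd = 0
      rw [TrivSqZeroExt.algebraMap_eq_inl, TrivSqZeroExt.snd_inl]
    rw [this, hℓ0, add_zero]
  · intro c b hb
    rw [hα, ← hb, hℓ]

/-- For a small extension `μ : A' → A`, the fibre product `A' ×_k k[ε]` is also the fibre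
product `A' ×_A A'`. -/
theorem H6_smallExt_tangent [IsNoetherianRing Λ] [Module.Finite Λ k] {A A' : Art Λ k}
    (μ : A' ⟶ A) (hμ : IsSmallExt μ) :
    ∃ (C : Art Λ k) (π₁ : C ⟶ A') (π₂ : C ⟶ dual Λ k) (α : C ⟶ A') (δ : A' ⟶ C),
      IsFibreProd π₁ π₂ (toBase A') (toBase (dual Λ k)) ∧ IsFibreProd π₁ α μ μ ∧
      δ ≫ π₁ = 𝟙 A' ∧ δ ≫ α = 𝟙 A' ∧ δ ≫ π₂ = toBase A' ≫ baseToDual := by
  obtain ⟨t, ht⟩ := hμ.2.2.1
  obtain ⟨C, π₁, π₂, α, δ, h1, h2, h3, h4, h5, -⟩ := H6_smallExt_tangent_gen μ hμ t ht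
  exact ⟨C, π₁, π₂, α, δ, h1, h2, h3, h4, h5⟩

theorem H6_homSet_map_comp {R : Type u} [CommRing R] [Algebra Λ R] {resR : R →ₐ[Λ] k}
    {A B C : Art Λ k} (f : A ⟶ B) (g : B ⟶ C) (φ : HomSet R resR A) :
    HomSet.map (f ≫ g) φ = HomSet.map g (HomSet.map f φ) :=
  Subtype.ext (AlgHom.ext fun _ => rfl)

theorem H6_homSet_map_id {R : Type u} [CommRing R] [Algebra Λ R] {resR : R →ₐ[Λ] k}
    {A : Art Λ k} (φ : HomSet R resR A) : HomSet.map (𝟙 A) φ = φ :=
  Subtype.ext (AlgHom.ext fun _ => rfl)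

/-- Smoothness of a morphism of functors may be tested on small extensions. -/
theorem H6_isSmooth_of_small [IsNoetherianRing Λ] [Module.Finite Λ k]
    {F G : Art Λ k ⥤ Type v} (f : F ⟶ G)
    (h : ∀ ⦃A A' : Art Λ k⦄ (μ : A' ⟶ A), IsSmallExt μ → Function.Surjective (relCmp f μ)) :
    IsSmooth f := by
  intro B A μ hμ
  refine H6_surjective_induction (Λ := Λ) (k := k)
    (fun A B μ => Function.Surjective (relCmp f μ)) ?_ ?_ ?_ μ hμ
  · intro A B e he
    rintro ⟨⟨x, y⟩, hxy⟩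
    have hxy' : f.app A x = G.map e y := hxy
    refine ⟨F.map (inv e) x, ?_⟩
    apply Subtype.ext
    apply Prod.ext
    · show F.map e (F.map (inv e) x) = x
      rw [← FunctorToTypes.map_comp_apply, IsIso.inv_hom_id, FunctorToTypes.map_id_apply]
    · show f.app B (F.map (inv e) x) = y
      rw [FunctorToTypes.naturality, hxy', ← FunctorToTypes.map_comp_apply, IsIso.hom_inv_id,
        FunctorToTypes.map_id_apply]
  · intro A A' μ hμ
    exact h μ hμ
  · intro A B C p q hp hq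
    rintro ⟨⟨x, y⟩, hxy⟩
    have hxy' : f.app A x = G.map (p ≫ q) y := hxy
    obtain ⟨zB, hzB⟩ := hq ⟨(x, G.map p y), by
      show f.app A x = G.map q (G.map p y)
      rw [← FunctorToTypes.map_comp_apply]; exact hxy'⟩
    have hzB1 : F.map q zB = x := congrArg (fun t => t.1.1) hzB
    have hzB2 : f.app B zB = G.map p y := congrArg (fun t => t.1.2) hzB
    obtain ⟨z, hz⟩ := hp ⟨(zB, y), hzB2⟩
    have hz1 : F.map p z = zB := congrArg (fun t => t.1.1) hz
    have hz2 : f.app C z = y := congrArg (fun t => t.1.2) hz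
    refine ⟨z, ?_⟩
    apply Subtype.ext
    apply Prod.ext
    · show F.map (p ≫ q) z = x
      rw [FunctorToTypes.map_comp_apply, hz1, hzB1]
    · exact hz2

/-- A smooth morphism which is surjective on `F(k) → G(k)` is surjective on every object. -/
theorem H6_smooth_surjective {F G : Art Λ k ⥤ Type v} (f : F ⟶ G) (hf : IsSmooth f)
    (h0 : Function.Surjective (f.app (base Λ k))) (A : Art Λ k) :
    Function.Surjective (f.app A) := by
  intro y
  obtain ⟨x₀, hx₀⟩ := h0 (G.map (toBase A) y)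
  obtain ⟨z, hz⟩ := hf (toBase A) A.res_surjective ⟨(x₀, y), hx₀⟩
  exact ⟨z, congrArg (fun t => t.1.2) hz⟩

/-- Two lifts over a small extension with the same image under a morphism which is injective
on tangent spaces coincide. -/
theorem H6_eq_of_small_of_tangent_injective [IsNoetherianRing Λ] [Module.Finite Λ k]
    {G H : Art Λ k ⥤ Type v} (ψ : G ⟶ H) (hG1 : S1 G) (hG2 : Heps G)
    (hH : ∀ ⦃B A A' A'' : Art Λ k⦄ (p' : B ⟶ A') (p'' : B ⟶ A'') (f' : A' ⟶ A) (f'' : A'' ⟶ A)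
      (h : IsFibreProd p' p'' f' f''), Function.Surjective f'' → Function.Injective (cmp H h))
    (hψ : Function.Injective (TangentSpace.map ψ))
    {A A' : Art Λ k} (μ : A' ⟶ A) (hμ : IsSmallExt μ) (g₁ g₂ : G.obj A')
    (h1 : G.map μ g₁ = G.map μ g₂) (h2 : ψ.app A' g₁ = ψ.app A' g₂) : g₁ = g₂ := by
  obtain ⟨C, π₁, π₂, α, δ, hC, hsq, hδ1, hδα, hδ2⟩ := H6_smallExt_tangent μ hμ
  obtain ⟨w, hw⟩ := hG1 π₁ α μ μ hsq hμ.1 ⟨(g₁, g₂), h1⟩
  have hw1 : G.map π₁ w = g₁ := congrArg (fun t => t.1.1) hw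
  have hw2 : G.map α w = g₂ := congrArg (fun t => t.1.2) hw
  have hψw : ψ.app C w = H.map δ (ψ.app A' g₁) := by
    apply hH π₁ α μ μ hsq hμ.1
    apply FibProd.ext
    · show H.map π₁ (ψ.app C w) = H.map π₁ (H.map δ (ψ.app A' g₁))
      rw [← FunctorToTypes.map_comp_apply, hδ1, FunctorToTypes.map_id_apply,
        ← FunctorToTypes.naturality, hw1]
    · show H.map α (ψ.app C w) = H.map α (H.map δ (ψ.app A' g₁))
      rw [← FunctorToTypes.map_comp_apply, hδα, FunctorToTypes.map_id_apply,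
        ← FunctorToTypes.naturality, hw2, h2]
  have hww : w = G.map δ g₁ := by
    apply (hG2 π₁ π₂ hC).1
    apply FibProd.ext
    · show G.map π₁ w = G.map π₁ (G.map δ g₁)
      rw [← FunctorToTypes.map_comp_apply, hδ1, FunctorToTypes.map_id_apply, hw1]
    · show G.map π₂ w = G.map π₂ (G.map δ g₁)
      apply hψ
      show ψ.app _ (G.map π₂ w) = ψ.app _ (G.map π₂ (G.map δ g₁))
      rw [FunctorToTypes.naturality, FunctorToTypes.naturality, FunctorToTypes.naturality, hψw]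
  rw [← hw2, hww, ← FunctorToTypes.map_comp_apply, hδα, FunctorToTypes.map_id_apply]

/-- RS-bijectivity implies `S1`. -/
theorem H6_s1_of_rs {G : Art Λ k ⥤ Type v}
    (hG : ∀ ⦃B A A' A'' : Art Λ k⦄ (p' : B ⟶ A') (p'' : B ⟶ A'') (f' : A' ⟶ A) (f'' : A'' ⟶ A)
      (h : IsFibreProd p' p'' f' f''), Function.Surjective f'' → Function.Bijective (cmp G h)) :
    S1 G := fun _ _ _ _ p' p'' f' f'' h hf => (hG p' p'' f' f'' h hf).2

/-- RS-bijectivity implies `Heps`. -/
theorem H6_heps_of_rs {G : Art Λ k ⥤ Type v}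
    (hG : ∀ ⦃B A A' A'' : Art Λ k⦄ (p' : B ⟶ A') (p'' : B ⟶ A'') (f' : A' ⟶ A) (f'' : A'' ⟶ A)
      (h : IsFibreProd p' p'' f' f''), Function.Surjective f'' → Function.Bijective (cmp G h)) :
    Heps G := fun _ _ p' p'' h => hG p' p'' _ _ h (dual Λ k).res_surjective

/-- `k[ε] → k` is a small extension. -/
theorem H6_isSmallExt_toBase_dual : IsSmallExt (toBase (dual Λ k)) := by
  have hker : ∀ x : (dual Λ k : Art Λ k), x ∈ RingHom.ker (toBase (dual Λ k)).toAlgHom ↔
      (dual Λ k).res x = 0 := fun x => Iff.rfl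
  let ε : (dual Λ k : Art Λ k) := (TrivSqZeroExt.inr (1 : k) : DualNumber k)
  have hε1 : (dual Λ k).res ε = 0 := by
    show (TrivSqZeroExt.inr (1 : k) : DualNumber k).fst = 0
    simp
  have hε2 : H6_sn ε = 1 := by
    show (TrivSqZeroExt.inr (1 : k) : DualNumber k).snd = 1
    simp
  refine ⟨(dual Λ k).res_surjective, ?_, ⟨ε, ?_⟩, ?_⟩
  · intro h
    have : ε ∈ RingHom.ker (toBase (dual Λ k)).toAlgHom := (hker ε).2 hε1
    rw [h, Ideal.mem_bot] at this
    have h2 := congrArg H6_sn this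
    rw [hε2, H6_sn_zero] at h2
    exact one_ne_zero h2
  · apply le_antisymm
    · intro x hx
      rw [hker] at hx
      rw [Submodule.mem_span_singleton]
      obtain ⟨c, hc⟩ := (dual Λ k).res_surjective (H6_sn x)
      refine ⟨c, ?_⟩
      apply H6_dual_ext
      · show (dual Λ k).res (c * ε) = _
        rw [map_mul, hε1, mul_zero, hx]
      · show H6_sn (c * ε) = _
        rw [H6_sn_mul, hε1, hε2, zero_mul, add_zero, mul_one, hc]
    · rw [Submodule.span_singleton_le_iff_mem]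
      exact (hker ε).2 hε1
  · rw [eq_bot_iff]
    intro x hx
    refine Submodule.mul_induction_on hx ?_ ?_
    · intro m hm n hn
      rw [Art.mem_maximalIdeal_iff] at hm
      rw [hker] at hn
      rw [Ideal.mem_bot]
      apply H6_dual_ext
      · rw [map_mul, hm, zero_mul, map_zero]
      · rw [H6_sn_mul, hm, hn, zero_mul, zero_mul, add_zero, H6_sn_zero]
    · intro a b ha hb
      exact Ideal.add_mem _ ha hb

/-- The element `a + bε` of `dual Λ k`. -/
def H6_dn (a b : k) : (dual Λ k : Art Λ k) :=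
  (TrivSqZeroExt.inl a + TrivSqZeroExt.inr b : DualNumber k)

theorem H6_res_dn (a b : k) : (dual Λ k).res (H6_dn (Λ := Λ) a b) = a := by
  show (TrivSqZeroExt.inl a + TrivSqZeroExt.inr b : DualNumber k).fst = a
  simp

theorem H6_sn_dn (a b : k) : H6_sn (H6_dn (Λ := Λ) a b) = b := by
  show (TrivSqZeroExt.inl a + TrivSqZeroExt.inr b : DualNumber k).snd = b
  simp

theorem H6_dn_eta (x : (dual Λ k : Art Λ k)) : H6_dn ((dual Λ k).res x) (H6_sn x) = x := by
  apply H6_dual_ext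
  · rw [H6_res_dn]
  · rw [H6_sn_dn]

theorem H6_dn_one : H6_dn (Λ := Λ) (k := k) 1 0 = 1 := by
  apply H6_dual_ext
  · rw [H6_res_dn, map_one]
  · rw [H6_sn_dn, H6_sn_one]

theorem H6_dn_zero : H6_dn (Λ := Λ) (k := k) 0 0 = 0 := by
  apply H6_dual_ext
  · rw [H6_res_dn, map_zero]
  · rw [H6_sn_dn, H6_sn_zero]

theorem H6_dn_add (a b a' b' : k) :
    H6_dn (Λ := Λ) a b + H6_dn a' b' = H6_dn (a + a') (b + b') := by
  apply H6_dual_ext
  · rw [map_add, H6_res_dn, H6_res_dn, H6_res_dn]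
  · rw [H6_sn_add, H6_sn_dn, H6_sn_dn, H6_sn_dn]

theorem H6_dn_mul (a b a' b' : k) :
    H6_dn (Λ := Λ) a b * H6_dn a' b' = H6_dn (a * a') (a * b' + a' * b) := by
  apply H6_dual_ext
  · rw [map_mul, H6_res_dn, H6_res_dn, H6_res_dn]
  · rw [H6_sn_mul, H6_sn_dn, H6_sn_dn, H6_sn_dn, H6_res_dn, H6_res_dn]

theorem H6_dn_algebraMap (l : Λ) :
    algebraMap Λ (dual Λ k : Art Λ k) l = H6_dn (algebraMap Λ k l) 0 := by
  apply H6_dual_ext
  · rw [H6_res_dn, AlgHom.commutes]
  · rw [H6_sn_dn, H6_sn_algebraMap]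

/-- An augmented algebra map to the dual numbers from a derivation-like map. -/
theorem H6_homSet_of_derivation {R : Type u} [CommRing R] [Algebra Λ R] (resR : R →ₐ[Λ] k)
    (D : R → k) (hadd : ∀ r s, D (r + s) = D r + D s)
    (hmul : ∀ r s, D (r * s) = resR r * D s + resR s * D r)
    (halg : ∀ l : Λ, D (algebraMap Λ R l) = 0) :
    ∃ φ : HomSet R resR (dual Λ k), ∀ r, φ.1 r = H6_dn (resR r) (D r) := by
  have hD0 : D 0 = 0 := by
    have := hadd 0 0
    rw [add_zero] at this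
    exact left_eq_add.mp this
  have hD1 : D 1 = 0 := by
    have := halg 1
    rwa [map_one] at this
  let φ₀ : R →ₐ[Λ] (dual Λ k : Art Λ k) :=
    { toFun := fun r => H6_dn (resR r) (D r)
      map_one' := by
        show H6_dn (resR 1) (D 1) = 1
        rw [hD1, map_one, H6_dn_one]
      map_mul' := by
        intro r s
        show H6_dn (resR (r * s)) (D (r * s)) = H6_dn (resR r) (D r) * H6_dn (resR s) (D s)
        rw [H6_dn_mul, hmul, map_mul]
      map_zero' := by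
        show H6_dn (resR 0) (D 0) = 0
        rw [hD0, map_zero, H6_dn_zero]
      map_add' := by
        intro r s
        show H6_dn (resR (r + s)) (D (r + s)) = H6_dn (resR r) (D r) + H6_dn (resR s) (D s)
        rw [H6_dn_add, hadd, map_add]
      commutes' := by
        intro l
        show H6_dn (resR (algebraMap Λ R l)) (D (algebraMap Λ R l)) = algebraMap Λ _ l
        rw [halg, AlgHom.commutes, H6_dn_algebraMap] }
  refine ⟨⟨φ₀, ?_⟩, fun r => rfl⟩
  apply AlgHom.ext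
  intro r
  show (dual Λ k).res (H6_dn (resR r) (D r)) = resR r
  rw [H6_res_dn]

end Groth.Agent.Lib.helper6
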