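import Mathlib
import Groth.Prelude.Def_ArtFun5
import Groth.Agent.Lib.helper6.ArtTan

set_option autoImplicit false
universe u v

open ArtFun ArtFun.Art CategoryTheory

namespace Groth.Agent.Lib.helper6

variable {Λ : Type u} {k : Type u} [CommRing Λ] [Field k] [Algebra Λ k]

theorem H6_map_maximalIdeal_le {A B : Art Λ k} (f : A ⟶ B) :
    Ideal.map f.toAlgHom (IsLocalRing.maximalIdeal A) ≤ IsLocalRing.maximalIdeal B := by
  rw [Ideal.map_le_iff_le_comap]
  intro a ha
  rw [Ideal.mem_comap, Art.mem_maximalIdeal_iff, Art.res_app f a]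
  exact (Art.mem_maximalIdeal_iff A a).1 ha

/-- A morphism of `Art Λ k` which is surjective on cotangent spaces is surjective. -/
theorem H6_surjective_of_cotangent [IsNoetherianRing Λ] [Module.Finite Λ k] {A B : Art Λ k} (f : A ⟶ B)
    (h : Ideal.map f.toAlgHom (IsLocalRing.maximalIdeal A) ⊔ IsLocalRing.maximalIdeal B ^ 2 =
      IsLocalRing.maximalIdeal B) : Function.Surjective f := by
  classical
  -- Step 1: m_B = f(m_A) B
  have h1 : IsLocalRing.maximalIdeal B ≤ Ideal.map f.toAlgHom (IsLocalRing.maximalIdeal A) := by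
    apply Submodule.le_of_le_smul_of_le_jacobson_bot (I := IsLocalRing.maximalIdeal B)
      (IsNoetherian.noetherian _) (IsLocalRing.maximalIdeal_le_jacobson _)
    rw [smul_eq_mul, ← sq, h]
  -- Step 2
  letI : Algebra A B := f.toAlgHom.toRingHom.toAlgebra
  haveI : IsScalarTower Λ A B := IsScalarTower.of_algebraMap_eq (fun l => (f.toAlgHom.commutes l).symm)
  haveI : Module.Finite Λ B := H6_art_finite B
  haveI : Module.Finite A B := Module.Finite.of_restrictScalars_finite Λ A B
  let N : Submodule A B := LinearMap.range (Algebra.linearMap A B)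
  have hN : (⊤ : Submodule A B) ≤ N := by
    apply Submodule.le_of_le_smul_of_le_jacobson_bot (I := IsLocalRing.maximalIdeal A)
      Module.Finite.fg_top (IsLocalRing.maximalIdeal_le_jacobson _)
    intro b _
    obtain ⟨a, ha⟩ := A.res_surjective (B.res b)
    have hm : b - f a ∈ IsLocalRing.maximalIdeal B := by
      rw [Art.mem_maximalIdeal_iff, map_sub, Art.res_app f a, ha, sub_self]
    have hm' : b - f a ∈ (IsLocalRing.maximalIdeal A • ⊤ : Submodule A B) := by
      rw [Ideal.smul_top_eq_map]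
      exact h1 hm
    have : b = f a + (b - f a) := by ring
    rw [this]
    exact Submodule.add_mem_sup ⟨a, rfl⟩ hm'
  intro b
  obtain ⟨a, ha⟩ := hN (Submodule.mem_top : b ∈ ⊤)
  exact ⟨a, ha⟩

/-- A morphism of `Art Λ k` which is injective on tangent vectors `B → k[ε]` is surjective. -/
theorem H6_surjective_of_tangent_injective [IsNoetherianRing Λ] [Module.Finite Λ k] {A B : Art Λ k}
    (f : A ⟶ B) (h : ∀ χ χ' : B ⟶ dual Λ k, f ≫ χ = f ≫ χ' → χ = χ') : Function.Surjective f := by
  classical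
  apply H6_surjective_of_cotangent f
  have hmle := H6_map_maximalIdeal_le f
  have hsq : IsLocalRing.maximalIdeal B ^ 2 ≤ IsLocalRing.maximalIdeal B :=
    Ideal.pow_le_self two_ne_zero
  set I : Ideal B := Ideal.map f.toAlgHom (IsLocalRing.maximalIdeal A) ⊔ IsLocalRing.maximalIdeal B ^ 2
    with hI
  have hIle : I ≤ IsLocalRing.maximalIdeal B := sup_le hmle hsq
  by_contra hne
  have hnle : ¬ IsLocalRing.maximalIdeal B ≤ I := fun hle => hne (le_antisymm hIle hle)
  obtain ⟨x, hx, hxI⟩ := SetLike.not_le_iff_exists.mp hnle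
  let π : B →+* B ⧸ I := Ideal.Quotient.mk I
  have hπI : ∀ b ∈ I, π b = 0 := fun b hb => Ideal.Quotient.eq_zero_iff_mem.2 hb
  have hπf : ∀ a ∈ IsLocalRing.maximalIdeal A, π (f a) = 0 := fun a ha =>
    hπI _ (Ideal.mem_sup_left (Ideal.mem_map_of_mem _ ha))
  have hπmm : ∀ m ∈ IsLocalRing.maximalIdeal B, ∀ m' ∈ IsLocalRing.maximalIdeal B, π m * π m' = 0 := by
    intro m hm m' hm'
    rw [← map_mul]
    apply hπI
    apply Ideal.mem_sup_right
    rw [sq]
    exact Ideal.mul_mem_mul hm hm'
  let liftA : k → A := fun c => Classical.choose (A.res_surjective c)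
  have hliftA : ∀ c, A.res (liftA c) = c := fun c => Classical.choose_spec (A.res_surjective c)
  let ρ₀ : k → B ⧸ I := fun c => π (f (liftA c))
  have hρ : ∀ a : A, ρ₀ (A.res a) = π (f a) := by
    intro a
    have hm : liftA (A.res a) - a ∈ IsLocalRing.maximalIdeal A := by
      rw [Art.mem_maximalIdeal_iff, map_sub, hliftA, sub_self]
    have := hπf _ hm
    rw [map_sub f.toAlgHom, map_sub, sub_eq_zero] at this
    exact this
  let ρ : k →+* B ⧸ I :=
    { toFun := ρ₀
      map_one' := by
        have := hρ 1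
        rw [map_one, map_one f.toAlgHom, map_one] at this
        exact this
      map_mul' := by
        intro c c'
        obtain ⟨a, rfl⟩ := A.res_surjective c
        obtain ⟨a', rfl⟩ := A.res_surjective c'
        rw [← map_mul, hρ, hρ, hρ, map_mul f.toAlgHom, map_mul]
      map_zero' := by
        have := hρ 0
        rw [map_zero, map_zero f.toAlgHom, map_zero] at this
        exact this
      map_add' := by
        intro c c'
        obtain ⟨a, rfl⟩ := A.res_surjective c
        obtain ⟨a', rfl⟩ := A.res_surjective c'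
        rw [← map_add, hρ, hρ, hρ, map_add f.toAlgHom, map_add] }
  have hρapp : ∀ a : A, ρ (A.res a) = π (f a) := hρ
  letI : Module k (B ⧸ I) := Module.compHom (B ⧸ I) ρ
  have hsmul : ∀ (c : k) (q : B ⧸ I), c • q = ρ c * q := fun c q => rfl
  have hπx : π x ≠ 0 := fun h0 => hxI (Ideal.Quotient.eq_zero_iff_mem.1 h0)
  obtain ⟨F, hF⟩ : ∃ F : Module.Dual k (B ⧸ I), F (π x) ≠ 0 := by
    by_contra hcon
    push_neg at hcon
    exact hπx ((Module.forall_dual_apply_eq_zero_iff k (π x)).1 hcon)
  let D : B → k := fun b => F (π b - ρ (B.res b))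
  -- the element π b - ρ (res b) is the class of an element of m_B
  have hu : ∀ b : B, ∃ m ∈ IsLocalRing.maximalIdeal B, π b - ρ (B.res b) = π m := by
    intro b
    refine ⟨b - f (liftA (B.res b)), ?_, ?_⟩
    · rw [Art.mem_maximalIdeal_iff, map_sub, Art.res_app f, hliftA, sub_self]
    · rw [map_sub]; rfl
  have hDadd : ∀ b b', D (b + b') = D b + D b' := by
    intro b b'
    show F (π (b + b') - ρ (B.res (b + b'))) = F (π b - ρ (B.res b)) + F (π b' - ρ (B.res b'))
    rw [← map_add]
    congr 1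
    rw [map_add, map_add, map_add]
    ring
  have hDmul : ∀ b b', D (b * b') = B.res b * D b' + B.res b' * D b := by
    intro b b'
    obtain ⟨m, hm, hmu⟩ := hu b
    obtain ⟨m', hm', hmu'⟩ := hu b'
    have e : π (b * b') - ρ (B.res (b * b')) =
        B.res b • (π b' - ρ (B.res b')) + B.res b' • (π b - ρ (B.res b)) := by
      rw [hsmul, hsmul, map_mul, map_mul, map_mul]
      have h0 : (π b - ρ (B.res b)) * (π b' - ρ (B.res b')) = 0 := by
        rw [hmu, hmu']; exact hπmm m hm m' hm'
      linear_combination h0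
    show F (π (b * b') - ρ (B.res (b * b'))) = _
    rw [e, map_add, map_smul, map_smul]
    rfl
  have hDalg : ∀ l : Λ, D (algebraMap Λ B l) = 0 := by
    intro l
    show F (π (algebraMap Λ B l) - ρ (B.res (algebraMap Λ B l))) = 0
    have h1 : B.res (algebraMap Λ B l) = A.res (algebraMap Λ A l) := by
      rw [AlgHom.commutes, AlgHom.commutes]
    rw [h1, hρapp, f.toAlgHom.commutes, sub_self, map_zero]
  have hDf : ∀ a : A, D (f a) = 0 := by
    intro a
    show F (π (f a) - ρ (B.res (f a))) = 0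
    rw [Art.res_app f a, hρapp, sub_self, map_zero]
  have hDx : D x ≠ 0 := by
    show F (π x - ρ (B.res x)) ≠ 0
    rw [(Art.mem_maximalIdeal_iff B x).1 hx, map_zero, sub_zero]
    exact hF
  obtain ⟨φ, hφ⟩ := H6_homSet_of_derivation B.res D hDadd hDmul hDalg
  obtain ⟨φ', hφ'⟩ := H6_homSet_of_derivation B.res (fun _ => (0 : k)) (fun _ _ => (add_zero 0).symm)
    (fun _ _ => by simp) (fun _ => rfl)
  let χ : B ⟶ dual Λ k := Art.homMk φ.1 φ.2
  let χ' : B ⟶ dual Λ k := Art.homMk φ'.1 φ'.2
  have hχ : f ≫ χ = f ≫ χ' := by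
    apply Art.hom_ext
    apply AlgHom.ext
    intro a
    show φ.1 (f a) = φ'.1 (f a)
    rw [hφ, hφ', hDf]
  have := h χ χ' hχ
  have h2 := congrArg (fun ψ : B ⟶ dual Λ k => H6_sn (ψ x)) this
  have h3 : H6_sn (χ x) = D x := by
    show H6_sn (φ.1 x) = D x
    rw [hφ, H6_sn_dn]
  have h4 : H6_sn (χ' x) = 0 := by
    show H6_sn (φ'.1 x) = 0
    rw [hφ', H6_sn_dn]
  apply hDx
  rw [← h3, ← h4]
  exact h2

end Groth.Agent.Lib.helper6
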