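import Mathlib
import Groth.Prelude.Def_W4sfdMinVersal
import Groth.Agent.Lib.helper6.ArtSurj
import Groth.Agent.Lib.helper6.ArtFormal

set_option autoImplicit false
universe u v

open ArtFun ArtFun.Art CategoryTheory

namespace Groth.Agent.Lib.helper6

/-- A surjective endomorphism of a Noetherian commutative ring is injective. -/
theorem H6_ringEnd_injective_of_surjective {R : Type*} [CommRing R] [IsNoetherianRing R] (α : R →+* R)
    (h : Function.Surjective α) : Function.Injective α := by
  classical
  have hmono : Monotone (fun n : ℕ => RingHom.ker (α ^ n)) := by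
    apply monotone_nat_of_le_succ
    intro n x hx
    rw [RingHom.mem_ker] at hx ⊢
    rw [pow_succ', RingHom.mul_def, RingHom.comp_apply, hx, map_zero]
  let K : ℕ →o Ideal R := ⟨fun n => RingHom.ker (α ^ n), hmono⟩
  obtain ⟨n, hn⟩ := monotone_stabilizes_iff_noetherian.2 (inferInstance : IsNoetherian R R) K
  have hsurj : Function.Surjective (α ^ n) := by
    rw [RingHom.coe_pow]
    exact Function.Surjective.iterate h n
  rw [injective_iff_map_eq_zero]
  intro x hx
  obtain ⟨y, rfl⟩ := hsurj x
  have hy : y ∈ K (n + 1) := by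
    show y ∈ RingHom.ker (α ^ (n + 1))
    rw [RingHom.mem_ker, pow_succ', RingHom.mul_def, RingHom.comp_apply, hx]
  rw [← hn (n + 1) (Nat.le_succ n)] at hy
  exact hy

variable {Λ : Type u} {k : Type u} [CommRing Λ] [Field k] [Algebra Λ k]

theorem H6_cring_map_maximalIdeal_le (R S : CRing Λ k) (f : R.carrier →ₐ[Λ] S.carrier)
    (hf : S.res.comp f = R.res) :
    Ideal.map f (IsLocalRing.maximalIdeal R.carrier) ≤ IsLocalRing.maximalIdeal S.carrier :=
  Ideal.map_le_iff_le_comap.2 (CRing.maximalIdeal_le_comap f hf)

/-- A morphism of coefficient rings which is surjective on cotangent spaces is surjective. -/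
theorem H6_cring_surjective_of_cotangent (R S : CRing Λ k) (f : R.carrier →ₐ[Λ] S.carrier)
    (hf : S.res.comp f = R.res)
    (h : Ideal.map f (IsLocalRing.maximalIdeal R.carrier) ⊔ IsLocalRing.maximalIdeal S.carrier ^ 2 =
      IsLocalRing.maximalIdeal S.carrier) : Function.Surjective f := by
  classical
  have h1 : IsLocalRing.maximalIdeal S.carrier ≤ Ideal.map f (IsLocalRing.maximalIdeal R.carrier) := by
    apply Submodule.le_of_le_smul_of_le_jacobson_bot (I := IsLocalRing.maximalIdeal S.carrier)
      (IsNoetherian.noetherian _) (IsLocalRing.maximalIdeal_le_jacobson _)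
    rw [smul_eq_mul, ← sq, h]
  haveI := R.isAdicComplete
  have hne : Ideal.map f.toRingHom (IsLocalRing.maximalIdeal R.carrier) ≠ ⊤ := by
    intro htop
    have := H6_cring_map_maximalIdeal_le R S f hf
    have h2 : Ideal.map f (IsLocalRing.maximalIdeal R.carrier) = ⊤ := htop
    rw [h2] at this
    exact (IsLocalRing.maximalIdeal.isMaximal S.carrier).ne_top (top_le_iff.1 this)
  haveI : IsHausdorff (Ideal.map f.toRingHom (IsLocalRing.maximalIdeal R.carrier)) S.carrier :=
    IsHausdorff.of_isLocalRing _ S.carrier hne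
  have key : Function.Surjective f.toRingHom := by
    apply surjective_of_mk_map_comp_surjective (I := IsLocalRing.maximalIdeal R.carrier) f.toRingHom
    intro q
    obtain ⟨s, rfl⟩ := Ideal.Quotient.mk_surjective q
    obtain ⟨r, hr⟩ := R.res_surjective (S.res s)
    refine ⟨r, ?_⟩
    show Ideal.Quotient.mk _ (f r) = Ideal.Quotient.mk _ s
    rw [Ideal.Quotient.eq]
    apply h1
    rw [CRing.mem_maximalIdeal_iff, map_sub, CRing.res_comp_apply f hf, hr, sub_self]
  exact key

/-- A morphism of coefficient rings which is injective on tangent vectors `S → k[ε]` is surjective. -/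
theorem H6_cring_surjective_of_tangent_injective [IsNoetherianRing Λ] [Module.Finite Λ k]
    (R S : CRing Λ k) (f : R.carrier →ₐ[Λ] S.carrier) (hf : S.res.comp f = R.res)
    (h : ∀ χ χ' : HomSet S.carrier S.res (dual Λ k), χ.1.comp f = χ'.1.comp f → χ = χ') :
    Function.Surjective f := by
  classical
  have hf1 : Function.Surjective (CRing.truncMapOfHom f hf 1) := by
    apply H6_surjective_of_tangent_injective
    intro χ χ' hχ
    have key := h (HomSet.map χ (S.truncHom 1)) (HomSet.map χ' (S.truncHom 1)) (by
      apply AlgHom.ext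
      intro r
      have := congrArg (fun g : R.trunc 1 ⟶ dual Λ k => g (Ideal.Quotient.mk (R.mpow 1) r)) hχ
      exact this)
    apply H6_art_hom_ext_trunc S 1
    intro a
    exact congrArg (fun g : HomSet S.carrier S.res (dual Λ k) => g.1 a) key
  apply H6_cring_surjective_of_cotangent R S f hf
  apply le_antisymm
  · exact sup_le (H6_cring_map_maximalIdeal_le R S f hf) (Ideal.pow_le_self two_ne_zero)
  · intro s hs
    obtain ⟨x, hx⟩ := hf1 (Ideal.Quotient.mk (S.mpow 1) s)
    obtain ⟨r, rfl⟩ := Ideal.Quotient.mk_surjective x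
    have hx' : Ideal.Quotient.mk (S.mpow 1) (f r) = Ideal.Quotient.mk (S.mpow 1) s := hx
    rw [Ideal.Quotient.eq] at hx'
    have hr : r ∈ IsLocalRing.maximalIdeal R.carrier := by
      rw [CRing.mem_maximalIdeal_iff, ← CRing.res_comp_apply f hf]
      have e : f r = s + (f r - s) := by ring
      rw [e, map_add, (CRing.mem_maximalIdeal_iff S s).1 hs,
        (CRing.mem_maximalIdeal_iff S _).1 (S.mpow_le 1 hx'), add_zero]
    have e : s = f r - (f r - s) := by ring
    rw [e]
    exact Ideal.sub_mem _ (Ideal.mem_sup_left (Ideal.mem_map_of_mem _ hr)) (Ideal.mem_sup_right hx')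

/-- `push` of formal elements corresponds to `along` of families. -/
theorem H6_along_toFormalElt {F : Art Λ k ⥤ Type v} {R' R : CRing Λ k}
    (ξ' : Family R'.carrier R'.res F) (f : R'.carrier →ₐ[Λ] R.carrier) (hf : R.res.comp f = R'.res) :
    (ξ'.along f hf).toFormalElt = ξ'.toFormalElt.push f hf := by
  apply FormalElt.ext'
  intro n
  show ξ'.app _ _ = F.map (CRing.truncMapOfHom f hf n) (ξ'.app _ (R'.truncHom n))
  rw [← ξ'.natural]
  rfl

end Groth.Agent.Lib.helper6
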