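import Mathlib
import Groth.Prelude.Def_ArtFun5

set_option autoImplicit false
universe u v

open ArtFun ArtFun.Art CategoryTheory

namespace Groth.Agent.Lib.helper6

variable {Λ : Type u} {k : Type u} [CommRing Λ] [Field k] [Algebra Λ k]

/-- A compatible system of augmentation-compatible maps `R → S/m^(n+1)` into the truncations of a
complete local ring `S` comes from a map `R → S`. -/
theorem H6_cring_limit_hom {R : Type u} [CommRing R] [Algebra Λ R] (resR : R →ₐ[Λ] k) (S : CRing Λ k)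
    (γ : ∀ n, HomSet R resR (S.trunc n))
    (hγ : ∀ n, HomSet.map (S.truncMap n) (γ (n + 1)) = γ n) :
    ∃ (g : R →ₐ[Λ] S.carrier) (hg : S.res.comp g = resR),
      ∀ (n : ℕ) (r : R), Ideal.Quotient.mk (S.mpow n) (g r) = (γ n).1 r := by
  classical
  haveI : IsAdicComplete (IsLocalRing.maximalIdeal S.carrier) S.carrier := S.isAdicComplete
  let I := IsLocalRing.maximalIdeal S.carrier
  let γ' : ∀ n : ℕ, R →ₐ[Λ] S.carrier ⧸ I ^ (n + 1) := fun n => (γ n).1
  have hle1 : ∀ n : ℕ, I ^ (n + 1) ≤ I ^ n := fun n => Ideal.pow_le_pow_right (Nat.le_succ n)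
  have hfac : ∀ n (x : S.carrier ⧸ I ^ (n + 1 + 1)),
      Ideal.Quotient.factorₐ Λ (hle1 (n + 1)) x = (S.truncMap n).toAlgHom x := by
    intro n x
    obtain ⟨s, rfl⟩ := Ideal.Quotient.mk_surjective x
    rfl
  have hγ' : ∀ n (r : R),
      Ideal.Quotient.factorₐ Λ (hle1 (n + 1)) (γ' (n + 1) r) = γ' n r := by
    intro n r
    have h2 : (S.truncMap n).toAlgHom (γ' (n + 1) r) = γ' n r :=
      congrArg (fun ψ : HomSet R resR (S.trunc n) => ψ.1 r) (hγ n)
    exact (hfac n _).trans h2
  let f : ∀ n : ℕ, R →ₐ[Λ] S.carrier ⧸ I ^ n := fun n =>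
    (Ideal.Quotient.factorₐ Λ (hle1 n)).comp (γ' n)
  have hf1 : ∀ n, (Ideal.Quotient.factorₐ Λ (hle1 n)).comp (f (n + 1)) = f n := by
    intro n
    apply AlgHom.ext
    intro r
    exact congrArg _ (hγ' n r)
  have hf : ∀ {m n : ℕ} (hle : m ≤ n),
      (Ideal.Quotient.factorₐ Λ (Ideal.pow_le_pow_right hle)).comp (f n) = f m := by
    intro m n hle
    induction n, hle using Nat.le_induction with
    | base =>
      rw [Ideal.Quotient.factorₐ_refl]
      exact AlgHom.id_comp _
    | succ n hmn ih =>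
      have hmn' : I ^ n ≤ I ^ m := Ideal.pow_le_pow_right hmn
      calc (Ideal.Quotient.factorₐ Λ ((hle1 n).trans hmn')).comp (f (n + 1))
          = ((Ideal.Quotient.factorₐ Λ hmn').comp
              (Ideal.Quotient.factorₐ Λ (hle1 n))).comp (f (n + 1)) := by
            rw [Ideal.Quotient.factorₐ_comp]
        _ = (Ideal.Quotient.factorₐ Λ hmn').comp
              ((Ideal.Quotient.factorₐ Λ (hle1 n)).comp (f (n + 1))) :=
            AlgHom.comp_assoc _ _ _
        _ = (Ideal.Quotient.factorₐ Λ hmn').comp (f n) := by rw [hf1 n]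
        _ = f m := ih
  let g : R →ₐ[Λ] S.carrier := IsAdicComplete.liftAlgHom I f hf
  have hgmk : ∀ n (r : R), Ideal.Quotient.mk (I ^ (n + 1)) (g r) = γ' n r := by
    intro n r
    have h1 : Ideal.Quotient.mk (I ^ (n + 1)) (g r) = f (n + 1) r :=
      IsAdicComplete.mk_liftAlgHom I f hf (n + 1) r
    exact h1.trans (hγ' n r)
  have hg : S.res.comp g = resR := by
    apply AlgHom.ext
    intro r
    show S.res (g r) = resR r
    have h1 : (S.trunc 0).res (Ideal.Quotient.mk (I ^ (0 + 1)) (g r)) = S.res (g r) := rfl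
    rw [← h1, hgmk 0 r]
    exact congrArg (fun ψ : R →ₐ[Λ] k => ψ r) (γ 0).2
  exact ⟨g, hg, hgmk⟩

/-- Two maps into a complete local Noetherian ring which agree modulo every power of the maximal
ideal are equal. -/
theorem H6_cring_hom_ext {R : Type u} [CommRing R] [Algebra Λ R] (S : CRing Λ k)
    (g g' : R →ₐ[Λ] S.carrier)
    (h : ∀ (n : ℕ) (r : R), Ideal.Quotient.mk (S.mpow n) (g r) = Ideal.Quotient.mk (S.mpow n) (g' r)) :
    g = g' := by
  apply AlgHom.ext
  intro r
  have hmem : g r - g' r ∈ (⨅ n : ℕ, IsLocalRing.maximalIdeal S.carrier ^ n) := by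
    rw [Ideal.mem_iInf]
    intro n
    have := h n r
    rw [Ideal.Quotient.eq] at this
    exact Ideal.pow_le_pow_right (Nat.le_succ n) this
  rw [Ideal.iInf_pow_eq_bot_of_isLocalRing _ (IsLocalRing.maximalIdeal.isMaximal _).ne_top] at hmem
  exact sub_eq_zero.mp hmem

end Groth.Agent.Lib.helper6
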