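import Mathlib

set_option autoImplicit false

namespace Groth.Agent.Lib.helper6

open MvPowerSeries in
/-- A ring which is complete with respect to a finitely generated ideal `m`, and whose quotient by
`m` is generated by finitely many elements as an algebra over a Noetherian ring, is Noetherian. -/
theorem H6_noetherian_of_complete {Λ S : Type*} [CommRing Λ] [IsNoetherianRing Λ] [CommRing S]
    [Algebra Λ S] (m : Ideal S) [IsAdicComplete m S] {r : ℕ} (x : Fin r → S)
    (hx : m = Ideal.span (Set.range x)) {t : ℕ} (y : Fin t → S)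
    (hy : ∀ s : S, ∃ c : MvPolynomial (Fin t) Λ, MvPolynomial.aeval y c - s ∈ m) :
    IsNoetherianRing S := by
  classical
  let Λ' := MvPolynomial (Fin t) Λ
  let g₀ : Λ' →+* S := (MvPolynomial.aeval y : Λ' →ₐ[Λ] S).toRingHom
  let g : MvPolynomial (Fin r) Λ' →+* S := MvPolynomial.eval₂Hom g₀ x
  let V : Ideal (MvPolynomial (Fin r) Λ') := MvPolynomial.idealOfVars (Fin r) Λ'
  have hgX : ∀ i, g (MvPolynomial.X i) = x i := fun i => by simp [g]
  have hgC : ∀ c, g (MvPolynomial.C c) = MvPolynomial.aeval y c := fun c => by simp [g, g₀]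
  have hgV : Ideal.map g V = m := by
    rw [hx]
    show Ideal.map g (Ideal.span (Set.range MvPolynomial.X)) = _
    rw [Ideal.map_span, ← Set.range_comp]
    congr 2
    ext i
    exact hgX i
  have hle : ∀ n, V ^ n ≤ Ideal.comap g (m ^ n) := by
    intro n
    rw [← Ideal.map_le_iff_le_comap, Ideal.map_pow, hgV]
  let P := MvPowerSeries (Fin r) Λ'
  let f : ∀ n, P →+* S ⧸ m ^ n := fun n =>
    (Ideal.quotientMap (m ^ n) g (hle n)).comp (truncTotalAlgHom (Fin r) Λ' n).toRingHom
  have hfapp : ∀ n (p : P), f n p = Ideal.Quotient.mk (m ^ n) (g (truncTotal n p)) := by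
    intro n p
    rfl
  have hf : ∀ {a b : ℕ} (hab : a ≤ b), (Ideal.Quotient.factorPow m hab).comp (f b) = f a := by
    intro a b hab
    ext p
    show Ideal.Quotient.factorPow m hab (f b p) = f a p
    rw [hfapp, hfapp]
    show Ideal.Quotient.mk (m ^ a) (g (truncTotal b p)) = Ideal.Quotient.mk (m ^ a) (g (truncTotal a p))
    rw [Ideal.Quotient.eq, ← map_sub]
    exact hle a (truncTotal_sub_truncTotal_mem_pow_idealOfVars hab le_rfl p)
  let φ : P →+* S := IsAdicComplete.liftRingHom m f hf
  have hφ : ∀ n (p : P), Ideal.Quotient.mk (m ^ n) (φ p) = f n p :=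
    fun n p => IsAdicComplete.mk_liftRingHom m f hf n p
  have hφpoly : ∀ q : MvPolynomial (Fin r) Λ', φ (q : P) = g q := by
    intro q
    rw [← sub_eq_zero]
    apply IsHausdorff.haus (inferInstance : IsHausdorff m S)
    intro n
    rw [smul_eq_mul, Ideal.mul_top, SModEq.zero, ← Ideal.Quotient.eq_zero_iff_mem, map_sub, hφ,
      sub_eq_zero]
    have := (truncTotalAlgHom (Fin r) Λ' n).commutes q
    show (Ideal.quotientMap (m ^ n) g (hle n)) ((truncTotalAlgHom (Fin r) Λ' n) (q : P)) = _
    have h2 : (algebraMap (MvPolynomial (Fin r) Λ') P) q = (q : P) := rfl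
    rw [← h2, this]
    rfl
  let I : Ideal P := Ideal.span (Set.range (MvPowerSeries.X : Fin r → P))
  have hφX : ∀ i, φ (MvPowerSeries.X i) = x i := by
    intro i
    rw [← MvPolynomial.coe_X, hφpoly, hgX]
  have hImap : Ideal.map φ I = m := by
    rw [hx]
    show Ideal.map φ (Ideal.span (Set.range MvPowerSeries.X)) = _
    rw [Ideal.map_span, ← Set.range_comp]
    congr 2
    ext i
    exact hφX i
  haveI : IsHausdorff (Ideal.map φ I) S := by
    rw [hImap]
    infer_instance
  have hsurj : Function.Surjective φ := by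
    apply surjective_of_mk_map_comp_surjective (I := I) φ
    intro q
    obtain ⟨s, rfl⟩ := Ideal.Quotient.mk_surjective q
    obtain ⟨c, hc⟩ := hy s
    refine ⟨((MvPolynomial.C c : MvPolynomial (Fin r) Λ') : P), ?_⟩
    show Ideal.Quotient.mk _ (φ _) = Ideal.Quotient.mk _ s
    rw [Ideal.Quotient.eq, hImap, hφpoly, hgC]
    exact hc
  exact isNoetherianRing_of_surjective P S φ hsurj

end Groth.Agent.Lib.helper6
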