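import Mathlib
import Groth.Prelude.Def_ArtFun5
import Groth.Agent.Lib.helper6.CompleteNoeth
import Groth.Agent.Lib.helper6.ArtFin

set_option autoImplicit false
universe u v

open ArtFun ArtFun.Art CategoryTheory

namespace Groth.Agent.Lib.helper6

variable {Λ : Type u} {k : Type u} [CommRing Λ] [Field k] [Algebra Λ k]

section
variable {N : ℕ} (ρ : MvPolynomial (Fin N) Λ →ₐ[Λ] k)

/-- the kernel of the augmentation of the polynomial ring -/
noncomputable abbrev H6_nn : Ideal (MvPolynomial (Fin N) Λ) := RingHom.ker ρ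

/-- the completion -/
noncomputable abbrev H6_PP : Type u := AdicCompletion (H6_nn ρ) (MvPolynomial (Fin N) Λ)

noncomputable def H6_PPres : H6_PP ρ →ₐ[Λ] k :=
  { toRingHom := (Ideal.Quotient.lift (H6_nn ρ) ρ.toRingHom (fun a ha => ha)).comp
      (AdicCompletion.evalOneₐ (H6_nn ρ)).toRingHom
    commutes' := fun l => by
      show (Ideal.Quotient.lift (H6_nn ρ) ρ.toRingHom (fun a ha => ha))
        (AdicCompletion.evalOneₐ (H6_nn ρ) (AdicCompletion.of _ _ (algebraMap Λ _ l))) = _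
      rw [AdicCompletion.evalOneₐ_of]
      show ρ (algebraMap Λ _ l) = _
      exact ρ.commutes l }

theorem H6_PPres_of (q : MvPolynomial (Fin N) Λ) :
    H6_PPres ρ (AdicCompletion.of _ _ q) = ρ q := rfl

theorem H6_PPres_surjective (hρ : Function.Surjective ρ) : Function.Surjective (H6_PPres ρ) := by
  intro c
  obtain ⟨q, rfl⟩ := hρ c
  exact ⟨AdicCompletion.of _ _ q, rfl⟩

theorem H6_nn_isMaximal (hρ : Function.Surjective ρ) : (H6_nn ρ).IsMaximal :=
  RingHom.ker_isMaximal_of_surjective ρ.toRingHom hρ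

variable [IsNoetherianRing Λ] (hρ : Function.Surjective ρ)


theorem H6_nn_fg : (H6_nn ρ).FG := (inferInstance : IsNoetherianRing (MvPolynomial (Fin N) Λ)).noetherian _

/-- the maximal ideal of the completion -/
noncomputable abbrev H6_mm : Ideal (H6_PP ρ) :=
  (H6_nn ρ).map (algebraMap (MvPolynomial (Fin N) Λ) (H6_PP ρ))

include hρ in
theorem H6_mm_isMaximal : (H6_mm ρ).IsMaximal :=
  haveI := H6_nn_isMaximal ρ hρ
  AdicCompletion.isMaximal_map_of_le (H6_nn ρ) (H6_nn ρ) le_rfl (H6_nn_fg ρ)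

theorem H6_mm_complete : IsAdicComplete (H6_mm ρ) (H6_PP ρ) :=
  AdicCompletion.isAdicComplete_self (H6_nn ρ) (H6_nn_fg ρ)

include hρ in
theorem H6_PP_isLocalRing : IsLocalRing (H6_PP ρ) :=
  haveI := H6_mm_isMaximal ρ hρ
  haveI := H6_mm_complete ρ
  isLocalRing_of_isAdicComplete_maximal (H6_mm ρ)

include hρ in
theorem H6_PP_maximalIdeal :
    haveI := H6_PP_isLocalRing ρ hρ
    IsLocalRing.maximalIdeal (H6_PP ρ) = H6_mm ρ :=
  haveI := H6_PP_isLocalRing ρ hρ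
  (IsLocalRing.eq_maximalIdeal (H6_mm_isMaximal ρ hρ)).symm

theorem H6_mem_mm_iff (p : H6_PP ρ) : p ∈ H6_mm ρ ↔ AdicCompletion.evalOneₐ (H6_nn ρ) p = 0 := by
  rw [show H6_mm ρ = RingHom.ker (AdicCompletion.evalOneₐ (H6_nn ρ)).toRingHom from
    (AdicCompletion.ker_evalOneₐ_eq_map _ (H6_nn_fg ρ)).symm]
  rfl

theorem H6_PP_noetherian : IsNoetherianRing (H6_PP ρ) := by
  classical
  haveI := H6_mm_complete ρ
  obtain ⟨s, hs⟩ := H6_nn_fg ρ
  -- generators of mm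
  let e := s.equivFin
  let x : Fin s.card → H6_PP ρ := fun i => algebraMap _ _ ((e.symm i : MvPolynomial (Fin N) Λ))
  have hx : H6_mm ρ = Ideal.span (Set.range x) := by
    have h1 : H6_mm ρ = Ideal.map (algebraMap _ (H6_PP ρ)) (Ideal.span (s : Set _)) :=
      congrArg (Ideal.map _) hs.symm
    rw [h1, Ideal.map_span]
    congr 1
    ext p
    constructor
    · rintro ⟨q, hq, rfl⟩
      exact ⟨e ⟨q, hq⟩, by simp [x]⟩
    · rintro ⟨i, rfl⟩
      exact ⟨(e.symm i : MvPolynomial (Fin N) Λ), (e.symm i).2, rfl⟩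
  let y : Fin N → H6_PP ρ := fun i => algebraMap _ _ (MvPolynomial.X i : MvPolynomial (Fin N) Λ)
  have hy : ∀ c : MvPolynomial (Fin N) Λ, MvPolynomial.aeval y c = algebraMap _ (H6_PP ρ) c := by
    intro c
    have : (MvPolynomial.aeval y : MvPolynomial (Fin N) Λ →ₐ[Λ] H6_PP ρ) =
        (IsScalarTower.toAlgHom Λ (MvPolynomial (Fin N) Λ) (H6_PP ρ)) := by
      apply MvPolynomial.algHom_ext
      intro i
      simp [y]
    rw [this]
    rfl
  refine H6_noetherian_of_complete (Λ := Λ) (H6_mm ρ) x hx y ?_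
  intro p
  obtain ⟨c, hc⟩ := Ideal.Quotient.mk_surjective (AdicCompletion.evalOneₐ (H6_nn ρ) p)
  refine ⟨c, ?_⟩
  rw [hy, H6_mem_mm_iff, map_sub, sub_eq_zero]
  rw [← hc]
  rfl

/-- Every element of the completion is a polynomial up to `𝔫^n • ⊤`. -/
theorem H6_PP_approx (p : H6_PP ρ) (n : ℕ) : ∃ q : MvPolynomial (Fin N) Λ,
    p - AdicCompletion.of _ _ q ∈ ((H6_nn ρ) ^ n • ⊤ : Submodule (MvPolynomial (Fin N) Λ) (H6_PP ρ)) := by
  obtain ⟨q, hq⟩ := Submodule.mkQ_surjective _ (AdicCompletion.eval (H6_nn ρ) _ n p)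
  refine ⟨q, ?_⟩
  rw [AdicCompletion.pow_smul_top_eq_ker_eval (H6_nn_fg ρ), LinearMap.mem_ker, map_sub,
    AdicCompletion.eval_of, hq, sub_self]

/-- Density: two ring homomorphisms out of the completion which agree on polynomials and kill
the polynomials of `𝔫^n` are equal. -/
theorem H6_PP_hom_ext {B : Type*} [CommRing B] (θ₁ θ₂ : H6_PP ρ →+* B) (n : ℕ)
    (h0 : ∀ i ∈ (H6_nn ρ) ^ n, θ₁ (AdicCompletion.of _ _ i) = 0)
    (hagree : ∀ q, θ₁ (AdicCompletion.of _ _ q) = θ₂ (AdicCompletion.of _ _ q)) : θ₁ = θ₂ := by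
  have hkill : ∀ (θ : H6_PP ρ →+* B), (∀ i ∈ (H6_nn ρ) ^ n, θ (AdicCompletion.of _ _ i) = 0) →
      ∀ e ∈ ((H6_nn ρ) ^ n • ⊤ : Submodule (MvPolynomial (Fin N) Λ) (H6_PP ρ)), θ e = 0 := by
    intro θ hθ e he
    refine Submodule.smul_induction_on he ?_ ?_
    · intro i hi p' _
      rw [Algebra.smul_def, map_mul]
      have : (algebraMap (MvPolynomial (Fin N) Λ) (H6_PP ρ)) i = AdicCompletion.of _ _ i := rfl
      rw [this, hθ i hi, zero_mul]
    · intro a b ha hb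
      rw [map_add, ha, hb, add_zero]
  ext p
  obtain ⟨q, hq⟩ := H6_PP_approx ρ p n
  have e1 := hkill θ₁ h0 _ hq
  have e2 := hkill θ₂ (fun i hi => by rw [← hagree, h0 i hi]) _ hq
  rw [map_sub, sub_eq_zero] at e1 e2
  rw [e1, e2, hagree]

/-- The completion as a coefficient ring. -/
noncomputable def H6_smoothRing (hρ : Function.Surjective ρ) : CRing Λ k :=
  haveI := H6_PP_isLocalRing ρ hρ
  haveI := H6_PP_noetherian ρ
  { carrier := H6_PP ρ
    res := H6_PPres ρ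
    res_surjective := H6_PPres_surjective ρ hρ
    isAdicComplete := by
      rw [H6_PP_maximalIdeal ρ hρ]
      exact H6_mm_complete ρ }

/-- the canonical map from the polynomial ring, as an algebra map -/
noncomputable def H6_PPof : MvPolynomial (Fin N) Λ →ₐ[Λ] H6_PP ρ :=
  { toRingHom := algebraMap (MvPolynomial (Fin N) Λ) (H6_PP ρ)
    commutes' := fun _ => rfl }

theorem H6_PPof_apply (q : MvPolynomial (Fin N) Λ) : H6_PPof ρ q = AdicCompletion.of _ _ q := rfl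

theorem H6_PPres_comp_of : (H6_PPres ρ).comp (H6_PPof ρ) = ρ := AlgHom.ext fun _ => rfl

theorem H6_art_nilpotent (A : Art Λ k) : ∃ n : ℕ, IsLocalRing.maximalIdeal A ^ n = ⊥ := by
  obtain ⟨n, hn⟩ := (isArtinianRing_iff_isNilpotent_maximalIdeal A).mp inferInstance
  exact ⟨n, hn⟩

/-- an augmentation-compatible map from the polynomial ring kills a power of `𝔫` -/
theorem H6_poly_kills (A : Art Λ k) (ψ : MvPolynomial (Fin N) Λ →ₐ[Λ] A) (hψ : A.res.comp ψ = ρ) :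
    ∃ n : ℕ, ∀ i ∈ (H6_nn ρ) ^ n, ψ i = 0 := by
  obtain ⟨n, hn⟩ := H6_art_nilpotent A
  refine ⟨n, fun i hi => ?_⟩
  have hle : Ideal.map ψ (H6_nn ρ) ≤ IsLocalRing.maximalIdeal A := by
    rw [Ideal.map_le_iff_le_comap]
    intro q hq
    rw [Ideal.mem_comap, Art.mem_maximalIdeal_iff]
    have : A.res (ψ q) = ρ q := congrArg (fun f : MvPolynomial (Fin N) Λ →ₐ[Λ] k => f q) hψ
    rw [this]
    exact hq
  have h1 : ψ i ∈ Ideal.map ψ ((H6_nn ρ) ^ n) := Ideal.mem_map_of_mem _ hi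
  rw [Ideal.map_pow] at h1
  have h2 := Ideal.pow_right_mono hle n h1
  rw [hn] at h2
  exact h2

/-- Universal property of the completion: augmentation-compatible maps from the polynomial ring extend. -/
theorem H6_PP_lift (A : Art Λ k) (ψ : MvPolynomial (Fin N) Λ →ₐ[Λ] A) (hψ : A.res.comp ψ = ρ) :
    ∃ φ : HomSet (H6_PP ρ) (H6_PPres ρ) A, φ.1.comp (H6_PPof ρ) = ψ := by
  obtain ⟨n, hn⟩ := H6_poly_kills ρ A ψ hψ
  let ψb : (MvPolynomial (Fin N) Λ ⧸ (H6_nn ρ) ^ n) →ₐ[Λ] A :=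
    Ideal.Quotient.liftₐ ((H6_nn ρ) ^ n) ψ (fun a ha => hn a ha)
  let φ₀ : H6_PP ρ →ₐ[Λ] A :=
    { toRingHom := ψb.toRingHom.comp (AdicCompletion.evalₐ (H6_nn ρ) n).toRingHom
      commutes' := fun l => by
        show ψb (AdicCompletion.evalₐ (H6_nn ρ) n (AdicCompletion.of _ _ (algebraMap Λ _ l))) = _
        rw [AdicCompletion.evalₐ_of]
        show ψ (algebraMap Λ _ l) = _
        exact ψ.commutes l }
  have hφ₀ : ∀ q, φ₀ (AdicCompletion.of _ _ q) = ψ q := by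
    intro q
    show ψb (AdicCompletion.evalₐ (H6_nn ρ) n (AdicCompletion.of _ _ q)) = _
    rw [AdicCompletion.evalₐ_of]
    rfl
  have hres : A.res.comp φ₀ = H6_PPres ρ := by
    have key := H6_PP_hom_ext ρ (A.res.comp φ₀).toRingHom (H6_PPres ρ).toRingHom 1 ?_ ?_
    · exact AlgHom.ext fun p => congrArg (fun f : H6_PP ρ →+* k => f p) key
    · intro i hi
      rw [pow_one] at hi
      show A.res (φ₀ (AdicCompletion.of _ _ i)) = 0
      rw [hφ₀]
      have : A.res (ψ i) = ρ i := congrArg (fun f : MvPolynomial (Fin N) Λ →ₐ[Λ] k => f i) hψ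
      rw [this]
      exact hi
    · intro q
      show A.res (φ₀ (AdicCompletion.of _ _ q)) = H6_PPres ρ (AdicCompletion.of _ _ q)
      rw [hφ₀, H6_PPres_of]
      exact congrArg (fun f : MvPolynomial (Fin N) Λ →ₐ[Λ] k => f q) hψ
  exact ⟨⟨φ₀, hres⟩, AlgHom.ext hφ₀⟩

/-- Two elements of `h_P(A)` which agree on polynomials are equal. -/
theorem H6_PP_homSet_ext (A : Art Λ k) (φ₁ φ₂ : HomSet (H6_PP ρ) (H6_PPres ρ) A)
    (h : φ₁.1.comp (H6_PPof ρ) = φ₂.1.comp (H6_PPof ρ)) : φ₁ = φ₂ := by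
  have hψ : A.res.comp (φ₁.1.comp (H6_PPof ρ)) = ρ := by
    rw [← AlgHom.comp_assoc, φ₁.2, H6_PPres_comp_of]
  obtain ⟨n, hn⟩ := H6_poly_kills ρ A _ hψ
  apply Subtype.ext
  have key := H6_PP_hom_ext ρ φ₁.1.toRingHom φ₂.1.toRingHom n (fun i hi => hn i hi)
    (fun q => congrArg (fun f : MvPolynomial (Fin N) Λ →ₐ[Λ] A => f q) h)
  exact AlgHom.ext fun p => congrArg (fun f : H6_PP ρ →+* A => f p) key

/-- `h_P` is a smooth functor. -/
theorem H6_PP_smooth : IsSmoothFunctor (hR (H6_PP ρ) (H6_PPres ρ)) := by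
  classical
  intro B A μ hμ φ
  let φ' : HomSet (H6_PP ρ) (H6_PPres ρ) A := φ
  let ψ : MvPolynomial (Fin N) Λ →ₐ[Λ] A := φ'.1.comp (H6_PPof ρ)
  have hψ : A.res.comp ψ = ρ := by
    show A.res.comp (φ'.1.comp (H6_PPof ρ)) = ρ
    rw [← AlgHom.comp_assoc, φ'.2, H6_PPres_comp_of]
  choose lift hlift using hμ
  let ψ' : MvPolynomial (Fin N) Λ →ₐ[Λ] B := MvPolynomial.aeval (fun i => lift (ψ (MvPolynomial.X i)))
  have hμψ : μ.toAlgHom.comp ψ' = ψ := by
    apply MvPolynomial.algHom_ext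
    intro i
    show μ (ψ' (MvPolynomial.X i)) = ψ (MvPolynomial.X i)
    rw [show ψ' (MvPolynomial.X i) = lift (ψ (MvPolynomial.X i)) from MvPolynomial.aeval_X _ i]
    exact hlift _
  have hψ' : B.res.comp ψ' = ρ := by
    rw [← μ.res_comp, AlgHom.comp_assoc, hμψ, hψ]
  obtain ⟨χ, hχ⟩ := H6_PP_lift ρ B ψ' hψ'
  refine ⟨χ, ?_⟩
  show HomSet.map μ χ = φ'
  apply H6_PP_homSet_ext
  show (μ.toAlgHom.comp χ.1).comp (H6_PPof ρ) = φ'.1.comp (H6_PPof ρ)
  rw [AlgHom.comp_assoc, hχ, hμψ]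

end

section
variable [IsNoetherianRing Λ] [Module.Finite Λ k]

/-- Every object of `Art Λ k` is a quotient of a smooth coefficient ring. -/
theorem H6_exists_smooth_cover (E : Art Λ k) :
    ∃ (P : CRing Λ k), IsSmoothFunctor (hR P.carrier P.res) ∧
      ∃ φ : HomSet P.carrier P.res E, Function.Surjective φ.1 := by
  classical
  haveI : Module.Finite Λ E := H6_art_finite E
  obtain ⟨N, s, hs⟩ := Module.Finite.exists_fin (R := Λ) (M := E)
  let ψ : MvPolynomial (Fin N) Λ →ₐ[Λ] E := MvPolynomial.aeval s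
  have hψs : Function.Surjective ψ := by
    intro e
    have he : e ∈ Submodule.span Λ (Set.range s) := by rw [hs]; trivial
    have hle : Submodule.span Λ (Set.range s) ≤ Subalgebra.toSubmodule ψ.range := by
      rw [Submodule.span_le]
      rintro _ ⟨i, rfl⟩
      exact ⟨MvPolynomial.X i, MvPolynomial.aeval_X _ i⟩
    obtain ⟨q, hq⟩ := hle he
    exact ⟨q, hq⟩
  let ρ : MvPolynomial (Fin N) Λ →ₐ[Λ] k := E.res.comp ψ
  have hρ : Function.Surjective ρ := E.res_surjective.comp hψs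
  obtain ⟨φ, hφ⟩ := H6_PP_lift ρ E ψ rfl
  refine ⟨H6_smoothRing ρ hρ, H6_PP_smooth ρ, φ, ?_⟩
  intro e
  obtain ⟨q, rfl⟩ := hψs e
  exact ⟨H6_PPof ρ q, congrArg (fun f : MvPolynomial (Fin N) Λ →ₐ[Λ] E => f q) hφ⟩

end

end Groth.Agent.Lib.helper6
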