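import Mathlib
import Groth.Prelude.Def_ArtFun5
import Groth.Agent.Lib.helper6.SmoothRing
import Groth.Agent.Lib.helper6.CRingLimit
import Groth.Agent.Lib.helper6.ArtCSurj

set_option autoImplicit false
universe u v

open ArtFun ArtFun.Art CategoryTheory

namespace Groth.Agent.Lib.helper6

variable {Λ : Type u} {k : Type u} [CommRing Λ] [Field k] [Algebra Λ k]

/-- A map killing the kernel of a surjective algebra map factors through it. -/
theorem H6_algHom_factor {P R C : Type*} [CommRing P] [CommRing R] [CommRing C] [Algebra Λ P]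
    [Algebra Λ R] [Algebra Λ C] (π : P →ₐ[Λ] R) (hπ : Function.Surjective π) (f : P →ₐ[Λ] C)
    (h : ∀ x, π x = 0 → f x = 0) : ∃ g : R →ₐ[Λ] C, g.comp π = f := by
  classical
  let s : R → P := Function.surjInv hπ
  have hs : ∀ a, π (s a) = a := Function.surjInv_eq hπ
  have key : ∀ r, f (s (π r)) = f r := by
    intro r
    rw [← sub_eq_zero, ← map_sub]
    apply h
    rw [map_sub, hs, sub_self]
  let g₀ : R →ₐ[Λ] C :=
    { toFun := fun a => f (s a)
      map_one' := by
        have := key 1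
        rw [map_one, map_one] at this
        exact this
      map_mul' := by
        intro a a'
        obtain ⟨r, rfl⟩ := hπ a
        obtain ⟨r', rfl⟩ := hπ a'
        rw [← map_mul, key, key, key, map_mul]
      map_zero' := by
        have := key 0
        rw [map_zero, map_zero] at this
        exact this
      map_add' := by
        intro a a'
        obtain ⟨r, rfl⟩ := hπ a
        obtain ⟨r', rfl⟩ := hπ a'
        rw [← map_add, key, key, key, map_add]
      commutes' := by
        intro l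
        have := key (algebraMap Λ P l)
        rw [AlgHom.commutes, AlgHom.commutes] at this
        exact this }
  exact ⟨g₀, AlgHom.ext key⟩

section PPC
variable [IsNoetherianRing Λ] {N : ℕ} (ρ : MvPolynomial (Fin N) Λ →ₐ[Λ] k)

/-- Universal property of the completion, for complete local targets. -/
theorem H6_PP_liftC (T : CRing Λ k) (ψ : MvPolynomial (Fin N) Λ →ₐ[Λ] T.carrier)
    (hψ : T.res.comp ψ = ρ) :
    ∃ φ : H6_PP ρ →ₐ[Λ] T.carrier, T.res.comp φ = H6_PPres ρ ∧ φ.comp (H6_PPof ρ) = ψ := by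
  classical
  have hψn : ∀ n, (T.trunc n).res.comp ((T.truncHom n).1.comp ψ) = ρ := fun n => by
    rw [← AlgHom.comp_assoc, (T.truncHom n).2, hψ]
  choose φ hφ using fun n => H6_PP_lift ρ (T.trunc n) ((T.truncHom n).1.comp ψ) (hψn n)
  have hcompat : ∀ n, HomSet.map (T.truncMap n) (φ (n + 1)) = φ n := by
    intro n
    apply H6_PP_homSet_ext
    show ((T.truncMap n).toAlgHom.comp (φ (n + 1)).1).comp (H6_PPof ρ) = (φ n).1.comp (H6_PPof ρ)
    rw [AlgHom.comp_assoc, hφ, hφ]
    rfl
  obtain ⟨g, hg, hgn⟩ := H6_cring_limit_hom (H6_PPres ρ) T φ hcompat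
  refine ⟨g, hg, ?_⟩
  apply H6_cring_hom_ext T
  intro n q
  show Ideal.Quotient.mk (T.mpow n) (g (H6_PPof ρ q)) = Ideal.Quotient.mk (T.mpow n) (ψ q)
  rw [hgn]
  exact congrArg (fun f : MvPolynomial (Fin N) Λ →ₐ[Λ] T.trunc n => f q) (hφ n)

/-- Uniqueness in the universal property of the completion, for complete local targets. -/
theorem H6_PP_hom_extC (T : CRing Λ k) (φ₁ φ₂ : H6_PP ρ →ₐ[Λ] T.carrier)
    (h₁ : T.res.comp φ₁ = H6_PPres ρ) (h₂ : T.res.comp φ₂ = H6_PPres ρ)
    (h : φ₁.comp (H6_PPof ρ) = φ₂.comp (H6_PPof ρ)) : φ₁ = φ₂ := by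
  apply H6_cring_hom_ext T
  intro n r
  let χ₁ : HomSet (H6_PP ρ) (H6_PPres ρ) (T.trunc n) :=
    ⟨(T.truncHom n).1.comp φ₁, by rw [← AlgHom.comp_assoc, (T.truncHom n).2, h₁]⟩
  let χ₂ : HomSet (H6_PP ρ) (H6_PPres ρ) (T.trunc n) :=
    ⟨(T.truncHom n).1.comp φ₂, by rw [← AlgHom.comp_assoc, (T.truncHom n).2, h₂]⟩
  have : χ₁ = χ₂ := by
    apply H6_PP_homSet_ext
    show ((T.truncHom n).1.comp φ₁).comp (H6_PPof ρ) = ((T.truncHom n).1.comp φ₂).comp (H6_PPof ρ)
    rw [AlgHom.comp_assoc, AlgHom.comp_assoc, h]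
  exact congrArg (fun χ : HomSet (H6_PP ρ) (H6_PPres ρ) (T.trunc n) => χ.1 r) this

end PPC

section Cover
variable [IsNoetherianRing Λ] [Module.Finite Λ k]

/-- Every coefficient ring is a quotient of the completion of a polynomial ring. -/
theorem H6_exists_smooth_coverC (R : CRing Λ k) :
    ∃ (N : ℕ) (ρ : MvPolynomial (Fin N) Λ →ₐ[Λ] k) (_ : Function.Surjective ρ)
      (π : H6_PP ρ →ₐ[Λ] R.carrier), R.res.comp π = H6_PPres ρ ∧ Function.Surjective π := by
  classical
  -- generators of the residue field as a module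
  obtain ⟨a, s, hs⟩ := Module.Finite.exists_fin (R := Λ) (M := k)
  choose s' hs' using fun i => R.res_surjective (s i)
  -- generators of the maximal ideal
  obtain ⟨b, t, ht⟩ := Submodule.fg_iff_exists_fin_generating_family.1
    ((isNoetherianRing_iff_ideal_fg R.carrier).1 inferInstance (IsLocalRing.maximalIdeal R.carrier))
  let v : Fin (a + b) → R.carrier := Fin.append s' t
  let ψ : MvPolynomial (Fin (a + b)) Λ →ₐ[Λ] R.carrier := MvPolynomial.aeval v
  let ρ : MvPolynomial (Fin (a + b)) Λ →ₐ[Λ] k := R.res.comp ψ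
  have hρ : Function.Surjective ρ := by
    intro c
    have hc : c ∈ Submodule.span Λ (Set.range s) := by rw [hs]; trivial
    have hle : Submodule.span Λ (Set.range s) ≤ Subalgebra.toSubmodule ρ.range := by
      rw [Submodule.span_le]
      rintro _ ⟨i, rfl⟩
      refine ⟨MvPolynomial.X (Fin.castAdd b i), ?_⟩
      show R.res (ψ (MvPolynomial.X (Fin.castAdd b i))) = s i
      rw [show ψ (MvPolynomial.X (Fin.castAdd b i)) = v (Fin.castAdd b i) from
        MvPolynomial.aeval_X _ _]
      show R.res (Fin.append s' t (Fin.castAdd b i)) = s i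
      rw [Fin.append_left, hs']
    obtain ⟨q, hq⟩ := hle hc
    exact ⟨q, hq⟩
  obtain ⟨π, hπ, hπψ⟩ := H6_PP_liftC ρ R ψ rfl
  refine ⟨a + b, ρ, hρ, π, hπ, ?_⟩
  apply H6_cring_surjective_of_cotangent (H6_smoothRing ρ hρ) R π hπ
  apply le_antisymm
  · exact sup_le (H6_cring_map_maximalIdeal_le (H6_smoothRing ρ hρ) R π hπ)
      (Ideal.pow_le_self two_ne_zero)
  · apply le_sup_of_le_left
    have hspan : IsLocalRing.maximalIdeal R.carrier = Ideal.span (Set.range t) := ht.symm
    rw [hspan, Ideal.span_le]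
    rintro _ ⟨j, rfl⟩
    have h1 : π (H6_PPof ρ (MvPolynomial.X (Fin.natAdd a j))) = t j := by
      have := congrArg (fun f : MvPolynomial (Fin (a + b)) Λ →ₐ[Λ] R.carrier =>
        f (MvPolynomial.X (Fin.natAdd a j))) hπψ
      simp only [AlgHom.comp_apply] at this
      rw [this]
      show ψ (MvPolynomial.X (Fin.natAdd a j)) = t j
      rw [show ψ (MvPolynomial.X (Fin.natAdd a j)) = v (Fin.natAdd a j) from
        MvPolynomial.aeval_X _ _]
      show Fin.append s' t (Fin.natAdd a j) = t j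
      rw [Fin.append_right]
    rw [← h1]
    apply Ideal.mem_map_of_mem
    refine (CRing.mem_maximalIdeal_iff (H6_smoothRing ρ hρ) _).2 ?_
    show H6_PPres ρ (H6_PPof ρ (MvPolynomial.X (Fin.natAdd a j))) = 0
    have h2 : H6_PPres ρ (H6_PPof ρ (MvPolynomial.X (Fin.natAdd a j))) =
        ρ (MvPolynomial.X (Fin.natAdd a j)) :=
      congrArg (fun f : MvPolynomial (Fin (a + b)) Λ →ₐ[Λ] k => f (MvPolynomial.X (Fin.natAdd a j)))
        (H6_PPres_comp_of ρ)
    rw [h2]
    show R.res (ψ (MvPolynomial.X (Fin.natAdd a j))) = 0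
    rw [show ψ (MvPolynomial.X (Fin.natAdd a j)) = v (Fin.natAdd a j) from
      MvPolynomial.aeval_X _ _]
    show R.res (Fin.append s' t (Fin.natAdd a j)) = 0
    rw [Fin.append_right, ← CRing.mem_maximalIdeal_iff, hspan]
    exact Ideal.subset_span ⟨j, rfl⟩

end Cover

end Groth.Agent.Lib.helper6
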