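import Mathlib
import Groth.Prelude.Def_ArtFun5

set_option autoImplicit false
universe u v w

open ArtFun ArtFun.Art CategoryTheory TensorProduct

namespace Groth.Agent.Lib.helper6

/-- A module over an adically complete ring for which the comparison map from the tensor product with
the completion is bijective is adically complete. -/
theorem H6_isAdicComplete_of_ofTensorProduct_bijective {A : Type u} [CommRing A] (J : Ideal A)
    [IsAdicComplete J A] (M : Type v) [AddCommGroup M] [Module A M]
    (h : Function.Bijective (AdicCompletion.ofTensorProduct J M)) : IsAdicComplete J M := by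
  rw [← AdicCompletion.of_bijective_iff]
  have hA : Function.Bijective (AdicCompletion.of J A) :=
    AdicCompletion.of_bijective_iff.mpr inferInstance
  let eA : A ≃ₗ[A] AdicCompletion J A := LinearEquiv.ofBijective (AdicCompletion.of J A) hA
  have hcomp : (AdicCompletion.of J M : M → AdicCompletion J M) =
      (AdicCompletion.ofTensorProduct J M) ∘ (LinearEquiv.rTensor M eA) ∘
        (TensorProduct.lid A M).symm := by
    ext1 x
    simp only [Function.comp_apply, TensorProduct.lid_symm_apply, LinearEquiv.rTensor_tmul,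
      AdicCompletion.ofTensorProduct_tmul, eA, LinearEquiv.ofBijective_apply]
    have h1 : AdicCompletion.of J A 1 = 1 := by
      ext n
      simp
    rw [h1, one_smul]
  rw [hcomp]
  exact h.comp ((LinearEquiv.rTensor M eA).bijective.comp (TensorProduct.lid A M).symm.bijective)

/-- A finite module over a Noetherian adically complete ring is adically complete. -/
theorem H6_isAdicComplete_of_finite {A : Type u} [CommRing A] [IsNoetherianRing A] (J : Ideal A)
    [IsAdicComplete J A] (M : Type u) [AddCommGroup M] [Module A M] [Module.Finite A M] :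
    IsAdicComplete J M :=
  H6_isAdicComplete_of_ofTensorProduct_bijective J M
    (AdicCompletion.ofTensorProduct_bijective_of_finite_of_isNoetherian J M)

variable {Λ : Type u} {k : Type u} [CommRing Λ] [Field k] [Algebra Λ k]

theorem H6_cring_maximalIdeal_quot (P : CRing Λ k) (J : Ideal P.carrier)
    [IsLocalRing (P.carrier ⧸ J)] :
    IsLocalRing.maximalIdeal (P.carrier ⧸ J) =
      (IsLocalRing.maximalIdeal P.carrier).map (Ideal.Quotient.mk J) := by
  apply le_antisymm
  · intro x hx
    obtain ⟨a, rfl⟩ := Ideal.Quotient.mk_surjective x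
    have ha : a ∈ IsLocalRing.maximalIdeal P.carrier := by
      rw [IsLocalRing.mem_maximalIdeal] at hx ⊢
      exact fun hu => hx (hu.map (Ideal.Quotient.mk J))
    exact Ideal.mem_map_of_mem _ ha
  · rw [Ideal.map_le_iff_le_comap]
    intro a ha
    rw [Ideal.mem_comap, IsLocalRing.mem_maximalIdeal]
    intro hu
    rw [IsLocalRing.mem_maximalIdeal] at ha
    apply ha
    haveI : IsLocalHom (Ideal.Quotient.mk J) :=
      IsLocalHom.of_surjective _ Ideal.Quotient.mk_surjective
    exact IsLocalHom.map_nonunit a hu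

/-- The quotient of a coefficient ring by an ideal contained in the maximal ideal. -/
noncomputable def H6_cringQuot (P : CRing Λ k) (J : Ideal P.carrier)
    (hJ : J ≤ IsLocalRing.maximalIdeal P.carrier) : CRing Λ k :=
  haveI : Nontrivial (P.carrier ⧸ J) :=
    Ideal.Quotient.nontrivial_iff.2 (fun h => (IsLocalRing.maximalIdeal.isMaximal P.carrier).ne_top
      (top_le_iff.1 (h ▸ hJ)))
  haveI : IsLocalRing (P.carrier ⧸ J) :=
    IsLocalRing.of_surjective' (Ideal.Quotient.mk J) Ideal.Quotient.mk_surjective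
  { carrier := P.carrier ⧸ J
    res := Ideal.Quotient.liftₐ J P.res (fun a ha => (CRing.mem_maximalIdeal_iff P a).1 (hJ ha))
    res_surjective := fun c => by
      obtain ⟨a, ha⟩ := P.res_surjective c
      exact ⟨Ideal.Quotient.mk J a, ha⟩
    isAdicComplete := by
      haveI := P.isAdicComplete
      rw [H6_cring_maximalIdeal_quot P J]
      have := H6_isAdicComplete_of_finite (IsLocalRing.maximalIdeal P.carrier) (P.carrier ⧸ J)
      exact (IsAdicComplete.map_algebraMap_iff (IsLocalRing.maximalIdeal P.carrier)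
        (S := P.carrier ⧸ J) (M := P.carrier ⧸ J)).2 this }

/-- The quotient map, as an augmentation-compatible algebra map. -/
noncomputable def H6_cringQuotMk (P : CRing Λ k) (J : Ideal P.carrier)
    (hJ : J ≤ IsLocalRing.maximalIdeal P.carrier) : P.carrier →ₐ[Λ] (H6_cringQuot P J hJ).carrier :=
  Ideal.Quotient.mkₐ Λ J

theorem H6_cringQuotMk_res (P : CRing Λ k) (J : Ideal P.carrier)
    (hJ : J ≤ IsLocalRing.maximalIdeal P.carrier) :
    (H6_cringQuot P J hJ).res.comp (H6_cringQuotMk P J hJ) = P.res :=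
  AlgHom.ext fun _ => rfl

theorem H6_cringQuotMk_surjective (P : CRing Λ k) (J : Ideal P.carrier)
    (hJ : J ≤ IsLocalRing.maximalIdeal P.carrier) : Function.Surjective (H6_cringQuotMk P J hJ) :=
  Ideal.Quotient.mk_surjective

theorem H6_cringQuotMk_eq_zero_iff (P : CRing Λ k) (J : Ideal P.carrier)
    (hJ : J ≤ IsLocalRing.maximalIdeal P.carrier) (a : P.carrier) :
    H6_cringQuotMk P J hJ a = 0 ↔ a ∈ J := Ideal.Quotient.eq_zero_iff_mem

/-- Maps out of the quotient. -/
noncomputable def H6_cringQuotLift (P : CRing Λ k) (J : Ideal P.carrier)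
    (hJ : J ≤ IsLocalRing.maximalIdeal P.carrier) {A : Art Λ k} (φ : HomSet P.carrier P.res A)
    (h : ∀ j ∈ J, φ.1 j = 0) : HomSet (H6_cringQuot P J hJ).carrier (H6_cringQuot P J hJ).res A :=
  ⟨Ideal.Quotient.liftₐ J φ.1 h, by
    apply AlgHom.ext
    intro x
    obtain ⟨a, rfl⟩ := Ideal.Quotient.mk_surjective x
    exact congrArg (fun ψ : P.carrier →ₐ[Λ] k => ψ a) φ.2⟩

theorem H6_cringQuotLift_mk (P : CRing Λ k) (J : Ideal P.carrier)
    (hJ : J ≤ IsLocalRing.maximalIdeal P.carrier) {A : Art Λ k} (φ : HomSet P.carrier P.res A)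
    (h : ∀ j ∈ J, φ.1 j = 0) (a : P.carrier) :
    (H6_cringQuotLift P J hJ φ h).1 (H6_cringQuotMk P J hJ a) = φ.1 a := rfl

/-- Restriction of a map out of the quotient to the original ring. -/
noncomputable def H6_cringQuotRestr (P : CRing Λ k) (J : Ideal P.carrier)
    (hJ : J ≤ IsLocalRing.maximalIdeal P.carrier) {A : Art Λ k}
    (ψ : HomSet (H6_cringQuot P J hJ).carrier (H6_cringQuot P J hJ).res A) :
    HomSet P.carrier P.res A :=
  ⟨ψ.1.comp (H6_cringQuotMk P J hJ), by
    rw [← AlgHom.comp_assoc, ψ.2, H6_cringQuotMk_res]⟩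

theorem H6_cringQuotRestr_kills (P : CRing Λ k) (J : Ideal P.carrier)
    (hJ : J ≤ IsLocalRing.maximalIdeal P.carrier) {A : Art Λ k}
    (ψ : HomSet (H6_cringQuot P J hJ).carrier (H6_cringQuot P J hJ).res A) (j : P.carrier)
    (hj : j ∈ J) : (H6_cringQuotRestr P J hJ ψ).1 j = 0 := by
  show ψ.1 (H6_cringQuotMk P J hJ j) = 0
  rw [(H6_cringQuotMk_eq_zero_iff P J hJ j).2 hj, map_zero]

theorem H6_cringQuotLift_restr (P : CRing Λ k) (J : Ideal P.carrier)
    (hJ : J ≤ IsLocalRing.maximalIdeal P.carrier) {A : Art Λ k}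
    (ψ : HomSet (H6_cringQuot P J hJ).carrier (H6_cringQuot P J hJ).res A) :
    H6_cringQuotLift P J hJ (H6_cringQuotRestr P J hJ ψ) (H6_cringQuotRestr_kills P J hJ ψ) = ψ := by
  apply Subtype.ext
  apply AlgHom.ext
  intro x
  obtain ⟨a, rfl⟩ := Ideal.Quotient.mk_surjective x
  rfl

theorem H6_cringQuotRestr_lift (P : CRing Λ k) (J : Ideal P.carrier)
    (hJ : J ≤ IsLocalRing.maximalIdeal P.carrier) {A : Art Λ k} (φ : HomSet P.carrier P.res A)
    (h : ∀ j ∈ J, φ.1 j = 0) :
    H6_cringQuotRestr P J hJ (H6_cringQuotLift P J hJ φ h) = φ :=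
  Subtype.ext (AlgHom.ext fun _ => rfl)

theorem H6_cringQuotRestr_map (P : CRing Λ k) (J : Ideal P.carrier)
    (hJ : J ≤ IsLocalRing.maximalIdeal P.carrier) {A B : Art Λ k} (f : A ⟶ B)
    (ψ : HomSet (H6_cringQuot P J hJ).carrier (H6_cringQuot P J hJ).res A) :
    H6_cringQuotRestr P J hJ (HomSet.map f ψ) = HomSet.map f (H6_cringQuotRestr P J hJ ψ) :=
  Subtype.ext (AlgHom.ext fun _ => rfl)

theorem H6_along_quot_app {F : Art Λ k ⥤ Type v} (P : CRing Λ k) (J : Ideal P.carrier)
    (hJ : J ≤ IsLocalRing.maximalIdeal P.carrier) (ξ : Family P.carrier P.res F) {A : Art Λ k}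
    (ψ : HomSet (H6_cringQuot P J hJ).carrier (H6_cringQuot P J hJ).res A) :
    (ξ.along (H6_cringQuotMk P J hJ) (H6_cringQuotMk_res P J hJ)).app A ψ =
      ξ.app A (H6_cringQuotRestr P J hJ ψ) := rfl

end Groth.Agent.Lib.helper6
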