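import Mathlib
import Groth.Prelude.Def_ArtFun5
import Groth.Agent.Lib.helper6.SmoothRing

set_option autoImplicit false
universe u v

open ArtFun ArtFun.Art CategoryTheory

namespace Groth.Agent.Lib.helper6

variable {Λ : Type u} {k : Type u} [CommRing Λ] [Field k] [Algebra Λ k] [IsNoetherianRing Λ]
  {N : ℕ} (ρ : MvPolynomial (Fin N) Λ →ₐ[Λ] k)

/-- The completion of a polynomial ring is formally smooth for discrete square-zero test pairs. -/
theorem H6_PP_formallySmooth {C : Type*} [CommRing C] [Algebra Λ C] (J : Ideal C) (hJ : J ^ 2 = ⊥)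
    (u : H6_PP ρ →ₐ[Λ] C ⧸ J) (j : ℕ) (hu : ∀ i ∈ (H6_nn ρ) ^ j, u (H6_PPof ρ i) = 0) :
    ∃ v : H6_PP ρ →ₐ[Λ] C, (Ideal.Quotient.mkₐ Λ J).comp v = u := by
  classical
  choose c hc using fun i : Fin N => Ideal.Quotient.mk_surjective (u (H6_PPof ρ (MvPolynomial.X i)))
  let w : MvPolynomial (Fin N) Λ →ₐ[Λ] C := MvPolynomial.aeval c
  have hw : ∀ q, Ideal.Quotient.mk J (w q) = u (H6_PPof ρ q) := by
    intro q
    have : (Ideal.Quotient.mkₐ Λ J).comp w = u.comp (H6_PPof ρ) := by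
      apply MvPolynomial.algHom_ext
      intro i
      show Ideal.Quotient.mk J (w (MvPolynomial.X i)) = u (H6_PPof ρ (MvPolynomial.X i))
      rw [show w (MvPolynomial.X i) = c i from MvPolynomial.aeval_X _ i, hc]
    exact congrArg (fun f : MvPolynomial (Fin N) Λ →ₐ[Λ] C ⧸ J => f q) this
  have hwJ : Ideal.map w ((H6_nn ρ) ^ j) ≤ J := by
    rw [Ideal.map_le_iff_le_comap]
    intro q hq
    rw [Ideal.mem_comap, ← Ideal.Quotient.eq_zero_iff_mem, hw, hu q hq]
  have hw0 : ∀ q ∈ (H6_nn ρ) ^ (j + j), w q = 0 := by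
    intro q hq
    have h1 : w q ∈ Ideal.map w ((H6_nn ρ) ^ (j + j)) := Ideal.mem_map_of_mem _ hq
    rw [pow_add, Ideal.map_mul] at h1
    have h2 : Ideal.map w ((H6_nn ρ) ^ j) * Ideal.map w ((H6_nn ρ) ^ j) ≤ J ^ 2 := by
      rw [sq]
      exact Ideal.mul_mono hwJ hwJ
    have h3 := h2 h1
    rw [hJ] at h3
    exact h3
  let wb : (MvPolynomial (Fin N) Λ ⧸ (H6_nn ρ) ^ (j + j)) →ₐ[Λ] C :=
    Ideal.Quotient.liftₐ ((H6_nn ρ) ^ (j + j)) w hw0
  let v : H6_PP ρ →ₐ[Λ] C :=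
    { toRingHom := wb.toRingHom.comp (AdicCompletion.evalₐ (H6_nn ρ) (j + j)).toRingHom
      commutes' := fun l => by
        show wb (AdicCompletion.evalₐ (H6_nn ρ) (j + j) (AdicCompletion.of _ _ (algebraMap Λ _ l))) = _
        rw [AdicCompletion.evalₐ_of]
        show w (algebraMap Λ _ l) = _
        exact w.commutes l }
  have hv : ∀ q, v (AdicCompletion.of _ _ q) = w q := by
    intro q
    show wb (AdicCompletion.evalₐ (H6_nn ρ) (j + j) (AdicCompletion.of _ _ q)) = _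
    rw [AdicCompletion.evalₐ_of]
    rfl
  refine ⟨v, ?_⟩
  have key := H6_PP_hom_ext ρ ((Ideal.Quotient.mkₐ Λ J).comp v).toRingHom u.toRingHom j ?_ ?_
  · exact AlgHom.ext fun p => congrArg (fun f : H6_PP ρ →+* C ⧸ J => f p) key
  · intro i hi
    show Ideal.Quotient.mk J (v (AdicCompletion.of _ _ i)) = 0
    rw [hv, hw]
    exact hu i hi
  · intro q
    show Ideal.Quotient.mk J (v (AdicCompletion.of _ _ q)) = u (AdicCompletion.of _ _ q)
    rw [hv, hw]
    rfl

end Groth.Agent.Lib.helper6
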