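import Mathlib
import Groth.Prelude.Def_ArtFun5
import Groth.Prelude.Def_W4sfdMinVersal
import Groth.Agent.Lib.helper6.VersalLiftC

set_option autoImplicit false
universe u v

open ArtFun ArtFun.Art CategoryTheory

namespace Groth.Agent.Lib.helper6

variable {Λ : Type u} {k : Type u} [CommRing Λ] [Field k] [Algebra Λ k]
  [IsNoetherianRing Λ] [Module.Finite Λ k]

/-- If `h_R` is a smooth functor then maps out of `R` lift along surjections of coefficient rings. -/
theorem H6_smooth_section (R : CRing Λ k) (hsm : IsSmoothFunctor (hR R.carrier R.res))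
    (A' A : CRing Λ k) (g : A'.carrier →ₐ[Λ] A.carrier) (hg : A.res.comp g = A'.res)
    (hgs : Function.Surjective g)
    (φ : R.carrier →ₐ[Λ] A.carrier) (hφ : A.res.comp φ = R.res) :
    ∃ (ψ : R.carrier →ₐ[Λ] A'.carrier), A'.res.comp ψ = R.res ∧ g.comp ψ = φ := by
  classical
  let F : Art Λ k ⥤ Type u := (CategoryTheory.Functor.const (Art Λ k)).obj PUnit.{u+1}
  have hsub : ∀ B : Art Λ k, Subsingleton (F.obj B) := fun B =>
    (inferInstance : Subsingleton PUnit.{u+1})
  let ξ : Family R.carrier R.res F :=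
    { app := fun _ _ => PUnit.unit
      natural := fun _ _ => rfl }
  have hRS : ∀ ⦃B A A₁ A₂ : Art Λ k⦄ (p₁ : B ⟶ A₁) (p₂ : B ⟶ A₂) (f₁ : A₁ ⟶ A) (f₂ : A₂ ⟶ A)
      (h : Art.IsFibreProd p₁ p₂ f₁ f₂), Function.Surjective f₂ → Function.Bijective (cmp F h) := by
    intro B A A₁ A₂ p₁ p₂ f₁ f₂ h _
    constructor
    · intro x y _
      exact (hsub B).elim x y
    · intro z
      refine ⟨PUnit.unit, ?_⟩
      apply FibProd.ext
      · exact (hsub A₁).elim _ _
      · exact (hsub A₂).elim _ _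
  have hξ : IsVersal ξ := by
    intro B A μ hμ φ y _
    obtain ⟨ψ, hψ⟩ := hsm μ hμ φ
    exact ⟨ψ, hψ, (hsub B).elim _ _⟩
  let η' : FormalElt F A' := ⟨fun _ => PUnit.unit, fun _ => rfl⟩
  obtain ⟨ψ, hψ, hgψ, -⟩ := H6_versal_lift_cring hRS R ξ hξ A' A g hg hgs η' φ hφ (by
    apply FormalElt.ext'
    intro n
    exact (hsub _).elim _ _)
  exact ⟨ψ, hψ, hgψ⟩

end Groth.Agent.Lib.helper6
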