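import Mathlib
import Groth.Prelude.Def_ArtFun5
import Groth.Prelude.Def_CAlgX
import Groth.Agent.Lib.helper6.SmoothSection
import Groth.Agent.Lib.helper6.PPFormSmooth
import Groth.Agent.Lib.helper6.CRingPres
import Groth.Agent.Lib.helper6.CRingQuot
import Groth.Agent.Lib.helper6.ArtInd
import Groth.Agent.Lib.helper6.ArtFormal

set_option autoImplicit false
universe u v

open ArtFun ArtFun.Art CategoryTheory

namespace Groth.Agent.Lib.helper6

variable {Λ : Type u} {k : Type u} [CommRing Λ] [Field k] [Algebra Λ k]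
  [IsNoetherianRing Λ] [Module.Finite Λ k]

/-- Adic formal smoothness implies smoothness of `h_R`. -/
theorem H6_smooth_of_adicFormallySmooth (R : CRing Λ k)
    (hfs : CAlgX.IsAdicFormallySmooth Λ R.carrier (IsLocalRing.maximalIdeal R.carrier)) :
    IsSmoothFunctor (hR R.carrier R.res) := by
  classical
  intro B A μ hμ
  refine H6_surjective_induction
    (P := fun A B μ => ∀ φ : HomSet R.carrier R.res A, ∃ ψ : HomSet R.carrier R.res B,
      HomSet.map μ ψ = φ) ?_ ?_ ?_ μ hμ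
  · intro A B e he φ
    refine ⟨HomSet.map (inv e) φ, ?_⟩
    rw [← H6_homSet_map_comp, IsIso.inv_hom_id, H6_homSet_map_id]
  · intro A B p hp φ
    obtain ⟨hps, -, -, hmK⟩ := hp
    set K := RingHom.ker p.toAlgHom with hK
    have hKm : K ≤ IsLocalRing.maximalIdeal B := by
      intro b hb
      rw [Art.mem_maximalIdeal_iff, ← Art.res_app p b]
      have : p b = 0 := hb
      rw [this]; exact map_zero A.res
    have hK2 : K ^ 2 = ⊥ := by
      rw [eq_bot_iff, sq, ← hmK]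
      exact Ideal.mul_mono_left hKm
    let e : (B ⧸ K) ≃ₐ[Λ] A := AlgEquiv.ofBijective (Ideal.kerLiftAlg p.toAlgHom)
      ⟨Ideal.kerLiftAlg_injective _, fun a => by
        obtain ⟨b, hb⟩ := hps a
        exact ⟨Ideal.Quotient.mk _ b, (Ideal.kerLiftAlg_mk _ b).trans hb⟩⟩
    let ψ' : R.carrier →ₐ[Λ] B ⧸ K := e.symm.toAlgHom.comp φ.1
    obtain ⟨n, hn⟩ := H6_homSet_kills_mpow R φ
    obtain ⟨χ, hχ⟩ := hfs B K hK2 ψ' ⟨n + 1, fun x hx => by
      show e.symm (φ.1 x) = 0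
      rw [hn x hx, map_zero]⟩
    have hpχ : ∀ r, p (χ r) = φ.1 r := by
      intro r
      have h1 : Ideal.Quotient.mk K (χ r) = e.symm (φ.1 r) :=
        congrArg (fun f : R.carrier →ₐ[Λ] B ⧸ K => f r) hχ
      have h2 : e (Ideal.Quotient.mk K (χ r)) = p (χ r) := Ideal.kerLiftAlg_mk _ _
      rw [← h2, h1, AlgEquiv.apply_symm_apply]
    refine ⟨⟨χ, ?_⟩, ?_⟩
    · apply AlgHom.ext
      intro r
      show B.res (χ r) = R.res r
      rw [← Art.res_app p (χ r), hpχ]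
      exact congrArg (fun f : R.carrier →ₐ[Λ] k => f r) φ.2
    · apply Subtype.ext
      apply AlgHom.ext
      intro r
      exact hpχ r
  · intro A B C p q hp hq φ
    obtain ⟨ψ₁, h₁⟩ := hq φ
    obtain ⟨ψ₂, h₂⟩ := hp ψ₁
    exact ⟨ψ₂, by rw [H6_homSet_map_comp, h₂, h₁]⟩

/-- Smoothness of `h_R` implies adic formal smoothness. -/
theorem H6_adicFormallySmooth_of_smooth (R : CRing Λ k)
    (hsm : IsSmoothFunctor (hR R.carrier R.res)) :
    CAlgX.IsAdicFormallySmooth Λ R.carrier (IsLocalRing.maximalIdeal R.carrier) := by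
  classical
  intro C _ _ J hJ2 ψ hψ
  obtain ⟨j, hψj⟩ := hψ
  obtain ⟨N, ρ, hρ, π₀, hπ₀, hπ₀s⟩ := H6_exists_smooth_coverC R
  let P : CRing Λ k := H6_smoothRing ρ hρ
  let π : P.carrier →ₐ[Λ] R.carrier := π₀
  have hπs : Function.Surjective π := hπ₀s
  have hπ' : ∀ x : P.carrier, R.res (π x) = P.res x := fun x =>
    congrArg (fun f : H6_PP ρ →ₐ[Λ] k => f x) hπ₀
  let I : Ideal P.carrier := RingHom.ker π
  have hIm : I ≤ IsLocalRing.maximalIdeal P.carrier := by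
    intro x hx
    rw [CRing.mem_maximalIdeal_iff]
    have hx0 : π x = 0 := hx
    rw [← hπ', hx0, map_zero]
  have hI2m : I ^ 2 ≤ IsLocalRing.maximalIdeal P.carrier := (Ideal.pow_le_self two_ne_zero).trans hIm
  let S' : CRing Λ k := H6_cringQuot P (I ^ 2) hI2m
  let mk : P.carrier →ₐ[Λ] S'.carrier := H6_cringQuotMk P (I ^ 2) hI2m
  have hmks : Function.Surjective mk := H6_cringQuotMk_surjective P (I ^ 2) hI2m
  let q : S'.carrier →ₐ[Λ] R.carrier := Ideal.Quotient.liftₐ (I ^ 2) π (fun a ha =>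
    (RingHom.mem_ker).1 (Ideal.pow_le_self two_ne_zero ha))
  have hqmk : ∀ p, q (mk p) = π p := fun p => rfl
  have hq : R.res.comp q = S'.res := by
    apply AlgHom.ext
    intro x
    obtain ⟨p, rfl⟩ := hmks x
    show R.res (q (mk p)) = P.res p
    rw [hqmk, hπ']
  have hqs : Function.Surjective q := by
    intro r
    obtain ⟨p, rfl⟩ := hπs r
    exact ⟨mk p, rfl⟩
  obtain ⟨σ, -, hσ⟩ := H6_smooth_section R hsm S' R q hq hqs (AlgHom.id Λ R.carrier)
    (AlgHom.comp_id _)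
  have hσ' : ∀ r, q (σ r) = r := fun r =>
    congrArg (fun f : R.carrier →ₐ[Λ] R.carrier => f r) hσ
  -- the map to lift
  let u : H6_PP ρ →ₐ[Λ] C ⧸ J := ψ.comp π₀
  have hθ : Ideal.map (π₀.comp (H6_PPof ρ)) (H6_nn ρ) ≤ IsLocalRing.maximalIdeal R.carrier := by
    rw [Ideal.map_le_iff_le_comap]
    intro i hi
    rw [Ideal.mem_comap, CRing.mem_maximalIdeal_iff]
    show R.res (π₀ (H6_PPof ρ i)) = 0
    have h1 : R.res (π₀ (H6_PPof ρ i)) = H6_PPres ρ (H6_PPof ρ i) :=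
      congrArg (fun f : H6_PP ρ →ₐ[Λ] k => f (H6_PPof ρ i)) hπ₀
    rw [h1]
    have : H6_PPres ρ (H6_PPof ρ i) = ρ i :=
      congrArg (fun f : MvPolynomial (Fin N) Λ →ₐ[Λ] k => f i) (H6_PPres_comp_of ρ)
    rw [this]
    exact hi
  have hu : ∀ i ∈ (H6_nn ρ) ^ j, u (H6_PPof ρ i) = 0 := by
    intro i hi
    show ψ (π₀ (H6_PPof ρ i)) = 0
    apply hψj
    have h1 : (π₀.comp (H6_PPof ρ)) i ∈ Ideal.map (π₀.comp (H6_PPof ρ)) ((H6_nn ρ) ^ j) :=
      Ideal.mem_map_of_mem _ hi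
    rw [Ideal.map_pow] at h1
    exact Ideal.pow_right_mono hθ j h1
  obtain ⟨v₀, hv₀⟩ := H6_PP_formallySmooth ρ J hJ2 u j hu
  let v : P.carrier →ₐ[Λ] C := v₀
  have hv' : ∀ p : P.carrier, Ideal.Quotient.mk J (v p) = ψ (π p) := fun p =>
    congrArg (fun f : H6_PP ρ →ₐ[Λ] C ⧸ J => f p) hv₀
  have hvI : ∀ x ∈ I, v x ∈ J := by
    intro x hx
    rw [← Ideal.Quotient.eq_zero_iff_mem]
    have hx0 : π x = 0 := hx
    rw [hv', hx0, map_zero]
  have hvI2 : ∀ x ∈ I ^ 2, v x = 0 := by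
    intro x hx
    rw [sq] at hx
    refine Submodule.mul_induction_on hx ?_ ?_
    · intro a ha b hb
      have h1 : v a * v b ∈ J ^ 2 := by
        rw [sq]
        exact Ideal.mul_mem_mul (hvI a ha) (hvI b hb)
      rw [hJ2] at h1
      rw [map_mul]
      exact h1
    · intro a b ha hb
      rw [map_add, ha, hb, add_zero]
  let vb : S'.carrier →ₐ[Λ] C := Ideal.Quotient.liftₐ (I ^ 2) v hvI2
  have hvbmk : ∀ p, vb (mk p) = v p := fun p => rfl
  refine ⟨vb.comp σ, ?_⟩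
  apply AlgHom.ext
  intro r
  show Ideal.Quotient.mk J (vb (σ r)) = ψ r
  obtain ⟨p, hp⟩ := hmks (σ r)
  rw [← hp, hvbmk, hv', ← hqmk, hp, hσ']

end Groth.Agent.Lib.helper6
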