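import Mathlib
import Groth.Prelude.Def_CAlgX
import Groth.Prelude.Def_EGA41

set_option autoImplicit false
set_option linter.style.haveILetI false

namespace Groth.Agent.Lib.helper6

universe u

theorem H6_adicfs_trans {R K B : Type u} [CommRing R] [CommRing K] [CommRing B] [Algebra R K]
    [Algebra K B] [Algebra R B] [IsScalarTower R K B]
    [Algebra.FormallySmooth R K] (𝔫 : Ideal B) (h : CAlgX.IsAdicFormallySmooth K B 𝔫) :
    CAlgX.IsAdicFormallySmooth R B 𝔫 := by
  intro E _ _ J hJ ψ hk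
  obtain ⟨k, hk⟩ := hk
  have hnil : IsNilpotent J := ⟨2, by rw [hJ]; rfl⟩
  obtain ⟨f, hf⟩ := Algebra.FormallySmooth.exists_lift J hnil
    (ψ.comp (IsScalarTower.toAlgHom R K B))
  letI : Algebra K E := f.toRingHom.toAlgebra
  haveI : IsScalarTower R K E := IsScalarTower.of_algebraMap_eq (fun r => (f.commutes r).symm)
  let ψ' : B →ₐ[K] E ⧸ J :=
    { ψ.toRingHom with
      commutes' := fun x => by
        have h1 := congrArg (fun g => g x) hf
        exact h1.symm }
  obtain ⟨χ, hχ⟩ := h E J hJ ψ' ⟨k, hk⟩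
  refine ⟨χ.restrictScalars R, ?_⟩
  ext t
  exact congrArg (fun g => g t) hχ

theorem H6_adicfs_of_ega {A B : Type u} [CommRing A] [CommRing B] [Algebra A B] (𝔟 : Ideal B)
    (h : EGA41.IsFormallySmoothAdic A ⊥ B 𝔟) : CAlgX.IsAdicFormallySmooth A B 𝔟 := by
  intro E _ _ J hJ ψ hk
  have hnil : IsNilpotent J := ⟨2, by rw [hJ]; rfl⟩
  refine h E J hnil ⟨1, ?_⟩ ψ hk
  rw [pow_one, Ideal.map_bot]

lemma H6_fs_char0 (K : Type u) [Field K] [CharZero K] : Algebra.FormallySmooth ℚ K := by
  obtain ⟨ι, v, hv⟩ := exists_isTranscendenceBasis' ℚ K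
  haveI : Algebra.IsAlgebraic (IntermediateField.adjoin ℚ (Set.range v)) K :=
    hv.isAlgebraic_field
  haveI : Algebra.IsSeparable (IntermediateField.adjoin ℚ (Set.range v)) K :=
    Algebra.IsAlgebraic.isSeparable_of_perfectField
  exact Algebra.FormallySmooth.of_algebraicIndependent_of_isSeparable hv.1

lemma H6_maxIdeal_ps {σ : Type*} (K : Type u) [Field K] :
    IsLocalRing.maximalIdeal (MvPowerSeries σ K) =
      RingHom.ker (MvPowerSeries.constantCoeff : MvPowerSeries σ K →+* K) := by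
  ext x
  rw [IsLocalRing.mem_maximalIdeal, mem_nonunits_iff, RingHom.mem_ker,
    MvPowerSeries.isUnit_iff_constantCoeff, isUnit_iff_ne_zero, not_not]

end Groth.Agent.Lib.helper6
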