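import Mathlib
import Groth.Prelude.Def_ArtFun5
import Groth.Agent.Lib.helper6.ArtTan

set_option autoImplicit false
universe u v

open ArtFun ArtFun.Art CategoryTheory

namespace Groth.Agent.Lib.helper6

variable {Λ : Type u} {k : Type u} [CommRing Λ] [Field k] [Algebra Λ k]

/-- A versal family classifies every formal element (given surjectivity on the residue level). -/
theorem H6_versal_classify {F : Art Λ k ⥤ Type v}
    (R : CRing Λ k) (ξ : Family R.carrier R.res F) (hξ : IsVersal ξ)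
    (S : CRing Λ k) (η : FormalElt F S) (hsurj0 : Function.Surjective (ξ.app (S.trunc 0))) :
    ∃ (g : R.carrier →ₐ[Λ] S.carrier) (hg : S.res.comp g = R.res), (ξ.along g hg).toFormalElt = η := by
  classical
  haveI : IsAdicComplete (IsLocalRing.maximalIdeal S.carrier) S.carrier := S.isAdicComplete
  have htm : ∀ n, Function.Surjective (S.truncMap n) := by
    intro n x
    obtain ⟨a, rfl⟩ := Ideal.Quotient.mk_surjective x
    exact ⟨Ideal.Quotient.mk _ a, rfl⟩
  let T : ℕ → Type u := fun n => {g : ArtFun.HomSet R.carrier R.res (S.trunc n) // ξ.app _ g = η.elt n}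
  have step : ∀ n (g : T n), ∃ g' : T (n + 1), ArtFun.HomSet.map (S.truncMap n) g'.1 = g.1 := by
    intro n g
    obtain ⟨ψ, hψ1, hψ2⟩ := hξ (S.truncMap n) (htm n) g.1 (η.elt (n + 1)) (by rw [η.compat, g.2])
    exact ⟨⟨ψ, hψ2⟩, hψ1⟩
  choose next hnext using step
  obtain ⟨g0, hg0⟩ := hsurj0 (η.elt 0)
  let seq : ∀ n, T n := fun n => Nat.rec (motive := T) ⟨g0, hg0⟩ (fun n u => next n u) n
  have hseq : ∀ n, seq (n + 1) = next n (seq n) := fun n => rfl
  let I := IsLocalRing.maximalIdeal S.carrier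
  let γ : ∀ n : ℕ, R.carrier →ₐ[Λ] S.carrier ⧸ I ^ (n + 1) := fun n => (seq n).1.1
  have hle1 : ∀ n : ℕ, I ^ (n + 1) ≤ I ^ n := fun n => Ideal.pow_le_pow_right (Nat.le_succ n)
  have hfac : ∀ n (x : S.carrier ⧸ I ^ (n + 1 + 1)),
      Ideal.Quotient.factorₐ Λ (hle1 (n + 1)) x =
        (S.truncMap n).toAlgHom x := by
    intro n x
    obtain ⟨s, rfl⟩ := Ideal.Quotient.mk_surjective x
    rfl
  have hγ : ∀ n (r : R.carrier),
      Ideal.Quotient.factorₐ Λ (hle1 (n + 1)) (γ (n + 1) r) = γ n r := by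
    intro n r
    have h1 := hnext n (seq n)
    rw [← hseq] at h1
    have h2 : (S.truncMap n).toAlgHom (γ (n + 1) r) = γ n r :=
      congrArg (fun ψ : ArtFun.HomSet R.carrier R.res (S.trunc n) => ψ.1 r) h1
    exact (hfac n _).trans h2
  -- the compatible system
  let f : ∀ n : ℕ, R.carrier →ₐ[Λ] S.carrier ⧸ I ^ n := fun n =>
    (Ideal.Quotient.factorₐ Λ (hle1 n)).comp (γ n)
  have hf1 : ∀ n, (Ideal.Quotient.factorₐ Λ (hle1 n)).comp (f (n + 1)) = f n := by
    intro n
    apply AlgHom.ext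
    intro r
    exact congrArg _ (hγ n r)
  have hf : ∀ {m n : ℕ} (hle : m ≤ n),
      (Ideal.Quotient.factorₐ Λ (Ideal.pow_le_pow_right hle)).comp (f n) = f m := by
    intro m n hle
    induction n, hle using Nat.le_induction with
    | base =>
      rw [Ideal.Quotient.factorₐ_refl]
      exact AlgHom.id_comp _
    | succ n hmn ih =>
      have hmn' : I ^ n ≤ I ^ m := Ideal.pow_le_pow_right hmn
      calc (Ideal.Quotient.factorₐ Λ ((hle1 n).trans hmn')).comp (f (n + 1))
          = ((Ideal.Quotient.factorₐ Λ hmn').comp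
              (Ideal.Quotient.factorₐ Λ (hle1 n))).comp (f (n + 1)) := by
            rw [Ideal.Quotient.factorₐ_comp]
        _ = (Ideal.Quotient.factorₐ Λ hmn').comp
              ((Ideal.Quotient.factorₐ Λ (hle1 n)).comp (f (n + 1))) :=
            AlgHom.comp_assoc _ _ _
        _ = (Ideal.Quotient.factorₐ Λ hmn').comp (f n) := by rw [hf1 n]
        _ = f m := ih
  let g : R.carrier →ₐ[Λ] S.carrier := IsAdicComplete.liftAlgHom I f hf
  have hgmk : ∀ n (r : R.carrier), Ideal.Quotient.mk (I ^ (n + 1)) (g r) = γ n r := by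
    intro n r
    have h1 : Ideal.Quotient.mk (I ^ (n + 1)) (g r) = f (n + 1) r :=
      IsAdicComplete.mk_liftAlgHom I f hf (n + 1) r
    exact h1.trans (hγ n r)
  have hg : S.res.comp g = R.res := by
    apply AlgHom.ext
    intro r
    show S.res (g r) = R.res r
    have h1 : (S.trunc 0).res (Ideal.Quotient.mk (I ^ (0 + 1)) (g r)) = S.res (g r) := rfl
    rw [← h1, hgmk 0 r]
    exact congrArg (fun ψ : R.carrier →ₐ[Λ] k => ψ r) (seq 0).1.2
  refine ⟨g, hg, ?_⟩
  apply ArtFun.FormalElt.ext'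
  intro n
  show ξ.app _ _ = η.elt n
  rw [← (seq n).2]
  congr 1
  apply Subtype.ext
  apply AlgHom.ext
  intro r
  exact hgmk n r

end Groth.Agent.Lib.helper6
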