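import Mathlib
import Groth.Prelude.Def_ArtFun
import Groth.Agent.Lib.helper6.ArtFin

set_option autoImplicit false
universe u v

open ArtFun

namespace Groth.Agent.Lib.helper6

variable {Λ : Type u} {k : Type u} [CommRing Λ] [Field k] [Algebra Λ k]

/-- A separable element of `k` over the image of `Λ` is a simple root of a monic polynomial over `Λ`. -/
theorem H6_exists_sep_poly [Algebra.IsSeparable (↥(algebraMap Λ k).range) k] (c : k) :
    ∃ G : Polynomial Λ, G.Monic ∧ Polynomial.aeval c G = 0 ∧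
      Polynomial.aeval c (Polynomial.derivative G) ≠ 0 := by
  classical
  let φ : Λ →+* ↥(algebraMap Λ k).range := (algebraMap Λ k).rangeRestrict
  have hφ : Function.Surjective φ := (algebraMap Λ k).rangeRestrict_surjective
  have hint : IsIntegral (↥(algebraMap Λ k).range) c := Algebra.IsSeparable.isIntegral _ c
  have hsep : (minpoly (↥(algebraMap Λ k).range) c).Separable :=
    Algebra.IsSeparable.isSeparable (↥(algebraMap Λ k).range) c
  have hmonic := minpoly.monic hint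
  have hlift : minpoly (↥(algebraMap Λ k).range) c ∈ Polynomial.lifts φ := by
    rw [Polynomial.mem_lifts]
    exact Polynomial.map_surjective φ hφ _
  obtain ⟨G, hG, -, hGm⟩ := Polynomial.lifts_and_degree_eq_and_monic hlift hmonic
  have hcomp : (algebraMap (↥(algebraMap Λ k).range) k).comp φ = algebraMap Λ k := by
    ext x
    rfl
  have key : ∀ Q : Polynomial Λ, Polynomial.aeval c Q = Polynomial.aeval c (Q.map φ) := by
    intro Q
    rw [Polynomial.aeval_def, Polynomial.aeval_def, Polynomial.eval₂_map, hcomp]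
  refine ⟨G, hGm, ?_, ?_⟩
  · rw [key, hG, minpoly.aeval]
  · rw [key, ← Polynomial.derivative_map, hG]
    exact hsep.aeval_derivative_ne_zero (minpoly.aeval _ c)

/-- Hensel lifting of residue classes to common roots in a pair of objects. -/
theorem H6_art_common_lift [IsNoetherianRing Λ] [Module.Finite Λ k]
    [Algebra.IsSeparable (↥(algebraMap Λ k).range) k]
    {A A₁ A₂ : Art Λ k} (f₁ : A₁ ⟶ A) (f₂ : A₂ ⟶ A) (c : k) :
    ∃ (a₁ : A₁) (a₂ : A₂), f₁ a₁ = f₂ a₂ ∧ A₁.res a₁ = c := by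
  classical
  obtain ⟨G, hGm, hG0, hG1⟩ := H6_exists_sep_poly (Λ := Λ) c
  -- Hensel lifting in an object
  have hensel : ∀ (B : Art Λ k), ∃ b : B, Polynomial.aeval b G = 0 ∧ B.res b = c := by
    intro B
    obtain ⟨b₀, hb₀⟩ := B.res_surjective c
    have hres : ∀ Q : Polynomial Λ, B.res (Polynomial.aeval b₀ Q) = Polynomial.aeval c Q := by
      intro Q
      rw [← Polynomial.aeval_algHom_apply, hb₀]
    have h1 : (G.map (algebraMap Λ B)).eval b₀ ∈ IsLocalRing.maximalIdeal B := by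
      rw [Polynomial.eval_map_algebraMap, Art.mem_maximalIdeal_iff, hres, hG0]
    have h2 : IsUnit ((G.map (algebraMap Λ B)).derivative.eval b₀) := by
      rw [Polynomial.derivative_map, Polynomial.eval_map_algebraMap]
      by_contra hnu
      have : Polynomial.aeval b₀ (Polynomial.derivative G) ∈ IsLocalRing.maximalIdeal B := hnu
      rw [Art.mem_maximalIdeal_iff, hres] at this
      exact hG1 this
    obtain ⟨b, hb, hbb₀⟩ := HenselianRing.is_henselian (I := IsLocalRing.maximalIdeal B)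
      (G.map (algebraMap Λ B)) (hGm.map _) b₀ h1 (h2.map _)
    refine ⟨b, ?_, ?_⟩
    · rw [← Polynomial.eval_map_algebraMap]
      exact hb
    · rw [Art.mem_maximalIdeal_iff, map_sub, hb₀, sub_eq_zero] at hbb₀
      exact hbb₀
  obtain ⟨a₁, ha₁, hr₁⟩ := hensel A₁
  obtain ⟨a₂, ha₂, hr₂⟩ := hensel A₂
  refine ⟨a₁, a₂, ?_, hr₁⟩
  have e1 : (G.map (algebraMap Λ A)).eval (f₁ a₁) = 0 := by
    rw [Polynomial.eval_map_algebraMap]
    have : Polynomial.aeval (f₁.toAlgHom a₁) G = f₁.toAlgHom (Polynomial.aeval a₁ G) :=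
      Polynomial.aeval_algHom_apply f₁.toAlgHom a₁ G
    rw [ha₁, map_zero] at this
    exact this
  have e2 : (G.map (algebraMap Λ A)).eval (f₂ a₂) = 0 := by
    rw [Polynomial.eval_map_algebraMap]
    have : Polynomial.aeval (f₂.toAlgHom a₂) G = f₂.toAlgHom (Polynomial.aeval a₂ G) :=
      Polynomial.aeval_algHom_apply f₂.toAlgHom a₂ G
    rw [ha₂, map_zero] at this
    exact this
  have hres1 : A.res (f₁ a₁) = c := by rw [Art.res_app f₁ a₁, hr₁]
  have hres2 : A.res (f₂ a₂) = c := by rw [Art.res_app f₂ a₂, hr₂]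
  apply IsLocalRing.eq_of_eval_eq_zero_of_not_isUnit_sub e1 e2
  · show f₁ a₁ - f₂ a₂ ∈ IsLocalRing.maximalIdeal A
    rw [Art.mem_maximalIdeal_iff, map_sub, hres1, hres2, sub_self]
  · rw [Polynomial.derivative_map, Polynomial.eval_map_algebraMap]
    by_contra hnu
    have : Polynomial.aeval (f₁ a₁) (Polynomial.derivative G) ∈ IsLocalRing.maximalIdeal A := hnu
    rw [Art.mem_maximalIdeal_iff, ← Polynomial.aeval_algHom_apply, hres1] at this
    exact hG1 this

/-- Fibre products exist in `Art Λ k` as soon as residue classes lift to the set-theoretic fibre product. -/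
theorem H6_art_pullback_exists_of_lift [IsNoetherianRing Λ] [Module.Finite Λ k]
    {A A₁ A₂ : Art Λ k} (f₁ : A₁ ⟶ A) (f₂ : A₂ ⟶ A)
    (hlift : ∀ c : k, ∃ (a₁ : A₁) (a₂ : A₂), f₁ a₁ = f₂ a₂ ∧ A₁.res a₁ = c) :
    ∃ (B : Art Λ k) (p₁ : B ⟶ A₁) (p₂ : B ⟶ A₂), Art.IsFibreProd p₁ p₂ f₁ f₂ := by
  classical
  haveI : IsLocalHom f₁.toAlgHom := Art.isLocalHom f₁
  haveI : IsLocalHom f₂.toAlgHom := Art.isLocalHom f₂
  let B := AlgHom.pullback f₁.toAlgHom f₂.toAlgHom
  haveI hloc : IsLocalRing B := AlgHom.isLocalRing_pullback f₁.toAlgHom f₂.toAlgHom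
  haveI : Module.Finite Λ A₁ := H6_art_finite A₁
  haveI : Module.Finite Λ A₂ := H6_art_finite A₂
  haveI : IsNoetherian Λ (A₁ × A₂) := inferInstance
  haveI : IsNoetherian Λ B := isNoetherian_submodule' (Subalgebra.toSubmodule B)
  haveI hnoeth : IsNoetherianRing B := isNoetherian_of_tower Λ inferInstance
  let q₁ : B →ₐ[Λ] A₁ := AlgHom.pullbackFst f₁.toAlgHom f₂.toAlgHom
  let q₂ : B →ₐ[Λ] A₂ := AlgHom.pullbackSnd f₁.toAlgHom f₂.toAlgHom
  have hq₁ : ∀ x : B, x ∈ IsLocalRing.maximalIdeal B → q₁ x ∈ IsLocalRing.maximalIdeal A₁ := by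
    intro x hx
    rw [IsLocalRing.mem_maximalIdeal, mem_nonunits_iff] at hx ⊢
    intro hu
    apply hx
    obtain ⟨⟨a₁, a₂⟩, hmem⟩ := x
    rw [AlgHom.isUnit_pullback_mk_iff]
    refine ⟨hu, ?_⟩
    have hmem' : f₁.toAlgHom a₁ = f₂.toAlgHom a₂ := hmem
    have : IsUnit (f₂.toAlgHom a₂) := by rw [← hmem']; exact hu.map f₁.toAlgHom
    exact isUnit_of_map_unit f₂.toAlgHom a₂ this
  have hq₂ : ∀ x : B, x ∈ IsLocalRing.maximalIdeal B → q₂ x ∈ IsLocalRing.maximalIdeal A₂ := by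
    intro x hx
    rw [IsLocalRing.mem_maximalIdeal, mem_nonunits_iff] at hx ⊢
    intro hu
    apply hx
    obtain ⟨⟨a₁, a₂⟩, hmem⟩ := x
    rw [AlgHom.isUnit_pullback_mk_iff]
    refine ⟨?_, hu⟩
    have hmem' : f₁.toAlgHom a₁ = f₂.toAlgHom a₂ := hmem
    have : IsUnit (f₁.toAlgHom a₁) := by rw [hmem']; exact hu.map f₂.toAlgHom
    exact isUnit_of_map_unit f₁.toAlgHom a₁ this
  obtain ⟨N₁, hN₁⟩ := (isArtinianRing_iff_isNilpotent_maximalIdeal A₁).mp inferInstance
  obtain ⟨N₂, hN₂⟩ := (isArtinianRing_iff_isNilpotent_maximalIdeal A₂).mp inferInstance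
  haveI hart : IsArtinianRing B := by
    rw [isArtinianRing_iff_isNilpotent_maximalIdeal]
    refine ⟨N₁ + N₂, ?_⟩
    rw [Ideal.zero_eq_bot, eq_bot_iff]
    intro x hx
    have h1 : q₁ x = 0 := by
      have : q₁ x ∈ Ideal.map q₁ (IsLocalRing.maximalIdeal B ^ (N₁ + N₂)) :=
        Ideal.mem_map_of_mem _ hx
      rw [Ideal.map_pow] at this
      have hle : Ideal.map q₁ (IsLocalRing.maximalIdeal B) ≤ IsLocalRing.maximalIdeal A₁ := by
        rw [Ideal.map_le_iff_le_comap]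
        intro y hy
        exact hq₁ y hy
      have := Ideal.pow_right_mono hle (N₁ + N₂) this
      rw [pow_add, hN₁] at this
      simpa using this
    have h2 : q₂ x = 0 := by
      have : q₂ x ∈ Ideal.map q₂ (IsLocalRing.maximalIdeal B ^ (N₁ + N₂)) :=
        Ideal.mem_map_of_mem _ hx
      rw [Ideal.map_pow] at this
      have hle : Ideal.map q₂ (IsLocalRing.maximalIdeal B) ≤ IsLocalRing.maximalIdeal A₂ := by
        rw [Ideal.map_le_iff_le_comap]
        intro y hy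
        exact hq₂ y hy
      have := Ideal.pow_right_mono hle (N₁ + N₂) this
      rw [pow_add, hN₂] at this
      simpa using this
    rw [Ideal.mem_bot]
    apply Subtype.ext
    exact Prod.ext h1 h2
  have hressurj : Function.Surjective (A₁.res.comp q₁) := by
    intro c
    obtain ⟨a₁, a₂, h12, hc⟩ := hlift c
    exact ⟨⟨(a₁, a₂), h12⟩, hc⟩
  let Bo : Art Λ k := Art.of B (A₁.res.comp q₁) hressurj
  have hres₂ : A₂.res.comp q₂ = A₁.res.comp q₁ := by
    ext ⟨⟨a₁, a₂⟩, hmem⟩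
    have hmem' : f₁.toAlgHom a₁ = f₂.toAlgHom a₂ := hmem
    show A₂.res a₂ = A₁.res a₁
    rw [← Art.res_app f₂ a₂, ← Art.res_app f₁ a₁]
    exact congrArg A.res hmem'.symm
  let p₁ : Bo ⟶ A₁ := Art.homMk q₁ rfl
  let p₂ : Bo ⟶ A₂ := Art.homMk q₂ hres₂
  refine ⟨Bo, p₁, p₂, ?_, ?_, ?_⟩
  · apply Art.hom_ext
    exact AlgHom.pullback_comm_sq f₁.toAlgHom f₂.toAlgHom
  · intro b₁ b₂ h1 h2
    apply Subtype.ext
    exact Prod.ext h1 h2
  · intro a' a'' h
    exact ⟨⟨(a', a''), h⟩, rfl, rfl⟩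

end Groth.Agent.Lib.helper6
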