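import Mathlib
import Groth.Prelude.Def_ArtFun2
import Groth.Agent.Lib.helper6.ArtSurj
import Groth.Agent.Lib.helper6.ArtPull
import Groth.Agent.Lib.helper6.ArtPullSep
import Groth.Agent.Lib.helper6.ArtQuot

set_option autoImplicit false
universe u v

open ArtFun ArtFun.Art CategoryTheory

namespace Groth.Agent.Lib.helper6

variable {Λ : Type u} {k : Type u} [CommRing Λ] [Field k] [Algebra Λ k]

/-- Essential surjections. -/
def H6_IsEss {A B : Art Λ k} (f : B ⟶ A) : Prop :=
  Function.Surjective f ∧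
    ∀ (C : Art Λ k) (g : C ⟶ B), Function.Surjective (g ≫ f) → Function.Surjective g

/-- The ideal `m_Λ A + m_A²`. -/
def H6_relI (A : Art Λ k) : Ideal A :=
  Ideal.map (algebraMap Λ A) (RingHom.ker (algebraMap Λ k)) ⊔ IsLocalRing.maximalIdeal A ^ 2

theorem H6_mLambda_le_maximalIdeal (B : Art Λ k) :
    Ideal.map (algebraMap Λ B) (RingHom.ker (algebraMap Λ k)) ≤ IsLocalRing.maximalIdeal B := by
  rw [Ideal.map_le_iff_le_comap]
  intro l hl
  rw [Ideal.mem_comap, Art.mem_maximalIdeal_iff, AlgHom.commutes]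
  exact hl

theorem H6_relI_le (B : Art Λ k) : H6_relI B ≤ IsLocalRing.maximalIdeal B :=
  sup_le (H6_mLambda_le_maximalIdeal B) (Ideal.pow_le_self two_ne_zero)

theorem H6_mLambda_le_map {C B : Art Λ k} (g : C ⟶ B) :
    Ideal.map (algebraMap Λ B) (RingHom.ker (algebraMap Λ k)) ≤
      Ideal.map g.toAlgHom (IsLocalRing.maximalIdeal C) := by
  rw [Ideal.map_le_iff_le_comap]
  intro l hl
  rw [Ideal.mem_comap, ← g.toAlgHom.commutes l]
  apply Ideal.mem_map_of_mem
  rw [Art.mem_maximalIdeal_iff, AlgHom.commutes]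
  exact hl

theorem H6_surjective_of_relCotangent [IsNoetherianRing Λ] [Module.Finite Λ k] {C B : Art Λ k}
    (g : C ⟶ B)
    (h : IsLocalRing.maximalIdeal B ≤ Ideal.map (algebraMap Λ B) (RingHom.ker (algebraMap Λ k)) ⊔
      Ideal.map g.toAlgHom (IsLocalRing.maximalIdeal C) ⊔ IsLocalRing.maximalIdeal B ^ 2) :
    Function.Surjective g := by
  apply H6_surjective_of_cotangent g
  apply le_antisymm (sup_le (H6_map_maximalIdeal_le g) (Ideal.pow_le_self two_ne_zero))
  exact h.trans (sup_le (sup_le ((H6_mLambda_le_map g).trans le_sup_left) le_sup_left) le_sup_right)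

theorem H6_surjective_of_comp_rel [IsNoetherianRing Λ] [Module.Finite Λ k] {C B B' : Art Λ k}
    (g : C ⟶ B) (q : B ⟶ B') (hker : RingHom.ker q.toAlgHom ≤ H6_relI B)
    (h : Function.Surjective (g ≫ q)) : Function.Surjective g := by
  apply H6_surjective_of_relCotangent g
  intro b hb
  obtain ⟨c, hc⟩ := h (q b)
  have hc' : q (g c) = q b := hc
  have hcm : c ∈ IsLocalRing.maximalIdeal C := by
    rw [Art.mem_maximalIdeal_iff, ← Art.res_app g c, ← Art.res_app q (g c), hc', Art.res_app q b]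
    exact (Art.mem_maximalIdeal_iff B b).1 hb
  have hk : g c - b ∈ H6_relI B := by
    apply hker
    rw [RingHom.mem_ker]
    show q.toAlgHom (g c - b) = 0
    rw [map_sub]
    exact sub_eq_zero.2 hc'
  have hb' : b = g c - (g c - b) := by ring
  rw [hb']
  have h1 : g c ∈ Ideal.map g.toAlgHom (IsLocalRing.maximalIdeal C) := Ideal.mem_map_of_mem _ hcm
  rcases Submodule.mem_sup.1 hk with ⟨x, hx, y, hy, hxy⟩
  rw [← hxy]
  have : g c - (x + y) = (-x + g c) + (-y) := by ring
  rw [this]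
  exact Ideal.add_mem _ (Ideal.mem_sup_left (Ideal.add_mem _ (Ideal.mem_sup_left
    ((Ideal.neg_mem_iff _).2 hx)) (Ideal.mem_sup_right h1)))
    (Ideal.mem_sup_right ((Ideal.neg_mem_iff _).2 hy))

/-- Factor a morphism through a surjection killing it. -/
theorem H6_factor_of_surjective {A B D : Art Λ k} (f : B ⟶ A) (hf : Function.Surjective f)
    (χ : B ⟶ D) (h : ∀ b, f b = 0 → χ b = 0) : ∃ χ' : A ⟶ D, f ≫ χ' = χ := by
  have H : RingHom.ker f.toAlgHom.toRingHom ≤ RingHom.ker χ.toAlgHom.toRingHom := by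
    intro b hb
    exact h b hb
  let ψ : A →ₐ[Λ] D := AlgHom.liftOfSurjective f.toAlgHom hf χ.toAlgHom H
  have hψ : ∀ b, ψ (f b) = χ b := fun b => AlgHom.liftOfSurjective_apply f.toAlgHom hf χ.toAlgHom H b
  refine ⟨Art.homMk ψ ?_, ?_⟩
  · apply AlgHom.ext
    intro a
    obtain ⟨b, rfl⟩ := hf a
    show D.res (ψ (f b)) = A.res (f b)
    rw [hψ, Art.res_app χ b, Art.res_app f b]
  · apply Art.hom_ext
    apply AlgHom.ext
    intro b
    exact hψ b

/-- Key fact: essential surjections are the surjections which are bijective on tangent vectors. -/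
theorem H6_isEss_iff_tangent [IsNoetherianRing Λ] [Module.Finite Λ k] {A B : Art Λ k} (f : B ⟶ A) :
    H6_IsEss f ↔ (Function.Surjective f ∧ ∀ χ : B ⟶ dual Λ k, ∃ χ' : A ⟶ dual Λ k, f ≫ χ' = χ) := by
  constructor
  · rintro ⟨hf, hess⟩
    refine ⟨hf, fun χ => ?_⟩
    apply H6_factor_of_surjective f hf χ
    intro n hn
    by_contra hχn
    have hnm : n ∈ IsLocalRing.maximalIdeal B := H6_ker_le_maximalIdeal f hn
    have hres : (dual Λ k).res (χ n) = 0 := by
      rw [Art.res_app χ n]; exact (Art.mem_maximalIdeal_iff B n).1 hnm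
    have hsn : H6_sn (χ n) ≠ 0 := by
      intro h0
      apply hχn
      apply H6_dual_ext
      · rw [hres, map_zero]
      · rw [h0, H6_sn_zero]
    -- adjusting elements
    have hadj : ∀ b₀ : B, ∃ b : B, f b = f b₀ ∧ H6_sn (χ b) = 0 := by
      intro b₀
      obtain ⟨b₁, hb₁⟩ := B.res_surjective (H6_sn (χ b₀) / H6_sn (χ n))
      refine ⟨b₀ - b₁ * n, ?_, ?_⟩
      · show f.toAlgHom (b₀ - b₁ * n) = f.toAlgHom b₀
        rw [map_sub, map_mul]
        have : f.toAlgHom n = 0 := hn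
        rw [this, mul_zero, sub_zero]
      · show H6_sn (χ.toAlgHom (b₀ - b₁ * n)) = 0
        rw [map_sub, map_mul]
        have e : ∀ x y : (dual Λ k : Art Λ k), H6_sn (x - y) = H6_sn x - H6_sn y := by
          intro x y
          have := H6_sn_add (Λ := Λ) (x - y) y
          rw [sub_add_cancel] at this
          rw [this, add_sub_cancel_right]
        rw [e, H6_sn_mul]
        have h1 : (dual Λ k).res (χ.toAlgHom b₁) = H6_sn (χ b₀) / H6_sn (χ n) := by
          rw [← hb₁]; exact Art.res_app χ b₁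
        have h2 : (dual Λ k).res (χ.toAlgHom n) = 0 := hres
        rw [h1, h2, zero_mul, add_zero]
        show H6_sn (χ b₀) - H6_sn (χ b₀) / H6_sn (χ n) * H6_sn (χ n) = 0
        rw [div_mul_cancel₀ _ hsn, sub_self]
    -- the pullback
    have hsnb : ∀ a₂ : (base Λ k : Art Λ k), H6_sn ((baseToDual : base Λ k ⟶ dual Λ k) a₂) = 0 := by
      intro a₂
      show (algebraMap k (DualNumber k) a₂).snd = 0
      rw [TrivSqZeroExt.algebraMap_eq_inl, TrivSqZeroExt.snd_inl]
    have hχb : ∀ b : B, H6_sn (χ b) = 0 →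
        χ b = (baseToDual : base Λ k ⟶ dual Λ k) ((toBase B) b) := by
      intro b hb
      apply H6_dual_ext
      · rw [Art.res_app, Art.res_app]
        rfl
      · rw [hb, hsnb]
    have hlift : ∀ c : k, ∃ (a₁ : B) (a₂ : (base Λ k : Art Λ k)),
        χ a₁ = (baseToDual : base Λ k ⟶ dual Λ k) a₂ ∧ B.res a₁ = c := by
      intro c
      obtain ⟨b₀, hb₀⟩ := B.res_surjective c
      obtain ⟨b, hb, hb'⟩ := hadj b₀
      refine ⟨b, (toBase B) b, hχb b hb', ?_⟩
      rw [← Art.res_app f b, hb, Art.res_app f b₀, hb₀]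
    obtain ⟨C, p₁, p₂, hfp⟩ := H6_art_pullback_exists_of_lift χ (baseToDual : base Λ k ⟶ dual Λ k) hlift
    have hsurj : Function.Surjective (p₁ ≫ f) := by
      intro a
      obtain ⟨b₀, rfl⟩ := hf a
      obtain ⟨b, hb, hb'⟩ := hadj b₀
      obtain ⟨c, hc, -⟩ := hfp.surj b ((toBase B) b) (hχb b hb')
      refine ⟨c, ?_⟩
      show f (p₁ c) = f b₀
      rw [hc, hb]
    obtain ⟨c, hc⟩ := hess C p₁ hsurj n
    apply hsn
    rw [← hc, hfp.w_apply c, hsnb]
  · rintro ⟨hf, hχ⟩
    refine ⟨hf, fun C g hg => ?_⟩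
    apply H6_surjective_of_tangent_injective g
    intro χ₁ χ₂ h12
    obtain ⟨χ₁', rfl⟩ := hχ χ₁
    obtain ⟨χ₂', rfl⟩ := hχ χ₂
    have : χ₁' = χ₂' := by
      apply Art.hom_ext
      apply AlgHom.ext
      intro a
      obtain ⟨c, rfl⟩ := hg a
      have := congrArg (fun φ => φ c) h12
      exact this
    rw [this]

/-- (1) ⇔ (3): essentiality can be tested after dividing by `m_Λ + m²`. -/
theorem H6_isEss_iff_quot [IsNoetherianRing Λ] [Module.Finite Λ k]
    {A B A' B' : Art Λ k} (f : B ⟶ A)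
    (qB : B ⟶ B') (hqB : Function.Surjective qB)
    (hkB : RingHom.ker qB.toAlgHom = H6_relI B)
    (qA : A ⟶ A') (hqA : Function.Surjective qA)
    (hkA : RingHom.ker qA.toAlgHom = H6_relI A)
    (f' : B' ⟶ A') (hf' : qB ≫ f' = f ≫ qA) :
    H6_IsEss f ↔ H6_IsEss f' := by
  have hcomm : ∀ b, f' (qB b) = qA (f b) := fun b => congrArg (fun φ => φ b) hf'
  constructor
  · rintro ⟨hf, hess⟩
    have hf's : Function.Surjective f' := by
      intro a'
      obtain ⟨a, rfl⟩ := hqA a'
      obtain ⟨b, rfl⟩ := hf a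
      exact ⟨qB b, hcomm b⟩
    refine ⟨hf's, fun C g hg => ?_⟩
    obtain ⟨D, p₁, p₂, hfp⟩ := H6_art_pullback_exists g qB hqB
    have hp₁ : Function.Surjective p₁ := by
      intro c
      obtain ⟨b, hb⟩ := hqB (g c)
      obtain ⟨d, hd, -⟩ := hfp.surj c b hb.symm
      exact ⟨d, hd⟩
    have hsurj : Function.Surjective (p₂ ≫ f) := by
      apply H6_surjective_of_comp_rel (p₂ ≫ f) qA hkA.le
      intro a'
      obtain ⟨c, hc⟩ := hg a'
      obtain ⟨d, rfl⟩ := hp₁ c
      refine ⟨d, ?_⟩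
      show qA (f (p₂ d)) = a'
      rw [← hcomm, ← hfp.w_apply d]
      exact hc
    have hp₂ : Function.Surjective p₂ := hess D p₂ hsurj
    intro b'
    obtain ⟨b, rfl⟩ := hqB b'
    obtain ⟨d, rfl⟩ := hp₂ b
    exact ⟨p₁ d, hfp.w_apply d⟩
  · rintro ⟨hf's, hess⟩
    have hf : Function.Surjective f := by
      apply H6_surjective_of_comp_rel f qA hkA.le
      rw [← hf']
      intro a'
      obtain ⟨b', rfl⟩ := hf's a'
      obtain ⟨b, rfl⟩ := hqB b'
      exact ⟨b, rfl⟩
    refine ⟨hf, fun C g hg => ?_⟩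
    apply H6_surjective_of_comp_rel g qB hkB.le
    apply hess C (g ≫ qB)
    rw [Category.assoc, hf', ← Category.assoc]
    intro a'
    obtain ⟨a, rfl⟩ := hqA a'
    obtain ⟨c, rfl⟩ := hg a
    exact ⟨c, rfl⟩

/-- Morphisms to the dual numbers kill `m_Λ A + m_A²`. -/
theorem H6_dual_kills_relI {A : Art Λ k} (χ : A ⟶ dual Λ k) (a : A) (ha : a ∈ H6_relI A) :
    χ a = 0 := by
  have hle : H6_relI A ≤ RingHom.ker χ.toAlgHom := by
    apply sup_le
    · rw [Ideal.map_le_iff_le_comap]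
      intro l hl
      rw [Ideal.mem_comap, RingHom.mem_ker, AlgHom.commutes]
      apply H6_dual_ext
      · rw [AlgHom.commutes, map_zero]; exact hl
      · rw [H6_sn_algebraMap, H6_sn_zero]
    · rw [sq, Ideal.mul_le]
      intro x hx y hy
      rw [RingHom.mem_ker, map_mul]
      have hx' : (dual Λ k).res (χ.toAlgHom x) = 0 := by
        rw [Art.res_app χ x]; exact (Art.mem_maximalIdeal_iff A x).1 hx
      have hy' : (dual Λ k).res (χ.toAlgHom y) = 0 := by
        rw [Art.res_app χ y]; exact (Art.mem_maximalIdeal_iff A y).1 hy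
      apply H6_dual_ext
      · rw [map_mul, hx', zero_mul, map_zero]
      · rw [H6_sn_mul, hx', hy', zero_mul, zero_mul, add_zero, H6_sn_zero]
  exact hle ha

/-- The easy direction of the cotangent criterion. -/
theorem H6_isEss_of_relCotangent [IsNoetherianRing Λ] [Module.Finite Λ k] {A B : Art Λ k} (f : B ⟶ A)
    (h1 : Ideal.map (algebraMap Λ A) (RingHom.ker (algebraMap Λ k)) ⊔
        Ideal.map f.toAlgHom (IsLocalRing.maximalIdeal B) ⊔ IsLocalRing.maximalIdeal A ^ 2 =
          IsLocalRing.maximalIdeal A)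
    (h2 : ∀ b ∈ IsLocalRing.maximalIdeal B, f b ∈ H6_relI A → b ∈ H6_relI B) : H6_IsEss f := by
  have hf : Function.Surjective f := H6_surjective_of_relCotangent f h1.ge
  refine ⟨hf, fun C g hg => ?_⟩
  apply H6_surjective_of_relCotangent g
  intro b hb
  obtain ⟨c, hc⟩ := hg (f b)
  have hc' : f (g c) = f b := hc
  have hcm : c ∈ IsLocalRing.maximalIdeal C := by
    rw [Art.mem_maximalIdeal_iff, ← Art.res_app g c, ← Art.res_app f (g c), hc', Art.res_app f b]
    exact (Art.mem_maximalIdeal_iff B b).1 hb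
  have hgc : g c ∈ IsLocalRing.maximalIdeal B := H6_map_maximalIdeal_le g (Ideal.mem_map_of_mem _ hcm)
  have hk : b - g c ∈ H6_relI B := by
    apply h2 _ (Ideal.sub_mem _ hb hgc)
    have : f (b - g c) = 0 := by
      show f.toAlgHom (b - g c) = 0
      rw [map_sub]
      exact sub_eq_zero.2 hc'.symm
    rw [this]
    exact Ideal.zero_mem _
  have hb' : b = g c + (b - g c) := by ring
  rw [hb']
  have h1 : g c ∈ Ideal.map g.toAlgHom (IsLocalRing.maximalIdeal C) := Ideal.mem_map_of_mem _ hcm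
  rcases Submodule.mem_sup.1 hk with ⟨x, hx, y, hy, hxy⟩
  rw [← hxy]
  have : g c + (x + y) = (x + g c) + y := by ring
  rw [this]
  exact Ideal.add_mem _ (Ideal.mem_sup_left (Ideal.add_mem _ (Ideal.mem_sup_left hx)
    (Ideal.mem_sup_right h1))) (Ideal.mem_sup_right hy)

/-- The hard direction of the cotangent criterion, given enough tangent vectors. -/
theorem H6_relCotangent_of_isEss [IsNoetherianRing Λ] [Module.Finite Λ k] {A B : Art Λ k} (f : B ⟶ A)
    (hsep : ∀ b ∈ IsLocalRing.maximalIdeal B, b ∉ H6_relI B → ∃ χ : B ⟶ dual Λ k, χ b ≠ 0)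
    (hess : H6_IsEss f) :
    (Ideal.map (algebraMap Λ A) (RingHom.ker (algebraMap Λ k)) ⊔
        Ideal.map f.toAlgHom (IsLocalRing.maximalIdeal B) ⊔ IsLocalRing.maximalIdeal A ^ 2 =
          IsLocalRing.maximalIdeal A) ∧
    (∀ b ∈ IsLocalRing.maximalIdeal B, f b ∈ H6_relI A → b ∈ H6_relI B) := by
  have hK := (H6_isEss_iff_tangent f).1 hess
  obtain ⟨hf, hχ⟩ := hK
  constructor
  · apply le_antisymm
    · exact sup_le (sup_le (H6_mLambda_le_maximalIdeal A) (H6_map_maximalIdeal_le f))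
        (Ideal.pow_le_self two_ne_zero)
    · intro a ha
      obtain ⟨b, rfl⟩ := hf a
      have hb : b ∈ IsLocalRing.maximalIdeal B := by
        rw [Art.mem_maximalIdeal_iff, ← Art.res_app f b]
        exact (Art.mem_maximalIdeal_iff A _).1 ha
      exact Ideal.mem_sup_left (Ideal.mem_sup_right (Ideal.mem_map_of_mem _ hb))
  · intro b hb hfb
    by_contra hnb
    obtain ⟨χ, hχb⟩ := hsep b hb hnb
    obtain ⟨χ', rfl⟩ := hχ χ
    apply hχb
    exact H6_dual_kills_relI χ' (f b) hfb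

end Groth.Agent.Lib.helper6
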