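import Mathlib
import Groth.Prelude.Def_ArtFun2
import Groth.Agent.Lib.helper6.ArtEss

set_option autoImplicit false
universe u v

open ArtFun ArtFun.Art CategoryTheory
open scoped TensorProduct

namespace Groth.Agent.Lib.helper6

variable {Λ : Type u} {k : Type u} [CommRing Λ] [Field k] [Algebra Λ k]

/-- The `A`-algebra structure on `k` through the augmentation. -/
@[reducible] def H6_algRes (A : Art Λ k) : Algebra A k := A.res.toRingHom.toAlgebra

attribute [local instance] H6_algRes

theorem H6_algRes_smul (A : Art Λ k) (a : A) (c : k) : a • c = A.res a * c := rfl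

instance H6_algRes_tower (A : Art Λ k) : IsScalarTower Λ A k :=
  IsScalarTower.of_algebraMap_eq (fun l => (A.res.commutes l).symm)

/-- The derivation attached to a tangent vector. -/
noncomputable def H6_derOf {A : Art Λ k} (χ : A ⟶ dual Λ k) : Derivation Λ A k :=
  Derivation.mk'
    { toFun := fun a => H6_sn (χ a)
      map_add' := by
        intro a b
        show H6_sn (χ.toAlgHom (a + b)) = _
        rw [map_add, H6_sn_add]
      map_smul' := by
        intro l a
        show H6_sn (χ.toAlgHom (l • a)) = l • H6_sn (χ a)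
        rw [Algebra.smul_def, map_mul, AlgHom.commutes, H6_sn_mul, H6_sn_algebraMap, mul_zero,
          add_zero, AlgHom.commutes, Algebra.smul_def] }
    (by
      intro a b
      show H6_sn (χ.toAlgHom (a * b)) = a • H6_sn (χ b) + b • H6_sn (χ a)
      rw [map_mul, H6_sn_mul, H6_algRes_smul, H6_algRes_smul]
      have h1 : (dual Λ k).res (χ.toAlgHom a) = A.res a := Art.res_app χ a
      have h2 : (dual Λ k).res (χ.toAlgHom b) = A.res b := Art.res_app χ b
      rw [h1, h2])

theorem H6_derOf_apply {A : Art Λ k} (χ : A ⟶ dual Λ k) (a : A) : H6_derOf χ a = H6_sn (χ a) := rfl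

theorem H6_hom_apply_eq {A : Art Λ k} (χ : A ⟶ dual Λ k) (a : A) :
    χ a = H6_dn (A.res a) (H6_derOf χ a) := by
  apply H6_dual_ext
  · rw [H6_res_dn, Art.res_app]
  · rw [H6_sn_dn, H6_derOf_apply]

theorem H6_exists_hom_of_der {A : Art Λ k} (D : Derivation Λ A k) :
    ∃ χ : A ⟶ dual Λ k, H6_derOf χ = D := by
  obtain ⟨χ₀, hχ₀⟩ := H6_homSet_of_derivation A.res (fun a => D a) (fun r s => map_add D r s)
    (fun r s => by
      show D (r * s) = A.res r * D s + A.res s * D r
      rw [Derivation.leibniz]
      rfl)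
    (fun l => D.map_algebraMap l)
  refine ⟨Art.homMk χ₀.1 χ₀.2, ?_⟩
  ext a
  show H6_sn (χ₀.1 a) = D a
  rw [hχ₀, H6_sn_dn]

/-- Surjectivity is detected by relative differentials. -/
theorem H6_surjective_iff_kaehler [IsNoetherianRing Λ] [Module.Finite Λ k]
    {A B : Art Λ k} (f : B ⟶ A) :
    letI : Algebra B A := f.toAlgHom.toRingHom.toAlgebra
    letI : Algebra A k := A.res.toRingHom.toAlgebra
    Function.Surjective f ↔ Subsingleton (k ⊗[A] Ω[A⁄B]) := by
  letI algBA : Algebra B A := f.toAlgHom.toRingHom.toAlgebra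
  have halgBA : ∀ b : B, algebraMap B A b = f b := fun b => rfl
  haveI towerBAk : IsScalarTower B A k :=
    IsScalarTower.of_algebraMap_eq (fun b => (Art.res_app f b).symm)
  show Function.Surjective f ↔ Subsingleton (k ⊗[A] Ω[A⁄B])
  constructor
  · intro hf
    haveI : Subsingleton Ω[A⁄B] := KaehlerDifferential.subsingleton_of_surjective B A hf
    refine ⟨fun x y => ?_⟩
    have h0 : ∀ z : k ⊗[A] Ω[A⁄B], z = 0 := by
      intro z
      induction z using TensorProduct.induction_on with
      | zero => rfl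
      | tmul c ω => rw [Subsingleton.elim ω 0, TensorProduct.tmul_zero]
      | add x y hx hy => rw [hx, hy, add_zero]
    rw [h0 x, h0 y]
  · intro hss
    apply H6_surjective_of_tangent_injective f
    intro χ χ' h12
    have h12' : ∀ b : B, χ (f b) = χ' (f b) := fun b => congrArg (fun φ => φ b) h12
    -- the difference derivation
    let D₀ : Derivation Λ A k := H6_derOf χ - H6_derOf χ'
    have hD₀f : ∀ b : B, D₀ (f b) = 0 := by
      intro b
      show H6_derOf χ (f b) - H6_derOf χ' (f b) = 0
      rw [H6_derOf_apply, H6_derOf_apply, h12', sub_self]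
    let D : Derivation B A k :=
      Derivation.mk'
        { toFun := fun a => D₀ a
          map_add' := fun a a' => map_add D₀ a a'
          map_smul' := by
            intro b a
            show D₀ (b • a) = b • D₀ a
            rw [Algebra.smul_def, Derivation.leibniz, halgBA, hD₀f, smul_zero, add_zero,
              H6_algRes_smul, H6_algRes_smul, Art.res_app f b] }
        (fun a a' => Derivation.leibniz D₀ a a')
    have hD : ∀ a, D a = D₀ a := fun a => rfl
    have hzero : ∀ a, D₀ a = 0 := by
      intro a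
      have h1 : (D.liftKaehlerDifferential.liftBaseChange k) ((1 : k) ⊗ₜ[A] KaehlerDifferential.D B A a)
          = D₀ a := by
        rw [LinearMap.liftBaseChange_tmul, one_smul, Derivation.liftKaehlerDifferential_comp_D, hD]
      rw [← h1, Subsingleton.elim ((1 : k) ⊗ₜ[A] KaehlerDifferential.D B A a) 0, map_zero]
    apply Art.hom_ext
    apply AlgHom.ext
    intro a
    show χ a = χ' a
    rw [H6_hom_apply_eq χ a, H6_hom_apply_eq χ' a]
    have : H6_derOf χ a - H6_derOf χ' a = 0 := hzero a
    rw [sub_eq_zero.1 this]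

/-- The dual of `k ⊗ Ω` is the space of derivations to `k`. -/
noncomputable def H6_dualKaehlerEquiv (A : Art Λ k) :
    Module.Dual k (k ⊗[A] Ω[A⁄Λ]) ≃ₗ[k] Derivation Λ A k :=
  (LinearMap.liftBaseChangeEquiv (R := A) (M := Ω[A⁄Λ]) (N := k) k).symm ≪≫ₗ
    (KaehlerDifferential.linearMapEquivDerivation Λ A (M := k)).extendScalarsOfSurjective
      (show Function.Surjective (algebraMap A k) from A.res_surjective)

theorem H6_kaehler_finite [IsNoetherianRing Λ] [Module.Finite Λ k] (A : Art Λ k) :
    Module.Finite k (k ⊗[A] Ω[A⁄Λ]) := by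
  haveI : Module.Finite Λ A := H6_art_finite A
  haveI : Algebra.FiniteType Λ A := inferInstance
  haveI : Module.Finite A Ω[A⁄Λ] := inferInstance
  infer_instance

theorem H6_finrank_kaehler [IsNoetherianRing Λ] [Module.Finite Λ k] (A : Art Λ k) :
    Module.finrank k (k ⊗[A] Ω[A⁄Λ]) = Module.finrank k (Derivation Λ A k) := by
  rw [← (H6_dualKaehlerEquiv A).finrank_eq, Subspace.dual_finrank_eq]

theorem H6_der_finite [IsNoetherianRing Λ] [Module.Finite Λ k] (A : Art Λ k) :
    Module.Finite k (Derivation Λ A k) := by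
  haveI := H6_kaehler_finite A
  exact Module.Finite.equiv (H6_dualKaehlerEquiv A)

/-- Pulling back derivations. -/
noncomputable def H6_derPull {A B : Art Λ k} (f : B ⟶ A) : Derivation Λ A k →ₗ[k] Derivation Λ B k where
  toFun D :=
    Derivation.mk'
      { toFun := fun b => D (f b)
        map_add' := by
          intro b b'
          show D (f.toAlgHom (b + b')) = _
          rw [map_add, map_add]
        map_smul' := by
          intro l b
          show D (f.toAlgHom (l • b)) = l • D (f b)
          rw [map_smul, Derivation.map_smul] }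
      (by
        intro b b'
        show D (f.toAlgHom (b * b')) = b • D (f b') + b' • D (f b)
        rw [map_mul, Derivation.leibniz, H6_algRes_smul, H6_algRes_smul, H6_algRes_smul,
          H6_algRes_smul]
        have h1 : A.res (f.toAlgHom b) = B.res b := Art.res_app f b
        have h2 : A.res (f.toAlgHom b') = B.res b' := Art.res_app f b'
        rw [h1, h2])
  map_add' := by
    intro D D'
    ext b
    rfl
  map_smul' := by
    intro c D
    ext b
    rfl

theorem H6_derPull_apply {A B : Art Λ k} (f : B ⟶ A) (D : Derivation Λ A k) (b : B) :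
    H6_derPull f D b = D (f b) := rfl

theorem H6_derPull_derOf {A B : Art Λ k} (f : B ⟶ A) (χ : A ⟶ dual Λ k) :
    H6_derPull f (H6_derOf χ) = H6_derOf (f ≫ χ) := by
  ext b
  rfl

theorem H6_derOf_injective {A : Art Λ k} (χ χ' : A ⟶ dual Λ k) (h : H6_derOf χ = H6_derOf χ') :
    χ = χ' := by
  apply Art.hom_ext
  apply AlgHom.ext
  intro a
  show χ a = χ' a
  rw [H6_hom_apply_eq χ a, H6_hom_apply_eq χ' a, h]

theorem H6_tangent_surjective_iff_finrank [IsNoetherianRing Λ] [Module.Finite Λ k]
    {A B : Art Λ k} (f : B ⟶ A) (hf : Function.Surjective f) :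
    (∀ χ : B ⟶ dual Λ k, ∃ χ' : A ⟶ dual Λ k, f ≫ χ' = χ) ↔
      Module.finrank k (k ⊗[B] Ω[B⁄Λ]) = Module.finrank k (k ⊗[A] Ω[A⁄Λ]) := by
  haveI := H6_der_finite A
  haveI := H6_der_finite B
  have hinj : Function.Injective (H6_derPull f) := by
    intro D D' h
    ext a
    obtain ⟨b, rfl⟩ := hf a
    have := congrArg (fun E : Derivation Λ B k => E b) h
    exact this
  have hsurj_iff : Function.Surjective (H6_derPull f) ↔
      (∀ χ : B ⟶ dual Λ k, ∃ χ' : A ⟶ dual Λ k, f ≫ χ' = χ) := by
    constructor
    · intro hs χ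
      obtain ⟨D', hD'⟩ := hs (H6_derOf χ)
      obtain ⟨χ', rfl⟩ := H6_exists_hom_of_der D'
      refine ⟨χ', ?_⟩
      apply H6_derOf_injective
      rw [← H6_derPull_derOf, hD']
    · intro h D
      obtain ⟨χ, rfl⟩ := H6_exists_hom_of_der D
      obtain ⟨χ', rfl⟩ := h χ
      exact ⟨H6_derOf χ', H6_derPull_derOf f χ'⟩
  rw [← hsurj_iff, H6_finrank_kaehler, H6_finrank_kaehler]
  constructor
  · intro hs
    exact (LinearEquiv.ofBijective (H6_derPull f) ⟨hinj, hs⟩).finrank_eq.symm
  · intro h
    exact (LinearMap.injective_iff_surjective_of_finrank_eq_finrank h.symm).1 hinj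

/-- (a) ⇔ (c): essential surjections through differentials. -/
theorem H6_isEss_iff_kaehler [IsNoetherianRing Λ] [Module.Finite Λ k]
    {A B : Art Λ k} (f : B ⟶ A) :
    letI : Algebra B A := f.toAlgHom.toRingHom.toAlgebra
    letI : Algebra A k := A.res.toRingHom.toAlgebra
    letI : Algebra B k := B.res.toRingHom.toAlgebra
    (Function.Surjective f ∧ ∀ (C : Art Λ k) (g : C ⟶ B), Function.Surjective (g ≫ f) →
        Function.Surjective g) ↔
      (Subsingleton (k ⊗[A] Ω[A⁄B]) ∧
        Module.finrank k (k ⊗[B] Ω[B⁄Λ]) = Module.finrank k (k ⊗[A] Ω[A⁄Λ])) := by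
  have h1 := H6_surjective_iff_kaehler f
  have hK := H6_isEss_iff_tangent f
  letI algBA : Algebra B A := f.toAlgHom.toRingHom.toAlgebra
  show H6_IsEss f ↔ (Subsingleton (k ⊗[A] Ω[A⁄B]) ∧
        Module.finrank k (k ⊗[B] Ω[B⁄Λ]) = Module.finrank k (k ⊗[A] Ω[A⁄Λ]))
  rw [hK]
  constructor
  · rintro ⟨hf, hχ⟩
    exact ⟨h1.1 hf, (H6_tangent_surjective_iff_finrank f hf).1 hχ⟩
  · rintro ⟨hss, hfin⟩
    have hf : Function.Surjective f := h1.2 hss
    exact ⟨hf, (H6_tangent_surjective_iff_finrank f hf).2 hfin⟩

end Groth.Agent.Lib.helper6
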