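import Mathlib
import Groth.Prelude.Def_ArtFun2
import Groth.Agent.Lib.helper6.ArtEss

set_option autoImplicit false
universe u v

open ArtFun ArtFun.Art CategoryTheory

namespace Groth.Agent.Lib.helper6

variable {Λ : Type u} {k : Type u} [CommRing Λ] [Field k] [Algebra Λ k]

/-- When `k` is separable over the image of `Λ`, tangent vectors separate the relative cotangent
space. -/
theorem H6_exists_tangent_of_sep [IsNoetherianRing Λ] [Module.Finite Λ k]
    [Algebra.IsSeparable (↥(algebraMap Λ k).range) k] (B : Art Λ k) (b : B)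
    (hb : b ∈ IsLocalRing.maximalIdeal B) (hnb : b ∉ H6_relI B) :
    ∃ χ : B ⟶ dual Λ k, χ b ≠ 0 := by
  classical
  let B' : Art Λ k := H6_artQuot B (H6_relI B) (H6_relI_le B)
  let q : B ⟶ B' := H6_artQuotMk B (H6_relI B) (H6_relI_le B)
  have hq0 : ∀ x : B, q x = 0 ↔ x ∈ H6_relI B := fun x => H6_artQuotMk_eq_zero_iff B _ _ x
  have hqs : Function.Surjective q := H6_artQuotMk_surjective B _ _
  -- the base field
  let φ : Λ →+* ↥(algebraMap Λ k).range := (algebraMap Λ k).rangeRestrict
  have hφ : Function.Surjective φ := (algebraMap Λ k).rangeRestrict_surjective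
  have hker : RingHom.ker φ ≤ RingHom.ker (algebraMap Λ B') := by
    intro l hl
    have hl' : l ∈ RingHom.ker (algebraMap Λ k) := by
      rw [RingHom.mem_ker] at hl ⊢
      have := congrArg Subtype.val hl
      exact this
    rw [RingHom.mem_ker]
    have : algebraMap Λ B' l = q (algebraMap Λ B l) := (q.toAlgHom.commutes l).symm
    rw [this]
    exact (hq0 _).2 (Ideal.mem_sup_left (Ideal.mem_map_of_mem _ hl'))
  let ι : ↥(algebraMap Λ k).range →+* B' := RingHom.liftOfSurjective φ hφ ⟨algebraMap Λ B', hker⟩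
  have hι : ∀ l, ι (φ l) = algebraMap Λ B' l := fun l =>
    RingHom.liftOfSurjective_comp_apply φ hφ ⟨algebraMap Λ B', hker⟩ l
  letI algR : Algebra ↥(algebraMap Λ k).range B' := ι.toAlgebra
  have halgR : ∀ r, algebraMap ↥(algebraMap Λ k).range B' r = ι r := fun r => rfl
  let res' : B' →ₐ[↥(algebraMap Λ k).range] k :=
    { (B'.res : B' →+* k) with
      commutes' := by
        intro r
        obtain ⟨l, rfl⟩ := hφ r
        show B'.res (ι (φ l)) = _
        rw [hι, AlgHom.commutes]
        rfl }
  have hres' : ∀ x, res' x = B'.res x := fun x => rfl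
  have hres's : Function.Surjective res' := B'.res_surjective
  -- square zero
  have hmm : ∀ x y : B', B'.res x = 0 → B'.res y = 0 → x * y = 0 := by
    intro x y hx hy
    obtain ⟨x₀, rfl⟩ := hqs x
    obtain ⟨y₀, rfl⟩ := hqs y
    have hx₀ : x₀ ∈ IsLocalRing.maximalIdeal B := by
      rw [Art.mem_maximalIdeal_iff, ← Art.res_app q x₀]; exact hx
    have hy₀ : y₀ ∈ IsLocalRing.maximalIdeal B := by
      rw [Art.mem_maximalIdeal_iff, ← Art.res_app q y₀]; exact hy
    have : q (x₀ * y₀) = 0 := by
      rw [hq0]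
      apply Ideal.mem_sup_right
      rw [sq]
      exact Ideal.mul_mem_mul hx₀ hy₀
    rw [← this]
    exact (map_mul q.toAlgHom x₀ y₀).symm
  have hnil : IsNilpotent (RingHom.ker (res' : B' →+* k)) := by
    refine ⟨2, ?_⟩
    rw [Ideal.zero_eq_bot, eq_bot_iff, sq, Ideal.mul_le]
    intro x hx y hy
    rw [Ideal.mem_bot]
    exact hmm x y hx hy
  -- field structure on the base
  haveI : Algebra.IsIntegral ↥(algebraMap Λ k).range k :=
    ⟨fun c => Algebra.IsSeparable.isIntegral _ c⟩
  have hfld : IsField ↥(algebraMap Λ k).range :=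
    isField_of_isIntegral_of_isField (R := ↥(algebraMap Λ k).range) (S := k)
      Subtype.val_injective (Field.toIsField k)
  letI fldR : Field ↥(algebraMap Λ k).range := hfld.toField
  haveI : Algebra.FormallyEtale ↥(algebraMap Λ k).range k :=
    Algebra.FormallyEtale.of_isSeparable _ _
  haveI : Algebra.FormallySmooth ↥(algebraMap Λ k).range k := inferInstance
  let σ : k →ₐ[↥(algebraMap Λ k).range] B' :=
    Algebra.FormallySmooth.liftOfSurjective (AlgHom.id _ k) res' hres's hnil
  have hσ : ∀ c, B'.res (σ c) = c := fun c =>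
    Algebra.FormallySmooth.liftOfSurjective_apply (AlgHom.id _ k) res' hres's hnil c
  have hσalg : ∀ l : Λ, σ (algebraMap Λ k l) = algebraMap Λ B' l := by
    intro l
    have h1 : algebraMap Λ k l = algebraMap ↥(algebraMap Λ k).range k (φ l) := rfl
    rw [h1, σ.commutes, halgR, hι]
  -- the `k`-vector space structure through `σ`
  letI algk : Algebra k B' := σ.toRingHom.toAlgebra
  have hsmul : ∀ (c : k) (y : B'), c • y = σ c * y := fun c y => rfl
  let p : Submodule k B' := Submodule.span k {(1 : B')}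
  have hqb : q b ∉ p := by
    intro hmem
    obtain ⟨c, hc⟩ := Submodule.mem_span_singleton.1 hmem
    rw [hsmul, mul_one] at hc
    have hc0 : c = 0 := by
      have := congrArg B'.res hc
      rw [hσ, Art.res_app q b] at this
      rw [this]
      exact (Art.mem_maximalIdeal_iff B b).1 hb
    rw [hc0, map_zero] at hc
    exact hnb ((hq0 b).1 hc.symm)
  obtain ⟨ψ, hψb, hψp⟩ := Submodule.exists_dual_map_eq_bot_of_notMem hqb inferInstance
  have hψ1 : ψ 1 = 0 := by
    have : ψ 1 ∈ p.map ψ := Submodule.mem_map_of_mem (Submodule.mem_span_singleton_self _)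
    rw [hψp] at this
    exact this
  have hψσmul : ∀ (c : k) (y : B'), ψ (σ c * y) = c * ψ y := by
    intro c y
    rw [← hsmul, map_smul, smul_eq_mul]
  have hψσ : ∀ c : k, ψ (σ c) = 0 := by
    intro c
    have := hψσmul c 1
    rw [mul_one, hψ1, mul_zero] at this
    exact this
  let D : B → k := fun x => ψ (q x)
  have hadd : ∀ r s, D (r + s) = D r + D s := by
    intro r s
    show ψ (q.toAlgHom (r + s)) = _
    rw [map_add, map_add]
  have hmul : ∀ r s, D (r * s) = B.res r * D s + B.res s * D r := by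
    intro r s
    show ψ (q.toAlgHom (r * s)) = B.res r * ψ (q s) + B.res s * ψ (q r)
    rw [map_mul]
    set x' : B' := q.toAlgHom r with hx'
    set y' : B' := q.toAlgHom s with hy'
    have hrx : B'.res x' = B.res r := Art.res_app q r
    have hry : B'.res y' = B.res s := Art.res_app q s
    have h0 : (x' - σ (B.res r)) * (y' - σ (B.res s)) = 0 := by
      apply hmm
      · rw [map_sub, hσ, hrx, sub_self]
      · rw [map_sub, hσ, hry, sub_self]
    have hdecomp : x' * y' = σ (B.res r) * y' + σ (B.res s) * x' - σ (B.res r * B.res s) := by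
      rw [map_mul]
      have : x' * y' = σ (B.res r) * y' + σ (B.res s) * x' - σ (B.res r) * σ (B.res s)
          + (x' - σ (B.res r)) * (y' - σ (B.res s)) := by ring
      rw [this, h0, add_zero]
    rw [hdecomp, map_sub, map_add, hψσmul, hψσmul, hψσ, sub_zero]
  have halg : ∀ l : Λ, D (algebraMap Λ B l) = 0 := by
    intro l
    show ψ (q.toAlgHom (algebraMap Λ B l)) = 0
    rw [AlgHom.commutes, ← hσalg, hψσ]
  obtain ⟨χ₀, hχ₀⟩ := H6_homSet_of_derivation B.res D hadd hmul halg
  refine ⟨Art.homMk χ₀.1 χ₀.2, ?_⟩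
  intro h0
  apply hψb
  have h1 : χ₀.1 b = 0 := h0
  rw [hχ₀] at h1
  have h2 := congrArg H6_sn h1
  rw [H6_sn_dn, H6_sn_zero] at h2
  exact h2

end Groth.Agent.Lib.helper6
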