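import Mathlib
import Groth.Prelude.Def_ArtFun5
import Groth.Agent.Lib.helper6.ArtTan

set_option autoImplicit false
universe u v

open ArtFun ArtFun.Art CategoryTheory

namespace Groth.Agent.Lib.helper6

variable {Λ : Type u} {k : Type u} [CommRing Λ] [Field k] [Algebra Λ k]

theorem H6_sn_plus (w : (dual2 Λ k : Art Λ k)) :
    H6_sn ((plus : dual2 Λ k ⟶ dual Λ k) w) = H6_sn ((pr₁ : dual2 Λ k ⟶ dual Λ k) w) +
      H6_sn ((pr₂ : dual2 Λ k ⟶ dual Λ k) w) := rfl

theorem H6_sn_scale (c : k) (w : (dual Λ k : Art Λ k)) :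
    H6_sn ((scale c : dual Λ k ⟶ dual Λ k) w) = c * H6_sn w := rfl

theorem H6_homSet_dual_ext {R : Type u} [CommRing R] [Algebra Λ R] {resR : R →ₐ[Λ] k}
    (φ ψ : HomSet R resR (dual Λ k)) (h : ∀ r, H6_sn (φ.1 r) = H6_sn (ψ.1 r)) : φ = ψ := by
  apply Subtype.ext
  apply AlgHom.ext
  intro r
  apply H6_dual_ext
  · have h1 : (dual Λ k).res (φ.1 r) = resR r := congrArg (fun χ : R →ₐ[Λ] k => χ r) φ.2
    have h2 : (dual Λ k).res (ψ.1 r) = resR r := congrArg (fun χ : R →ₐ[Λ] k => χ r) ψ.2
    rw [h1, h2]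
  · exact h r

/-- Tangent vectors of `h_R` are determined by finitely many values. -/
theorem H6_homSet_dual_finite [Module.Finite Λ k] (R : CRing Λ k) :
    ∃ E : Finset R.carrier, ∀ φ ψ : HomSet R.carrier R.res (dual Λ k),
      (∀ e ∈ E, H6_sn (φ.1 e) = H6_sn (ψ.1 e)) → φ = ψ := by
  classical
  obtain ⟨s, hs⟩ := (IsNoetherian.noetherian (IsLocalRing.maximalIdeal R.carrier) :
    (IsLocalRing.maximalIdeal R.carrier).FG)
  obtain ⟨t, ht⟩ := (Module.Finite.fg_top : (⊤ : Submodule Λ k).FG)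
  let lift : k → R.carrier := fun c => Classical.choose (R.res_surjective c)
  have hlift : ∀ c, R.res (lift c) = c := fun c => Classical.choose_spec (R.res_surjective c)
  refine ⟨s ∪ t.image lift, ?_⟩
  intro φ ψ hE
  apply H6_homSet_dual_ext
  have hresφ : ∀ r, (dual Λ k).res (φ.1 r) = R.res r := fun r =>
    congrArg (fun χ : R.carrier →ₐ[Λ] k => χ r) φ.2
  have hresψ : ∀ r, (dual Λ k).res (ψ.1 r) = R.res r := fun r =>
    congrArg (fun χ : R.carrier →ₐ[Λ] k => χ r) ψ.2
  -- the Λ-submodule where the two derivations agree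
  let N : Submodule Λ R.carrier :=
    { carrier := {r | H6_sn (φ.1 r) = H6_sn (ψ.1 r)}
      add_mem' := by
        intro a b ha hb
        show H6_sn (φ.1 (a + b)) = H6_sn (ψ.1 (a + b))
        rw [map_add, map_add, H6_sn_add, H6_sn_add, ha, hb]
      zero_mem' := by
        show H6_sn (φ.1 0) = H6_sn (ψ.1 0)
        rw [map_zero, map_zero]
      smul_mem' := by
        intro l a ha
        show H6_sn (φ.1 (l • a)) = H6_sn (ψ.1 (l • a))
        rw [map_smul, map_smul, Algebra.smul_def, Algebra.smul_def, H6_sn_mul, H6_sn_mul,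
          H6_sn_algebraMap, hresφ, hresψ, ha] }
  have hNmul : ∀ a m : R.carrier, m ∈ IsLocalRing.maximalIdeal R.carrier → m ∈ N → a * m ∈ N := by
    intro a m hm hmN
    have hm0 : R.res m = 0 := (CRing.mem_maximalIdeal_iff R m).1 hm
    show H6_sn (φ.1 (a * m)) = H6_sn (ψ.1 (a * m))
    rw [map_mul, map_mul, H6_sn_mul, H6_sn_mul, hresφ, hresφ, hresψ, hresψ, hm0, hmN, zero_mul, zero_mul]
  have hmN : ∀ m ∈ IsLocalRing.maximalIdeal R.carrier, m ∈ N := by
    intro m hm
    rw [← hs] at hm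
    have : m ∈ IsLocalRing.maximalIdeal R.carrier ∧ m ∈ N := by
      refine Submodule.span_induction (p := fun m _ => m ∈ IsLocalRing.maximalIdeal R.carrier ∧ m ∈ N)
        ?_ ?_ ?_ ?_ hm
      · intro x hx
        refine ⟨?_, hE x (Finset.mem_union_left _ hx)⟩
        rw [← hs]
        exact Submodule.subset_span hx
      · exact ⟨Ideal.zero_mem _, N.zero_mem⟩
      · intro x y _ _ hx hy
        exact ⟨Ideal.add_mem _ hx.1 hy.1, N.add_mem hx.2 hy.2⟩
      · intro a x _ hx
        exact ⟨Ideal.mul_mem_left _ a hx.1, hNmul a x hx.1 hx.2⟩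
    exact this.2
  have hTN : ∀ c ∈ t, lift c ∈ N := fun c hc =>
    hE (lift c) (Finset.mem_union_right _ (Finset.mem_image_of_mem lift hc))
  intro r
  -- res r lies in the span of t
  have hres : R.res r ∈ (Submodule.span Λ ((t.image lift : Finset R.carrier) : Set R.carrier)).map
      R.res.toLinearMap := by
    rw [Submodule.map_span]
    have : R.res.toLinearMap '' ((t.image lift : Finset R.carrier) : Set R.carrier) = (t : Set k) := by
      ext c
      constructor
      · rintro ⟨x, hx, rfl⟩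
        rw [Finset.coe_image] at hx
        obtain ⟨c', hc', rfl⟩ := hx
        show R.res (lift c') ∈ (t : Set k)
        rw [hlift]; exact hc'
      · intro hc
        refine ⟨lift c, ?_, hlift c⟩
        rw [Finset.coe_image]
        exact ⟨c, hc, rfl⟩
    rw [this, ht]
    trivial
  obtain ⟨n, hn, hnr⟩ := hres
  have hnN : n ∈ N := by
    refine Submodule.span_le.mpr ?_ hn
    intro x hx
    rw [Finset.coe_image] at hx
    obtain ⟨c, hc, rfl⟩ := hx
    exact hTN c hc
  have hdiff : r - n ∈ N := by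
    apply hmN
    rw [CRing.mem_maximalIdeal_iff, map_sub]
    have : R.res n = R.res r := hnr
    rw [this, sub_self]
  have := N.add_mem hdiff hnN
  rwa [sub_add_cancel] at this

end Groth.Agent.Lib.helper6
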