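import Mathlib
import Groth.Prelude.Def_ArtFun5
import Groth.Agent.Lib.helper6.ArtSquares
import Groth.Agent.Lib.helper6.ArtPull
import Groth.Agent.Lib.helper6.ArtHfin

set_option autoImplicit false
universe u v

open ArtFun ArtFun.Art CategoryTheory

namespace Groth.Agent.Lib.helper6

variable {Λ : Type u} {k : Type u} [CommRing Λ] [Field k] [Algebra Λ k]

theorem H6_scale_zero : (scale (0 : k) : dual Λ k ⟶ dual Λ k) = toBase (dual Λ k) ≫ baseToDual := by
  apply Art.hom_ext
  apply AlgHom.ext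
  intro w
  apply H6_dual_ext
  · rfl
  · show H6_sn ((scale (0 : k) : dual Λ k ⟶ dual Λ k) w) = _
    rw [H6_sn_scale, zero_mul]
    rfl

variable (F : Art Λ k ⥤ Type v) [T : TangentStr F]

/-- The zero tangent vector is the image of the base point. -/
theorem H6_tangent_zero (h0 : H0 F) (x₀ : F.obj (base Λ k)) :
    (0 : TangentSpace F) = F.map (baseToDual : base Λ k ⟶ dual Λ k) x₀ := by
  have h := T.smul_eq (0 : k) (0 : TangentSpace F)
  have h' : (0 : k) • (0 : TangentSpace F) = 0 := zero_smul k _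
  have e : (0 : TangentSpace F) = F.map (scale (0 : k)) (0 : TangentSpace F) := h'.symm.trans h
  rw [e, H6_scale_zero, FunctorToTypes.map_comp_apply]
  congr 1
  exact h0.2.elim _ _

theorem H6_tangent_add (z : F.obj (dual2 Λ k)) :
    TangentSpace.mk (F := F) (F.map plus z) =
      TangentSpace.mk (F := F) (F.map pr₁ z) + TangentSpace.mk (F := F) (F.map pr₂ z) :=
  (T.add_eq z).symm

theorem H6_tangent_smul (c : k) (x : TangentSpace F) :
    TangentSpace.mk (F := F) (F.map (scale c) x) = c • x := (T.smul_eq c x).symm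

/-- A first-order object whose classifying maps hit every tangent vector. -/
theorem H6_exists_tangent_surjective [IsNoetherianRing Λ] [Module.Finite Λ k]
    (h0 : H0 F) (h2 : Heps F) (h3 : Hfin F) :
    ∃ (E : Art Λ k) (ξ : F.obj E), ∀ v : F.obj (dual Λ k), ∃ χ : E ⟶ dual Λ k, F.map χ ξ = v := by
  classical
  obtain ⟨x₀⟩ := h0.1
  have key : ∀ S : Finset (TangentSpace F), ∃ (E : Art Λ k) (ξ : F.obj E),
      ∀ v ∈ Submodule.span k (S : Set (TangentSpace F)), ∃ χ : E ⟶ dual Λ k, F.map χ ξ = v := by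
    intro S
    induction S using Finset.induction_on with
    | empty =>
      refine ⟨base Λ k, x₀, fun v hv => ?_⟩
      rw [Finset.coe_empty, Submodule.span_empty, Submodule.mem_bot] at hv
      refine ⟨baseToDual, ?_⟩
      rw [hv]
      exact (H6_tangent_zero F h0 x₀).symm
    | insert v₀ S _ ih =>
      obtain ⟨E, ξ, hE⟩ := ih
      obtain ⟨E', p₁, p₂, hfp⟩ := H6_art_pullback_exists (toBase E) (toBase (dual Λ k))
        (dual Λ k).res_surjective
      obtain ⟨ξ', hξ'⟩ := (h2 p₁ p₂ hfp).2 ⟨(ξ, v₀), h0.2.elim _ _⟩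
      have hξ'1 : F.map p₁ ξ' = ξ := congrArg (fun t => t.1.1) hξ'
      have hξ'2 : F.map p₂ ξ' = v₀ := congrArg (fun t => t.1.2) hξ'
      refine ⟨E', ξ', fun v hv => ?_⟩
      rw [Finset.coe_insert, Submodule.mem_span_insert] at hv
      obtain ⟨c, u, hu, rfl⟩ := hv
      obtain ⟨χu, hχu⟩ := hE u hu
      obtain ⟨ν, hν1, hν2⟩ := H6_fibreProd_lift_hom (isFibreProd_dual2 (Λ := Λ) (k := k))
        (p₁ ≫ χu) (p₂ ≫ scale c) (by
          rw [eq_toBase ((p₁ ≫ χu) ≫ _), eq_toBase ((p₂ ≫ scale c) ≫ _)])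
      refine ⟨ν ≫ plus, ?_⟩
      rw [FunctorToTypes.map_comp_apply]
      have e := H6_tangent_add F (F.map ν ξ')
      have e1 : F.map pr₁ (F.map ν ξ') = u := by
        rw [← FunctorToTypes.map_comp_apply, hν1, FunctorToTypes.map_comp_apply, hξ'1, hχu]
      have e2 : F.map pr₂ (F.map ν ξ') = c • v₀ := by
        rw [← FunctorToTypes.map_comp_apply, hν2, FunctorToTypes.map_comp_apply, hξ'2]
        exact H6_tangent_smul F c v₀
      have e' : TangentSpace.mk (F := F) (F.map plus (F.map ν ξ')) = u + c • v₀ := by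
        rw [e]
        show TangentSpace.mk (F := F) (F.map pr₁ (F.map ν ξ')) + TangentSpace.mk (F := F) (F.map pr₂ (F.map ν ξ')) = _
        rw [e1, e2]
        rfl
      rw [add_comm]
      exact e'
  haveI : Module.Finite k (TangentSpace F) := h3
  obtain ⟨S, hS⟩ := (Module.Finite.fg_top : (⊤ : Submodule k (TangentSpace F)).FG)
  obtain ⟨E, ξ, hE⟩ := key S
  exact ⟨E, ξ, fun v => hE v (by rw [hS]; trivial)⟩

end Groth.Agent.Lib.helper6
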