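import Mathlib
import Groth.Prelude.Def_ArtFun5

set_option autoImplicit false
universe u v

open ArtFun ArtFun.Art CategoryTheory

namespace Groth.Agent.Lib.helper6

variable {Λ : Type u} {k : Type u} [CommRing Λ] [Field k] [Algebra Λ k]

/-- In a Noetherian local ring every ideal is closed for the adic topology. -/
theorem H6_ideal_closed (P : CRing Λ k) (J : Ideal P.carrier) (L : P.carrier)
    (h : ∀ j : ℕ, L ∈ J ⊔ IsLocalRing.maximalIdeal P.carrier ^ j) : L ∈ J := by
  by_cases hJ : J = ⊤
  · rw [hJ]; trivial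
  haveI : IsHausdorff (IsLocalRing.maximalIdeal P.carrier) (P.carrier ⧸ J) :=
    IsHausdorff.of_isLocalRing _ _ (IsLocalRing.maximalIdeal.isMaximal P.carrier).ne_top
  rw [← Ideal.Quotient.eq_zero_iff_mem]
  apply IsHausdorff.haus (inferInstance : IsHausdorff (IsLocalRing.maximalIdeal P.carrier)
    (P.carrier ⧸ J))
  intro j
  rw [SModEq.zero]
  obtain ⟨b, hb, e, he, rfl⟩ := Submodule.mem_sup.1 (h j)
  rw [map_add, Ideal.Quotient.eq_zero_iff_mem.2 hb, zero_add]
  have : Ideal.Quotient.mk J e = e • (1 : P.carrier ⧸ J) := by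
    rw [Algebra.smul_def, mul_one]
    rfl
  rw [this]
  exact Submodule.smul_mem_smul he trivial

/-- Chevalley's lemma: a decreasing sequence of ideals of a complete Noetherian local ring is cofinal,
modulo its intersection, with the powers of the maximal ideal. -/
theorem H6_chevalley (P : CRing Λ k) (J : ℕ → Ideal P.carrier) (hanti : Antitone J) (n : ℕ) :
    ∃ q, J q ≤ (⨅ i, J i) ⊔ IsLocalRing.maximalIdeal P.carrier ^ n := by
  classical
  set m := IsLocalRing.maximalIdeal P.carrier with hm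
  haveI := P.isAdicComplete
  -- stabilisation modulo powers of m
  have stab : ∀ n : ℕ, ∃ q₀, ∀ q, q₀ ≤ q → J q ⊔ m ^ n = J q₀ ⊔ m ^ n := by
    intro n
    rcases Nat.eq_zero_or_pos n with hn | hn
    · refine ⟨0, fun q _ => ?_⟩
      rw [hn, pow_zero, Ideal.one_eq_top, sup_top_eq, sup_top_eq]
    · obtain ⟨n', rfl⟩ : ∃ n', n = n' + 1 := ⟨n - 1, by omega⟩
      haveI : IsArtinianRing (P.carrier ⧸ m ^ (n' + 1)) := CRing.isArtinianRing_quot_mpow P n'
      haveI : IsArtinian (P.carrier ⧸ m ^ (n' + 1)) (P.carrier ⧸ m ^ (n' + 1)) :=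
        inferInstanceAs (IsArtinianRing _)
      let π := Ideal.Quotient.mk (m ^ (n' + 1))
      let f : ℕ →o (Ideal (P.carrier ⧸ m ^ (n' + 1)))ᵒᵈ :=
        ⟨fun q => OrderDual.toDual (Ideal.map π (J q)), fun a b hab =>
          OrderDual.toDual_le_toDual.2 (Ideal.map_mono (hanti hab))⟩
      obtain ⟨q₀, hq₀⟩ := IsArtinian.monotone_stabilizes f
      refine ⟨q₀, fun q hq => ?_⟩
      have h1 : Ideal.map π (J q₀) = Ideal.map π (J q) := by
        have := hq₀ q hq
        exact OrderDual.toDual.injective this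
      have h2 : ∀ I : Ideal P.carrier, Ideal.comap π (Ideal.map π I) = I ⊔ m ^ (n' + 1) := by
        intro I
        rw [Ideal.comap_map_of_surjective π Ideal.Quotient.mk_surjective]
        congr 1
        rw [← RingHom.ker_eq_comap_bot, Ideal.mk_ker]
      rw [← h2, ← h2, h1]
  choose Q hQ using stab
  -- a monotone modification of Q dominating the identity
  let Q' : ℕ → ℕ := fun n => (Finset.range (n + 1)).sup Q ⊔ n
  have hQ'ge : ∀ n, Q n ≤ Q' n := fun n =>
    le_sup_of_le_left (Finset.le_sup (f := Q) (Finset.mem_range.2 (Nat.lt_succ_self n)))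
  have hQ'n : ∀ n, n ≤ Q' n := fun n => le_sup_right
  have hQ'mono : Monotone Q' := by
    intro a b hab
    apply sup_le_sup _ hab
    apply Finset.sup_mono
    intro i hi
    rw [Finset.mem_range] at hi ⊢
    omega
  have hQ' : ∀ n q, Q' n ≤ q → J q ⊔ m ^ n = J (Q' n) ⊔ m ^ n := by
    intro n q hq
    rw [hQ n q ((hQ'ge n).trans hq), hQ n (Q' n) (hQ'ge n)]
  refine ⟨Q' n, fun a ha => ?_⟩
  -- successive approximation
  have step : ∀ i (x : ↥(J (Q' (n + i)))), ∃ y : ↥(J (Q' (n + (i + 1)))),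
      (x : P.carrier) - (y : P.carrier) ∈ m ^ (n + i) := by
    intro i x
    have hx : (x : P.carrier) ∈ J (Q' (n + (i + 1))) ⊔ m ^ (n + i) := by
      rw [hQ' (n + i) (Q' (n + (i + 1))) (hQ'mono (by omega))]
      exact Ideal.mem_sup_left x.2
    obtain ⟨y, hy, e, he, hye⟩ := Submodule.mem_sup.1 hx
    refine ⟨⟨y, hy⟩, ?_⟩
    show (x : P.carrier) - y ∈ m ^ (n + i)
    rw [← hye, add_sub_cancel_left]
    exact he
  choose next hnext using step
  let seq : ∀ i, ↥(J (Q' (n + i))) := fun i =>
    Nat.rec (motive := fun i => ↥(J (Q' (n + i)))) ⟨a, ha⟩ (fun i x => next i x) i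
  have hseq : ∀ i, seq (i + 1) = next i (seq i) := fun i => rfl
  let f : ℕ → P.carrier := fun i => (seq i : P.carrier)
  have hf0 : f 0 = a := rfl
  have hfJ : ∀ i, f i ∈ J (Q' (n + i)) := fun i => (seq i).2
  have hfstep : ∀ i, f i - f (i + 1) ∈ m ^ (n + i) := by
    intro i
    show (seq i : P.carrier) - (seq (i + 1) : P.carrier) ∈ m ^ (n + i)
    rw [hseq]
    exact hnext i (seq i)
  have hfC : ∀ i j, i ≤ j → f i - f j ∈ m ^ (n + i) := by
    intro i j hij
    induction j, hij using Nat.le_induction with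
    | base => rw [sub_self]; exact Ideal.zero_mem _
    | succ j hij ih =>
      have : f i - f (j + 1) = (f i - f j) + (f j - f (j + 1)) := by ring
      rw [this]
      exact Ideal.add_mem _ ih (Ideal.pow_le_pow_right (by omega) (hfstep j))
  obtain ⟨L, hL⟩ := IsPrecomplete.prec (inferInstance : IsPrecomplete m P.carrier) (f := f) (by
    intro a b hab
    rw [SModEq.sub_mem, smul_eq_mul, Ideal.mul_top]
    exact Ideal.pow_le_pow_right (by omega) (hfC a b hab))
  have hL' : ∀ i, f i - L ∈ m ^ i := by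
    intro i
    have := hL i
    rw [SModEq.sub_mem, smul_eq_mul, Ideal.mul_top] at this
    exact this
  have hL'' : ∀ i, f i - L ∈ m ^ (n + i) := by
    intro i
    have : f i - L = (f i - f (n + i)) + (f (n + i) - L) := by ring
    rw [this]
    exact Ideal.add_mem _ (hfC i (n + i) (by omega)) (hL' (n + i))
  have hLJ : L ∈ ⨅ i, J i := by
    rw [Ideal.mem_iInf]
    intro q
    apply H6_ideal_closed P (J q) L
    intro j
    have hq : q ≤ Q' (n + (q + j)) := le_trans (by omega) (hQ'n _)
    have h1 : f (q + j) ∈ J q := hanti hq (hfJ (q + j))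
    have h2 : L = f (q + j) + -(f (q + j) - L) := by ring
    rw [h2]
    exact Ideal.add_mem _ (Ideal.mem_sup_left h1)
      (Ideal.mem_sup_right ((m ^ j).neg_mem (Ideal.pow_le_pow_right (by omega) (hL' (q + j)))))
  have h3 : a = L + (f 0 - L) := by rw [hf0]; ring
  rw [h3]
  exact Ideal.add_mem _ (Ideal.mem_sup_left hLJ) (Ideal.mem_sup_right (by simpa using hL'' 0))

end Groth.Agent.Lib.helper6
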