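import Mathlib
import Groth.Prelude.Def_ArtFun5
import Groth.Agent.Lib.helper6.SmoothRing
import Groth.Agent.Lib.helper6.CRingQuot
import Groth.Agent.Lib.helper6.Chevalley
import Groth.Agent.Lib.helper6.ArtSurj
import Groth.Agent.Lib.helper6.ArtFormal
import Groth.Agent.Lib.helper6.ArtTan
import Groth.Agent.Lib.helper6.ArtCSurj

set_option autoImplicit false
universe u v

open ArtFun ArtFun.Art CategoryTheory IsLocalRing

namespace Groth.Agent.Lib.helper6

/-- Key lemma: a surjective local homomorphism which does not increase the minimal number of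
generators of the maximal ideal has kernel inside the square of the maximal ideal. -/
theorem H6_ker_le_sq_of_spanFinrank_le {B A : Type*} [CommRing B] [CommRing A] [IsLocalRing B]
    [IsLocalRing A] [IsNoetherianRing B] (g : B →+* A) (hg : Function.Surjective g)
    (h : (maximalIdeal B).spanFinrank ≤ (maximalIdeal A).spanFinrank) :
    RingHom.ker g ≤ maximalIdeal B ^ 2 := by
  classical
  have : IsLocalHom g := IsLocalHom.of_surjective g hg
  have fg : (maximalIdeal B).FG := (isNoetherianRing_iff_ideal_fg B).1 inferInstance _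
  obtain ⟨s, hs_card, hs_span⟩ := Submodule.FG.exists_span_finset_card_eq_spanFinrank fg
  have hmapm : ∀ b : B, b ∈ maximalIdeal B ↔ g b ∈ maximalIdeal A := by
    intro b
    rw [mem_maximalIdeal, mem_maximalIdeal, mem_nonunits_iff, mem_nonunits_iff]
    exact not_congr ⟨fun hb => hb.map g, fun hb => isUnit_of_map_unit g b hb⟩
  have hspanA : ∀ t : Finset B, (maximalIdeal B : Submodule B B) ≤ Submodule.span B (t : Set B) →
      maximalIdeal A ≤ Ideal.span (g '' (t : Set B)) := by
    intro t ht a ha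
    obtain ⟨b, rfl⟩ := hg a
    have hb : b ∈ maximalIdeal B := (hmapm b).2 ha
    have := Ideal.mem_map_of_mem g (ht hb)
    rw [show (Submodule.span B (t : Set B)) = Ideal.span (t : Set B) from rfl, Ideal.map_span] at this
    exact this
  intro x hx
  have hx0 : g x = 0 := hx
  have hxm : x ∈ maximalIdeal B := by
    rw [hmapm, hx0]
    exact Ideal.zero_mem _
  have hxs : x ∈ Submodule.span B (s : Set B) := by rw [hs_span]; exact hxm
  obtain ⟨d, -, hd⟩ := Submodule.mem_span_finset.1 hxs
  have hsm : ∀ u ∈ s, u ∈ maximalIdeal B := by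
    intro u hu
    have : u ∈ Submodule.span B (s : Set B) := Submodule.subset_span hu
    rw [hs_span] at this
    exact this
  have hdm : ∀ u ∈ s, d u ∈ maximalIdeal B := by
    intro u₀ hu₀
    by_contra hnot
    have hunit : IsUnit (d u₀) := by
      rw [mem_maximalIdeal, mem_nonunits_iff, not_not] at hnot
      exact hnot
    have hsum : ∑ u ∈ s, g (d u) * g u = 0 := by
      have := congrArg g hd
      rw [map_sum, hx0] at this
      simpa [smul_eq_mul, map_mul] using this
    rw [← Finset.add_sum_erase s _ hu₀] at hsum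
    have hgu₀ : g u₀ ∈ Ideal.span (g '' ((s.erase u₀ : Finset B) : Set B)) := by
      obtain ⟨c, hc⟩ := (hunit.map g).exists_left_inv
      have e : g u₀ = -(c * ∑ u ∈ s.erase u₀, g (d u) * g u) := by
        have h1 : g (d u₀) * g u₀ = -∑ u ∈ s.erase u₀, g (d u) * g u := eq_neg_of_add_eq_zero_left hsum
        calc g u₀ = (c * g (d u₀)) * g u₀ := by rw [hc, one_mul]
          _ = c * (g (d u₀) * g u₀) := by ring
          _ = -(c * ∑ u ∈ s.erase u₀, g (d u) * g u) := by rw [h1]; ring
      rw [e, Ideal.neg_mem_iff]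
      apply Ideal.mul_mem_left
      apply Ideal.sum_mem
      intro u hu
      apply Ideal.mul_mem_left
      exact Ideal.subset_span ⟨u, hu, rfl⟩
    have hle : maximalIdeal A ≤ Ideal.span (g '' ((s.erase u₀ : Finset B) : Set B)) := by
      refine (hspanA s (by rw [hs_span])).trans ?_
      rw [Ideal.span_le]
      rintro _ ⟨u, hu, rfl⟩
      by_cases huu : u = u₀
      · rw [huu]; exact hgu₀
      · exact Ideal.subset_span ⟨u, Finset.mem_erase.2 ⟨huu, hu⟩, rfl⟩
    have heq : maximalIdeal A = Ideal.span (g '' ((s.erase u₀ : Finset B) : Set B)) := by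
      apply le_antisymm hle
      rw [Ideal.span_le]
      rintro _ ⟨u, hu, rfl⟩
      exact (hmapm u).1 (hsm u (Finset.mem_of_mem_erase hu))
    have hfin : (g '' ((s.erase u₀ : Finset B) : Set B)).Finite := (Finset.finite_toSet _).image _
    have h1 : (maximalIdeal A).spanFinrank ≤ (g '' ((s.erase u₀ : Finset B) : Set B)).ncard := by
      conv_lhs => rw [heq]
      exact Submodule.spanFinrank_span_le_ncard_of_finite hfin
    have h2 : (g '' ((s.erase u₀ : Finset B) : Set B)).ncard ≤ (s.erase u₀).card := by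
      have := Set.ncard_image_le (f := g) (Finset.finite_toSet (s.erase u₀))
      rwa [Set.ncard_coe_finset] at this
    have h3 : (s.erase u₀).card = s.card - 1 := Finset.card_erase_of_mem hu₀
    have h4 : 0 < s.card := Finset.card_pos.2 ⟨u₀, hu₀⟩
    omega
  rw [← hd, sq]
  apply Ideal.sum_mem
  intro u hu
  exact Ideal.mul_mem_mul (hdm u hu) (hsm u hu)

variable {Λ : Type u} {k : Type u} [CommRing Λ] [Field k] [Algebra Λ k]

section Limit
variable (A : ℕ → Art Λ k) (f : ∀ n, A (n + 1) ⟶ A n)

/-- transition maps of an inverse system -/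
noncomputable def H6_tr (m : ℕ) {n : ℕ} (h : m ≤ n) : A n ⟶ A m :=
  Nat.leRec (motive := fun n _ => (A n ⟶ A m)) (𝟙 (A m)) (fun k _ g => f k ≫ g) h

theorem H6_tr_self (m : ℕ) : H6_tr A f m (le_refl m) = 𝟙 (A m) := Nat.leRec_self _ _

theorem H6_tr_succ (m : ℕ) {k : ℕ} (h : m ≤ k) :
    H6_tr A f m (Nat.le_succ_of_le h) = f k ≫ H6_tr A f m h := Nat.leRec_succ _ _ h

theorem H6_tr_left (m : ℕ) {n : ℕ} (h : m + 1 ≤ n) :
    H6_tr A f (m + 1) h ≫ f m = H6_tr A f m (Nat.le_of_succ_le h) := by
  induction n, h using Nat.le_induction with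
  | base =>
    rw [H6_tr_self, Category.id_comp, H6_tr_succ A f m (le_refl m), H6_tr_self, Category.comp_id]
  | succ n h ih =>
    rw [H6_tr_succ A f (m + 1) h, Category.assoc, ih, ← H6_tr_succ]

theorem H6_tr_surjective (hf : ∀ n, Function.Surjective (f n)) (m : ℕ) {n : ℕ} (h : m ≤ n) :
    Function.Surjective (H6_tr A f m h) := by
  induction n, h using Nat.le_induction with
  | base =>
    rw [H6_tr_self]
    intro x
    exact ⟨x, rfl⟩
  | succ n h ih =>
    rw [H6_tr_succ A f m h]
    intro x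
    obtain ⟨y, hy⟩ := ih x
    obtain ⟨z, hz⟩ := hf n y
    exact ⟨z, by show H6_tr A f m h (f n z) = x; rw [hz, hy]⟩

theorem H6_tr_seq (a : ∀ n, A n) (ha : ∀ n, f n (a (n + 1)) = a n) (m : ℕ) {n : ℕ} (h : m ≤ n) :
    H6_tr A f m h (a n) = a m := by
  induction n, h using Nat.le_induction with
  | base =>
    rw [H6_tr_self]
    rfl
  | succ n h ih =>
    rw [H6_tr_succ A f m h]
    show H6_tr A f m h (f n (a (n + 1))) = a m
    rw [ha, ih]


variable [IsNoetherianRing Λ] [Module.Finite Λ k]

/-- Inverse limits of surjective systems with bounded embedding dimension. -/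
theorem H6_exists_cring_limit (hf : ∀ n, Function.Surjective (f n)) (d : ℕ)
    (hd : ∀ n, Module.finrank (IsLocalRing.ResidueField (A n)) (IsLocalRing.CotangentSpace (A n)) ≤ d) :
    ∃ (S : CRing Λ k) (π : ∀ n, HomSet S.carrier S.res (A n)),
      (∀ n, HomSet.map (f n) (π (n + 1)) = π n) ∧
      (∀ n, Function.Surjective (π n).1) ∧
      (∀ a : ∀ n, A n, (∀ n, f n (a (n + 1)) = a n) → ∃! s : S.carrier, ∀ n, (π n).1 s = a n) ∧
      (∀ n, ∃ N, RingHom.ker (π N).1 ≤ IsLocalRing.maximalIdeal S.carrier ^ n) ∧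
      (∀ n, ∃ N, IsLocalRing.maximalIdeal S.carrier ^ N ≤ RingHom.ker (π n).1) := by
  classical
  -- Step A: stabilisation of the embedding dimension
  let e : ℕ → ℕ := fun n => (maximalIdeal (A n)).spanFinrank
  have he_le : ∀ n, e n ≤ d := fun n => by
    show (maximalIdeal (A n)).spanFinrank ≤ d
    rw [IsLocalRing.spanFinrank_maximalIdeal_eq_finrank_cotangentSpace]
    exact hd n
  have hmap : ∀ n, Ideal.map (f n).toAlgHom.toRingHom (maximalIdeal (A (n + 1))) =
      maximalIdeal (A n) := by
    intro n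
    apply le_antisymm
    · exact H6_map_maximalIdeal_le (f n)
    · intro x hx
      obtain ⟨b, rfl⟩ := hf n x
      apply Ideal.mem_map_of_mem
      rw [Art.mem_maximalIdeal_iff] at hx ⊢
      rw [← Art.res_app (f n) b]
      exact hx
  have he_mono : ∀ n, e n ≤ e (n + 1) := fun n => by
    have := Ideal.spanFinrank_map_le_of_fg (f n).toAlgHom.toRingHom
      ((isNoetherianRing_iff_ideal_fg (A (n + 1))).1 inferInstance (maximalIdeal (A (n + 1))))
    rw [hmap n] at this
    exact this
  have hbdd : BddAbove (Set.range e) := ⟨d, by rintro _ ⟨n, rfl⟩; exact he_le n⟩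
  obtain ⟨n₀, hn₀⟩ := Nat.sSup_mem (Set.range_nonempty e) hbdd
  have hmax : ∀ n, e n ≤ e n₀ := fun n => hn₀ ▸ le_csSup hbdd ⟨n, rfl⟩
  have hK : ∀ n, n₀ ≤ n →
      RingHom.ker (f n).toAlgHom.toRingHom ≤ maximalIdeal (A (n + 1)) ^ 2 := by
    intro n hn
    apply H6_ker_le_sq_of_spanFinrank_le _ (hf n)
    have h1 : e n₀ ≤ e n := monotone_nat_of_le_succ he_mono hn
    have h2 := hmax (n + 1)
    show e (n + 1) ≤ e n
    omega
  -- Step B: a smooth cover of the stable level and compatible lifts
  obtain ⟨P, hPsm, φ₀, hφ₀⟩ := H6_exists_smooth_cover (A n₀)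
  let U : ∀ {m : ℕ}, n₀ ≤ m → HomSet P.carrier P.res (A m) :=
    fun {m} h => Nat.leRec (motive := fun m _ => HomSet P.carrier P.res (A m)) φ₀
      (fun k _ ψ => Classical.choose (hPsm (f k) (hf k) ψ)) h
  have hU_self : U (le_refl n₀) = φ₀ := Nat.leRec_self _ _
  have hU_succ : ∀ {m : ℕ} (h : n₀ ≤ m), HomSet.map (f m) (U (Nat.le_succ_of_le h)) = U h := by
    intro m h
    have h1 : U (Nat.le_succ_of_le h) = Classical.choose (hPsm (f m) (hf m) (U h)) :=
      Nat.leRec_succ _ _ h
    rw [h1]
    exact Classical.choose_spec (hPsm (f m) (hf m) (U h))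
  let Φ : ∀ m, HomSet P.carrier P.res (A m) := fun m =>
    if h : m ≤ n₀ then HomSet.map (H6_tr A f m h) φ₀ else U (le_of_not_ge h)
  have hΦcompat : ∀ m, HomSet.map (f m) (Φ (m + 1)) = Φ m := by
    intro m
    by_cases h1 : m + 1 ≤ n₀
    · have h0 : m ≤ n₀ := Nat.le_of_succ_le h1
      simp only [Φ, dif_pos h1, dif_pos h0]
      rw [← H6_homSet_map_comp, H6_tr_left]
    · have hm : n₀ ≤ m := Nat.lt_succ_iff.1 (not_le.1 h1)
      have e1 : Φ (m + 1) = U (Nat.le_succ_of_le hm) := by
        simp only [Φ, dif_neg h1]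
      rw [e1, hU_succ hm]
      by_cases h0 : m ≤ n₀
      · have hmn : m = n₀ := le_antisymm h0 hm
        subst hmn
        simp only [Φ, dif_pos h0]
        rw [H6_tr_self, H6_homSet_map_id]
        exact hU_self
      · simp only [Φ, dif_neg h0]
  -- surjectivity
  have hUsurj : ∀ {m : ℕ} (h : n₀ ≤ m), Function.Surjective (U h).1 := by
    intro m h
    induction m, h using Nat.le_induction with
    | base =>
      rw [hU_self]
      exact hφ₀
    | succ m h ih =>
      set ψ' := U (Nat.le_succ_of_le h) with hψ'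
      have hcomp : ∀ p, f m (ψ'.1 p) = (U h).1 p := fun p =>
        congrArg (fun χ : HomSet P.carrier P.res (A m) => χ.1 p) (hU_succ h)
      obtain ⟨N, hN⟩ := H6_homSet_kills_mpow P ψ'
      let χ : P.trunc N ⟶ A (m + 1) := H6_truncLift P ψ' N hN
      have hχs : Function.Surjective χ := by
        apply H6_surjective_of_cotangent χ
        apply le_antisymm
        · exact sup_le (H6_map_maximalIdeal_le χ) (Ideal.pow_le_self two_ne_zero)
        · intro x hx
          obtain ⟨p, hp⟩ := ih (f m x)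
          have hpm : (Ideal.Quotient.mk (P.mpow N) p : P.trunc N) ∈ maximalIdeal (P.trunc N) := by
            refine (Art.mem_maximalIdeal_iff (P.trunc N) _).2 ?_
            show P.res p = 0
            have h1 : (A m).res ((U h).1 p) = P.res p :=
              congrArg (fun g : P.carrier →ₐ[Λ] k => g p) (U h).2
            rw [← h1, hp, Art.res_app (f m) x]
            exact (Art.mem_maximalIdeal_iff _ x).1 hx
          have hker : x - ψ'.1 p ∈ RingHom.ker (f m).toAlgHom.toRingHom := by
            show f m (x - ψ'.1 p) = 0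
            rw [map_sub, hcomp, hp, sub_self]
          have hsq := hK m h hker
          have hx' : x = χ (Ideal.Quotient.mk (P.mpow N) p) + (x - ψ'.1 p) := by
            rw [H6_truncLift_mk]
            ring
          rw [hx']
          exact Ideal.add_mem _ (Ideal.mem_sup_left (Ideal.mem_map_of_mem _ hpm))
            (Ideal.mem_sup_right hsq)
      intro a
      obtain ⟨y, hy⟩ := hχs a
      obtain ⟨p, rfl⟩ := Ideal.Quotient.mk_surjective y
      exact ⟨p, hy⟩
  have hΦsurj : ∀ m, Function.Surjective (Φ m).1 := by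
    intro m
    by_cases h : m ≤ n₀
    · simp only [Φ, dif_pos h]
      intro a
      obtain ⟨b, hb⟩ := H6_tr_surjective A f hf m h a
      obtain ⟨p, hp⟩ := hφ₀ b
      exact ⟨p, by show H6_tr A f m h (φ₀.1 p) = a; rw [hp, hb]⟩
    · simp only [Φ, dif_neg h]
      exact hUsurj _
  -- Step C: the limit ring
  let J : ℕ → Ideal P.carrier := fun n => RingHom.ker (Φ n).1
  have hΦstep : ∀ n p, f n ((Φ (n + 1)).1 p) = (Φ n).1 p := fun n p =>
    congrArg (fun χ : HomSet P.carrier P.res (A n) => χ.1 p) (hΦcompat n)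
  have hJanti : Antitone J := by
    apply antitone_nat_of_succ_le
    intro n x hx
    have hx0 : (Φ (n + 1)).1 x = 0 := hx
    show (Φ n).1 x = 0
    rw [← hΦstep, hx0, map_zero]
  let I : Ideal P.carrier := ⨅ n, J n
  have hΦres : ∀ n p, (A n).res ((Φ n).1 p) = P.res p := fun n p =>
    congrArg (fun g : P.carrier →ₐ[Λ] k => g p) (Φ n).2
  have hI : I ≤ maximalIdeal P.carrier := by
    intro x hx
    have h0 : (Φ 0).1 x = 0 := (Ideal.mem_iInf.1 hx 0)
    rw [CRing.mem_maximalIdeal_iff, ← hΦres 0, h0, map_zero]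
  let S : CRing Λ k := H6_cringQuot P I hI
  let mk : P.carrier →ₐ[Λ] S.carrier := H6_cringQuotMk P I hI
  have hmks : Function.Surjective mk := H6_cringQuotMk_surjective P I hI
  let π : ∀ n, HomSet S.carrier S.res (A n) := fun n =>
    H6_cringQuotLift P I hI (Φ n) (fun j hj => Ideal.mem_iInf.1 hj n)
  have hπmk : ∀ n p, (π n).1 (mk p) = (Φ n).1 p := fun n p => rfl
  have hmkm : Ideal.map mk (maximalIdeal P.carrier) ≤ maximalIdeal S.carrier :=
    H6_cring_map_maximalIdeal_le P S mk (H6_cringQuotMk_res P I hI)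
  have hmkpow : ∀ j y, y ∈ maximalIdeal P.carrier ^ j → mk y ∈ maximalIdeal S.carrier ^ j := by
    intro j y hy
    have h1 : mk y ∈ Ideal.map mk (maximalIdeal P.carrier ^ j) := Ideal.mem_map_of_mem _ hy
    rw [Ideal.map_pow] at h1
    exact Ideal.pow_right_mono hmkm j h1
  have h5 : ∀ n, ∃ N, maximalIdeal S.carrier ^ N ≤ RingHom.ker (π n).1 := by
    intro n
    obtain ⟨N, hN⟩ := H6_homSet_kills_mpow S (π n)
    exact ⟨N + 1, fun x hx => hN x hx⟩
  have hchev : ∀ j, ∃ q, j ≤ q ∧ J q ≤ I ⊔ maximalIdeal P.carrier ^ j := by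
    intro j
    obtain ⟨q, hq⟩ := H6_chevalley P J hJanti j
    exact ⟨max j q, le_max_left _ _, (hJanti (le_max_right j q)).trans hq⟩
  have hmem_sup : ∀ j x, x ∈ I ⊔ maximalIdeal P.carrier ^ j →
      mk x ∈ maximalIdeal S.carrier ^ j := by
    intro j x hx
    obtain ⟨i, hi, y, hy, rfl⟩ := Submodule.mem_sup.1 hx
    rw [map_add, (H6_cringQuotMk_eq_zero_iff P I hI i).2 hi, zero_add]
    exact hmkpow j y hy
  have h4 : ∀ n, ∃ N, RingHom.ker (π N).1 ≤ maximalIdeal S.carrier ^ n := by
    intro n
    obtain ⟨q, -, hq⟩ := hchev n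
    refine ⟨q, fun x hx => ?_⟩
    obtain ⟨p, rfl⟩ := hmks x
    have hp : p ∈ J q := by
      show (Φ q).1 p = 0
      rw [← hπmk]
      exact hx
    exact hmem_sup n p (hq hp)
  refine ⟨S, π, ?_, ?_, ?_, h4, h5⟩
  · intro n
    apply Subtype.ext
    apply AlgHom.ext
    intro x
    obtain ⟨p, rfl⟩ := hmks x
    show f n ((π (n + 1)).1 (mk p)) = (π n).1 (mk p)
    rw [hπmk, hπmk, hΦstep]
  · intro n a
    obtain ⟨p, hp⟩ := hΦsurj n a
    exact ⟨mk p, hp⟩
  · intro a ha
    choose p hp using fun n => hΦsurj n (a n)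
    have hp_step : ∀ n, p (n + 1) - p n ∈ J n := by
      intro n
      show (Φ n).1 (p (n + 1) - p n) = 0
      rw [map_sub, ← hΦstep, hp, hp, ha, sub_self]
    have hp_le : ∀ m n, m ≤ n → p n - p m ∈ J m := by
      intro m n h
      induction n, h using Nat.le_induction with
      | base => rw [sub_self]; exact Ideal.zero_mem _
      | succ n h ih =>
        have : p (n + 1) - p m = (p (n + 1) - p n) + (p n - p m) := by ring
        rw [this]
        exact Ideal.add_mem _ (hJanti h (hp_step n)) ih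
    choose Q hQge hQ using hchev
    let t : ℕ → S.carrier := fun j => mk (p (Q j))
    have ht : ∀ {i j : ℕ}, i ≤ j →
        t i ≡ t j [SMOD (maximalIdeal S.carrier ^ i • ⊤ : Submodule S.carrier S.carrier)] := by
      intro i j hij
      rw [SModEq.sub_mem, smul_eq_mul, Ideal.mul_top]
      show mk (p (Q i)) - mk (p (Q j)) ∈ maximalIdeal S.carrier ^ i
      rw [← map_sub]
      apply hmem_sup
      rcases le_total (Q i) (Q j) with h | h
      · have h1 := hp_le _ _ h
        have h2 : p (Q i) - p (Q j) ∈ J (Q i) := by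
          rw [← Ideal.neg_mem_iff, neg_sub]
          exact h1
        exact hQ i h2
      · have h1 := hp_le _ _ h
        have h3 := hQ j h1
        exact sup_le_sup_left (Ideal.pow_le_pow_right hij) I h3
    have hcomplete := S.isAdicComplete
    obtain ⟨L, hL⟩ := IsPrecomplete.prec hcomplete.toIsPrecomplete ht
    have hLπ : ∀ n, (π n).1 L = a n := by
      intro n
      obtain ⟨N, hN⟩ := h5 n
      set j := max N n with hj
      have h1 := hL j
      rw [SModEq.sub_mem, smul_eq_mul, Ideal.mul_top] at h1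
      have h2 : t j - L ∈ RingHom.ker (π n).1 :=
        hN (Ideal.pow_le_pow_right (le_max_left N n) h1)
      have h3 : (π n).1 (t j) = (π n).1 L := by
        have : (π n).1 (t j - L) = 0 := h2
        rw [map_sub, sub_eq_zero] at this
        exact this
      rw [← h3]
      show (π n).1 (mk (p (Q j))) = a n
      rw [hπmk]
      have hnQ : n ≤ Q j := (le_max_right N n).trans (hQge j)
      have h4 : (Φ n).1 (p (Q j) - p n) = 0 := hp_le n (Q j) hnQ
      rw [map_sub, sub_eq_zero] at h4
      rw [h4, hp]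
    refine ⟨L, hLπ, ?_⟩
    intro s' hs'
    obtain ⟨x, rfl⟩ := hmks s'
    obtain ⟨y, hy⟩ := hmks L
    rw [← hy, ← sub_eq_zero, ← map_sub]
    apply (H6_cringQuotMk_eq_zero_iff P I hI _).2
    rw [Ideal.mem_iInf]
    intro n
    show (Φ n).1 (x - y) = 0
    rw [map_sub, ← hπmk, ← hπmk, hs', hy, hLπ, sub_self]

end Limit

end Groth.Agent.Lib.helper6
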