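import Mathlib

set_option autoImplicit false
set_option linter.style.haveILetI false

namespace Groth.Agent.Lib.helper6

universe u

open TensorProduct

lemma H6_pow_indep {k K : Type u} [Field k] [Field K] [Algebra k K] (p : ℕ) (hp : p.Prime)
    [CharP k p] [Algebra.IsGeometricallyReduced k K] :
    ∀ s : Finset K, LinearIndepOn k _root_.id (s : Set K) →
      LinearIndepOn k (· ^ p) (s : Set K) := by
  intro s hs
  haveI : Fact p.Prime := ⟨hp⟩
  haveI : CharP K p := charP_of_injective_algebraMap (algebraMap k K).injective p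
  haveI : IsReduced (AlgebraicClosure k ⊗[k] K) := inferInstance
  have hinj : Function.Injective
      (Algebra.TensorProduct.includeRight : K →ₐ[k] AlgebraicClosure k ⊗[k] K) :=
    Algebra.TensorProduct.includeRight_injective (RingHom.injective _)
  haveI : Nontrivial (AlgebraicClosure k ⊗[k] K) := hinj.nontrivial
  haveI : CharP (AlgebraicClosure k ⊗[k] K) p :=
    charP_of_injective_ringHom
      (f := (Algebra.TensorProduct.includeRight : K →ₐ[k] AlgebraicClosure k ⊗[k] K).toRingHom)
      hinj p
  haveI : ExpChar (AlgebraicClosure k ⊗[k] K) p := ExpChar.prime hp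
  rw [LinearIndepOn, Fintype.linearIndependent_iff]
  intro g hg x
  have hb : ∀ x : (s : Set K), ∃ b : AlgebraicClosure k,
      b ^ p = algebraMap k (AlgebraicClosure k) (g x) :=
    fun x => IsAlgClosed.exists_pow_nat_eq _ hp.pos
  choose b hb using hb
  have ht : (∑ x : (s : Set K), b x ⊗ₜ[k] (x : K) : AlgebraicClosure k ⊗[k] K) ^ p = 0 := by
    rw [sum_pow_char]
    have h1 : ∀ x : (s : Set K), (b x ⊗ₜ[k] (x : K) : AlgebraicClosure k ⊗[k] K) ^ p =
        (1 : AlgebraicClosure k) ⊗ₜ[k] (g x • (x : K) ^ p) := by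
      intro x
      rw [Algebra.TensorProduct.tmul_pow, hb, Algebra.algebraMap_eq_smul_one,
        TensorProduct.smul_tmul]
    simp only [h1]
    rw [← TensorProduct.tmul_sum]
    have hg' : ∑ x : (s : Set K), g x • (x : K) ^ p = 0 := hg
    rw [hg', TensorProduct.tmul_zero]
  have ht0 : (∑ x : (s : Set K), b x ⊗ₜ[k] (x : K) : AlgebraicClosure k ⊗[k] K) = 0 :=
    IsNilpotent.eq_zero ⟨p, ht⟩
  have hli : LinearIndependent (AlgebraicClosure k)
      (fun x : (s : Set K) => (1 : AlgebraicClosure k) ⊗ₜ[k] (x : K)) :=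
    Module.Flat.linearIndependent_one_tmul hs
  rw [Fintype.linearIndependent_iff] at hli
  have h1 := hli b (by
    have h2 : ∀ x : (s : Set K), b x • ((1 : AlgebraicClosure k) ⊗ₜ[k] (x : K)) =
        b x ⊗ₜ[k] (x : K) := by
      intro x
      rw [TensorProduct.smul_tmul', smul_eq_mul, mul_one]
    simp only [h2]
    exact ht0) x
  have h2 := hb x
  rw [h1, zero_pow hp.ne_zero] at h2
  exact (map_eq_zero_iff _ (algebraMap k (AlgebraicClosure k)).injective).1 h2.symm

lemma H6_fs_of_geomReduced (k K : Type u) [Field k] [Field K] [Algebra k K]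
    [Algebra.EssFiniteType k K] [Algebra.IsGeometricallyReduced k K] :
    Algebra.FormallySmooth k K := by
  obtain _ | ⟨p, hp, hpk⟩ := CharP.exists' k
  · haveI : PerfectField k := PerfectField.ofCharZero
    exact Algebra.FormallySmooth.of_perfectField
  · haveI : ExpChar k p := .prime hp.out
    obtain ⟨s, hs, hsep⟩ :=
      exists_isTranscendenceBasis_and_isSeparable_of_linearIndepOn_pow_of_essFiniteType
        (k := k) (K := K) p hp.out (H6_pow_indep p hp.out)
    have : Algebra.IsSeparable
        (↥(IntermediateField.adjoin k (Set.range ((↑) : s → K)))) K := by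
      convert! hsep <;> simp
    exact .of_algebraicIndependent_of_isSeparable hs.1

end Groth.Agent.Lib.helper6
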