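import Mathlib
import Groth.Agent.Lib.helper6.GeomRedFS

set_option autoImplicit false
set_option linter.style.haveILetI false

namespace Groth.Agent.Lib.helper6

universe u w

open TensorProduct

/-- a field extension all of whose finitely generated subextensions are formally smooth
is formally smooth. -/
theorem H6_fs_field_of_fg (k : Type w) (K : Type u) [Field k] [Field K] [Algebra k K]
    (hfg : ∀ F : IntermediateField k K, F.FG → Algebra.FormallySmooth k F) :
    Algebra.FormallySmooth k K := by
  classical
  refine ⟨inferInstance, ?_⟩
  suffices h : ∀ x : Algebra.H1Cotangent k K, x = 0 from ⟨fun a b => by rw [h a, h b]⟩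
  intro x
  obtain ⟨y, hy⟩ := Algebra.Extension.Cotangent.mk_surjective x.1
  have hx : (Algebra.Generators.self k K).toExtension.cotangentComplex x.1 = 0 := x.2
  rw [← hy, Algebra.Extension.cotangentComplex_mk] at hx
  have hpd : ∀ s : K, MvPolynomial.aeval (Algebra.Generators.self k K).val
      (MvPolynomial.pderiv s y.1) = 0 := by
    intro s
    rw [← Algebra.Generators.cotangentSpaceBasis_repr_one_tmul, hx, map_zero]
    rfl
  have hy0 : MvPolynomial.aeval (Algebra.Generators.self k K).val y.1 = 0 :=
    Algebra.Generators.aeval_val_eq_zero y.2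
  set F := IntermediateField.adjoin k ((y.1.vars : Finset K) : Set K) with hF
  haveI : Algebra.FormallySmooth k F := hfg F (IntermediateField.fg_adjoin_finset _)
  have hsub : Subsingleton (Algebra.H1Cotangent k F) :=
    Algebra.FormallySmooth.subsingleton_h1Cotangent
  obtain ⟨y', hy'⟩ := MvPolynomial.exists_rename_eq_of_vars_subset_range y.1
    (Subtype.val : F → K) Subtype.val_injective (by
      intro s hs
      exact ⟨⟨s, IntermediateField.subset_adjoin k _ hs⟩, rfl⟩)
  have hcomm : ∀ q : MvPolynomial F k,
      MvPolynomial.aeval (Algebra.Generators.self k K).val (MvPolynomial.rename Subtype.val q) =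
        ((MvPolynomial.aeval (Algebra.Generators.self k F).val q : F) : K) := by
    intro q
    rw [MvPolynomial.aeval_rename]
    exact (MvPolynomial.comp_aeval_apply (f := (Algebra.Generators.self k F).val) F.val q).symm
  have hy'0 : y' ∈ (Algebra.Generators.self k F).ker := by
    rw [Algebra.Generators.ker_eq_ker_aeval_val, RingHom.mem_ker]
    apply Subtype.val_injective
    rw [← hcomm, hy', hy0]
    rfl
  have hpd' : ∀ t : F, MvPolynomial.aeval (Algebra.Generators.self k F).val
      (MvPolynomial.pderiv t y') = 0 := by
    intro t
    apply Subtype.val_injective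
    rw [← hcomm, ← MvPolynomial.pderiv_rename Subtype.val_injective, hy', hpd]
    rfl
  have hmem : Algebra.Extension.Cotangent.mk (P := (Algebra.Generators.self k F).toExtension)
      ⟨y', hy'0⟩ ∈ LinearMap.ker (Algebra.Generators.self k F).toExtension.cotangentComplex := by
    rw [LinearMap.mem_ker, Algebra.Extension.cotangentComplex_mk]
    apply (Algebra.Generators.self k F).cotangentSpaceBasis.repr.injective
    ext t
    rw [Algebra.Generators.cotangentSpaceBasis_repr_one_tmul, hpd' t, map_zero]
    rfl
  have h0 : (⟨_, hmem⟩ : Algebra.H1Cotangent k F) = 0 := hsub.elim _ _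
  have h1 : Algebra.Extension.Cotangent.mk (P := (Algebra.Generators.self k F).toExtension)
      ⟨y', hy'0⟩ = 0 := congrArg Subtype.val h0
  rw [Algebra.Extension.Cotangent.mk_eq_zero_iff] at h1
  have hle : ((Algebra.Generators.self k F).ker).map
      (MvPolynomial.rename Subtype.val : MvPolynomial F k →ₐ[k] MvPolynomial K k) ≤
      (Algebra.Generators.self k K).ker := by
    rw [Ideal.map_le_iff_le_comap]
    intro q hq
    rw [Ideal.mem_comap, Algebra.Generators.ker_eq_ker_aeval_val, RingHom.mem_ker]
    rw [Algebra.Generators.ker_eq_ker_aeval_val, RingHom.mem_ker] at hq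
    show MvPolynomial.aeval (Algebra.Generators.self k K).val
      (MvPolynomial.rename Subtype.val q) = 0
    rw [hcomm, hq]
    rfl
  have h2 : y.1 ∈ (Algebra.Generators.self k K).ker ^ 2 := by
    rw [← hy']
    refine Ideal.pow_right_mono hle 2 ?_
    rw [← Ideal.map_pow]
    exact Ideal.mem_map_of_mem _ h1
  have h3 : Algebra.Extension.Cotangent.mk y = 0 :=
    (Algebra.Extension.Cotangent.mk_eq_zero_iff y).2 h2
  apply Subtype.ext
  rw [← hy, h3]
  rfl

/-- separable (geometrically reduced) field extensions are formally smooth, no finiteness. -/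
theorem H6_fs_field_of_geomReduced (k K : Type u) [Field k] [Field K] [Algebra k K]
    [Algebra.IsGeometricallyReduced k K] : Algebra.FormallySmooth k K := by
  refine H6_fs_field_of_fg k K (fun F hF => ?_)
  haveI : Algebra.EssFiniteType k F := IntermediateField.essFiniteType_iff.2 hF
  haveI : Algebra.IsGeometricallyReduced k F :=
    Algebra.IsGeometricallyReduced.of_injective F.val F.val.injective
  exact H6_fs_of_geomReduced k F

/-- every field extension of a perfect field is formally smooth. -/
theorem H6_fs_field_of_perfect (k : Type w) (K : Type u) [Field k] [Field K] [Algebra k K]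
    [PerfectField k] : Algebra.FormallySmooth k K := by
  refine H6_fs_field_of_fg k K (fun F hF => ?_)
  haveI : Algebra.EssFiniteType k F := IntermediateField.essFiniteType_iff.2 hF
  exact Algebra.FormallySmooth.of_perfectField

end Groth.Agent.Lib.helper6

namespace Groth.Agent.Lib.helper6

universe v w

/-- ring-hom form of formally smooth lifting, avoiding algebra-instance diamonds. -/
lemma H6_lift_field {k : Type w} {K B : Type v} [CommRing k] [CommRing K] [Algebra k K]
    [Algebra.FormallySmooth k K] [CommRing B] (ρ : k →+* B) (I : Ideal B) (hI : IsNilpotent I)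
    (u : K →+* B ⧸ I) (hu : ∀ x : k, u (algebraMap k K x) = Ideal.Quotient.mk I (ρ x)) :
    ∃ v : K →+* B, (Ideal.Quotient.mk I).comp v = u ∧ ∀ x, v (algebraMap k K x) = ρ x := by
  letI : Algebra k B := ρ.toAlgebra
  let u' : K →ₐ[k] B ⧸ I := { u with commutes' := hu }
  obtain ⟨v, hv⟩ := Algebra.FormallySmooth.exists_lift I hI u'
  refine ⟨v.toRingHom, ?_, fun x => v.commutes x⟩
  ext x
  exact congrArg (fun g => g x) hv

end Groth.Agent.Lib.helper6
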