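import Mathlib
import Groth.Agent.Lib.helper6.GeomRedFS2

set_option autoImplicit false
open TensorProduct Polynomial

namespace Groth.Agent.Lib.helper6

universe w u

/-- polynomial divisibility core. -/
lemma H6_poly_core (κ : Type*) [Field κ] (c : κ) (N : ℕ) (r₁ r₂ : κ[X])
    (h : (X : κ[X]) ^ (N + 2) ∣ (C c * X + X ^ 2 * r₁ + X ^ (N + 2) * r₂) ^ (N + 1)) : c = 0 := by
  have hP : C c * X + X ^ 2 * r₁ + X ^ (N + 2) * r₂ = X * (C c + X * (r₁ + X ^ N * r₂)) := by ring
  rw [hP, mul_pow, pow_succ (X : κ[X]) (N + 1)] at h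
  have h1 : (X : κ[X]) ∣ (C c + X * (r₁ + X ^ N * r₂)) ^ (N + 1) :=
    (mul_dvd_mul_iff_left (pow_ne_zero (N + 1) X_ne_zero)).mp h
  have h2 : (X : κ[X]) ∣ C c + X * (r₁ + X ^ N * r₂) := Polynomial.prime_X.dvd_of_dvd_pow h1
  have h3 : (X : κ[X]) ∣ C c := (dvd_add_left (dvd_mul_right X _)).mp h2
  have h4 := Polynomial.X_dvd_iff.mp h3
  simpa using h4

end Groth.Agent.Lib.helper6

namespace Groth.Agent.Lib.helper6

universe w u

/-- abstract lifting contradiction: a `k₀`-algebra `T` formally smooth, `κ` a field which is a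
`T`-algebra, `x` with `x ^ (N+1) = 0`, residue zero, and a "derivation" `D` with `D x ≠ 0`. -/
theorem H6_no_deriv (k₀ : Type w) (T κ : Type u) [Field k₀] [CommRing T] [Field κ]
    [Algebra k₀ T] [Algebra T κ] [Algebra k₀ κ] [IsScalarTower k₀ T κ]
    [Algebra.FormallySmooth k₀ T]
    (D : T → κ) (hD0 : ∀ c : k₀, D (algebraMap k₀ T c) = 0)
    (hDadd : ∀ a b, D (a + b) = D a + D b)
    (hDmul : ∀ a b, D (a * b) = algebraMap T κ a * D b + algebraMap T κ b * D a)
    (x : T) (N : ℕ) (hxN : x ^ (N + 1) = 0) (hx0 : algebraMap T κ x = 0) : D x = 0 := by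
  classical
  let B := κ[X] ⧸ Ideal.span {(X : κ[X]) ^ (N + 2)}
  let J : Ideal B := (Ideal.span {(X : κ[X]) ^ 2}).map (Ideal.Quotient.mk _)
  have hJ : IsNilpotent J := by
    refine ⟨N + 2, ?_⟩
    show J ^ (N + 2) = ⊥
    rw [← Ideal.map_pow, Ideal.span_singleton_pow, ← le_bot_iff]
    rw [← Ideal.map_quotient_self (Ideal.span {(X : κ[X]) ^ (N + 2)})]
    apply Ideal.map_mono
    rw [Ideal.span_singleton_le_span_singleton]
    exact ⟨X ^ (N + 2), by ring⟩
  let q : κ[X] →+* B ⧸ J := (Ideal.Quotient.mk J).comp (Ideal.Quotient.mk _)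
  have hq2 : q (X ^ 2) = 0 := by
    show Ideal.Quotient.mk J (Ideal.Quotient.mk _ (X ^ 2)) = 0
    rw [Ideal.Quotient.eq_zero_iff_mem]
    exact Ideal.mem_map_of_mem _ (Ideal.subset_span rfl)
  have hD1 : D 1 = 0 := by
    have := hD0 1
    rwa [map_one] at this
  have hDz : D 0 = 0 := by
    have := hD0 0
    rwa [map_zero] at this
  let g : T →ₐ[k₀] B ⧸ J :=
    { toFun := fun t => q (C (algebraMap T κ t) + C (D t) * X)
      map_one' := by simp [hD1]
      map_zero' := by simp [hDz]
      map_add' := fun a b => by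
        rw [← map_add]; congr 1
        rw [hDadd, map_add, map_add, map_add]; ring
      map_mul' := fun a b => by
        rw [← map_mul]
        have e1 : (C (algebraMap T κ a) + C (D a) * X) * (C (algebraMap T κ b) + C (D b) * X) =
            (C (algebraMap T κ (a * b)) + C (D (a * b)) * X) + C (D a) * C (D b) * X ^ 2 := by
          rw [hDmul, map_mul, map_add, map_mul, map_mul, map_mul]; ring
        have e2 : q (C (D a) * C (D b) * X ^ 2) = 0 := by rw [map_mul, hq2, mul_zero]
        rw [e1, map_add q (C (algebraMap T κ (a * b)) + C (D (a * b)) * X) _, e2, add_zero]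
      commutes' := fun c => by
        show q (C (algebraMap T κ (algebraMap k₀ T c)) + C (D (algebraMap k₀ T c)) * X) = _
        rw [hD0, map_zero, zero_mul, add_zero, ← IsScalarTower.algebraMap_apply]
        rfl }
  let φ := Algebra.FormallySmooth.lift J hJ g
  have hφ : Ideal.Quotient.mk J (φ x) = g x := Algebra.FormallySmooth.mk_lift J hJ g x
  obtain ⟨P, hP⟩ := Ideal.Quotient.mk_surjective (φ x)
  have hgx : g x = q (C (D x) * X) := by
    show q (C (algebraMap T κ x) + C (D x) * X) = _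
    rw [hx0, map_zero, zero_add]
  rw [hgx, ← hP] at hφ
  have h1 : Ideal.Quotient.mk (Ideal.span {(X : κ[X]) ^ (N + 2)}) (P - C (D x) * X) ∈ J := by
    rw [← Ideal.Quotient.eq_zero_iff_mem, map_sub, map_sub, hφ]
    exact sub_self _
  obtain ⟨Q, hQ, hQe⟩ := (Ideal.mem_map_iff_of_surjective _ Ideal.Quotient.mk_surjective).mp h1
  obtain ⟨r₁, rfl⟩ := Ideal.mem_span_singleton.mp hQ
  have h2 : (P - C (D x) * X) - X ^ 2 * r₁ ∈ Ideal.span {(X : κ[X]) ^ (N + 2)} := by
    rw [← Ideal.Quotient.eq_zero_iff_mem, map_sub, hQe, sub_self]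
  obtain ⟨r₂, hr₂⟩ := Ideal.mem_span_singleton.mp h2
  have hPeq : P = C (D x) * X + X ^ 2 * r₁ + X ^ (N + 2) * r₂ := by
    rw [← hr₂]; ring
  have h3 : Ideal.Quotient.mk (Ideal.span {(X : κ[X]) ^ (N + 2)}) (P ^ (N + 1)) = 0 := by
    rw [map_pow, hP, ← map_pow, hxN, map_zero]
  rw [Ideal.Quotient.eq_zero_iff_mem, Ideal.mem_span_singleton, hPeq] at h3
  exact H6_poly_core κ (D x) N r₁ r₂ h3

end Groth.Agent.Lib.helper6

namespace Groth.Agent.Lib.helper6

universe w u

/-- Artinian local ring, formally smooth over a perfect field, is a field. -/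
theorem H6_artinian_local_fs_isField (k₀ : Type w) (T : Type u) [Field k₀] [PerfectField k₀]
    [CommRing T] [IsLocalRing T] [IsArtinianRing T] [Algebra k₀ T] [Algebra.FormallySmooth k₀ T] :
    IsField T := by
  classical
  haveI : Algebra.FormallySmooth k₀ (IsLocalRing.ResidueField T) :=
    H6_fs_field_of_perfect k₀ (IsLocalRing.ResidueField T)
  have hsurj : Function.Surjective (algebraMap T (IsLocalRing.ResidueField T)) :=
    IsLocalRing.residue_surjective
  obtain ⟨l, hl⟩ := (Algebra.FormallySmooth.iff_split_injection (R := k₀) hsurj).mp inferInstance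
  obtain ⟨I, hI⟩ : ∃ I : Ideal T, I = RingHom.ker (algebraMap T (IsLocalRing.ResidueField T)) :=
    ⟨_, rfl⟩
  have hIm : I = IsLocalRing.maximalIdeal T := by rw [hI]; exact IsLocalRing.ker_residue
  obtain ⟨N, hN⟩ : ∃ N, I ^ N = ⊥ := by
    rw [hIm]
    have := IsArtinianRing.isNilpotent_jacobson_bot (R := T)
    rw [IsLocalRing.jacobson_eq_maximalIdeal ⊥ bot_ne_top] at this
    exact this
  rw [IsLocalRing.isField_iff_maximalIdeal_eq, ← hIm]
  by_contra hne
  have hex : ∃ x ∈ I, x ∉ I ^ 2 := by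
    by_contra hcon
    push_neg at hcon
    have hle : I ≤ I ^ 2 := fun x hx => hcon x hx
    have hall : ∀ n : ℕ, I ≤ I ^ (n + 1) := by
      intro n
      induction n with
      | zero => simp
      | succ n ih =>
        calc I ≤ I ^ 2 := hle
          _ = I * I := pow_two I
          _ ≤ I ^ (n + 1) * I := Ideal.mul_mono_left ih
          _ = I ^ (n + 1 + 1) := (pow_succ I (n + 1)).symm
    apply hne
    have h := hall N
    rw [pow_succ, hN, Ideal.bot_mul] at h
    exact le_bot_iff.mp h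
  obtain ⟨x, hxI, hx2⟩ := hex
  subst hI
  have hv0 : (RingHom.ker (algebraMap T (IsLocalRing.ResidueField T))).toCotangent ⟨x, hxI⟩ ≠ 0 := by
    rw [Ne, Ideal.toCotangent_eq_zero]; exact hx2
  have hw0 : KaehlerDifferential.kerCotangentToTensor k₀ T (IsLocalRing.ResidueField T)
      ((RingHom.ker (algebraMap T (IsLocalRing.ResidueField T))).toCotangent ⟨x, hxI⟩) ≠ 0 := by
    intro h0
    apply hv0
    have := LinearMap.congr_fun hl
      ((RingHom.ker (algebraMap T (IsLocalRing.ResidueField T))).toCotangent ⟨x, hxI⟩)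
    simp only [LinearMap.comp_apply, LinearMap.id_apply] at this
    rw [← this, h0, map_zero]
  obtain ⟨φ, hφ⟩ : ∃ φ : Module.Dual (IsLocalRing.ResidueField T)
      ((IsLocalRing.ResidueField T) ⊗[T] Ω[T⁄k₀]),
      φ (KaehlerDifferential.kerCotangentToTensor k₀ T (IsLocalRing.ResidueField T)
      ((RingHom.ker (algebraMap T (IsLocalRing.ResidueField T))).toCotangent ⟨x, hxI⟩)) ≠ 0 := by
    by_contra hcon
    push_neg at hcon
    exact hw0 ((Module.forall_dual_apply_eq_zero_iff (IsLocalRing.ResidueField T) _).mp hcon)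
  apply hφ
  rw [KaehlerDifferential.kerCotangentToTensor_toCotangent]
  have hxN : x ^ (N + 1) = 0 := by
    have : x ^ N ∈ (RingHom.ker (algebraMap T (IsLocalRing.ResidueField T))) ^ N :=
      Ideal.pow_mem_pow hxI N
    rw [hN] at this
    rw [pow_succ, (Submodule.mem_bot T).mp this, zero_mul]
  refine H6_no_deriv k₀ T (IsLocalRing.ResidueField T)
    (fun t => φ ((1 : IsLocalRing.ResidueField T) ⊗ₜ[T] KaehlerDifferential.D k₀ T t))
    ?_ ?_ ?_ x N hxN (RingHom.mem_ker.mp hxI)
  · intro c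
    show φ ((1 : IsLocalRing.ResidueField T) ⊗ₜ[T] KaehlerDifferential.D k₀ T (algebraMap k₀ T c)) = 0
    rw [Derivation.map_algebraMap, TensorProduct.tmul_zero, map_zero]
  · intro a b
    show φ ((1 : IsLocalRing.ResidueField T) ⊗ₜ[T] KaehlerDifferential.D k₀ T (a + b)) = _
    rw [map_add, TensorProduct.tmul_add, map_add]
  · intro a b
    show φ ((1 : IsLocalRing.ResidueField T) ⊗ₜ[T] KaehlerDifferential.D k₀ T (a * b)) = _
    rw [Derivation.leibniz, TensorProduct.tmul_add, map_add]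
    have e : ∀ (s : T) (y : Ω[T⁄k₀]), φ ((1 : IsLocalRing.ResidueField T) ⊗ₜ[T] (s • y)) =
        algebraMap T (IsLocalRing.ResidueField T) s * φ ((1 : IsLocalRing.ResidueField T) ⊗ₜ[T] y) := by
      intro s y
      rw [← TensorProduct.smul_tmul, Algebra.smul_def, mul_one]
      have : (algebraMap T (IsLocalRing.ResidueField T) s) ⊗ₜ[T] y =
          (algebraMap T (IsLocalRing.ResidueField T) s) •
            ((1 : IsLocalRing.ResidueField T) ⊗ₜ[T] y) := by
        rw [TensorProduct.smul_tmul', smul_eq_mul, mul_one]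
      rw [this, map_smul, smul_eq_mul]
    rw [e, e]

end Groth.Agent.Lib.helper6
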