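import Mathlib
import Groth.Prelude.Def_ArtFun3
import Groth.Agent.Lib.helper6.ArtQuot
import Groth.Agent.Lib.helper6.ArtTan

set_option autoImplicit false
universe u v

open ArtFun ArtFun.Art CategoryTheory

namespace Groth.Agent.Lib.helper6

variable {Λ : Type u} {k : Type u} [CommRing Λ] [Field k] [Algebra Λ k]

/-- the factorisation `B/J → B/J'` for `J ≤ J'` -/
noncomputable def H6_quotToQuot (B : Art Λ k) {J J' : Ideal B} (hJ : J ≤ IsLocalRing.maximalIdeal B)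
    (hJ' : J' ≤ IsLocalRing.maximalIdeal B) (h : J ≤ J') : Art.quot B J hJ ⟶ Art.quot B J' hJ' :=
  Art.quotFactor hJ (Art.quotMk B J' hJ') (by
    intro b hb
    rw [RingHom.mem_ker]
    exact Ideal.Quotient.eq_zero_iff_mem.2 (h hb))

theorem H6_quotToQuot_mk (B : Art Λ k) {J J' : Ideal B} (hJ : J ≤ IsLocalRing.maximalIdeal B)
    (hJ' : J' ≤ IsLocalRing.maximalIdeal B) (h : J ≤ J') (b : B) :
    H6_quotToQuot B hJ hJ' h (Art.quotMk B J hJ b) = Art.quotMk B J' hJ' b := rfl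

theorem H6_quotFactor_mk {C D : Art Λ k} {K : Ideal C} (hK : K ≤ IsLocalRing.maximalIdeal C)
    (p : C ⟶ D) (hp : K ≤ RingHom.ker p.toAlgHom) (c : C) :
    Art.quotFactor hK p hp (Art.quotMk C K hK c) = p c := rfl

theorem H6_quot_hom_ext {C D : Art Λ k} {K : Ideal C} (hK : K ≤ IsLocalRing.maximalIdeal C)
    (g₁ g₂ : Art.quot C K hK ⟶ D) (h : ∀ c : C, g₁ (Art.quotMk C K hK c) = g₂ (Art.quotMk C K hK c)) :
    g₁ = g₂ := by
  apply Art.hom_ext
  apply AlgHom.ext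
  intro x
  obtain ⟨c, rfl⟩ := Art.quotMk_surjective C K hK x
  exact h c

theorem H6_quotToQuot_factor (B : Art Λ k) {A : Art Λ k} {J J' : Ideal B}
    (hJ : J ≤ IsLocalRing.maximalIdeal B) (hJ' : J' ≤ IsLocalRing.maximalIdeal B) (h : J ≤ J')
    (p : B ⟶ A) (hp' : J' ≤ RingHom.ker p.toAlgHom) :
    H6_quotToQuot B hJ hJ' h ≫ Art.quotFactor hJ' p hp' = Art.quotFactor hJ p (h.trans hp') := by
  apply H6_quot_hom_ext
  intro c
  rfl

theorem H6_quotMk_eq_iff (B : Art Λ k) {J : Ideal B} (hJ : J ≤ IsLocalRing.maximalIdeal B) (b b' : B) :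
    Art.quotMk B J hJ b = Art.quotMk B J hJ b' ↔ b - b' ∈ J := by
  rw [Art.quotMk_apply, Art.quotMk_apply]
  exact Ideal.Quotient.eq

/-- The liftability predicate on ideals below the kernel of `p`. -/
def H6_Liftable (F : Art Λ k ⥤ Type v) {B A : Art Λ k} (p : B ⟶ A) (x : F.obj A) (J : Ideal B) : Prop :=
  ∃ (hJ : J ≤ RingHom.ker p.toAlgHom) (hJ' : J ≤ IsLocalRing.maximalIdeal B)
    (y : F.obj (Art.quot B J hJ')), F.map (Art.quotFactor hJ' p hJ) y = x

variable {F : Art Λ k ⥤ Type v}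

theorem H6_liftable_ker {B A : Art Λ k} (p : B ⟶ A) (hp : Function.Surjective p) (x : F.obj A) :
    H6_Liftable F p x (RingHom.ker p.toAlgHom) := by
  have hJ' := H6_ker_le_maximalIdeal p
  refine ⟨le_rfl, hJ', ?_⟩
  have hbij : Function.Bijective (Art.quotFactor hJ' p le_rfl) := by
    constructor
    · intro a b hab
      obtain ⟨a', rfl⟩ := Art.quotMk_surjective B _ hJ' a
      obtain ⟨b', rfl⟩ := Art.quotMk_surjective B _ hJ' b
      rw [H6_quotMk_eq_iff]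
      rw [H6_quotFactor_mk, H6_quotFactor_mk] at hab
      rw [RingHom.mem_ker, map_sub, sub_eq_zero]
      exact hab
    · intro a
      obtain ⟨b, rfl⟩ := hp a
      exact ⟨Art.quotMk B _ hJ' b, rfl⟩
  haveI : IsIso (Art.quotFactor hJ' p le_rfl) := H6_isIso_of_bijective _ hbij
  refine ⟨F.map (inv (Art.quotFactor hJ' p le_rfl)) x, ?_⟩
  rw [← FunctorToTypes.map_comp_apply, IsIso.inv_hom_id, FunctorToTypes.map_id_apply]

theorem H6_liftable_mono {B A : Art Λ k} (p : B ⟶ A) (x : F.obj A) {J J' : Ideal B}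
    (h : J ≤ J') (hJ' : J' ≤ RingHom.ker p.toAlgHom) (hL : H6_Liftable F p x J) :
    H6_Liftable F p x J' := by
  obtain ⟨hJ, hJm, y, hy⟩ := hL
  have hJ'm : J' ≤ IsLocalRing.maximalIdeal B := hJ'.trans (H6_ker_le_maximalIdeal p)
  refine ⟨hJ', hJ'm, F.map (H6_quotToQuot B hJm hJ'm h) y, ?_⟩
  rw [← FunctorToTypes.map_comp_apply, H6_quotToQuot_factor, hy]

theorem H6_liftable_inf [IsNoetherianRing Λ] [Module.Finite Λ k] (h1 : S1 F) {B A : Art Λ k}
    (p : B ⟶ A) (hp : IsSemismallExt p) (x : F.obj A) {J₁ J₂ : Ideal B}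
    (hL₁ : H6_Liftable F p x J₁) (hL₂ : H6_Liftable F p x J₂) : H6_Liftable F p x (J₁ ⊓ J₂) := by
  classical
  set I := RingHom.ker p.toAlgHom with hI
  have hIm : I ≤ IsLocalRing.maximalIdeal B := H6_ker_le_maximalIdeal p
  have hJ₁I : J₁ ≤ I := hL₁.1
  have hJ₂I : J₂ ≤ I := hL₂.1
  have hkill : ∀ m ∈ IsLocalRing.maximalIdeal B, ∀ a ∈ I, m * a = 0 := by
    intro m hm a ha
    have : m * a ∈ IsLocalRing.maximalIdeal B * I := Ideal.mul_mem_mul hm ha
    rw [hp.2] at this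
    exact this
  -- choose J₂' maximal with J₂ ≤ J₂' ≤ I and J₁ ⊓ J₂' = J₁ ⊓ J₂
  let T : Set (Ideal B) := {J' | J₂ ≤ J' ∧ J' ≤ I ∧ J₁ ⊓ J' = J₁ ⊓ J₂}
  have hTne : T.Nonempty := ⟨J₂, le_rfl, hJ₂I, rfl⟩
  haveI : IsNoetherian B B := inferInstanceAs (IsNoetherianRing B)
  obtain ⟨J₂', hJ₂'T, hmax⟩ := set_has_maximal_iff_noetherian.2 (inferInstance : IsNoetherian B B) T hTne
  obtain ⟨hJ₂le, hJ₂'I, hcap⟩ := hJ₂'T
  have hsup : J₁ ⊔ J₂' = I := by
    apply le_antisymm (sup_le hJ₁I hJ₂'I)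
    by_contra hnot
    obtain ⟨a, haI, hanot⟩ := SetLike.not_le_iff_exists.mp hnot
    let J'' : Ideal B := J₂' ⊔ Ideal.span {a}
    have hJ''T : J'' ∈ T := by
      refine ⟨hJ₂le.trans le_sup_left, sup_le hJ₂'I ((Ideal.span_singleton_le_iff_mem _).2 haI), ?_⟩
      apply le_antisymm
      · intro z hz
        obtain ⟨hz1, hz2⟩ := hz
        obtain ⟨j, hj, c, hc, rfl⟩ := Submodule.mem_sup.1 hz2
        obtain ⟨b, rfl⟩ := Ideal.mem_span_singleton'.1 hc
        by_cases hb : b ∈ IsLocalRing.maximalIdeal B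
        · rw [hkill b hb a haI, add_zero] at hz1 ⊢
          rw [← hcap]
          exact ⟨hz1, hj⟩
        · exfalso
          have hbu : IsUnit b := by
            by_contra hnu
            exact hb ((IsLocalRing.mem_maximalIdeal b).2 hnu)
          obtain ⟨u, rfl⟩ := hbu
          apply hanot
          have : a = (↑u⁻¹ : B) * ((j + ↑u * a) - j) := by
            rw [add_sub_cancel_left, ← mul_assoc, Units.inv_mul, one_mul]
          rw [this]
          apply Ideal.mul_mem_left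
          exact Ideal.sub_mem _ (Ideal.mem_sup_left hz1) (Ideal.mem_sup_right hj)
      · rw [← hcap]
        exact inf_le_inf_left _ le_sup_left
    have hlt : J₂' < J'' := by
      refine lt_of_le_of_ne le_sup_left ?_
      intro heq
      apply hanot
      apply Ideal.mem_sup_right
      rw [heq]
      exact Ideal.mem_sup_right (Ideal.subset_span rfl)
    exact hmax J'' hJ''T hlt
  have hL₂' : H6_Liftable F p x J₂' := H6_liftable_mono p x hJ₂le hJ₂'I hL₂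
  rw [← hcap]
  obtain ⟨_, hJ₁m, y₁, hy₁⟩ := hL₁
  obtain ⟨_, hJ₂'m, y₂, hy₂⟩ := hL₂'
  have hJ₀I : J₁ ⊓ J₂' ≤ I := inf_le_left.trans hJ₁I
  have hJ₀m : J₁ ⊓ J₂' ≤ IsLocalRing.maximalIdeal B := hJ₀I.trans hIm
  refine ⟨hJ₀I, hJ₀m, ?_⟩
  have hfp : IsFibreProd (H6_quotToQuot B hJ₀m hJ₁m inf_le_left) (H6_quotToQuot B hJ₀m hJ₂'m inf_le_right)
      (Art.quotFactor hJ₁m p hJ₁I) (Art.quotFactor hJ₂'m p hJ₂'I) := by
    refine ⟨?_, ?_, ?_⟩
    · rw [H6_quotToQuot_factor, H6_quotToQuot_factor]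
    · intro b b' h1' h2'
      obtain ⟨β, rfl⟩ := Art.quotMk_surjective B _ hJ₀m b
      obtain ⟨β', rfl⟩ := Art.quotMk_surjective B _ hJ₀m b'
      rw [H6_quotToQuot_mk, H6_quotToQuot_mk, H6_quotMk_eq_iff] at h1' h2'
      rw [H6_quotMk_eq_iff]
      exact ⟨h1', h2'⟩
    · intro a' a'' haa
      obtain ⟨β₁, rfl⟩ := Art.quotMk_surjective B _ hJ₁m a'
      obtain ⟨β₂, rfl⟩ := Art.quotMk_surjective B _ hJ₂'m a''
      rw [H6_quotFactor_mk, H6_quotFactor_mk] at haa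
      have hmem : β₁ - β₂ ∈ J₁ ⊔ J₂' := by
        rw [hsup, hI, RingHom.mem_ker, map_sub, sub_eq_zero]
        exact haa
      obtain ⟨j₁, hj₁, j₂, hj₂, hj⟩ := Submodule.mem_sup.1 hmem
      refine ⟨Art.quotMk B _ hJ₀m (β₁ - j₁), ?_, ?_⟩
      · rw [H6_quotToQuot_mk, H6_quotMk_eq_iff]
        simpa using J₁.neg_mem hj₁
      · rw [H6_quotToQuot_mk, H6_quotMk_eq_iff]
        have : β₁ - j₁ - β₂ = j₂ := by
          have : β₁ - j₁ - β₂ = (β₁ - β₂) - j₁ := by ring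
          rw [this, ← hj]; ring
        rw [this]
        exact hj₂
  have hsurj2 : Function.Surjective (Art.quotFactor hJ₂'m p hJ₂'I) := by
    intro a
    obtain ⟨b, rfl⟩ := hp.1 a
    exact ⟨Art.quotMk B _ hJ₂'m b, rfl⟩
  obtain ⟨z, hz⟩ := h1 _ _ _ _ hfp hsurj2 ⟨(y₁, y₂), hy₁.trans hy₂.symm⟩
  have hz1 : F.map (H6_quotToQuot B hJ₀m hJ₁m inf_le_left) z = y₁ := congrArg (fun t => t.1.1) hz
  refine ⟨z, ?_⟩
  rw [← H6_quotToQuot_factor B hJ₀m hJ₁m inf_le_left p hJ₁I, FunctorToTypes.map_comp_apply, hz1, hy₁]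

/-- Among the ideals below the kernel of a semismall extension over which `x` lifts there is a least one. -/
theorem H6_exists_least_liftable [IsNoetherianRing Λ] [Module.Finite Λ k] (h1 : S1 F) {B A : Art Λ k}
    (p : B ⟶ A) (hp : IsSemismallExt p) (x : F.obj A) :
    ∃ J₀ : Ideal B, H6_Liftable F p x J₀ ∧ ∀ J : Ideal B, H6_Liftable F p x J → J₀ ≤ J := by
  classical
  let T : Set (Ideal B) := {J | H6_Liftable F p x J}
  have hTne : T.Nonempty := ⟨_, H6_liftable_ker p hp.1 x⟩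
  haveI : IsArtinian B B := inferInstanceAs (IsArtinianRing B)
  obtain ⟨J₀, hJ₀, hmin⟩ := IsArtinian.set_has_minimal T hTne
  refine ⟨J₀, hJ₀, fun J hJ => ?_⟩
  have hinf : J₀ ⊓ J ∈ T := H6_liftable_inf h1 p hp x hJ₀ hJ
  have : ¬ (J₀ ⊓ J < J₀) := hmin _ hinf
  have heq : J₀ ⊓ J = J₀ := by
    by_contra hne
    exact this (lt_of_le_of_ne inf_le_left hne)
  rw [← heq]
  exact inf_le_right

end Groth.Agent.Lib.helper6
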