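import Mathlib
import Groth.Prelude.Def_ArtFun5
import Groth.Agent.Lib.helper6.ArtFormal
import Groth.Agent.Lib.helper6.ArtTan
import Groth.Agent.S12720

set_option autoImplicit false
universe u v

open ArtFun ArtFun.Art CategoryTheory

namespace Groth.Agent.Lib.helper6

variable {Λ : Type u} {k : Type u} [CommRing Λ] [Field k] [Algebra Λ k]

theorem H6_family_ext {R : Type u} [CommRing R] [Algebra Λ R] {resR : R →ₐ[Λ] k}
    {F : Art Λ k ⥤ Type v} {ξ ξ' : Family R resR F} (h : ∀ A φ, ξ.app A φ = ξ'.app A φ) : ξ = ξ' := by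
  have happ : ξ.app = ξ'.app := by
    funext A φ
    exact h A φ
  cases ξ; cases ξ'
  congr

/-- A universal family is versal. -/
theorem H6_versal_of_universal {R : Type u} [CommRing R] [Algebra Λ R] {resR : R →ₐ[Λ] k}
    {F : Art Λ k ⥤ Type v} (ξ : Family R resR F) (hξ : IsUniversal ξ) : IsVersal ξ := by
  intro B A μ _ φ y hy
  obtain ⟨ψ, hψ⟩ := (hξ B).2 y
  refine ⟨ψ, ?_, hψ⟩
  apply (hξ A).1
  rw [ξ.natural, hψ, hy]

/-- A functor with a universal family satisfies `H0`. -/
theorem H6_h0_of_universal {R : Type u} [CommRing R] [Algebra Λ R] {resR : R →ₐ[Λ] k}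
    {F : Art Λ k ⥤ Type v} (ξ : Family R resR F) (hξ : IsUniversal ξ) : H0 F := by
  refine ⟨⟨ξ.app _ ⟨resR, AlgHom.id_comp _⟩⟩, ⟨?_⟩⟩
  intro a b
  obtain ⟨φ, rfl⟩ := (hξ (base Λ k)).2 a
  obtain ⟨ψ, rfl⟩ := (hξ (base Λ k)).2 b
  rw [H6_homSet_base_unique resR φ, H6_homSet_base_unique resR ψ]

theorem H6_along_along {R S T : Type u} [CommRing R] [Algebra Λ R] {resR : R →ₐ[Λ] k}
    [CommRing S] [Algebra Λ S] {resS : S →ₐ[Λ] k} [CommRing T] [Algebra Λ T] {resT : T →ₐ[Λ] k}
    {F : Art Λ k ⥤ Type v} (ξ : Family R resR F) (g : R →ₐ[Λ] S) (hg : resS.comp g = resR)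
    (g' : S →ₐ[Λ] T) (hg' : resT.comp g' = resS) :
    (ξ.along g hg).along g' hg' = ξ.along (g'.comp g) (by rw [← AlgHom.comp_assoc, hg', hg]) := by
  apply H6_family_ext
  intro A φ
  rfl

theorem H6_along_id {R : Type u} [CommRing R] [Algebra Λ R] {resR : R →ₐ[Λ] k}
    {F : Art Λ k ⥤ Type v} (ξ : Family R resR F) :
    ξ.along (AlgHom.id Λ R) (AlgHom.comp_id _) = ξ := by
  apply H6_family_ext
  intro A φ
  rfl

section

variable [IsNoetherianRing Λ] [Module.Finite Λ k] {F : Art Λ k ⥤ Type v}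

/-- Existence of a classifying map between pro-representing pairs. -/
theorem H6_proRep_exists_map (P : ProRep F) (S : CRing Λ k) (η : Family S.carrier S.res F) :
    ∃ (g : P.ring.carrier →ₐ[Λ] S.carrier) (hg : S.res.comp g = P.ring.res),
      P.family.along g hg = η := by
  obtain ⟨g, hg, h⟩ := Groth.Agent.S12720.result (H6_h0_of_universal P.family P.universal)
    P.ring P.family (H6_versal_of_universal P.family P.universal) S η.toFormalElt
  exact ⟨g, hg, (H6_toFormalElt_bijective S F).1 h⟩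

/-- Uniqueness of the classifying map. -/
theorem H6_proRep_map_unique (P : ProRep F) (S : CRing Λ k)
    (g g' : P.ring.carrier →ₐ[Λ] S.carrier) (hg : S.res.comp g = P.ring.res)
    (hg' : S.res.comp g' = P.ring.res)
    (h : P.family.along g hg = P.family.along g' hg') : g = g' := by
  have key : ∀ n (r : P.ring.carrier),
      Ideal.Quotient.mk (S.mpow n) (g r) = Ideal.Quotient.mk (S.mpow n) (g' r) := by
    intro n r
    have h1 := congrArg (fun ξ : Family S.carrier S.res F => ξ.app _ (S.truncHom n)) h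
    have h2 := (P.universal (S.trunc n)).1 h1
    exact congrArg (fun ψ : HomSet P.ring.carrier P.ring.res (S.trunc n) => ψ.1 r) h2
  apply AlgHom.ext
  intro r
  have hmem : g r - g' r ∈ (⨅ n : ℕ, IsLocalRing.maximalIdeal S.carrier ^ n) := by
    rw [Ideal.mem_iInf]
    intro n
    have := key n r
    rw [Ideal.Quotient.eq] at this
    exact Ideal.pow_le_pow_right (Nat.le_succ n) this
  rw [Ideal.iInf_pow_eq_bot_of_isLocalRing _ (IsLocalRing.maximalIdeal.isMaximal _).ne_top] at hmem
  exact sub_eq_zero.mp hmem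

end

end Groth.Agent.Lib.helper6
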