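import Mathlib
import Groth.Prelude.Def_ArtFun2
import Groth.Agent.Lib.helper6.ArtTan

set_option autoImplicit false
universe u v

open ArtFun ArtFun.Art CategoryTheory

namespace Groth.Agent.Lib.helper6

variable {Λ : Type u} {k : Type u} [CommRing Λ] [Field k] [Algebra Λ k]

/-- The base change of a small extension is a small extension, with an explicit generator. -/
theorem H6_smallExt_baseChange {B A A' A'' : Art Λ k} {p' : B ⟶ A'} {p'' : B ⟶ A''}
    {f' : A' ⟶ A} {f'' : A'' ⟶ A} (h : IsFibreProd p' p'' f' f'') (hf : IsSmallExt f'')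
    (t'' : A'') (ht'' : RingHom.ker f''.toAlgHom = Ideal.span {t''}) :
    ∃ tB : B, p' tB = 0 ∧ p'' tB = t'' ∧ RingHom.ker p'.toAlgHom = Ideal.span {tB} ∧
      IsSmallExt p' := by
  classical
  obtain ⟨hsurj, hne, -, hkill⟩ := hf
  have ht''k : t'' ∈ RingHom.ker f''.toAlgHom := by
    rw [ht'']; exact Ideal.mem_span_singleton_self t''
  have ht''0 : f'' t'' = 0 := ht''k
  have hmt : ∀ m ∈ IsLocalRing.maximalIdeal A'', m * t'' = 0 := by
    intro m hm
    have : m * t'' ∈ IsLocalRing.maximalIdeal A'' * RingHom.ker f''.toAlgHom :=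
      Ideal.mul_mem_mul hm ht''k
    rw [hkill] at this
    exact this
  have ht''ne : t'' ≠ 0 := by
    intro h0
    apply hne
    rw [ht'', h0]
    simp
  obtain ⟨tB, htB1, htB2⟩ := h.surj 0 t'' (by rw [ht''0]; exact map_zero f'.toAlgHom)
  have hp'surj : Function.Surjective p' := by
    intro a'
    obtain ⟨a'', ha''⟩ := hsurj (f' a')
    obtain ⟨b, hb, -⟩ := h.surj a' a'' ha''.symm
    exact ⟨b, hb⟩
  have hmtB : ∀ m ∈ IsLocalRing.maximalIdeal B, m * tB = 0 := by
    intro m hm
    apply h.inj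
    · have : p' (m * tB) = p' m * p' tB := map_mul p'.toAlgHom m tB
      rw [this, htB1, mul_zero]
      exact (map_zero p'.toAlgHom).symm
    · have : p'' (m * tB) = p'' m * p'' tB := map_mul p''.toAlgHom m tB
      rw [this, htB2, hmt]
      · exact (map_zero p''.toAlgHom).symm
      · rw [Art.mem_maximalIdeal_iff, Art.res_app p'' m]
        exact (Art.mem_maximalIdeal_iff B m).1 hm
  have hker : RingHom.ker p'.toAlgHom = Ideal.span {tB} := by
    apply le_antisymm
    · intro b hb
      have hb0 : p' b = 0 := hb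
      have h1 : p'' b ∈ RingHom.ker f''.toAlgHom := by
        rw [RingHom.mem_ker]
        show f'' (p'' b) = 0
        rw [← h.w_apply b, hb0]
        exact map_zero f'.toAlgHom
      rw [ht''] at h1
      obtain ⟨d'', hd''⟩ := Ideal.mem_span_singleton'.mp h1
      obtain ⟨d, hd⟩ := B.res_surjective (A''.res d'')
      rw [Ideal.mem_span_singleton']
      refine ⟨d, ?_⟩
      apply h.inj
      · have : p' (d * tB) = p' d * p' tB := map_mul p'.toAlgHom d tB
        rw [this, htB1, mul_zero, hb0]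
      · have : p'' (d * tB) = p'' d * p'' tB := map_mul p''.toAlgHom d tB
        rw [this, htB2, ← hd'']
        have hm : p'' d - d'' ∈ IsLocalRing.maximalIdeal A'' := by
          rw [Art.mem_maximalIdeal_iff, map_sub, Art.res_app p'' d, hd, sub_self]
        have := hmt _ hm
        rw [sub_mul, sub_eq_zero] at this
        exact this
    · rw [Ideal.span_singleton_le_iff_mem]
      exact htB1
  refine ⟨tB, htB1, htB2, hker, hp'surj, ?_, ⟨tB, hker⟩, ?_⟩
  · intro hbot
    have : tB ∈ RingHom.ker p'.toAlgHom := htB1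
    rw [hbot, Ideal.mem_bot] at this
    apply ht''ne
    rw [← htB2, this]
    exact map_zero p''.toAlgHom
  · rw [eq_bot_iff]
    intro x hx
    refine Submodule.mul_induction_on hx ?_ ?_
    · intro m hm n hn
      rw [hker] at hn
      obtain ⟨d, rfl⟩ := Ideal.mem_span_singleton'.mp hn
      rw [Ideal.mem_bot]
      calc m * (d * tB) = d * (m * tB) := by ring
        _ = 0 := by rw [hmtB m hm, mul_zero]
    · intro a b ha hb
      exact Ideal.add_mem _ ha hb

/-- Injectivity of the comparison map over a small extension, from `Hbar`, `Heps` and `HSq`. -/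
theorem H6_cmp_injective_small [IsNoetherianRing Λ] [Module.Finite Λ k] (F : Art Λ k ⥤ Type v)
    (h1 : Hbar F) (h2 : Heps F) (h4 : HSq F)
    {B A A' A'' : Art Λ k} {p' : B ⟶ A'} {p'' : B ⟶ A''}
    {f' : A' ⟶ A} {f'' : A'' ⟶ A} (h : IsFibreProd p' p'' f' f'') (hf : IsSmallExt f'') :
    Function.Injective (cmp F h) := by
  classical
  obtain ⟨t'', ht''⟩ := hf.2.2.1
  have ht''' : RingHom.ker f''.toAlgHom = Ideal.span {t''} := ht''
  obtain ⟨tB, htB1, htB2, hkerB, hp'small⟩ := H6_smallExt_baseChange h hf t'' ht'''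
  obtain ⟨CB, π₁, π₂, αB, δB, hCB, hsqB, hδB1, hδBα, hδB2, hformB⟩ :=
    H6_smallExt_tangent_gen p' hp'small tB hkerB
  obtain ⟨C'', π₁'', π₂'', α'', δ'', hC'', hsq'', hδ''1, hδ''α, hδ''2, hform''⟩ :=
    H6_smallExt_tangent_gen f'' hf t'' ht'''
  obtain ⟨κ, hκ1, hκ2⟩ := H6_fibreProd_lift_hom hC'' (π₁ ≫ p'') π₂ (by
    rw [eq_toBase ((π₁ ≫ p'') ≫ _), eq_toBase (π₂ ≫ _)])
  have hκα : αB ≫ p'' = κ ≫ α'' := by
    apply Art.hom_ext
    apply AlgHom.ext
    intro c
    show p'' (αB c) = α'' (κ c)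
    obtain ⟨b, hb⟩ := B.res_surjective (H6_sn (π₂ c))
    rw [hformB c b hb]
    have e2 : π₂'' (κ c) = π₂ c := congrArg (fun g : CB ⟶ dual Λ k => g c) hκ2
    have e1 : π₁'' (κ c) = p'' (π₁ c) := congrArg (fun g : CB ⟶ A'' => g c) hκ1
    rw [hform'' (κ c) (p'' b) (by rw [Art.res_app p'' b, hb, e2]), e1]
    have : p'' (π₁ c + b * tB) = p'' (π₁ c) + p'' b * p'' tB := by
      rw [map_add p''.toAlgHom, map_mul p''.toAlgHom]
    rw [this, htB2]
  intro z₁ z₂ hz
  have hz1 : F.map p' z₁ = F.map p' z₂ := congrArg (fun t => t.1.1) hz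
  have hz2 : F.map p'' z₁ = F.map p'' z₂ := congrArg (fun t => t.1.2) hz
  obtain ⟨w, hw⟩ := h1 π₁ αB p' p' hsqB hp'small ⟨(z₁, z₂), hz1⟩
  have hw1 : F.map π₁ w = z₁ := congrArg (fun t => t.1.1) hw
  have hw2 : F.map αB w = z₂ := congrArg (fun t => t.1.2) hw
  -- push to C''
  have hw'' : F.map κ w = F.map δ'' (F.map p'' z₁) := by
    apply (h4 π₁'' α'' f'' hsq'' hf).1
    apply FibProd.ext
    · show F.map π₁'' (F.map κ w) = F.map π₁'' (F.map δ'' (F.map p'' z₁))
      have e1 : F.map π₁'' (F.map δ'' (F.map p'' z₁)) = F.map p'' z₁ := by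
        rw [← FunctorToTypes.map_comp_apply, hδ''1, FunctorToTypes.map_id_apply]
      have e2 : F.map π₁'' (F.map κ w) = F.map p'' (F.map π₁ w) := by
        rw [← FunctorToTypes.map_comp_apply, hκ1, FunctorToTypes.map_comp_apply]
      rw [e1, e2, hw1]
    · show F.map α'' (F.map κ w) = F.map α'' (F.map δ'' (F.map p'' z₁))
      have e1 : F.map α'' (F.map δ'' (F.map p'' z₁)) = F.map p'' z₁ := by
        rw [← FunctorToTypes.map_comp_apply, hδ''α, FunctorToTypes.map_id_apply]
      have e2 : F.map α'' (F.map κ w) = F.map p'' (F.map αB w) := by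
        rw [← FunctorToTypes.map_comp_apply, ← hκα, FunctorToTypes.map_comp_apply]
      rw [e1, e2, hw2, hz2]
  have hww : w = F.map δB z₁ := by
    apply (h2 π₁ π₂ hCB).1
    apply FibProd.ext
    · show F.map π₁ w = F.map π₁ (F.map δB z₁)
      rw [← FunctorToTypes.map_comp_apply, hδB1, FunctorToTypes.map_id_apply, hw1]
    · show F.map π₂ w = F.map π₂ (F.map δB z₁)
      have e1 : F.map π₂ (F.map δB z₁) = F.map (toBase B ≫ baseToDual) z₁ := by
        rw [← FunctorToTypes.map_comp_apply, hδB2]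
      have e2 : F.map π₂ w = F.map π₂'' (F.map κ w) := by
        rw [← FunctorToTypes.map_comp_apply, hκ2]
      have e3 : F.map π₂'' (F.map δ'' (F.map p'' z₁)) = F.map (toBase B ≫ baseToDual) z₁ := by
        rw [← FunctorToTypes.map_comp_apply, hδ''2, ← FunctorToTypes.map_comp_apply,
          ← Category.assoc, eq_toBase (p'' ≫ toBase A'')]
      rw [e1, e2, hw'', e3]
  rw [← hw2, hww, ← FunctorToTypes.map_comp_apply, hδBα, FunctorToTypes.map_id_apply]

end Groth.Agent.Lib.helper6
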