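import Mathlib

set_option autoImplicit false
open IsLocalRing

namespace Groth.Agent.Lib.helper6

/-- Artinian reduced ring is regular. -/
theorem H6_regular_of_artinian_reduced (A : Type*) [CommRing A] [IsArtinianRing A] [IsReduced A] :
    IsRegularRing A := by
  rw [isRegularRing_iff]
  intro p hp
  have hF : IsField (Localization.AtPrime p) :=
    IsArtinianRing.isField_of_isReduced_of_isLocalRing _
  let _ : Field (Localization.AtPrime p) := hF.toField
  infer_instance

/-- Artinian regular ring is reduced. -/
theorem H6_reduced_of_artinian_regular (A : Type*) [CommRing A] [IsArtinianRing A]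
    [IsRegularRing A] : IsReduced A := by
  refine isReduced_ofLocalizationMaximal _ ?_
  intro m hm
  have hreg : IsRegularLocalRing (Localization.AtPrime m) := inferInstance
  have h1 := (isRegularLocalRing_iff (Localization.AtPrime m)).mp hreg
  have h0 : ringKrullDim (Localization.AtPrime m) = 0 :=
    (ringKrullDimZero_iff_ringKrullDim_eq_zero).mp inferInstance
  rw [h0] at h1
  have h2 : (maximalIdeal (Localization.AtPrime m)).spanFinrank = 0 := by exact_mod_cast h1
  have h3 : maximalIdeal (Localization.AtPrime m) = ⊥ :=
    (Submodule.spanFinrank_eq_zero_iff_eq_bot (IsNoetherian.noetherian _)).mp h2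
  have hF : IsField (Localization.AtPrime m) := isField_iff_maximalIdeal_eq.mpr h3
  let _ : Field (Localization.AtPrime m) := hF.toField
  infer_instance

end Groth.Agent.Lib.helper6
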