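import Mathlib
import Groth.Prelude.Def_GSzCSA
import Groth.Agent.Lib.helper6.CSATensor

set_option autoImplicit false
universe u v w

open scoped TensorProduct
attribute [local instance] CSAGal.tensorAction

namespace Groth.Agent.Lib.helper6

section

variable {k : Type u} {K : Type v} [Field k] [Field K] [Algebra k K]
  {A : Type w} [Ring A] [Algebra k A]

theorem H6_gal_smul_tmul (σ : K ≃ₐ[k] K) (x : K) (a : A) :
    σ • (x ⊗ₜ[k] a) = (σ x) ⊗ₜ[k] a := rfl

theorem H6_gal_smul_coef {ι : Type*} (e : Module.Basis ι k A) (σ : K ≃ₐ[k] K) (t : K ⊗[k] A)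
    (i : ι) : H6_coef e (σ • t) i = σ (H6_coef e t i) := by
  induction t using TensorProduct.induction_on with
  | zero => rw [smul_zero, map_zero, Finsupp.zero_apply, map_zero]
  | tmul x a => rw [H6_gal_smul_tmul, H6_coef_tmul, H6_coef_tmul, map_smul]
  | add x y hx hy => rw [smul_add, map_add, Finsupp.add_apply, hx, hy, map_add, Finsupp.add_apply, map_add]

/-- Galois invariants of `K ⊗ A` are exactly `A`. -/
theorem H6_gal_invariant [FiniteDimensional k K] [IsGalois k K] (t : K ⊗[k] A)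
    (h : ∀ σ : K ≃ₐ[k] K, σ • t = t) : ∃ a : A, t = (1 : K) ⊗ₜ[k] a := by
  set e := Module.Basis.ofVectorSpace k A
  apply H6_exists_of_coef_scalar e t
  intro i
  have hfix : ∀ σ : K ≃ₐ[k] K, σ (H6_coef e t i) = H6_coef e t i := by
    intro σ
    rw [← H6_gal_smul_coef, h σ]
  obtain ⟨l, hl⟩ := (IsGalois.mem_range_algebraMap_iff_fixed (F := k) (E := K) _).2 hfix
  exact ⟨l, hl.symm⟩

theorem H6_includeRight_injective : Function.Injective (fun a : A => (1 : K) ⊗ₜ[k] a) :=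
  Algebra.TensorProduct.includeRight_injective (R := k) (A := K) (B := A) (algebraMap k K).injective

end

section

variable {k : Type u} {K : Type v} [Field k] [Field K] [Algebra k K]
  [FiniteDimensional k K] [IsGalois k K]
  {A : Type w} [Ring A] [Algebra k A] {A' : Type w} [Ring A'] [Algebra k A']

/-- Descent of Galois-equivariant algebra maps. -/
theorem H6_gal_descend_hom (Θ : K ⊗[k] A →ₐ[K] K ⊗[k] A')
    (hΘ : ∀ (σ : K ≃ₐ[k] K) (t : K ⊗[k] A), Θ (σ • t) = σ • Θ t) :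
    ∃ ψ : A →ₐ[k] A', ∀ a : A, Θ ((1 : K) ⊗ₜ[k] a) = (1 : K) ⊗ₜ[k] ψ a := by
  have hex : ∀ a : A, ∃ a' : A', Θ ((1 : K) ⊗ₜ[k] a) = (1 : K) ⊗ₜ[k] a' := by
    intro a
    apply H6_gal_invariant
    intro σ
    rw [← hΘ, H6_gal_smul_tmul, map_one]
  choose f hf using hex
  have hinj := H6_includeRight_injective (k := k) (K := K) (A := A')
  refine ⟨{ toFun := f
            map_one' := ?_
            map_mul' := ?_
            map_zero' := ?_
            map_add' := ?_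
            commutes' := ?_ }, hf⟩
  · apply hinj
    show (1 : K) ⊗ₜ[k] f 1 = (1 : K) ⊗ₜ[k] (1 : A')
    rw [← hf]
    exact map_one Θ
  · intro a b
    apply hinj
    show (1 : K) ⊗ₜ[k] f (a * b) = (1 : K) ⊗ₜ[k] (f a * f b)
    rw [← hf, ← one_mul (1 : K), ← Algebra.TensorProduct.tmul_mul_tmul, map_mul, hf, hf,
      Algebra.TensorProduct.tmul_mul_tmul]
  · apply hinj
    show (1 : K) ⊗ₜ[k] f 0 = (1 : K) ⊗ₜ[k] (0 : A')
    rw [← hf, TensorProduct.tmul_zero, TensorProduct.tmul_zero, map_zero]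
  · intro a b
    apply hinj
    show (1 : K) ⊗ₜ[k] f (a + b) = (1 : K) ⊗ₜ[k] (f a + f b)
    rw [← hf, TensorProduct.tmul_add, map_add, hf, hf, TensorProduct.tmul_add]
  · intro r
    apply hinj
    show (1 : K) ⊗ₜ[k] f (algebraMap k A r) = (1 : K) ⊗ₜ[k] (algebraMap k A' r)
    rw [← hf]
    have h1 : (1 : K) ⊗ₜ[k] (algebraMap k A r) = algebraMap K (K ⊗[k] A) (algebraMap k K r) := by
      rw [Algebra.TensorProduct.algebraMap_apply, Algebra.algebraMap_eq_smul_one,
        TensorProduct.tmul_smul, TensorProduct.smul_tmul', Algebra.algebraMap_self, RingHom.id_apply,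
        Algebra.smul_def, mul_one]
    have h2 : (1 : K) ⊗ₜ[k] (algebraMap k A' r) = algebraMap K (K ⊗[k] A') (algebraMap k K r) := by
      rw [Algebra.TensorProduct.algebraMap_apply, Algebra.algebraMap_eq_smul_one,
        TensorProduct.tmul_smul, TensorProduct.smul_tmul', Algebra.algebraMap_self, RingHom.id_apply,
        Algebra.smul_def, mul_one]
    rw [h1, h2, AlgHom.commutes]

/-- Descent of Galois-equivariant algebra isomorphisms. -/
theorem H6_gal_descend_equiv (Θ : K ⊗[k] A ≃ₐ[K] K ⊗[k] A')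
    (hΘ : ∀ (σ : K ≃ₐ[k] K) (t : K ⊗[k] A), Θ (σ • t) = σ • Θ t) :
    Nonempty (A ≃ₐ[k] A') := by
  obtain ⟨ψ, hψ⟩ := H6_gal_descend_hom (Θ : K ⊗[k] A →ₐ[K] K ⊗[k] A') hΘ
  have hΘ' : ∀ (σ : K ≃ₐ[k] K) (t : K ⊗[k] A'), Θ.symm (σ • t) = σ • Θ.symm t := by
    intro σ t
    apply Θ.injective
    rw [hΘ, AlgEquiv.apply_symm_apply, AlgEquiv.apply_symm_apply]
  obtain ⟨ψ', hψ'⟩ := H6_gal_descend_hom (Θ.symm : K ⊗[k] A' →ₐ[K] K ⊗[k] A) hΘ'
  refine ⟨AlgEquiv.ofAlgHom ψ ψ' ?_ ?_⟩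
  · apply AlgHom.ext
    intro a'
    apply H6_includeRight_injective (k := k) (K := K)
    show (1 : K) ⊗ₜ[k] ψ (ψ' a') = (1 : K) ⊗ₜ[k] a'
    have h1 := hψ (ψ' a')
    have h2 := hψ' a'
    rw [← h1, ← h2]
    exact Θ.apply_symm_apply _
  · apply AlgHom.ext
    intro a
    apply H6_includeRight_injective (k := k) (K := K)
    show (1 : K) ⊗ₜ[k] ψ' (ψ a) = (1 : K) ⊗ₜ[k] a
    have h1 := hψ' (ψ a)
    have h2 := hψ a
    rw [← h1, ← h2]
    exact Θ.symm_apply_apply _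

end

end Groth.Agent.Lib.helper6
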