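import Mathlib
import Groth.Agent.Lib.helper6.CSATensor

set_option autoImplicit false
universe u v w

open scoped TensorProduct

namespace Groth.Agent.Lib.helper6

section

variable (K : Type u) (A : Type v) [Field K] [Ring A] [Algebra K A]
  [Algebra.IsCentral K A] [IsSimpleRing A] [FiniteDimensional K A]

/-- A finite-dimensional central simple algebra is Azumaya. -/
theorem H6_mulLeftRight_bijective : Function.Bijective (AlgHom.mulLeftRight K A) := by
  haveI : IsSimpleRing (A ⊗[K] Aᵐᵒᵖ) := H6_isSimpleRing_tensor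
  have hinj : Function.Injective (AlgHom.mulLeftRight K A) :=
    RingHom.injective (AlgHom.mulLeftRight K A).toRingHom
  have hfin : Module.finrank K (A ⊗[K] Aᵐᵒᵖ) = Module.finrank K (Module.End K A) := by
    rw [Module.finrank_tensorProduct, Module.finrank_linearMap,
      (MulOpposite.opLinearEquiv K (M := A)).symm.finrank_eq]
  exact ⟨hinj, (LinearMap.injective_iff_surjective_of_finrank_eq_finrank
    (f := (AlgHom.mulLeftRight K A).toLinearMap) hfin).1 hinj⟩

variable {K A}

/-- Skolem–Noether for automorphisms of a central simple algebra. -/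
theorem H6_skolemNoether_aut (θ : A ≃ₐ[K] A) : ∃ a : Aˣ, ∀ x, θ x = (a : A) * x * ((a⁻¹ : Aˣ) : A) := by
  let Φ : A ⊗[K] Aᵐᵒᵖ ≃ₐ[K] Module.End K A :=
    AlgEquiv.ofBijective (AlgHom.mulLeftRight K A) (H6_mulLeftRight_bijective K A)
  have hΦ : ∀ (x : A) (y : Aᵐᵒᵖ) (m : A), Φ (x ⊗ₜ[K] y) m = x * m * y.unop :=
    fun x y m => AlgHom.mulLeftRight_apply K A x y m
  let Θ : A ⊗[K] Aᵐᵒᵖ ≃ₐ[K] A ⊗[K] Aᵐᵒᵖ := Algebra.TensorProduct.congr θ AlgEquiv.refl
  have hΘ : ∀ (x : A) (y : Aᵐᵒᵖ), Θ (x ⊗ₜ[K] y) = θ x ⊗ₜ[K] y := fun x y => by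
    simp [Θ]
  let Ψ : Module.End K A ≃ₐ[K] Module.End K A := Φ.symm.trans (Θ.trans Φ)
  have hΨ : ∀ z, Ψ (Φ z) = Φ (Θ z) := by
    intro z
    show Φ (Θ (Φ.symm (Φ z))) = _
    rw [AlgEquiv.symm_apply_apply]
  obtain ⟨T, hT⟩ := Ψ.eq_linearEquivConjAlgEquiv
  have key : ∀ x m y : A, θ x * T m * y = T (x * m * y) := by
    intro x m y
    have h1 := hΨ (x ⊗ₜ[K] MulOpposite.op y)
    rw [hT, hΘ, LinearEquiv.conjAlgEquiv_apply] at h1
    have h2 := congrArg (fun f : Module.End K A => f (T m)) h1
    simp only [LinearMap.comp_apply, LinearEquiv.coe_coe, LinearEquiv.symm_apply_apply] at h2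
    rw [hΦ, hΦ] at h2
    exact h2.symm
  set a := T 1 with ha
  have h1 : ∀ y, T y = a * y := by
    intro y
    have := key 1 1 y
    rw [map_one, one_mul, one_mul, one_mul] at this
    exact this.symm
  have h2 : ∀ x, T x = θ x * a := by
    intro x
    have := key x 1 1
    rw [mul_one, mul_one, mul_one] at this
    exact this.symm
  obtain ⟨m, hm⟩ := T.surjective 1
  obtain ⟨x', hx'⟩ := T.surjective 1
  rw [h1] at hm
  rw [h2] at hx'
  have hlm : θ x' = m := by
    calc θ x' = θ x' * (a * m) := by rw [hm, mul_one]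
      _ = (θ x' * a) * m := by rw [mul_assoc]
      _ = m := by rw [hx', one_mul]
  rw [hlm] at hx'
  refine ⟨⟨a, m, hm, hx'⟩, fun x => ?_⟩
  show θ x = a * x * m
  have : a * x = θ x * a := by rw [← h1, h2]
  rw [this, mul_assoc, hm, mul_one]

end

end Groth.Agent.Lib.helper6

namespace Groth.Agent.Lib.helper6

section Simple

/-- Skolem–Noether for endomorphisms of a finite-dimensional simple algebra fixing the centre. -/
theorem H6_skolemNoether_simple (k : Type u) (A : Type v) [Field k] [Ring A] [Algebra k A]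
    [IsSimpleRing A] [FiniteDimensional k A] (θ : A →+* A) (hc : ∀ c ∈ Subring.center A, θ c = c) :
    ∃ a : Aˣ, ∀ x, θ x = (a : A) * x * ((a⁻¹ : Aˣ) : A) := by
  classical
  letI fldZ : Field (Subring.center A) := (IsSimpleRing.isField_center A).toField
  haveI : Algebra.IsCentral (Subring.center A) A := by
    refine ⟨fun x hx => ?_⟩
    rw [Subalgebra.mem_center_iff] at hx
    have hx' : x ∈ Subring.center A := Subring.mem_center_iff.2 (fun b => hx b)
    exact ⟨⟨x, hx'⟩, rfl⟩
  letI algkZ : Algebra k (Subring.center A) :=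
    (RingHom.codRestrict (algebraMap k A) (Subring.center A)
      (fun r => Subring.mem_center_iff.2 (fun b => (Algebra.commutes r b).symm))).toAlgebra
  haveI : IsScalarTower k (Subring.center A) A := IsScalarTower.of_algebraMap_eq (fun r => rfl)
  haveI : Module.Finite (Subring.center A) A :=
    Module.Finite.of_restrictScalars_finite k (Subring.center A) A
  let θZ : A →ₐ[Subring.center A] A := { θ with commutes' := fun z => hc z z.2 }
  have hinj : Function.Injective θZ := RingHom.injective θ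
  have hsurj : Function.Surjective θZ :=
    (LinearMap.injective_iff_surjective (f := θZ.toLinearMap)).1 hinj
  obtain ⟨a, ha⟩ := H6_skolemNoether_aut (AlgEquiv.ofBijective θZ ⟨hinj, hsurj⟩)
  exact ⟨a, fun x => ha x⟩

end Simple

end Groth.Agent.Lib.helper6
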