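import Mathlib
import Groth.Prelude.Def_GSzCSA
import Groth.Agent.Lib.helper6.GalDescent
import Groth.Agent.Lib.helper6.SkolemNoether

set_option autoImplicit false
universe u v w

open scoped TensorProduct MatrixGroups
attribute [local instance] CSAGal.matrixAction GpH1.unitsAction CSAGal.pglAction CSAGal.tensorAction

namespace Groth.Agent.Lib.helper6

section

variable {k : Type u} {K : Type u} [Field k] [Field K] [Algebra k K] {n : ℕ}

theorem H6_pgl_smul_mk (σ : K ≃ₐ[k] K) (g : GL (Fin n) K) :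
    σ • (Matrix.ProjGenLinGroup.mk g : Matrix.ProjGenLinGroup (Fin n) K) =
      Matrix.ProjGenLinGroup.mk (σ • g) := rfl

theorem H6_gl_smul_coe (σ : K ≃ₐ[k] K) (g : GL (Fin n) K) :
    ((σ • g : GL (Fin n) K) : Matrix (Fin n) (Fin n) K) = σ • (g : Matrix (Fin n) (Fin n) K) := rfl

theorem H6_gl_smul_inv_coe (σ : K ≃ₐ[k] K) (g : GL (Fin n) K) :
    (((σ • g)⁻¹ : GL (Fin n) K) : Matrix (Fin n) (Fin n) K) =
      σ • ((g⁻¹ : GL (Fin n) K) : Matrix (Fin n) (Fin n) K) := by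
  rw [← smul_inv']
  rfl

/-- Conjugations agree iff classes in `PGL` agree. -/
theorem H6_mk_eq_of_conj (g g' : GL (Fin n) K)
    (h : ∀ M : Matrix (Fin n) (Fin n) K,
      (g : Matrix (Fin n) (Fin n) K) * M * ((g⁻¹ : GL (Fin n) K) : Matrix (Fin n) (Fin n) K) =
      (g' : Matrix (Fin n) (Fin n) K) * M * ((g'⁻¹ : GL (Fin n) K) : Matrix (Fin n) (Fin n) K)) :
    (Matrix.ProjGenLinGroup.mk g : Matrix.ProjGenLinGroup (Fin n) K) = Matrix.ProjGenLinGroup.mk g' := by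
  rw [Matrix.ProjGenLinGroup.mk_eq_mk_iff']
  refine ⟨g⁻¹ * g', ?_, by group⟩
  rw [Subgroup.mem_center_iff]
  intro x
  have hx : g * x * g⁻¹ = g' * x * g'⁻¹ := Units.ext (h (x : Matrix (Fin n) (Fin n) K))
  have : x * (g⁻¹ * g') = g⁻¹ * (g * x * g⁻¹) * g' := by group
  rw [this, hx]
  group

theorem H6_conj_of_mk_eq (g g' : GL (Fin n) K)
    (h : (Matrix.ProjGenLinGroup.mk g : Matrix.ProjGenLinGroup (Fin n) K) = Matrix.ProjGenLinGroup.mk g')
    (M : Matrix (Fin n) (Fin n) K) :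
      (g : Matrix (Fin n) (Fin n) K) * M * ((g⁻¹ : GL (Fin n) K) : Matrix (Fin n) (Fin n) K) =
      (g' : Matrix (Fin n) (Fin n) K) * M * ((g'⁻¹ : GL (Fin n) K) : Matrix (Fin n) (Fin n) K) := by
  obtain ⟨u, rfl⟩ := Matrix.ProjGenLinGroup.mk_eq_mk_iff.1 h
  have hinv : ((g * Matrix.GeneralLinearGroup.scalar (Fin n) u)⁻¹ : GL (Fin n) K) =
      (Matrix.GeneralLinearGroup.scalar (Fin n) u)⁻¹ * g⁻¹ := mul_inv_rev _ _
  rw [hinv]
  have hcomm : ∀ N : Matrix (Fin n) (Fin n) K,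
      ((Matrix.GeneralLinearGroup.scalar (Fin n) u : GL (Fin n) K) : Matrix (Fin n) (Fin n) K) * N =
        N * ((Matrix.GeneralLinearGroup.scalar (Fin n) u : GL (Fin n) K) : Matrix (Fin n) (Fin n) K) := by
    intro N
    rw [Matrix.GeneralLinearGroup.coe_scalar]
    exact (Matrix.scalar_commute (u : K) (fun r' => mul_comm _ _) N).eq
  simp only [Units.val_mul]
  have e1 : (g : Matrix (Fin n) (Fin n) K) *
      ((Matrix.GeneralLinearGroup.scalar (Fin n) u : GL (Fin n) K) : Matrix (Fin n) (Fin n) K) * M *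
      ((((Matrix.GeneralLinearGroup.scalar (Fin n) u)⁻¹ : GL (Fin n) K) : Matrix (Fin n) (Fin n) K) *
        ((g⁻¹ : GL (Fin n) K) : Matrix (Fin n) (Fin n) K)) =
      (g : Matrix (Fin n) (Fin n) K) * M *
      ((((Matrix.GeneralLinearGroup.scalar (Fin n) u : GL (Fin n) K) : Matrix (Fin n) (Fin n) K)) *
      (((Matrix.GeneralLinearGroup.scalar (Fin n) u)⁻¹ : GL (Fin n) K) : Matrix (Fin n) (Fin n) K)) *
        ((g⁻¹ : GL (Fin n) K) : Matrix (Fin n) (Fin n) K) := by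
    rw [mul_assoc (g : Matrix (Fin n) (Fin n) K), hcomm M]
    simp only [mul_assoc]
  rw [e1, Units.mul_inv, mul_one]

/-- Conjugation by a unit as an algebra automorphism. -/
def H6_conjAlgEquiv (R : Type*) {S : Type*} [CommRing R] [Ring S] [Algebra R S] (h : Sˣ) : S ≃ₐ[R] S where
  toFun x := (h : S) * x * ((h⁻¹ : Sˣ) : S)
  invFun x := ((h⁻¹ : Sˣ) : S) * x * (h : S)
  left_inv x := by
    show ((h⁻¹ : Sˣ) : S) * ((h : S) * x * ((h⁻¹ : Sˣ) : S)) * (h : S) = x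
    rw [mul_assoc, mul_assoc, Units.inv_mul, mul_one, ← mul_assoc, Units.inv_mul, one_mul]
  right_inv x := by
    show (h : S) * (((h⁻¹ : Sˣ) : S) * x * (h : S)) * ((h⁻¹ : Sˣ) : S) = x
    rw [mul_assoc, mul_assoc, Units.mul_inv, mul_one, ← mul_assoc, Units.mul_inv, one_mul]
  map_mul' x y := by
    calc (h : S) * (x * y) * ((h⁻¹ : Sˣ) : S)
        = (h : S) * x * (1 * (y * ((h⁻¹ : Sˣ) : S))) := by simp only [mul_assoc, one_mul]
      _ = (h : S) * x * ((((h⁻¹ : Sˣ) : S) * (h : S)) * (y * ((h⁻¹ : Sˣ) : S))) := by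
          rw [Units.inv_mul]
      _ = (h : S) * x * ((h⁻¹ : Sˣ) : S) * ((h : S) * y * ((h⁻¹ : Sˣ) : S)) := by
          simp only [mul_assoc]
  map_add' x y := by rw [mul_add, add_mul]
  commutes' r := by
    rw [← Algebra.commutes r (h : S), mul_assoc, Units.mul_inv, mul_one]

theorem H6_conjAlgEquiv_apply (R : Type*) {S : Type*} [CommRing R] [Ring S] [Algebra R S] (h : Sˣ)
    (x : S) : H6_conjAlgEquiv R h x = (h : S) * x * ((h⁻¹ : Sˣ) : S) := rfl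

end

section Main

variable (k : Type u) [Field k] (K : Type u) [Field K] [Algebra k K]
    [FiniteDimensional k K] [IsGalois k K] (n : ℕ)
    (A : Type v) [Ring A] [Algebra k A]
    (A' : Type v) [Ring A'] [Algebra k A']
    (φ : K ⊗[k] A ≃ₐ[K] Matrix (Fin n) (Fin n) K) (φ' : K ⊗[k] A' ≃ₐ[K] Matrix (Fin n) (Fin n) K)
    (c c' : GpH1.OneCocycle (K ≃ₐ[k] K) (Matrix.ProjGenLinGroup (Fin n) K))

theorem H6_descentCocycle_of_equiv (hn : 0 < n)
    (hc : (∀ (σ : K ≃ₐ[k] K) (g : GL (Fin n) K), Matrix.ProjGenLinGroup.mk g = c σ →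
          ∀ M : Matrix (Fin n) (Fin n) K, φ (σ • φ.symm M) = (g : Matrix (Fin n) (Fin n) K) * (σ • M) * ((g⁻¹ : GL (Fin n) K) : Matrix (Fin n) (Fin n) K)))
    (hc' : (∀ (σ : K ≃ₐ[k] K) (g : GL (Fin n) K), Matrix.ProjGenLinGroup.mk g = c' σ →
          ∀ M : Matrix (Fin n) (Fin n) K, φ' (σ • φ'.symm M) = (g : Matrix (Fin n) (Fin n) K) * (σ • M) * ((g⁻¹ : GL (Fin n) K) : Matrix (Fin n) (Fin n) K)))
    (ψ : A ≃ₐ[k] A') : c.cl = c'.cl := by
  haveI : Nonempty (Fin n) := ⟨⟨0, hn⟩⟩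
  rw [GpH1.OneCocycle.cl_eq_cl_iff]
  let Ψ : K ⊗[k] A ≃ₐ[K] K ⊗[k] A' := Algebra.TensorProduct.congr AlgEquiv.refl ψ
  have hΨt : ∀ (x : K) (a : A), Ψ (x ⊗ₜ[k] a) = x ⊗ₜ[k] ψ a := fun x a => by simp [Ψ]
  have hΨ : ∀ (σ : K ≃ₐ[k] K) (t : K ⊗[k] A), Ψ (σ • t) = σ • Ψ t := by
    intro σ t
    induction t using TensorProduct.induction_on with
    | zero => rw [smul_zero, map_zero, smul_zero]
    | tmul x a => rw [H6_gal_smul_tmul, hΨt, hΨt, H6_gal_smul_tmul]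
    | add x y hx hy => rw [smul_add, map_add, hx, hy, map_add, smul_add]
  let θ : Matrix (Fin n) (Fin n) K ≃ₐ[K] Matrix (Fin n) (Fin n) K := φ.symm.trans (Ψ.trans φ')
  have hθ : ∀ t : K ⊗[k] A, θ (φ t) = φ' (Ψ t) := by
    intro t
    show φ' (Ψ (φ.symm (φ t))) = _
    rw [AlgEquiv.symm_apply_apply]
  obtain ⟨h, hh⟩ := H6_skolemNoether_aut θ
  refine ⟨Matrix.ProjGenLinGroup.mk h, fun σ => ?_⟩
  obtain ⟨g, hg⟩ := Matrix.ProjGenLinGroup.mk_surjective (c σ)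
  obtain ⟨g', hg'⟩ := Matrix.ProjGenLinGroup.mk_surjective (c' σ)
  -- key identity on conjugations
  have key : (Matrix.ProjGenLinGroup.mk g' : Matrix.ProjGenLinGroup (Fin n) K) =
      Matrix.ProjGenLinGroup.mk (h * g * (σ • h)⁻¹) := by
    apply H6_mk_eq_of_conj
    intro M
    -- write `M = σ • N`
    obtain ⟨N, rfl⟩ : ∃ N : Matrix (Fin n) (Fin n) K, σ • N = M := ⟨σ⁻¹ • M, by rw [smul_inv_smul]⟩
    rw [← hc' σ g' hg' N]
    -- `N = θ P`
    obtain ⟨P, rfl⟩ : ∃ P, θ P = N := ⟨θ.symm N, θ.apply_symm_apply N⟩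
    obtain ⟨t, rfl⟩ : ∃ t, φ t = P := ⟨φ.symm P, φ.apply_symm_apply P⟩
    have h1 : φ (σ • t) = (g : Matrix (Fin n) (Fin n) K) * (σ • φ t) *
        ((g⁻¹ : GL (Fin n) K) : Matrix (Fin n) (Fin n) K) := by
      have := hc σ g hg (φ t)
      rw [AlgEquiv.symm_apply_apply] at this
      exact this
    have hL : φ' (σ • φ'.symm (θ (φ t))) = (h : Matrix (Fin n) (Fin n) K) *
        ((g : Matrix (Fin n) (Fin n) K) * (σ • φ t) *
        ((g⁻¹ : GL (Fin n) K) : Matrix (Fin n) (Fin n) K)) * ((h⁻¹ : GL (Fin n) K) : Matrix (Fin n) (Fin n) K) := by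
      rw [hθ t, AlgEquiv.symm_apply_apply, ← hΨ, ← hθ (σ • t), h1, hh]
    have hR : σ • θ (φ t) = σ • (h : Matrix (Fin n) (Fin n) K) * σ • φ t *
        σ • ((h⁻¹ : GL (Fin n) K) : Matrix (Fin n) (Fin n) K) := by
      rw [hh, smul_mul', smul_mul']
    rw [hL, hR]
    have hinv : ((h * g * (σ • h)⁻¹)⁻¹ : GL (Fin n) K) = (σ • h) * g⁻¹ * h⁻¹ := by group
    rw [hinv]
    simp only [Units.val_mul, H6_gl_smul_coe, H6_gl_smul_inv_coe]
    have e2 : σ • ((h⁻¹ : GL (Fin n) K) : Matrix (Fin n) (Fin n) K) * (σ • (h : Matrix (Fin n) (Fin n) K)) = 1 := by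
      rw [← smul_mul', Units.inv_mul, smul_one]
    have e2' : ∀ X : Matrix (Fin n) (Fin n) K,
        σ • ((h⁻¹ : GL (Fin n) K) : Matrix (Fin n) (Fin n) K) * (σ • (h : Matrix (Fin n) (Fin n) K) * X) = X := by
      intro X
      rw [← mul_assoc, e2, one_mul]
    simp only [mul_assoc, e2']
  rw [← hg, ← hg', key, H6_pgl_smul_mk, ← map_inv, ← map_mul, ← map_mul]
  congr 1
  group

theorem H6_equiv_of_descentCocycle
    (hc : (∀ (σ : K ≃ₐ[k] K) (g : GL (Fin n) K), Matrix.ProjGenLinGroup.mk g = c σ →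
          ∀ M : Matrix (Fin n) (Fin n) K, φ (σ • φ.symm M) = (g : Matrix (Fin n) (Fin n) K) * (σ • M) * ((g⁻¹ : GL (Fin n) K) : Matrix (Fin n) (Fin n) K)))
    (hc' : (∀ (σ : K ≃ₐ[k] K) (g : GL (Fin n) K), Matrix.ProjGenLinGroup.mk g = c' σ →
          ∀ M : Matrix (Fin n) (Fin n) K, φ' (σ • φ'.symm M) = (g : Matrix (Fin n) (Fin n) K) * (σ • M) * ((g⁻¹ : GL (Fin n) K) : Matrix (Fin n) (Fin n) K)))
    (hcl : c.cl = c'.cl) : Nonempty (A ≃ₐ[k] A') := by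
  rw [GpH1.OneCocycle.cl_eq_cl_iff] at hcl
  obtain ⟨d, hd⟩ := hcl
  obtain ⟨h, rfl⟩ := Matrix.ProjGenLinGroup.mk_surjective d
  let Θ : K ⊗[k] A ≃ₐ[K] K ⊗[k] A' := φ.trans ((H6_conjAlgEquiv K h).trans φ'.symm)
  have hΘ : ∀ t, Θ t = φ'.symm ((h : Matrix (Fin n) (Fin n) K) * φ t *
      ((h⁻¹ : GL (Fin n) K) : Matrix (Fin n) (Fin n) K)) := fun t => rfl
  apply H6_gal_descend_equiv Θ
  intro σ t
  obtain ⟨g, hg⟩ := Matrix.ProjGenLinGroup.mk_surjective (c σ)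
  obtain ⟨g', hg'⟩ := Matrix.ProjGenLinGroup.mk_surjective (c' σ)
  have h1 : φ (σ • t) = (g : Matrix (Fin n) (Fin n) K) * (σ • φ t) *
      ((g⁻¹ : GL (Fin n) K) : Matrix (Fin n) (Fin n) K) := by
    have := hc σ g hg (φ t)
    rw [AlgEquiv.symm_apply_apply] at this
    exact this
  have hmk : (Matrix.ProjGenLinGroup.mk (h * g) : Matrix.ProjGenLinGroup (Fin n) K) =
      Matrix.ProjGenLinGroup.mk (g' * σ • h) := by
    have := hd σ
    rw [← hg, ← hg', H6_pgl_smul_mk] at this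
    rw [map_mul, map_mul, this]
    group
  rw [hΘ, hΘ, h1]
  apply φ'.injective
  rw [AlgEquiv.apply_symm_apply]
  have h2 := hc' σ g' hg' ((h : Matrix (Fin n) (Fin n) K) * φ t *
      ((h⁻¹ : GL (Fin n) K) : Matrix (Fin n) (Fin n) K))
  rw [h2, smul_mul', smul_mul']
  have h3 := H6_conj_of_mk_eq (h * g) (g' * σ • h) hmk (σ • φ t)
  have hinv1 : ((h * g)⁻¹ : GL (Fin n) K) = g⁻¹ * h⁻¹ := mul_inv_rev _ _
  have hinv2 : ((g' * σ • h)⁻¹ : GL (Fin n) K) = (σ • h)⁻¹ * g'⁻¹ := mul_inv_rev _ _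
  rw [hinv1, hinv2] at h3
  simp only [Units.val_mul, H6_gl_smul_coe, H6_gl_smul_inv_coe] at h3
  simp only [mul_assoc] at h3 ⊢
  exact h3

end Main

end Groth.Agent.Lib.helper6
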