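import Mathlib

set_option autoImplicit false
universe u v w

namespace Groth.Agent.Lib.helper6

/-- Over a finite-dimensional simple algebra, modules of the same dimension are isomorphic. -/
theorem H6_nonempty_linearEquiv_of_finrank_eq (k : Type w) {R : Type u} [Field k] [Ring R]
    [Algebra k R] [IsSimpleRing R] [FiniteDimensional k R]
    (M N : Type v) [AddCommGroup M] [Module R M] [Module k M] [IsScalarTower k R M]
    [AddCommGroup N] [Module R N] [Module k N] [IsScalarTower k R N]
    [FiniteDimensional k M] [FiniteDimensional k N]
    (h : Module.finrank k M = Module.finrank k N) : Nonempty (M ≃ₗ[R] N) := by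
  classical
  haveI : IsArtinianRing R := IsArtinianRing.of_finite k R
  haveI : Module.Finite R M := Module.Finite.of_restrictScalars_finite k R M
  haveI : Module.Finite R N := Module.Finite.of_restrictScalars_finite k R N
  rcases subsingleton_or_nontrivial M with hM | hM
  · have h0 : Module.finrank k N = 0 := by rw [← h]; exact Module.finrank_zero_of_subsingleton
    haveI : Subsingleton N := Module.finrank_zero_iff.1 h0
    exact ⟨LinearEquiv.ofSubsingleton M N⟩
  · have hpos : 0 < Module.finrank k N := by rw [← h]; exact Module.finrank_pos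
    haveI : Nontrivial N := Module.nontrivial_of_finrank_pos hpos
    obtain ⟨n, hn, S, hS, ⟨e⟩⟩ := (IsSimpleRing.isIsotypic R M).linearEquiv_fun
    obtain ⟨m, hm, S', hS', ⟨e'⟩⟩ := (IsSimpleRing.isIsotypic R N).linearEquiv_fun
    -- the two simple modules are isomorphic
    let m₁ : Submodule R (M × N) := S.map (LinearMap.inl R M N)
    let m₂ : Submodule R (M × N) := S'.map (LinearMap.inr R M N)
    let e₁ : S ≃ₗ[R] m₁ := S.equivMapOfInjective _ LinearMap.inl_injective
    let e₂ : S' ≃ₗ[R] m₂ := S'.equivMapOfInjective _ LinearMap.inr_injective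
    haveI : IsSimpleModule R m₁ := IsSimpleModule.congr e₁.symm
    haveI : IsSimpleModule R m₂ := IsSimpleModule.congr e₂.symm
    obtain ⟨f₁₂⟩ : Nonempty (m₁ ≃ₗ[R] m₂) := IsSimpleRing.isIsotypic R (M × N) m₂ m₁
    let f : S ≃ₗ[R] S' := e₁ ≪≫ₗ f₁₂ ≪≫ₗ e₂.symm
    have hd : Module.finrank k S = Module.finrank k S' := (f.restrictScalars k).finrank_eq
    haveI : Module.Finite k S :=
      Module.Finite.of_injective (S.subtype.restrictScalars k) S.subtype_injective
    haveI : Module.Finite k S' :=
      Module.Finite.of_injective (S'.subtype.restrictScalars k) S'.subtype_injective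
    have hM' : Module.finrank k M = n * Module.finrank k S := by
      rw [(e.restrictScalars k).finrank_eq, Module.finrank_pi_fintype, Finset.sum_const,
        Finset.card_univ, Fintype.card_fin, smul_eq_mul]
    have hN' : Module.finrank k N = m * Module.finrank k S' := by
      rw [(e'.restrictScalars k).finrank_eq, Module.finrank_pi_fintype, Finset.sum_const,
        Finset.card_univ, Fintype.card_fin, smul_eq_mul]
    haveI : Nontrivial S := IsSimpleModule.nontrivial R S
    have hdpos : 0 < Module.finrank k S := Module.finrank_pos
    have hnm : n = m := by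
      rw [hM', hN', ← hd] at h
      exact Nat.eq_of_mul_eq_mul_right hdpos h
    subst hnm
    exact ⟨e ≪≫ₗ (LinearEquiv.piCongrRight fun _ => f) ≪≫ₗ e'.symm⟩

end Groth.Agent.Lib.helper6
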