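import Mathlib
import Groth.Agent.Lib.helper6.CSATensor
import Groth.Agent.Lib.helper6.ModIso

set_option autoImplicit false
universe u v w

open scoped TensorProduct

namespace Groth.Agent.Lib.helper6

/-- A type synonym carrying a module structure through a representation. -/
def H6_TwMod {k : Type u} {A : Type v} {R : Type w} [Field k] [Ring A] [Algebra k A] [Ring R]
    [Algebra k R] (_ρ : R →ₐ[k] Module.End k A) : Type v := A

namespace H6_TwMod

variable {k : Type u} {A : Type v} {R : Type w} [Field k] [Ring A] [Algebra k A] [Ring R]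
    [Algebra k R] (ρ : R →ₐ[k] Module.End k A)

instance : AddCommGroup (H6_TwMod ρ) := inferInstanceAs (AddCommGroup A)
instance : Module k (H6_TwMod ρ) := inferInstanceAs (Module k A)
instance : Module R (H6_TwMod ρ) := Module.compHom A ρ.toRingHom

/-- The identity map. -/
def mk (a : A) : H6_TwMod ρ := a
/-- The identity map. -/
def out (x : H6_TwMod ρ) : A := x

theorem smul_def (r : R) (x : H6_TwMod ρ) : r • x = mk ρ (ρ r (out ρ x)) := rfl

instance : IsScalarTower k R (H6_TwMod ρ) where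
  smul_assoc c r x := by
    show mk ρ (ρ (c • r) (out ρ x)) = c • mk ρ (ρ r (out ρ x))
    rw [map_smul]
    rfl

instance [FiniteDimensional k A] : FiniteDimensional k (H6_TwMod ρ) :=
  inferInstanceAs (FiniteDimensional k A)

end H6_TwMod

section

variable {k : Type u} {A : Type v} {B : Type w} [Field k] [Ring A] [Algebra k A]
  [Algebra.IsCentral k A] [IsSimpleRing A] [FiniteDimensional k A]
  [Ring B] [Algebra k B] [IsSimpleRing B] [FiniteDimensional k B]

/-- The bimodule representation attached to an algebra map. -/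
noncomputable def H6_bimodRep (f : B →ₐ[k] A) : A ⊗[k] Bᵐᵒᵖ →ₐ[k] Module.End k A :=
  (AlgHom.mulLeftRight k A).comp (Algebra.TensorProduct.map (AlgHom.id k A) (AlgHom.op f))

theorem H6_bimodRep_tmul (f : B →ₐ[k] A) (a : A) (b : B) (x : A) :
    H6_bimodRep f (a ⊗ₜ[k] MulOpposite.op b) x = a * x * f b := by
  unfold H6_bimodRep
  rw [AlgHom.comp_apply, Algebra.TensorProduct.map_tmul, AlgHom.mulLeftRight_apply]
  rfl

/-- The Skolem–Noether theorem. -/
theorem H6_skolemNoether (f g : B →ₐ[k] A) :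
    ∃ u : Aˣ, ∀ b : B, f b = (u : A) * g b * ((u⁻¹ : Aˣ) : A) := by
  haveI : IsSimpleRing (A ⊗[k] Bᵐᵒᵖ) := H6_isSimpleRing_tensor
  haveI i1 : IsScalarTower k (A ⊗[k] Bᵐᵒᵖ) (H6_TwMod (H6_bimodRep f)) := inferInstance
  haveI i2 : IsScalarTower k (A ⊗[k] Bᵐᵒᵖ) (H6_TwMod (H6_bimodRep g)) := inferInstance
  haveI i3 : FiniteDimensional k (H6_TwMod (H6_bimodRep f)) := inferInstance
  haveI i4 : FiniteDimensional k (H6_TwMod (H6_bimodRep g)) := inferInstance
  have hfr : Module.finrank k (H6_TwMod (H6_bimodRep f)) = Module.finrank k (H6_TwMod (H6_bimodRep g)) := rfl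
  obtain ⟨e⟩ := H6_nonempty_linearEquiv_of_finrank_eq k (R := A ⊗[k] Bᵐᵒᵖ)
    (H6_TwMod (H6_bimodRep f)) (H6_TwMod (H6_bimodRep g)) hfr
  have key : ∀ (a : A) (b : B) (x : A),
      H6_TwMod.out _ (e (H6_TwMod.mk _ (a * x * f b))) = a * H6_TwMod.out _ (e (H6_TwMod.mk _ x)) * g b := by
    intro a b x
    have h1 := e.map_smul (a ⊗ₜ[k] MulOpposite.op b) (H6_TwMod.mk _ x)
    rw [H6_TwMod.smul_def, H6_TwMod.smul_def] at h1
    have h2 : H6_bimodRep f (a ⊗ₜ[k] MulOpposite.op b) (H6_TwMod.out _ (H6_TwMod.mk (H6_bimodRep f) x)) =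
        a * x * f b := H6_bimodRep_tmul f a b x
    rw [h2] at h1
    rw [h1]
    exact H6_bimodRep_tmul g a b _
  set E : A → A := fun x => H6_TwMod.out _ (e (H6_TwMod.mk _ x)) with hE
  have key' : ∀ a b x, E (a * x * f b) = a * E x * g b := key
  set u := E 1 with hu
  have h1 : ∀ a, E a = a * u := by
    intro a
    have := key' a 1 1
    rw [map_one, map_one, mul_one, mul_one, mul_one] at this
    exact this
  have h2 : ∀ b, E (f b) = u * g b := by
    intro b
    have := key' 1 b 1
    rw [one_mul, one_mul, one_mul] at this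
    exact this
  have hEinj : Function.Injective E := fun x y hxy => e.injective hxy
  have hEsurj : Function.Surjective E := fun y => by
    obtain ⟨x, hx⟩ := e.surjective y
    exact ⟨x, hx⟩
  obtain ⟨x₀, hx₀⟩ := hEsurj 1
  rw [h1] at hx₀
  have hux : u * x₀ = 1 := by
    apply hEinj
    rw [h1, mul_assoc, hx₀, mul_one, ← hu]
  refine ⟨⟨u, x₀, hux, hx₀⟩, fun b => ?_⟩
  show f b = u * g b * x₀
  have : f b * u = u * g b := by rw [← h1, h2]
  rw [← this, mul_assoc, hux, mul_one]

end

end Groth.Agent.Lib.helper6
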