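import Mathlib
import Groth.Prelude.Def_Curves
import Groth.Agent.S13268
import Groth.Agent.Lib.helper6.SepClosedSplit

set_option autoImplicit false
set_option linter.style.haveILetI false
universe u v w w'

open scoped TensorProduct

namespace Groth.Agent.Lib.helper6

section

variable (k : Type u) [Field k]

/-- Brauer equivalence: matrix algebras of positive sizes are isomorphic. -/
def H6_BrEq (X : Type v) [Ring X] [Algebra k X] (Y : Type w) [Ring Y] [Algebra k Y] : Prop :=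
  ∃ n m : ℕ, n ≠ 0 ∧ m ≠ 0 ∧ Nonempty (Matrix (Fin n) (Fin n) X ≃ₐ[k] Matrix (Fin m) (Fin m) Y)

variable {k}

/-- Iterated matrix algebras. -/
noncomputable def H6_matMat (X : Type v) [Ring X] [Algebra k X] (a b : ℕ) :
    Matrix (Fin a) (Fin a) (Matrix (Fin b) (Fin b) X) ≃ₐ[k] Matrix (Fin (a * b)) (Fin (a * b)) X :=
  (Matrix.compAlgEquiv (Fin a) (Fin b) X k).trans (Matrix.reindexAlgEquiv k X finProdFinEquiv)

theorem H6_BrEq.of_algEquiv {X : Type v} [Ring X] [Algebra k X] {Y : Type w} [Ring Y] [Algebra k Y]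
    (e : X ≃ₐ[k] Y) : H6_BrEq k X Y :=
  ⟨1, 1, one_ne_zero, one_ne_zero, ⟨AlgEquiv.mapMatrix e⟩⟩

theorem H6_BrEq.symm {X : Type v} [Ring X] [Algebra k X] {Y : Type w} [Ring Y] [Algebra k Y]
    (h : H6_BrEq k X Y) : H6_BrEq k Y X := by
  obtain ⟨n, m, hn, hm, ⟨e⟩⟩ := h
  exact ⟨m, n, hm, hn, ⟨e.symm⟩⟩

theorem H6_BrEq.trans {X : Type v} [Ring X] [Algebra k X] {Y : Type w} [Ring Y] [Algebra k Y]
    {Z : Type w'} [Ring Z] [Algebra k Z]
    (h : H6_BrEq k X Y) (h' : H6_BrEq k Y Z) : H6_BrEq k X Z := by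
  obtain ⟨a, b, ha, hb, ⟨e⟩⟩ := h
  obtain ⟨c, d, hc, hd, ⟨e'⟩⟩ := h'
  refine ⟨c * a, b * d, Nat.mul_ne_zero hc ha, Nat.mul_ne_zero hb hd, ⟨?_⟩⟩
  -- M_{ca}(X) ≃ M_c(M_a(X)) ≃ M_c(M_b(Y)) ≃ M_{cb}(Y) ≃ M_{bc}(Y) ≃ M_b(M_c(Y)) ≃ M_b(M_d(Z)) ≃ M_{bd}(Z)
  exact (((((H6_matMat X c a).symm.trans (AlgEquiv.mapMatrix e)).trans (H6_matMat Y c b)).trans
    (Matrix.reindexAlgEquiv k Y (finCongr (mul_comm c b)))).trans
      ((H6_matMat Y b c).symm.trans (AlgEquiv.mapMatrix e'))).trans (H6_matMat Z b d)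

/-- Matrices over a tensor product. -/
noncomputable def H6_matTensor (A : Type v) [Ring A] [Algebra k A] (X : Type w) [Ring X]
    [Algebra k X] (n : ℕ) :
    Matrix (Fin n) (Fin n) (A ⊗[k] X) ≃ₐ[k] A ⊗[k] Matrix (Fin n) (Fin n) X :=
  ((matrixEquivTensor (Fin n) k (A ⊗[k] X)).trans
    (Algebra.TensorProduct.assoc k k k A X (Matrix (Fin n) (Fin n) k))).trans
      (Algebra.TensorProduct.congr AlgEquiv.refl (matrixEquivTensor (Fin n) k X).symm)

theorem H6_BrEq.tensor_left (A : Type v) [Ring A] [Algebra k A]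
    {X : Type w} [Ring X] [Algebra k X] {Y : Type w'} [Ring Y] [Algebra k Y]
    (h : H6_BrEq k X Y) : H6_BrEq k (A ⊗[k] X) (A ⊗[k] Y) := by
  obtain ⟨a, b, ha, hb, ⟨e⟩⟩ := h
  exact ⟨a, b, ha, hb, ⟨((H6_matTensor A X a).trans
    (Algebra.TensorProduct.congr AlgEquiv.refl e)).trans (H6_matTensor A Y b).symm⟩⟩

theorem H6_BrEq.tensor_right (A : Type v) [Ring A] [Algebra k A]
    {X : Type w} [Ring X] [Algebra k X] {Y : Type w'} [Ring Y] [Algebra k Y]
    (h : H6_BrEq k X Y) : H6_BrEq k (X ⊗[k] A) (Y ⊗[k] A) :=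
  ((H6_BrEq.of_algEquiv (Algebra.TensorProduct.comm k X A)).trans (h.tensor_left A)).trans
    (H6_BrEq.of_algEquiv (Algebra.TensorProduct.comm k A Y))

/-- Split over the base field means isomorphic to a matrix algebra. -/
theorem H6_splits_self_iff (X : Type v) [Ring X] [Algebra k X] :
    Curves.Splits k X k ↔ ∃ r : ℕ, r ≠ 0 ∧ Nonempty (X ≃ₐ[k] Matrix (Fin r) (Fin r) k) := by
  constructor
  · rintro ⟨r, hr, ⟨e⟩⟩
    exact ⟨r, hr, ⟨(Algebra.TensorProduct.lid k X).symm.trans e⟩⟩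
  · rintro ⟨r, hr, ⟨e⟩⟩
    exact ⟨r, hr, ⟨(Algebra.TensorProduct.lid k X).trans e⟩⟩

/-- A central simple algebra Brauer equivalent to a split one is split. -/
theorem H6_BrEq.splits {X : Type v} [Ring X] [Algebra k X] {Y : Type w} [Ring Y] [Algebra k Y]
    [Algebra.IsCentral k Y] [IsSimpleRing Y] [FiniteDimensional k Y]
    (h : H6_BrEq k X Y) (hX : Curves.Splits k X k) : Curves.Splits k Y k := by
  classical
  rw [H6_splits_self_iff] at hX ⊢
  obtain ⟨r, hr, ⟨eX⟩⟩ := hX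
  obtain ⟨n, m, hn, hm, ⟨e⟩⟩ := h
  -- M_{nr}(k) ≃ M_m(Y)
  let E : Matrix (Fin (n * r)) (Fin (n * r)) k ≃ₐ[k] Matrix (Fin m) (Fin m) Y :=
    ((H6_matMat k n r).symm.trans (AlgEquiv.mapMatrix eX.symm)).trans e
  have hdim := E.toLinearEquiv.finrank_eq
  rw [Module.finrank_matrix, Module.finrank_matrix, Module.finrank_self, Fintype.card_fin,
    Fintype.card_fin, mul_one] at hdim
  -- (n r)^2 = m^2 * dim Y
  have hdvd : m ∣ n * r := by
    have : m ^ 2 ∣ (n * r) ^ 2 := ⟨Module.finrank k Y, by rw [pow_two, pow_two, hdim]⟩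
    exact (Nat.pow_dvd_pow_iff (by norm_num)).1 this
  obtain ⟨t, ht⟩ := hdvd
  have ht0 : t ≠ 0 := by
    rintro rfl
    rw [mul_zero] at ht
    exact Nat.mul_ne_zero hn hr ht
  haveI : NeZero t := ⟨ht0⟩
  haveI : Nonempty (Fin t) := ⟨0⟩
  let E' : Matrix (Fin m) (Fin m) (Matrix (Fin t) (Fin t) k) ≃ₐ[k] Matrix (Fin m) (Fin m) Y :=
    ((H6_matMat k m t).trans (Matrix.reindexAlgEquiv k k (finCongr ht.symm))).trans E
  obtain ⟨ε⟩ := Groth.Agent.S13268.result k (Matrix (Fin t) (Fin t) k) Y m hm E'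
  exact ⟨t, ht0, ⟨ε.symm⟩⟩

/-- Universe-polymorphic transfer of centrality along an algebra equivalence. -/
theorem H6_isCentral_of_algEquiv {X : Type v} [Ring X] [Algebra k X] {Y : Type w} [Ring Y]
    [Algebra k Y] (e : X ≃ₐ[k] Y) [Algebra.IsCentral k X] : Algebra.IsCentral k Y := by
  refine ⟨fun y hy => ?_⟩
  rw [Subalgebra.mem_center_iff] at hy
  have h1 : e.symm y ∈ Subalgebra.center k X := by
    rw [Subalgebra.mem_center_iff]
    intro x
    apply e.injective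
    rw [map_mul, map_mul, e.apply_symm_apply]
    exact hy (e x)
  obtain ⟨l, hl⟩ := Algebra.IsCentral.out h1
  refine ⟨l, ?_⟩
  have h2 := congrArg e hl
  rw [e.apply_symm_apply] at h2
  rw [← h2]
  exact (e.commutes l).symm

/-- An algebra Brauer equivalent to a finite-dimensional central simple algebra is itself
finite-dimensional central simple. -/
theorem H6_BrEq.csa_left {X : Type v} [Ring X] [Algebra k X] {Y : Type w} [Ring Y] [Algebra k Y]
    [Algebra.IsCentral k Y] [IsSimpleRing Y] [FiniteDimensional k Y]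
    (h : H6_BrEq k X Y) :
    Algebra.IsCentral k X ∧ IsSimpleRing X ∧ FiniteDimensional k X := by
  classical
  obtain ⟨n, m, hn, hm, ⟨e⟩⟩ := h
  haveI : NeZero n := ⟨hn⟩
  haveI : NeZero m := ⟨hm⟩
  haveI : Nonempty (Fin n) := ⟨0⟩
  haveI : Nonempty (Fin m) := ⟨0⟩
  haveI : Algebra.IsCentral k (Matrix (Fin n) (Fin n) X) :=
    H6_isCentral_of_algEquiv e.symm
  haveI : IsSimpleRing (Matrix (Fin n) (Fin n) X) :=
    IsSimpleRing.of_ringEquiv e.symm.toRingEquiv inferInstance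
  haveI : FiniteDimensional k (Matrix (Fin n) (Fin n) X) :=
    Module.Finite.equiv e.symm.toLinearEquiv
  refine ⟨H6_isCentral_of_matrix n, ⟨(TwoSidedIdeal.orderIsoMatrix (n := Fin n)).isSimpleOrder⟩, ?_⟩
  refine Module.Finite.of_surjective (Matrix.entryLinearMap k X (0 : Fin n) (0 : Fin n)) ?_
  intro x
  exact ⟨Matrix.of fun _ _ => x, rfl⟩

end

end Groth.Agent.Lib.helper6
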