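import Mathlib
import Groth.Prelude.Def_GSzCSA

set_option autoImplicit false
set_option linter.style.haveILetI false
universe u v w w'

open scoped TensorProduct
open PiTensorProduct

namespace Groth.Agent.Lib.helper6

section Generic

variable {k : Type u} [CommRing k]

/-- A linear equivalence out of a `PiTensorProduct` of algebras that is multiplicative on pure
tensors is an algebra equivalence. -/
noncomputable def H6_piTensorAlgEquiv {ι : Type*} [Fintype ι] {A : ι → Type*} [∀ i, Ring (A i)]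
    [∀ i, Algebra k (A i)] {C : Type*} [Ring C] [Algebra k C]
    (L : (⨂[k] i, A i) ≃ₗ[k] C) (h1 : L (tprod k 1) = 1)
    (hmul : ∀ x y, L (tprod k (x * y)) = L (tprod k x) * L (tprod k y)) :
    (⨂[k] i, A i) ≃ₐ[k] C :=
  AlgEquiv.ofLinearEquiv L h1 (by
    obtain ⟨F, hF⟩ : ∃ F : (⨂[k] i, A i) →ₐ[k] C, F.toLinearMap = L.toLinearMap := by
      refine ⟨PiTensorProduct.liftAlgHom (L.toLinearMap.compMultilinearMap (tprod k)) h1 hmul, ?_⟩
      apply PiTensorProduct.ext
      apply MultilinearMap.ext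
      intro x
      simp
    have hF' : ∀ x, L x = F x := fun x => (LinearMap.congr_fun hF x).symm
    intro x y
    rw [hF', hF', hF', map_mul])

@[simp]
theorem H6_piTensorAlgEquiv_apply {ι : Type*} [Fintype ι] {A : ι → Type*} [∀ i, Ring (A i)]
    [∀ i, Algebra k (A i)] {C : Type*} [Ring C] [Algebra k C]
    (L : (⨂[k] i, A i) ≃ₗ[k] C) (h1 : L (tprod k 1) = 1)
    (hmul : ∀ x y, L (tprod k (x * y)) = L (tprod k x) * L (tprod k y)) (x : ⨂[k] i, A i) :
    H6_piTensorAlgEquiv L h1 hmul x = L x := rfl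

end Generic

section TPow

variable (k : Type u) [Field k] (A : Type v) [Ring A] [Algebra k A]

/-- `A^{⊗ 1} ≃ A`. -/
noncomputable def H6_tpowOne : CSAGal.tpow k A 1 ≃ₐ[k] A :=
  H6_piTensorAlgEquiv (PiTensorProduct.subsingletonEquiv (0 : Fin 1))
    (by rw [PiTensorProduct.subsingletonEquiv_apply_tprod]; rfl)
    (by
      intro x y
      rw [PiTensorProduct.subsingletonEquiv_apply_tprod, PiTensorProduct.subsingletonEquiv_apply_tprod,
        PiTensorProduct.subsingletonEquiv_apply_tprod]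
      rfl)

/-- `A^{⊗ 0} ≃ k`. -/
noncomputable def H6_tpowZero : CSAGal.tpow k A 0 ≃ₐ[k] k :=
  H6_piTensorAlgEquiv (PiTensorProduct.isEmptyEquiv (Fin 0))
    (by rw [PiTensorProduct.isEmptyEquiv_apply_tprod])
    (by
      intro x y
      rw [PiTensorProduct.isEmptyEquiv_apply_tprod, PiTensorProduct.isEmptyEquiv_apply_tprod,
        PiTensorProduct.isEmptyEquiv_apply_tprod, mul_one])

/-- The underlying linear equivalence of `H6_tpowAdd`. -/
noncomputable def H6_tpowAddLin (a b : ℕ) :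
    CSAGal.tpow k A (a + b) ≃ₗ[k] CSAGal.tpow k A a ⊗[k] CSAGal.tpow k A b :=
  (PiTensorProduct.reindex k (fun _ : Fin (a + b) => A) finSumFinEquiv.symm).trans
    (PiTensorProduct.tmulEquiv k A).symm

theorem H6_tpowAddLin_tprod (a b : ℕ) (f : Fin (a + b) → A) :
    H6_tpowAddLin k A a b (tprod k f) =
      tprod k (fun i : Fin a => f (Fin.castAdd b i)) ⊗ₜ[k] tprod k (fun i : Fin b => f (Fin.natAdd a i)) := by
  unfold H6_tpowAddLin
  rw [LinearEquiv.trans_apply, PiTensorProduct.reindex_tprod, PiTensorProduct.tmulEquiv_symm_apply]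
  rfl

/-- `A^{⊗ (a+b)} ≃ A^{⊗ a} ⊗ A^{⊗ b}`. -/
noncomputable def H6_tpowAdd (a b : ℕ) :
    CSAGal.tpow k A (a + b) ≃ₐ[k] CSAGal.tpow k A a ⊗[k] CSAGal.tpow k A b :=
  H6_piTensorAlgEquiv (H6_tpowAddLin k A a b)
    (by rw [H6_tpowAddLin_tprod]; rfl)
    (by
      intro x y
      rw [H6_tpowAddLin_tprod, H6_tpowAddLin_tprod, H6_tpowAddLin_tprod,
        Algebra.TensorProduct.tmul_mul_tmul, PiTensorProduct.tprod_mul_tprod,
        PiTensorProduct.tprod_mul_tprod]
      rfl)

/-- `A^{⊗ (e+1)} ≃ A^{⊗ e} ⊗ A`. -/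
noncomputable def H6_tpowSucc (e : ℕ) :
    CSAGal.tpow k A (e + 1) ≃ₐ[k] CSAGal.tpow k A e ⊗[k] A :=
  (H6_tpowAdd k A e 1).trans (Algebra.TensorProduct.congr AlgEquiv.refl (H6_tpowOne k A))

end TPow

end Groth.Agent.Lib.helper6
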