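import Mathlib
import Groth.Prelude.Def_GSzCSA
import Groth.Agent.Lib.helper6.BrEq
import Groth.Agent.Lib.helper6.TPow
import Groth.Agent.Lib.helper6.CSATensor

set_option autoImplicit false
set_option linter.style.haveILetI false
universe u v w w'

open scoped TensorProduct

namespace Groth.Agent.Lib.helper6

section Central

variable {K : Type u} {A : Type v} {B : Type w} [Field K] [Ring A] [Ring B] [Algebra K A]
  [Algebra K B]

/-- The tensor product of central algebras is central. -/
theorem H6_isCentral_tensor [Algebra.IsCentral K A] [Algebra.IsCentral K B] :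
    Algebra.IsCentral K (A ⊗[K] B) := by
  classical
  refine ⟨fun y hy => ?_⟩
  rcases subsingleton_or_nontrivial A with hA | hA
  · haveI : Subsingleton (A ⊗[K] B) := by
      apply subsingleton_of_zero_eq_one
      rw [Algebra.TensorProduct.one_def, Subsingleton.elim (1 : A) 0, TensorProduct.zero_tmul]
    exact ⟨0, Subsingleton.elim _ _⟩
  rw [Subalgebra.mem_center_iff] at hy
  let e := Module.Basis.ofVectorSpace K B
  obtain ⟨b, hb⟩ := H6_exists_of_coef_central e y (by
    intro i c
    have h1 := H6_coef_mul e c 1 y i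
    have h2 := H6_coef_mul e 1 c y i
    rw [Algebra.TensorProduct.one_def.symm, mul_one, mul_one] at h1
    rw [Algebra.TensorProduct.one_def.symm, one_mul, one_mul] at h2
    rw [← h1, ← h2, hy (c ⊗ₜ[K] (1 : B))])
  have hbc : b ∈ Subalgebra.center K B := by
    rw [Subalgebra.mem_center_iff]
    intro b'
    have h1 := hy ((1 : A) ⊗ₜ[K] b')
    rw [hb, Algebra.TensorProduct.tmul_mul_tmul, Algebra.TensorProduct.tmul_mul_tmul, one_mul] at h1
    exact Algebra.TensorProduct.includeRight_injective (algebraMap K A).injective h1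
  obtain ⟨l, hl⟩ := (Algebra.IsCentral.mem_center_iff K).1 hbc
  refine ⟨l, ?_⟩
  show algebraMap K (A ⊗[K] B) l = y
  rw [hb, hl, Algebra.TensorProduct.algebraMap_apply, Algebra.algebraMap_eq_smul_one,
    Algebra.algebraMap_eq_smul_one, TensorProduct.tmul_smul, TensorProduct.smul_tmul']

end Central

section Calc

variable {k : Type u} [Field k]

/-- `M_1(X) ≃ X`. -/
noncomputable def H6_matOne (X : Type v) [Ring X] [Algebra k X] :
    Matrix (Fin 1) (Fin 1) X ≃ₐ[k] X :=
  AlgEquiv.ofLinearEquiv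
    { toFun := fun M => M 0 0
      invFun := fun x => Matrix.of fun _ _ => x
      map_add' := fun _ _ => rfl
      map_smul' := fun _ _ => rfl
      left_inv := fun M => by
        ext i j
        rw [Subsingleton.elim i 0, Subsingleton.elim j 0]
        rfl
      right_inv := fun x => rfl }
    rfl
    (fun M N => by
      show (M * N) 0 0 = M 0 0 * N 0 0
      rw [Matrix.mul_apply, Fin.sum_univ_one])

theorem H6_BrEq.refl (X : Type v) [Ring X] [Algebra k X] : H6_BrEq k X X :=
  H6_BrEq.of_algEquiv AlgEquiv.refl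

theorem H6_BrEq.matrix (X : Type v) [Ring X] [Algebra k X] (r : ℕ) (hr : r ≠ 0) :
    H6_BrEq k (Matrix (Fin r) (Fin r) X) X :=
  ⟨1, r, one_ne_zero, hr, ⟨H6_matOne _⟩⟩

/-- For central simple algebras, being split is Brauer equivalence with the base field. -/
theorem H6_brEq_self_iff_splits (X : Type v) [Ring X] [Algebra k X] [Algebra.IsCentral k X]
    [IsSimpleRing X] [FiniteDimensional k X] :
    H6_BrEq k X k ↔ Curves.Splits k X k := by
  constructor
  · intro h
    refine h.symm.splits ?_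
    rw [H6_splits_self_iff]
    exact ⟨1, one_ne_zero, ⟨(H6_matOne k).symm⟩⟩
  · intro h
    rw [H6_splits_self_iff] at h
    obtain ⟨r, hr, ⟨e⟩⟩ := h
    exact (H6_BrEq.of_algEquiv e).trans (H6_BrEq.matrix k r hr)

theorem H6_BrEq.triv_tensor {X : Type v} [Ring X] [Algebra k X] {Y : Type w} [Ring Y] [Algebra k Y]
    (hX : H6_BrEq k X k) (hY : H6_BrEq k Y k) : H6_BrEq k (X ⊗[k] Y) k :=
  (hX.tensor_right Y).trans ((H6_BrEq.of_algEquiv (Algebra.TensorProduct.lid k Y)).trans hY)

theorem H6_BrEq.triv_of_tensor_left {X : Type v} [Ring X] [Algebra k X] {Y : Type w} [Ring Y]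
    [Algebra k Y] (hXY : H6_BrEq k (X ⊗[k] Y) k) (hX : H6_BrEq k X k) : H6_BrEq k Y k :=
  (H6_BrEq.of_algEquiv (Algebra.TensorProduct.lid k Y).symm).trans
    ((hX.symm.tensor_right Y).trans hXY)

theorem H6_BrEq.triv_of_tensor_right {X : Type v} [Ring X] [Algebra k X] {Y : Type w} [Ring Y]
    [Algebra k Y] (hXY : H6_BrEq k (X ⊗[k] Y) k) (hY : H6_BrEq k Y k) : H6_BrEq k X k :=
  H6_BrEq.triv_of_tensor_left
    ((H6_BrEq.of_algEquiv (Algebra.TensorProduct.comm k Y X)).trans hXY) hY

/-- Tensor powers of central simple algebras are central simple. -/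
theorem H6_csa_tpow (A : Type v) [Ring A] [Algebra k A] [Algebra.IsCentral k A] [IsSimpleRing A]
    [FiniteDimensional k A] (n : ℕ) :
    Algebra.IsCentral k (CSAGal.tpow k A n) ∧ IsSimpleRing (CSAGal.tpow k A n) ∧
      FiniteDimensional k (CSAGal.tpow k A n) := by
  induction n with
  | zero =>
    exact ⟨H6_isCentral_of_algEquiv (H6_tpowZero k A).symm,
      IsSimpleRing.of_ringEquiv (H6_tpowZero k A).symm.toRingEquiv inferInstance,
      Module.Finite.equiv (H6_tpowZero k A).symm.toLinearEquiv⟩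
  | succ n ih =>
    obtain ⟨h1, h2, h3⟩ := ih
    haveI : Algebra.IsCentral k (CSAGal.tpow k A n ⊗[k] A) := H6_isCentral_tensor
    haveI : IsSimpleRing (CSAGal.tpow k A n ⊗[k] A) := H6_isSimpleRing_tensor
    exact ⟨H6_isCentral_of_algEquiv (H6_tpowSucc k A n).symm,
      IsSimpleRing.of_ringEquiv (H6_tpowSucc k A n).symm.toRingEquiv inferInstance,
      Module.Finite.equiv (H6_tpowSucc k A n).symm.toLinearEquiv⟩

/-- Tensor powers respect Brauer equivalence. -/
theorem H6_BrEq.tpow_congr {X : Type v} [Ring X] [Algebra k X] {Y : Type w} [Ring Y] [Algebra k Y]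
    (h : H6_BrEq k X Y) (n : ℕ) : H6_BrEq k (CSAGal.tpow k X n) (CSAGal.tpow k Y n) := by
  induction n with
  | zero => exact H6_BrEq.of_algEquiv ((H6_tpowZero k X).trans (H6_tpowZero k Y).symm)
  | succ n ih =>
    exact (((H6_BrEq.of_algEquiv (H6_tpowSucc k X n)).trans (ih.tensor_right X)).trans
      (h.tensor_left (CSAGal.tpow k Y n))).trans (H6_BrEq.of_algEquiv (H6_tpowSucc k Y n).symm)

/-- Iterated tensor powers. -/
theorem H6_tpow_tpow (A : Type v) [Ring A] [Algebra k A] (r e : ℕ) :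
    H6_BrEq k (CSAGal.tpow k (CSAGal.tpow k A r) e) (CSAGal.tpow k A (r * e)) := by
  induction e with
  | zero =>
    exact H6_BrEq.of_algEquiv ((H6_tpowZero k (CSAGal.tpow k A r)).trans (H6_tpowZero k A).symm)
  | succ e ih =>
    have h1 : H6_BrEq k (CSAGal.tpow k (CSAGal.tpow k A r) (e + 1))
        (CSAGal.tpow k (CSAGal.tpow k A r) e ⊗[k] CSAGal.tpow k A r) :=
      H6_BrEq.of_algEquiv (H6_tpowSucc k (CSAGal.tpow k A r) e)
    have h2 : H6_BrEq k (CSAGal.tpow k (CSAGal.tpow k A r) e ⊗[k] CSAGal.tpow k A r)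
        (CSAGal.tpow k A (r * e) ⊗[k] CSAGal.tpow k A r) := ih.tensor_right _
    have h3 : H6_BrEq k (CSAGal.tpow k A (r * e) ⊗[k] CSAGal.tpow k A r)
        (CSAGal.tpow k A (r * e + r)) := H6_BrEq.of_algEquiv (H6_tpowAdd k A (r * e) r).symm
    exact (h1.trans h2).trans h3

/-- The set of exponents killing a class is closed under addition. -/
theorem H6_tpow_triv_add (A : Type v) [Ring A] [Algebra k A] (a b : ℕ)
    (ha : H6_BrEq k (CSAGal.tpow k A a) k) (hb : H6_BrEq k (CSAGal.tpow k A b) k) :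
    H6_BrEq k (CSAGal.tpow k A (a + b)) k :=
  (H6_BrEq.of_algEquiv (H6_tpowAdd k A a b)).trans (ha.triv_tensor hb)

theorem H6_tpow_triv_sub (A : Type v) [Ring A] [Algebra k A] (a b : ℕ)
    (hab : H6_BrEq k (CSAGal.tpow k A (a + b)) k) (ha : H6_BrEq k (CSAGal.tpow k A a) k) :
    H6_BrEq k (CSAGal.tpow k A b) k :=
  H6_BrEq.triv_of_tensor_left ((H6_BrEq.of_algEquiv (H6_tpowAdd k A a b).symm).trans hab) ha

theorem H6_tpow_triv_mul (A : Type v) [Ring A] [Algebra k A] (p : ℕ)
    (hp : H6_BrEq k (CSAGal.tpow k A p) k) (q : ℕ) : H6_BrEq k (CSAGal.tpow k A (p * q)) k := by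
  induction q with
  | zero => exact H6_BrEq.of_algEquiv (H6_tpowZero k A)
  | succ q ih => exact H6_tpow_triv_add A (p * q) p ih hp

/-- If `p` is the period then the `n`-th tensor power is split exactly when `p ∣ n`. -/
theorem H6_splits_tpow_iff_dvd (A : Type v) [Ring A] [Algebra k A] [Algebra.IsCentral k A]
    [IsSimpleRing A] [FiniteDimensional k A] (p : ℕ) (hp : CSAGal.IsPeriod k A p) (n : ℕ) :
    Curves.Splits k (CSAGal.tpow k A n) k ↔ p ∣ n := by
  obtain ⟨hp0, hp1, hp2⟩ := hp
  have hcsa := H6_csa_tpow (k := k) A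
  have key : ∀ n, Curves.Splits k (CSAGal.tpow k A n) k ↔ H6_BrEq k (CSAGal.tpow k A n) k := by
    intro n
    obtain ⟨h1, h2, h3⟩ := hcsa n
    exact (H6_brEq_self_iff_splits _).symm
  rw [key]
  have hpT := (key p).1 hp1
  constructor
  · intro h
    have h1 : H6_BrEq k (CSAGal.tpow k A (p * (n / p) + n % p)) k := by
      rw [Nat.div_add_mod]
      exact h
    have h2 := H6_tpow_triv_sub A _ _ h1 (H6_tpow_triv_mul A p hpT (n / p))
    by_contra hnd
    have h3 : 0 < n % p := Nat.pos_of_ne_zero fun h0 => hnd (Nat.dvd_of_mod_eq_zero h0)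
    exact hp2 (n % p) h3 (Nat.mod_lt n hp0) ((key _).2 h2)
  · rintro ⟨q, rfl⟩
    exact H6_tpow_triv_mul A p hpT q

end Calc

end Groth.Agent.Lib.helper6
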