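import Mathlib
import Groth.Prelude.Def_GSzCSA
import Groth.Agent.Lib.helper6.BrauerCalc

set_option autoImplicit false
set_option linter.style.haveILetI false
universe u v w w'

open scoped TensorProduct

namespace Groth.Agent.Lib.helper6

section BaseChange

variable {k : Type u} [Field k] (L : Type w') [Field L] [Algebra k L]

/-- `L ⊗ M_n(X) ≃ M_n(L ⊗ X)` as `L`-algebras. -/
noncomputable def H6_matBaseChange (X : Type v) [Ring X] [Algebra k X] (n : ℕ) :
    L ⊗[k] Matrix (Fin n) (Fin n) X ≃ₐ[L] Matrix (Fin n) (Fin n) (L ⊗[k] X) :=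
  ((Algebra.TensorProduct.congr (H6_matOne (k := L) L).symm
      (AlgEquiv.refl : Matrix (Fin n) (Fin n) X ≃ₐ[k] Matrix (Fin n) (Fin n) X)).trans
    (Matrix.kroneckerTMulAlgEquiv (Fin 1) (Fin n) k L L X)).trans
    (Matrix.reindexAlgEquiv L (L ⊗[k] X) (Equiv.uniqueProd (Fin n) (Fin 1)))

theorem H6_BrEq.baseChange {X : Type v} [Ring X] [Algebra k X] {Y : Type w} [Ring Y] [Algebra k Y]
    (h : H6_BrEq k X Y) : H6_BrEq L (L ⊗[k] X) (L ⊗[k] Y) := by
  obtain ⟨n, m, hn, hm, ⟨e⟩⟩ := h
  exact ⟨n, m, hn, hm, ⟨((H6_matBaseChange L X n).symm.trans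
    (Algebra.TensorProduct.congr (AlgEquiv.refl : L ≃ₐ[L] L) e)).trans (H6_matBaseChange L Y m)⟩⟩

variable {L}

theorem H6_splits_of_algEquiv {X : Type v} [Ring X] [Algebra k X] {Y : Type w} [Ring Y]
    [Algebra k Y] (e : X ≃ₐ[k] Y) (h : Curves.Splits k X L) : Curves.Splits k Y L := by
  obtain ⟨n, hn, ⟨φ⟩⟩ := h
  exact ⟨n, hn, ⟨(Algebra.TensorProduct.congr (AlgEquiv.refl : L ≃ₐ[L] L) e.symm).trans φ⟩⟩

/-- Splitting by an extension field is invariant under Brauer equivalence. -/
theorem H6_splits_of_brEq {X : Type v} [Ring X] [Algebra k X] {Y : Type w} [Ring Y] [Algebra k Y]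
    [Algebra.IsCentral k Y] [IsSimpleRing Y] [FiniteDimensional k Y]
    (h : H6_BrEq k X Y) (hX : Curves.Splits k X L) : Curves.Splits k Y L := by
  haveI : Algebra.IsCentral L (L ⊗[k] Y) := H6_isCentral_baseChange
  haveI : IsSimpleRing (L ⊗[k] Y) := H6_isSimpleRing_baseChange
  have h1 : Curves.Splits L (L ⊗[k] X) L := by
    rw [H6_splits_self_iff]
    exact hX
  have h2 := (h.baseChange L).splits h1
  rw [H6_splits_self_iff] at h2
  exact h2

end BaseChange

section Tensor

variable {k : Type u} [Field k] {K : Type v} [Field K] [Algebra k K]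

/-- Universe-polymorphic version of `S7737`: a field splitting two central simple algebras splits
their tensor product. -/
theorem H6_splits_tensor
    (A : Type w) [Ring A] [Algebra k A] [Algebra.IsCentral k A] [IsSimpleRing A] [FiniteDimensional k A]
    (B : Type w') [Ring B] [Algebra k B] [Algebra.IsCentral k B] [IsSimpleRing B] [FiniteDimensional k B]
    (hA : Curves.Splits k A K) (hB : Curves.Splits k B K) : Curves.Splits k (A ⊗[k] B) K := by
  classical
  obtain ⟨n, hn, ⟨φA⟩⟩ := hA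
  obtain ⟨m, hm, ⟨φB⟩⟩ := hB
  haveI : NeZero n := ⟨hn⟩
  haveI : NeZero m := ⟨hm⟩
  -- simplicity of K ⊗ (A ⊗ B)
  haveI h1 : IsSimpleRing (B ⊗[k] K) := H6_isSimpleRing_tensor
  haveI h2 : IsSimpleRing (A ⊗[k] (B ⊗[k] K)) := H6_isSimpleRing_tensor
  haveI h3 : IsSimpleRing ((A ⊗[k] B) ⊗[k] K) :=
    IsSimpleRing.of_ringEquiv (Algebra.TensorProduct.assoc k k k A B K).symm.toRingEquiv h2
  haveI h4 : IsSimpleRing (K ⊗[k] (A ⊗[k] B)) :=
    IsSimpleRing.of_ringEquiv (Algebra.TensorProduct.comm k (A ⊗[k] B) K).toRingEquiv h3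
  -- dimensions
  have hdA : Module.finrank k A = n * n := by
    have := φA.toLinearEquiv.finrank_eq
    rw [Module.finrank_baseChange, Module.finrank_matrix, Module.finrank_self, Fintype.card_fin,
      mul_one] at this
    exact this
  have hdB : Module.finrank k B = m * m := by
    have := φB.toLinearEquiv.finrank_eq
    rw [Module.finrank_baseChange, Module.finrank_matrix, Module.finrank_self, Fintype.card_fin,
      mul_one] at this
    exact this
  let C := Matrix (Fin n) (Fin n) K ⊗[K] Matrix (Fin m) (Fin m) K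
  let fA : A →ₐ[k] C :=
    ((Algebra.TensorProduct.includeLeft : Matrix (Fin n) (Fin n) K →ₐ[K] C).restrictScalars k).comp
      ((φA.toAlgHom.restrictScalars k).comp Algebra.TensorProduct.includeRight)
  let fB : B →ₐ[k] C :=
    ((Algebra.TensorProduct.includeRight : Matrix (Fin m) (Fin m) K →ₐ[K] C).restrictScalars k).comp
      ((φB.toAlgHom.restrictScalars k).comp Algebra.TensorProduct.includeRight)
  have hcomm : ∀ a b, Commute (fA a) (fB b) := by
    intro a b
    show (φA (1 ⊗ₜ a) ⊗ₜ[K] (1 : Matrix (Fin m) (Fin m) K)) *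
      ((1 : Matrix (Fin n) (Fin n) K) ⊗ₜ[K] φB (1 ⊗ₜ b)) =
      ((1 : Matrix (Fin n) (Fin n) K) ⊗ₜ[K] φB (1 ⊗ₜ b)) *
      (φA (1 ⊗ₜ a) ⊗ₜ[K] (1 : Matrix (Fin m) (Fin m) K))
    rw [Algebra.TensorProduct.tmul_mul_tmul, Algebra.TensorProduct.tmul_mul_tmul, mul_one, one_mul,
      mul_one, one_mul]
  let g : A ⊗[k] B →ₐ[k] C := Algebra.TensorProduct.lift fA fB hcomm
  let Ψ : K ⊗[k] (A ⊗[k] B) →ₐ[K] C :=
    Algebra.TensorProduct.lift (Algebra.ofId K C) g (fun x y => Algebra.commute_algebraMap_left x _)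
  have hdC : Module.finrank K C = (n * n) * (m * m) := by
    rw [Module.finrank_tensorProduct, Module.finrank_matrix, Module.finrank_matrix,
      Module.finrank_self, Fintype.card_fin, Fintype.card_fin, mul_one, mul_one]
  have hdS : Module.finrank K (K ⊗[k] (A ⊗[k] B)) = (n * n) * (m * m) := by
    rw [Module.finrank_baseChange, Module.finrank_tensorProduct, hdA, hdB]
  haveI : Nontrivial C := Module.nontrivial_of_finrank_pos (R := K) (by
    rw [hdC]
    have := Nat.pos_of_ne_zero hn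
    have := Nat.pos_of_ne_zero hm
    positivity)
  have hinj : Function.Injective Ψ := RingHom.injective Ψ.toRingHom
  have hbij : Function.Bijective Ψ :=
    ⟨hinj, (LinearMap.injective_iff_surjective_of_finrank_eq_finrank (f := Ψ.toLinearMap)
      (hdS.trans hdC.symm)).1 hinj⟩
  refine ⟨n * m, Nat.mul_ne_zero hn hm, ⟨?_⟩⟩
  exact ((AlgEquiv.ofBijective Ψ hbij).trans (Matrix.kroneckerAlgEquiv (Fin n) (Fin m) K)).trans
    (Matrix.reindexAlgEquiv K K finProdFinEquiv)

/-- A field splitting `A` splits all tensor powers of `A`. -/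
theorem H6_splits_tpow (A : Type w) [Ring A] [Algebra k A] [Algebra.IsCentral k A] [IsSimpleRing A]
    [FiniteDimensional k A] (hA : Curves.Splits k A K) (n : ℕ) :
    Curves.Splits k (CSAGal.tpow k A n) K := by
  induction n with
  | zero =>
    refine H6_splits_of_algEquiv (H6_tpowZero k A).symm ?_
    exact ⟨1, one_ne_zero, ⟨(Algebra.TensorProduct.rid k K K).trans (H6_matOne (k := K) K).symm⟩⟩
  | succ n ih =>
    obtain ⟨h1, h2, h3⟩ := H6_csa_tpow (k := k) A n
    exact H6_splits_of_algEquiv (H6_tpowSucc k A n).symm (H6_splits_tensor _ A ih hA)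

end Tensor

end Groth.Agent.Lib.helper6
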