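import Mathlib

set_option autoImplicit false
set_option linter.style.haveILetI false

open MvPolynomial Finset

namespace Groth.Agent.Lib.helper6

variable (n : ℕ)

/-- substitution of elementary symmetric polynomials in both groups of variables -/
noncomputable def H6_Phi : MvPolynomial (Fin n ⊕ Fin n) ℤ →ₐ[ℤ] MvPolynomial (Fin n ⊕ Fin n) ℤ :=
  aeval (Sum.elim (fun k : Fin n => rename Sum.inl (esymm (Fin n) ℤ ((k : ℕ) + 1)))
      (fun k : Fin n => rename Sum.inr (esymm (Fin n) ℤ ((k : ℕ) + 1))))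

noncomputable def H6_ET : MvPolynomial (Fin n) (MvPolynomial (Fin n) ℤ) →ₐ[MvPolynomial (Fin n) ℤ]
    MvPolynomial (Fin n) (MvPolynomial (Fin n) ℤ) :=
  aeval (fun k : Fin n => esymm (Fin n) (MvPolynomial (Fin n) ℤ) ((k : ℕ) + 1))

noncomputable def H6_EU : MvPolynomial (Fin n) ℤ →ₐ[ℤ] MvPolynomial (Fin n) ℤ :=
  aeval (fun k : Fin n => esymm (Fin n) ℤ ((k : ℕ) + 1))

noncomputable def H6_renR (ρ : Equiv.Perm (Fin n)) :
    MvPolynomial (Fin n) ℤ →+* MvPolynomial (Fin n) ℤ :=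
  (rename ρ : MvPolynomial (Fin n) ℤ →ₐ[ℤ] MvPolynomial (Fin n) ℤ).toRingHom

@[simp] theorem H6_renR_apply (ρ : Equiv.Perm (Fin n)) (p : MvPolynomial (Fin n) ℤ) :
    H6_renR n ρ p = rename ρ p := rfl

theorem H6_sumAlgEquiv_rename_inl (p : MvPolynomial (Fin n) ℤ) :
    sumAlgEquiv ℤ (Fin n) (Fin n) (rename Sum.inl p) =
      MvPolynomial.map (algebraMap ℤ (MvPolynomial (Fin n) ℤ)) p := by
  have := DFunLike.congr_fun (sumAlgEquiv_comp_rename_inl (R := ℤ) (S₁ := Fin n) (S₂ := Fin n)) p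
  simpa using this

theorem H6_sumAlgEquiv_rename_inr (p : MvPolynomial (Fin n) ℤ) :
    sumAlgEquiv ℤ (Fin n) (Fin n) (rename Sum.inr p) = C p := by
  have := DFunLike.congr_fun (sumAlgEquiv_comp_rename_inr (R := ℤ) (S₁ := Fin n) (S₂ := Fin n)) p
  simpa using this

theorem H6_L1 (P : MvPolynomial (Fin n ⊕ Fin n) ℤ) :
    sumAlgEquiv ℤ (Fin n) (Fin n) (H6_Phi n P) =
      H6_ET n (MvPolynomial.map (H6_EU n : MvPolynomial (Fin n) ℤ →+* MvPolynomial (Fin n) ℤ)
        (sumAlgEquiv ℤ (Fin n) (Fin n) P)) := by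
  induction P using MvPolynomial.induction_on with
  | C r => simp [H6_Phi, H6_ET, H6_EU]
  | add p q hp hq => simp only [map_add, hp, hq]
  | mul_X p i hp =>
    simp only [map_mul, hp]
    congr 1
    cases i with
    | inl k =>
      simp only [H6_Phi, aeval_X, Sum.elim_inl, H6_sumAlgEquiv_rename_inl, map_esymm,
        sumAlgEquiv_X_inl, map_X, H6_ET]
    | inr k =>
      simp only [H6_Phi, aeval_X, Sum.elim_inr, H6_sumAlgEquiv_rename_inr,
        sumAlgEquiv_X_inr, map_C, H6_ET, H6_EU, RingHom.coe_coe, aeval_C]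
      rfl

theorem H6_L2 (ρ : Equiv.Perm (Fin n)) (f : MvPolynomial (Fin n ⊕ Fin n) ℤ) :
    sumAlgEquiv ℤ (Fin n) (Fin n) (rename (Equiv.sumCongr ρ (Equiv.refl (Fin n))) f) =
      rename ρ (sumAlgEquiv ℤ (Fin n) (Fin n) f) := by
  induction f using MvPolynomial.induction_on with
  | C r => simp
  | add p q hp hq => simp only [map_add, hp, hq]
  | mul_X p i hp =>
    simp only [map_mul, hp]
    congr 1
    cases i with
    | inl k => simp
    | inr k => simp

theorem H6_L3 (ρ : Equiv.Perm (Fin n)) (f : MvPolynomial (Fin n ⊕ Fin n) ℤ) :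
    sumAlgEquiv ℤ (Fin n) (Fin n) (rename (Equiv.sumCongr (Equiv.refl (Fin n)) ρ) f) =
      MvPolynomial.map (H6_renR n ρ)
        (sumAlgEquiv ℤ (Fin n) (Fin n) f) := by
  induction f using MvPolynomial.induction_on with
  | C r => simp
  | add p q hp hq => simp only [map_add, hp, hq]
  | mul_X p i hp =>
    simp only [map_mul, hp]
    congr 1
    cases i with
    | inl k => simp
    | inr k => simp

theorem H6_L4 (r : MvPolynomial (Fin n) ℤ →+* MvPolynomial (Fin n) ℤ)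
    (G : MvPolynomial (Fin n) (MvPolynomial (Fin n) ℤ)) :
    H6_ET n (MvPolynomial.map r G) = MvPolynomial.map r (H6_ET n G) := by
  induction G using MvPolynomial.induction_on with
  | C c => simp [H6_ET]
  | add p q hp hq => simp only [map_add, hp, hq]
  | mul_X p i hp =>
    simp only [map_mul, hp]
    congr 1
    simp [H6_ET, map_esymm]

theorem H6_bisymm (f : MvPolynomial (Fin n ⊕ Fin n) ℤ)
    (h1 : ∀ ρ : Equiv.Perm (Fin n), rename (Equiv.sumCongr ρ (Equiv.refl (Fin n))) f = f)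
    (h2 : ∀ ρ : Equiv.Perm (Fin n), rename (Equiv.sumCongr (Equiv.refl (Fin n)) ρ) f = f) :
    ∃ P, H6_Phi n P = f := by
  classical
  have hF1 : (sumAlgEquiv ℤ (Fin n) (Fin n) f).IsSymmetric := by
    intro ρ
    rw [← H6_L2, h1]
  obtain ⟨G, hG⟩ := esymmAlgHom_surjective (σ := Fin n) (n := n) (MvPolynomial (Fin n) ℤ)
    (by simp) ⟨_, hF1⟩
  have hG' : H6_ET n G = sumAlgEquiv ℤ (Fin n) (Fin n) f := by
    rw [H6_ET, ← esymmAlgHom_apply, hG]
  have hG2 : ∀ ρ : Equiv.Perm (Fin n),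
      MvPolynomial.map (H6_renR n ρ) G = G := by
    intro ρ
    apply esymmAlgHom_injective (σ := Fin n) (n := n) (MvPolynomial (Fin n) ℤ) (by simp)
    apply Subtype.ext
    rw [esymmAlgHom_apply, esymmAlgHom_apply]
    change H6_ET n _ = H6_ET n _
    rw [H6_L4, hG', ← H6_L3, h2]
  have hG3 : G ∈ Set.range (MvPolynomial.map
      (H6_EU n : MvPolynomial (Fin n) ℤ →+* MvPolynomial (Fin n) ℤ)) := by
    rw [mem_range_map_iff_coeffs_subset]
    intro c hc
    obtain ⟨d, -, rfl⟩ := mem_coeffs_iff.mp (Finset.mem_coe.mp hc)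
    have hsym : (coeff d G).IsSymmetric := by
      intro ρ
      have := congrArg (coeff d) (hG2 ρ)
      rw [coeff_map] at this
      exact this
    obtain ⟨g, hg⟩ := esymmAlgHom_surjective (σ := Fin n) (n := n) ℤ (by simp) ⟨_, hsym⟩
    refine ⟨g, ?_⟩
    have := congrArg Subtype.val hg
    rw [esymmAlgHom_apply] at this
    exact this
  obtain ⟨G', hG'2⟩ := hG3
  refine ⟨(sumAlgEquiv ℤ (Fin n) (Fin n)).symm G', ?_⟩
  apply (sumAlgEquiv ℤ (Fin n) (Fin n)).injective
  rw [H6_L1, AlgEquiv.apply_symm_apply, hG'2, hG']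

end Groth.Agent.Lib.helper6
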