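import Mathlib

set_option autoImplicit false
universe u v w

open scoped TensorProduct

namespace Groth.Agent.Lib.helper6

/-- Dedekind independence of characters with vector coefficients. -/
theorem H6_dedekind_vec {K : Type*} [Field K] {V : Type*} [AddCommGroup V] [Module K V]
    {G : Type*} [Monoid G] {ι : Type*} [Fintype ι] (χ : ι → (G →* K))
    (hχ : Function.Injective χ) (r : ι → V)
    (h : ∀ g, ∑ i, χ i g • r i = 0) : ∀ i, r i = 0 := by
  classical
  intro i
  rw [← Module.forall_dual_apply_eq_zero_iff K]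
  intro φ
  have hli := (linearIndependent_monoidHom G K).comp χ hχ
  rw [Fintype.linearIndependent_iff] at hli
  apply hli (fun i => φ (r i))
  ext g
  have := congrArg φ (h g)
  rw [map_sum, map_zero] at this
  simp only [Function.comp_apply, Finset.sum_apply, Pi.smul_apply, smul_eq_mul, Pi.zero_apply]
  rw [← this]
  refine Finset.sum_congr rfl fun j _ => ?_
  rw [map_smul, smul_eq_mul, mul_comm]

/-- Left independence of the powers of `y` over the field `K` in a "cyclic-type" ring. -/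
theorem H6_cyc_indep {K R : Type*} [Field K] [Ring R] [Nontrivial R] (ι : K →+* R) (y : R)
    (hy : IsUnit y) {m : ℕ} (χ : Fin m → (K →* K)) (hχ : Function.Injective χ)
    (hrel : ∀ (j : Fin m) (z : K), y ^ (j : ℕ) * ι z = ι (χ j z) * y ^ (j : ℕ))
    (c : Fin m → K) (h : ∑ j, ι (c j) * y ^ (j : ℕ) = 0) : c = 0 := by
  letI : Module K R := Module.compHom R ι
  have hsmul : ∀ (x : K) (r : R), x • r = ι x * r := fun x r => rfl
  have key : ∀ z : K, ∑ j, χ j z • (ι (c j) * y ^ (j : ℕ)) = 0 := by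
    intro z
    have : ∀ j, χ j z • (ι (c j) * y ^ (j : ℕ)) = (ι (c j) * y ^ (j : ℕ)) * ι z := by
      intro j
      rw [hsmul, mul_assoc, hrel j z, ← mul_assoc, ← mul_assoc, ← map_mul, ← map_mul, mul_comm]
    simp_rw [this]
    rw [← Finset.sum_mul, h, zero_mul]
  have h0 := H6_dedekind_vec χ hχ (fun j => ι (c j) * y ^ (j : ℕ)) key
  funext j
  have h1 := h0 j
  have h2 : IsUnit (y ^ (j : ℕ)) := hy.pow _
  have h3 : ι (c j) = 0 := by
    have := congrArg (· * (h2.unit⁻¹ : Rˣ).val) h1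
    simpa [mul_assoc] using this
  exact (map_eq_zero_iff ι (RingHom.injective ι)).1 h3

section Span

variable {k : Type u} {K : Type v} {A : Type w} [Field k] [Field K] [Algebra k K] [Ring A]
  [Algebra k A] (σ : K ≃ₐ[k] K) (ι : K →ₐ[k] A) (y : A)

theorem H6_cyc_rel_symm (hrel : ∀ x, ι x * y = y * ι (σ x)) (z : K) :
    y * ι z = ι (σ⁻¹ z) * y := by
  rw [hrel]
  congr 2
  exact (σ.apply_symm_apply z).symm

theorem H6_cyc_rel_pow (hrel : ∀ x, ι x * y = y * ι (σ x)) (j : ℕ) (z : K) :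
    y ^ j * ι z = ι ((σ⁻¹ ^ j) z) * y ^ j := by
  induction j generalizing z with
  | zero => simp
  | succ j ih =>
    have h1 : (σ⁻¹ ^ (j + 1)) z = (σ⁻¹ ^ j) (σ⁻¹ z) := by
      rw [pow_succ]; rfl
    rw [h1, pow_succ, mul_assoc, H6_cyc_rel_symm σ ι y hrel, ← mul_assoc, ih, mul_assoc]

theorem H6_cyc_span (b : k) {m : ℕ} (hm : 0 < m) (hy : y ^ m = algebraMap k A b)
    (hrel : ∀ x, ι x * y = y * ι (σ x))
    (hgen : Algebra.adjoin k (Set.range ι ∪ {y}) = ⊤) (a : A) :
    ∃ c : Fin m → K, a = ∑ j : Fin m, ι (c j) * y ^ (j : ℕ) := by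
  classical
  obtain ⟨m', rfl⟩ : ∃ m', m = m' + 1 := ⟨m - 1, by omega⟩
  let S : Set A := {a | ∃ c : ℕ → K, a = ∑ j ∈ Finset.range (m' + 1), ι (c j) * y ^ j}
  have hS0 : (0 : A) ∈ S := ⟨fun _ => 0, by simp⟩
  have hSadd : ∀ a b, a ∈ S → b ∈ S → a + b ∈ S := by
    rintro a b ⟨c, rfl⟩ ⟨d, rfl⟩
    refine ⟨fun j => c j + d j, ?_⟩
    rw [← Finset.sum_add_distrib]
    refine Finset.sum_congr rfl fun j _ => ?_
    rw [map_add, add_mul]
  have hSι : ∀ (z : K) a, a ∈ S → ι z * a ∈ S := by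
    rintro z a ⟨c, rfl⟩
    refine ⟨fun j => z * c j, ?_⟩
    rw [Finset.mul_sum]
    refine Finset.sum_congr rfl fun j _ => ?_
    rw [map_mul, mul_assoc]
  have hSy : ∀ a, a ∈ S → y * a ∈ S := by
    rintro a ⟨c, rfl⟩
    refine ⟨fun j => if j = 0 then b • σ⁻¹ (c m') else σ⁻¹ (c (j - 1)), ?_⟩
    rw [Finset.mul_sum, Finset.sum_range_succ, Finset.sum_range_succ']
    congr 1
    · refine Finset.sum_congr rfl fun j _ => ?_
      rw [← mul_assoc, H6_cyc_rel_symm σ ι y hrel, mul_assoc, ← pow_succ']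
      simp
    · rw [← mul_assoc, H6_cyc_rel_symm σ ι y hrel, mul_assoc, ← pow_succ', hy]
      simp only [if_true, pow_zero, mul_one]
      rw [map_smul, Algebra.smul_def, Algebra.commutes]
  have hmain : ∀ x ∈ Algebra.adjoin k (Set.range ι ∪ {y}), ∀ s ∈ S, x * s ∈ S := by
    intro x hx
    induction hx using Algebra.adjoin_induction with
    | mem x hx =>
      rcases hx with ⟨z, rfl⟩ | hx
      · exact hSι z
      · rw [Set.mem_singleton_iff] at hx
        subst hx
        exact hSy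
    | algebraMap r =>
      intro s hs
      have := hSι (algebraMap k K r) s hs
      rwa [AlgHom.commutes] at this
    | add x x' _ _ hx hx' =>
      intro s hs
      rw [add_mul]
      exact hSadd _ _ (hx s hs) (hx' s hs)
    | mul x x' _ _ hx hx' =>
      intro s hs
      rw [mul_assoc]
      exact hx _ (hx' s hs)
  have h1 : (1 : A) ∈ S := by
    refine ⟨fun j => if j = 0 then 1 else 0, ?_⟩
    rw [Finset.sum_range_succ']
    simp
  have ha : a ∈ Algebra.adjoin k (Set.range ι ∪ {y}) := by rw [hgen]; trivial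
  obtain ⟨c, hc⟩ := hmain a ha 1 h1
  rw [mul_one] at hc
  refine ⟨fun j => c j, ?_⟩
  rw [hc, Fin.sum_univ_eq_sum_range (fun j => ι (c j) * y ^ j)]

end Span


section CSA

variable {k : Type u} {K : Type v} {A : Type w} [Field k] [Field K] [Algebra k K]
  [Ring A] [Algebra k A] (σ : K ≃ₐ[k] K)

/-- The characters `(σ⁻¹)^j`. -/
def H6_cycChar (m : ℕ) (j : Fin m) : K →* K :=
  MonoidHomClass.toMonoidHom (σ⁻¹ ^ (j : ℕ))

theorem H6_cycChar_apply (m : ℕ) (j : Fin m) (z : K) :
    H6_cycChar σ m j z = (σ⁻¹ ^ (j : ℕ)) z := rfl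

theorem H6_cycChar_injective [FiniteDimensional k K] [IsGalois k K]
    (hσ : ∀ τ : K ≃ₐ[k] K, τ ∈ Subgroup.zpowers σ) :
    Function.Injective (H6_cycChar σ (Module.finrank k K)) := by
  intro i j hij
  have h1 : σ⁻¹ ^ (i : ℕ) = σ⁻¹ ^ (j : ℕ) := by
    ext z
    exact DFunLike.congr_fun hij z
  have hord : orderOf σ⁻¹ = Module.finrank k K := by
    rw [orderOf_inv, orderOf_eq_card_of_forall_mem_zpowers hσ, IsGalois.card_aut_eq_finrank]
  have := pow_injOn_Iio_orderOf (x := σ⁻¹) (by rw [Set.mem_Iio, hord]; exact i.2)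
    (by rw [Set.mem_Iio, hord]; exact j.2) h1
  exact Fin.ext this

variable (ι : K →ₐ[k] A) (y : A)

/-- Any ring hom from a cyclic algebra to a nontrivial ring is injective. -/
theorem H6_cyc_injective [FiniteDimensional k K] [IsGalois k K]
    (hσ : ∀ τ : K ≃ₐ[k] K, τ ∈ Subgroup.zpowers σ) (b : kˣ)
    (hy : y ^ Module.finrank k K = algebraMap k A (b : k))
    (hrel : ∀ x, ι x * y = y * ι (σ x))
    (hgen : Algebra.adjoin k (Set.range ι ∪ {y}) = ⊤)
    {R : Type*} [Ring R] [Nontrivial R] (f : A →+* R) : Function.Injective f := by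
  have hm : 0 < Module.finrank k K := Module.finrank_pos
  rw [injective_iff_map_eq_zero]
  intro a ha
  obtain ⟨c, rfl⟩ := H6_cyc_span σ ι y (b : k) hm hy hrel hgen a
  have hyu : IsUnit (f y) := by
    rw [← isUnit_pow_iff hm.ne', ← map_pow, hy]
    exact (b.isUnit.map (algebraMap k A)).map f
  have hc : c = 0 := by
    refine H6_cyc_indep (f.comp ι.toRingHom) (f y) hyu (H6_cycChar σ _)
      (H6_cycChar_injective σ hσ) ?_ c ?_
    · intro j z
      rw [RingHom.comp_apply, RingHom.comp_apply, ← map_pow, ← map_mul, ← map_mul]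
      congr 1
      exact H6_cyc_rel_pow σ ι y hrel j z
    · rw [map_sum] at ha
      rw [← ha]
      refine Finset.sum_congr rfl fun j _ => ?_
      rw [map_mul, map_pow]
      rfl
  subst hc
  simp

theorem H6_cyc_isSimple [FiniteDimensional k K] [IsGalois k K] [Nontrivial A]
    (hσ : ∀ τ : K ≃ₐ[k] K, τ ∈ Subgroup.zpowers σ) (b : kˣ)
    (hy : y ^ Module.finrank k K = algebraMap k A (b : k))
    (hrel : ∀ x, ι x * y = y * ι (σ x))
    (hgen : Algebra.adjoin k (Set.range ι ∪ {y}) = ⊤) : IsSimpleRing A := by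
  refine IsSimpleRing.of_eq_bot_or_eq_top fun I => ?_
  rcases subsingleton_or_nontrivial I.ringCon.Quotient with h | h
  · right
    exact le_antisymm le_top fun x _ => I.mem_iff _ |>.2 (Quotient.eq'.1 (h.elim x 0))
  · left
    have hinj := H6_cyc_injective σ ι y hσ b hy hrel hgen I.ringCon.mk'
    exact le_antisymm
      (fun _ hx => TwoSidedIdeal.ker_eq_bot _ |>.2 hinj ▸ I.ker_ringCon_mk'.symm ▸ hx) bot_le

theorem H6_cyc_isCentral [FiniteDimensional k K] [IsGalois k K] [Nontrivial A]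
    (hσ : ∀ τ : K ≃ₐ[k] K, τ ∈ Subgroup.zpowers σ) (b : kˣ)
    (hy : y ^ Module.finrank k K = algebraMap k A (b : k))
    (hrel : ∀ x, ι x * y = y * ι (σ x))
    (hgen : Algebra.adjoin k (Set.range ι ∪ {y}) = ⊤) : Algebra.IsCentral k A := by
  classical
  have hm : 0 < Module.finrank k K := Module.finrank_pos
  have hyu : IsUnit y := by
    rw [← isUnit_pow_iff hm.ne', hy]
    exact b.isUnit.map (algebraMap k A)
  have hχ := H6_cycChar_injective σ hσ
  have hindep : ∀ c : Fin (Module.finrank k K) → K,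
      ∑ j, ι (c j) * y ^ (j : ℕ) = 0 → c = 0 := by
    intro c hc
    refine H6_cyc_indep ι.toRingHom y hyu (H6_cycChar σ _) hχ ?_ c hc
    intro j z
    exact H6_cyc_rel_pow σ ι y hrel j z
  refine ⟨fun a ha => ?_⟩
  rw [Subalgebra.mem_center_iff] at ha
  obtain ⟨c, rfl⟩ := H6_cyc_span σ ι y (b : k) hm hy hrel hgen a
  -- commuting with ι z
  have h1 : ∀ (z : K) (j : Fin (Module.finrank k K)), c j * (z - H6_cycChar σ _ j z) = 0 := by
    intro z
    have h2 := ha (ι z)
    have h3 : ∑ j : Fin (Module.finrank k K),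
        ι (c j * (z - H6_cycChar σ _ j z)) * y ^ (j : ℕ) = 0 := by
      have e1 : (∑ j : Fin (Module.finrank k K), ι (c j) * y ^ (j : ℕ)) * ι z =
          ∑ j : Fin (Module.finrank k K), ι (c j * H6_cycChar σ _ j z) * y ^ (j : ℕ) := by
        rw [Finset.sum_mul]
        refine Finset.sum_congr rfl fun j _ => ?_
        rw [mul_assoc, H6_cyc_rel_pow σ ι y hrel j z, ← mul_assoc, ← map_mul]
        rfl
      have e2 : ι z * (∑ j : Fin (Module.finrank k K), ι (c j) * y ^ (j : ℕ)) =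
          ∑ j : Fin (Module.finrank k K), ι (c j * z) * y ^ (j : ℕ) := by
        rw [Finset.mul_sum]
        refine Finset.sum_congr rfl fun j _ => ?_
        rw [← mul_assoc, ← map_mul, mul_comm]
      rw [e1, e2] at h2
      rw [← sub_eq_zero, ← Finset.sum_sub_distrib] at h2
      rw [← h2]
      refine Finset.sum_congr rfl fun j _ => ?_
      rw [← sub_mul, ← map_sub, mul_sub]
    have h4 := hindep _ h3
    intro j
    exact congrFun h4 j
  have hc0 : ∀ j : Fin (Module.finrank k K), (j : ℕ) ≠ 0 → c j = 0 := by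
    intro j hj
    have hne : H6_cycChar σ _ j ≠ H6_cycChar σ _ ⟨0, hm⟩ := by
      intro h
      exact hj (congrArg Fin.val (hχ h))
    obtain ⟨z, hz⟩ : ∃ z, H6_cycChar σ _ j z ≠ z := by
      by_contra hcon
      push_neg at hcon
      apply hne
      ext z
      rw [hcon z]
      simp [H6_cycChar_apply]
    have := h1 z j
    rcases mul_eq_zero.1 this with h | h
    · exact h
    · exact absurd (sub_eq_zero.1 h).symm hz
  have hsum : ∑ j : Fin (Module.finrank k K), ι (c j) * y ^ (j : ℕ) = ι (c ⟨0, hm⟩) := by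
    rw [Finset.sum_eq_single (⟨0, hm⟩ : Fin (Module.finrank k K))]
    · simp
    · intro j _ hj
      rw [hc0 j (fun h => hj (Fin.ext h))]
      simp
    · intro h
      exact absurd (Finset.mem_univ _) h
  rw [hsum] at ha ⊢
  -- commuting with y
  have h5 := ha y
  rw [hrel] at h5
  have h6 : ι (c ⟨0, hm⟩) = ι (σ (c ⟨0, hm⟩)) := by
    have := congrArg (fun t => (hyu.unit⁻¹ : Aˣ).val * t) h5
    simpa [← mul_assoc] using this
  have h7 : σ (c ⟨0, hm⟩) = c ⟨0, hm⟩ := (RingHom.injective ι.toRingHom h6).symm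
  have h8 : c ⟨0, hm⟩ ∈ Set.range (algebraMap k K) := by
    rw [IsGalois.mem_range_algebraMap_iff_fixed]
    intro τ
    obtain ⟨n, rfl⟩ := Subgroup.mem_zpowers_iff.1 (hσ τ)
    have : ∀ n : ℤ, (σ ^ n) (c ⟨0, hm⟩) = c ⟨0, hm⟩ := by
      intro n
      have hmem : σ ∈ MulAction.stabilizer (K ≃ₐ[k] K) (c ⟨0, hm⟩) := h7
      exact (Subgroup.zpow_mem _ hmem n)
    exact this n
  obtain ⟨r, hr⟩ := h8
  rw [← hr, AlgHom.commutes]
  exact Subalgebra.algebraMap_mem _ r

end CSA

end Groth.Agent.Lib.helper6
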