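import Mathlib
import Groth.Agent.Lib.helper6.CyclicAlg

set_option autoImplicit false
universe u v w

namespace Groth.Agent.Lib.helper6

section

variable {k : Type u} {K : Type v} {A : Type w} [Field k] [Field K] [Algebra k K]
  [Ring A] [Algebra k A] (σ : K ≃ₐ[k] K) (ι : K →ₐ[k] A) (y : A)

theorem H6_cyc_indep' [FiniteDimensional k K] [IsGalois k K] [Nontrivial A]
    (hσ : ∀ τ : K ≃ₐ[k] K, τ ∈ Subgroup.zpowers σ) (hyu : IsUnit y)
    (hrel : ∀ x, ι x * y = y * ι (σ x)) (c : Fin (Module.finrank k K) → K)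
    (hc : ∑ j, ι (c j) * y ^ (j : ℕ) = 0) : c = 0 := by
  refine H6_cyc_indep ι.toRingHom y hyu (H6_cycChar σ _) (H6_cycChar_injective σ hσ) ?_ c hc
  intro j z
  exact H6_cyc_rel_pow σ ι y hrel j z

theorem H6_cyc_comm_form [FiniteDimensional k K] [IsGalois k K] [Nontrivial A]
    (hσ : ∀ τ : K ≃ₐ[k] K, τ ∈ Subgroup.zpowers σ) (hyu : IsUnit y)
    (hrel : ∀ x, ι x * y = y * ι (σ x)) (c : Fin (Module.finrank k K) → K)
    (ha : ∀ z : K, ι z * (∑ j, ι (c j) * y ^ (j : ℕ)) = (∑ j, ι (c j) * y ^ (j : ℕ)) * ι z) :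
    ∑ j, ι (c j) * y ^ (j : ℕ) = ι (c ⟨0, Module.finrank_pos⟩) := by
  classical
  have hm : 0 < Module.finrank k K := Module.finrank_pos
  have hχ := H6_cycChar_injective σ hσ
  have hindep := H6_cyc_indep' σ ι y hσ hyu hrel
  have h1 : ∀ (z : K) (j : Fin (Module.finrank k K)), c j * (z - H6_cycChar σ _ j z) = 0 := by
    intro z
    have h2 := ha z
    have h3 : ∑ j : Fin (Module.finrank k K),
        ι (c j * (z - H6_cycChar σ _ j z)) * y ^ (j : ℕ) = 0 := by
      have e1 : (∑ j : Fin (Module.finrank k K), ι (c j) * y ^ (j : ℕ)) * ι z =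
          ∑ j : Fin (Module.finrank k K), ι (c j * H6_cycChar σ _ j z) * y ^ (j : ℕ) := by
        rw [Finset.sum_mul]
        refine Finset.sum_congr rfl fun j _ => ?_
        rw [mul_assoc, H6_cyc_rel_pow σ ι y hrel j z, ← mul_assoc, ← map_mul]
        rfl
      have e2 : ι z * (∑ j : Fin (Module.finrank k K), ι (c j) * y ^ (j : ℕ)) =
          ∑ j : Fin (Module.finrank k K), ι (c j * z) * y ^ (j : ℕ) := by
        rw [Finset.mul_sum]
        refine Finset.sum_congr rfl fun j _ => ?_
        rw [← mul_assoc, ← map_mul, mul_comm]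
      rw [e1, e2] at h2
      rw [← sub_eq_zero, ← Finset.sum_sub_distrib] at h2
      rw [← h2]
      refine Finset.sum_congr rfl fun j _ => ?_
      rw [← sub_mul, ← map_sub, mul_sub]
    have h4 := hindep _ h3
    intro j
    exact congrFun h4 j
  have hc0 : ∀ j : Fin (Module.finrank k K), (j : ℕ) ≠ 0 → c j = 0 := by
    intro j hj
    have hne : H6_cycChar σ _ j ≠ H6_cycChar σ _ ⟨0, hm⟩ := by
      intro h
      exact hj (congrArg Fin.val (hχ h))
    obtain ⟨z, hz⟩ : ∃ z, H6_cycChar σ _ j z ≠ z := by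
      by_contra hcon
      push_neg at hcon
      apply hne
      ext z
      rw [hcon z]
      simp [H6_cycChar_apply]
    have := h1 z j
    rcases mul_eq_zero.1 this with h | h
    · exact h
    · exact absurd (sub_eq_zero.1 h).symm hz
  rw [Finset.sum_eq_single (⟨0, hm⟩ : Fin (Module.finrank k K))]
  · simp
  · intro j _ hj
    rw [hc0 j (fun h => hj (Fin.ext h))]
    simp
  · intro h
    exact absurd (Finset.mem_univ _) h

theorem H6_cyc_fixed [FiniteDimensional k K] [IsGalois k K] [Nontrivial A]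
    (hσ : ∀ τ : K ≃ₐ[k] K, τ ∈ Subgroup.zpowers σ) (hyu : IsUnit y)
    (hrel : ∀ x, ι x * y = y * ι (σ x)) (x : K) (h : ι x * y = y * ι x) :
    x ∈ Set.range (algebraMap k K) := by
  rw [hrel] at h
  have h6 : ι (σ x) = ι x := by
    have := congrArg (fun t => (hyu.unit⁻¹ : Aˣ).val * t) h
    simpa [← mul_assoc] using this
  have h7 : σ x = x := RingHom.injective ι.toRingHom h6
  rw [IsGalois.mem_range_algebraMap_iff_fixed]
  intro τ
  obtain ⟨n, rfl⟩ := Subgroup.mem_zpowers_iff.1 (hσ τ)
  have hmem : σ ∈ MulAction.stabilizer (K ≃ₐ[k] K) x := h7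
  exact (Subgroup.zpow_mem _ hmem n)

/-- With the dimension hypothesis, every element has the standard form. -/
theorem H6_cyc_surj [FiniteDimensional k K] [IsGalois k K] [FiniteDimensional k A]
    (hσ : ∀ τ : K ≃ₐ[k] K, τ ∈ Subgroup.zpowers σ) (hyu : IsUnit y)
    (hrel : ∀ x, ι x * y = y * ι (σ x))
    (hdim : Module.finrank k A = Module.finrank k K ^ 2) (a : A) :
    ∃ c : Fin (Module.finrank k K) → K, a = ∑ j, ι (c j) * y ^ (j : ℕ) := by
  have hm : 0 < Module.finrank k K := Module.finrank_pos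
  haveI : Nontrivial A := Module.nontrivial_of_finrank_pos (R := k) (by rw [hdim]; positivity)
  let Φ : (Fin (Module.finrank k K) → K) →ₗ[k] A :=
    { toFun := fun c => ∑ j, ι (c j) * y ^ (j : ℕ)
      map_add' := by
        intro c d
        rw [← Finset.sum_add_distrib]
        refine Finset.sum_congr rfl fun j _ => ?_
        rw [Pi.add_apply, map_add, add_mul]
      map_smul' := by
        intro r c
        rw [RingHom.id_apply, Finset.smul_sum]
        refine Finset.sum_congr rfl fun j _ => ?_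
        rw [Pi.smul_apply, map_smul, smul_mul_assoc] }
  have hinj : Function.Injective Φ := by
    rw [← LinearMap.ker_eq_bot, LinearMap.ker_eq_bot']
    intro c hc
    exact H6_cyc_indep' σ ι y hσ hyu hrel c hc
  have hd : Module.finrank k (Fin (Module.finrank k K) → K) = Module.finrank k A := by
    rw [Module.finrank_pi_fintype, hdim]
    simp only [Finset.sum_const, Finset.card_univ, Fintype.card_fin, smul_eq_mul]
    ring
  have hsurj := (LinearMap.injective_iff_surjective_of_finrank_eq_finrank hd).1 hinj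
  obtain ⟨c, hc⟩ := hsurj a
  exact ⟨c, hc.symm⟩

end

end Groth.Agent.Lib.helper6
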