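import Mathlib
import Groth.Prelude.Def_GSzCSA
import Groth.Agent.Lib.helper6.CyclicAlg2

set_option autoImplicit false
universe u v w

namespace Groth.Agent.Lib.helper6

section

variable {k : Type u} {K : Type v} {A : Type w} [Field k] [Field K] [Algebra k K]
  [Ring A] [Algebra k A] (σ : K ≃ₐ[k] K) (ι : K →ₐ[k] A) (y : A)

/-- The dimension of an algebra generated by cyclic data. -/
theorem H6_cyc_finrank_of_gen [FiniteDimensional k K] [IsGalois k K] [Nontrivial A]
    (hσ : ∀ τ : K ≃ₐ[k] K, τ ∈ Subgroup.zpowers σ) (b : kˣ)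
    (hy : y ^ Module.finrank k K = algebraMap k A (b : k))
    (hrel : ∀ x, ι x * y = y * ι (σ x))
    (hgen : Algebra.adjoin k (Set.range ι ∪ {y}) = ⊤) :
    Module.finrank k A = Module.finrank k K ^ 2 := by
  have hm : 0 < Module.finrank k K := Module.finrank_pos
  have hyu : IsUnit y := by
    rw [← isUnit_pow_iff hm.ne', hy]
    exact b.isUnit.map (algebraMap k A)
  let Φ : (Fin (Module.finrank k K) → K) →ₗ[k] A :=
    { toFun := fun c => ∑ j, ι (c j) * y ^ (j : ℕ)
      map_add' := by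
        intro c d
        rw [← Finset.sum_add_distrib]
        refine Finset.sum_congr rfl fun j _ => ?_
        rw [Pi.add_apply, map_add, add_mul]
      map_smul' := by
        intro r c
        rw [RingHom.id_apply, Finset.smul_sum]
        refine Finset.sum_congr rfl fun j _ => ?_
        rw [Pi.smul_apply, map_smul, smul_mul_assoc] }
  have hinj : Function.Injective Φ := by
    rw [← LinearMap.ker_eq_bot, LinearMap.ker_eq_bot']
    intro c hc
    exact H6_cyc_indep' σ ι y hσ hyu hrel c hc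
  have hsurj : Function.Surjective Φ := by
    intro a
    obtain ⟨c, hc⟩ := H6_cyc_span σ ι y (b : k) hm hy hrel hgen a
    exact ⟨c, hc.symm⟩
  rw [← (LinearEquiv.ofBijective Φ ⟨hinj, hsurj⟩).finrank_eq, Module.finrank_pi_fintype]
  simp only [Finset.sum_const, Finset.card_univ, Fintype.card_fin, smul_eq_mul]
  ring

/-- The opposite of a cyclic algebra is the cyclic algebra for the inverse generator. -/
theorem H6_isCyclicAlg_op (b : kˣ) (h : CSAGal.IsCyclicAlg k K σ b A) :
    CSAGal.IsCyclicAlg k K σ⁻¹ b Aᵐᵒᵖ := by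
  obtain ⟨ι, y, hy, hrel, hgen, hm, hdim⟩ := h
  refine ⟨ι.toOpposite (fun x x' => by
      show ι x * ι x' = ι x' * ι x
      rw [← map_mul, ← map_mul, mul_comm]), MulOpposite.op y, ?_, ?_, ?_, hm, ?_⟩
  · rw [← MulOpposite.op_pow, hy]
    rfl
  · intro x
    show MulOpposite.op (ι x) * MulOpposite.op y = MulOpposite.op y * MulOpposite.op (ι (σ⁻¹ x))
    rw [← MulOpposite.op_mul, ← MulOpposite.op_mul, hrel (σ⁻¹ x)]
    congr 3
    exact (σ.apply_symm_apply x).symm
  · have h1 := Subalgebra.op_adjoin (R := k) (Set.range ι ∪ {y})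
    rw [hgen] at h1
    have h2 : (⊤ : Subalgebra k A).op = ⊤ := by
      ext x
      simp [Subalgebra.mem_op]
    rw [h2] at h1
    rw [h1]
    congr 1
    ext t
    simp only [Set.mem_union, Set.mem_range, Set.mem_singleton_iff, Set.mem_preimage]
    constructor
    · rintro (⟨x, rfl⟩ | rfl)
      · exact Or.inl ⟨x, rfl⟩
      · exact Or.inr rfl
    · rintro (⟨x, hx⟩ | hx)
      · exact Or.inl ⟨x, MulOpposite.unop_injective hx⟩
      · exact Or.inr (MulOpposite.unop_injective hx)
  · rw [← hdim]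
    exact (MulOpposite.opLinearEquiv k (M := A)).symm.finrank_eq

end


section Adjoin

variable {k : Type u} {K : Type v} [Field k] [Field K] [Algebra k K]
  [FiniteDimensional k K] [IsGalois k K]

/-- Central simplicity from a cyclic presentation. -/
theorem H6_csa_of_isCyclicAlg {A : Type w} [Ring A] [Algebra k A] (σ : K ≃ₐ[k] K)
    (hσ : ∀ τ : K ≃ₐ[k] K, τ ∈ Subgroup.zpowers σ) (b : kˣ)
    (h : CSAGal.IsCyclicAlg k K σ b A) :
    Algebra.IsCentral k A ∧ IsSimpleRing A ∧ FiniteDimensional k A := by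
  obtain ⟨ι, y, hy, hrel, hgen, hm, hdim⟩ := h
  have hpos : 0 < Module.finrank k A := by rw [hdim]; positivity
  haveI : Nontrivial A := Module.nontrivial_of_finrank_pos (R := k) hpos
  exact ⟨H6_cyc_isCentral σ ι y hσ b hy hrel hgen, H6_cyc_isSimple σ ι y hσ b hy hrel hgen,
    Module.finite_of_finrank_pos hpos⟩

/-- The subalgebra generated by cyclic data is a cyclic algebra. -/
theorem H6_isCyclicAlg_adjoin {E : Type w} [Ring E] [Algebra k E] [Nontrivial E]
    (σ : K ≃ₐ[k] K) (hσ : ∀ τ : K ≃ₐ[k] K, τ ∈ Subgroup.zpowers σ)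
    (κ : K →ₐ[k] E) (S : E) (b : kˣ)
    (hy : S ^ Module.finrank k K = algebraMap k E (b : k))
    (hrel : ∀ x, κ x * S = S * κ (σ x)) :
    CSAGal.IsCyclicAlg k K σ b (Algebra.adjoin k (Set.range κ ∪ {S})) := by
  have hm : 0 < Module.finrank k K := Module.finrank_pos
  have hmem1 : ∀ x, κ x ∈ Algebra.adjoin k (Set.range κ ∪ {S}) :=
    fun x => Algebra.subset_adjoin (Set.mem_union_left _ ⟨x, rfl⟩)
  have hmem2 : S ∈ Algebra.adjoin k (Set.range κ ∪ {S}) :=
    Algebra.subset_adjoin (Set.mem_union_right _ rfl)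
  obtain ⟨ι', hι'⟩ : ∃ ι' : K →ₐ[k] (Algebra.adjoin k (Set.range κ ∪ {S})),
      ∀ x, ((ι' x : Algebra.adjoin k (Set.range κ ∪ {S})) : E) = κ x :=
    ⟨κ.codRestrict _ hmem1, fun x => rfl⟩
  obtain ⟨y', hy'⟩ : ∃ y' : Algebra.adjoin k (Set.range κ ∪ {S}), (y' : E) = S := ⟨⟨S, hmem2⟩, rfl⟩
  have h1 : y' ^ Module.finrank k K = algebraMap k _ (b : k) := by
    apply Subtype.ext
    rw [SubmonoidClass.coe_pow, hy', hy]
    rfl
  have h2 : ∀ x : K, ι' x * y' = y' * ι' (σ x) := by
    intro x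
    apply Subtype.ext
    rw [MulMemClass.coe_mul, MulMemClass.coe_mul, hι', hι', hy']
    exact hrel x
  have h3 : Algebra.adjoin k (Set.range ι' ∪ {y'}) = ⊤ := by
    have e1 := Algebra.adjoin_adjoin_coe_preimage (R := k) (s := Set.range κ ∪ {S})
    rw [← e1]
    congr 1
    ext t
    simp only [Set.mem_union, Set.mem_range, Set.mem_singleton_iff, Set.mem_preimage]
    constructor
    · rintro (⟨x, rfl⟩ | rfl)
      · exact Or.inl ⟨x, (hι' x).symm⟩
      · exact Or.inr hy'
    · rintro (⟨x, hx⟩ | hx)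
      · exact Or.inl ⟨x, Subtype.ext ((hι' x).trans hx)⟩
      · exact Or.inr (Subtype.ext (hx.trans hy'.symm))
  have h4 := H6_cyc_finrank_of_gen σ ι' y' hσ b h1 h2 h3
  exact ⟨ι', y', h1, h2, h3, hm, h4⟩

end Adjoin

end Groth.Agent.Lib.helper6
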