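import Mathlib
import Groth.Prelude.Def_GSzCSA
import Groth.Agent.Lib.helper6.CyclicAlg3

set_option autoImplicit false
set_option linter.style.haveILetI false
universe u v w w'

namespace Groth.Agent.Lib.helper6

section

variable {k : Type u} {K : Type v} [Field k] [Field K] [Algebra k K]
  [FiniteDimensional k K] [IsGalois k K]

/-- The universal property of a cyclic algebra. -/
theorem H6_cyc_lift {A : Type w} [Ring A] [Algebra k A] {E : Type w'} [Ring E] [Algebra k E]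
    (σ : K ≃ₐ[k] K) (hσ : ∀ τ : K ≃ₐ[k] K, τ ∈ Subgroup.zpowers σ) (b : kˣ)
    (ι : K →ₐ[k] A) (y : A)
    (hy : y ^ Module.finrank k K = algebraMap k A (b : k))
    (hrel : ∀ x, ι x * y = y * ι (σ x))
    (hgen : Algebra.adjoin k (Set.range ι ∪ {y}) = ⊤)
    (hdim : Module.finrank k A = Module.finrank k K ^ 2)
    (κ : K →ₐ[k] E) (S : E)
    (hS : S ^ Module.finrank k K = algebraMap k E (b : k))
    (hrelE : ∀ x, κ x * S = S * κ (σ x)) :
    ∃ f : A →ₐ[k] E, (∀ x, f (ι x) = κ x) ∧ f y = S := by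
  classical
  have hm : 0 < Module.finrank k K := Module.finrank_pos
  have hposA : 0 < Module.finrank k A := by rw [hdim]; positivity
  haveI : Nontrivial A := Module.nontrivial_of_finrank_pos (R := k) hposA
  haveI : FiniteDimensional k A := Module.finite_of_finrank_pos hposA
  haveI : Nontrivial (A × E) := inferInstance
  -- the graph subalgebra
  obtain ⟨Γ, hΓ⟩ : ∃ Γ : Subalgebra k (A × E),
      Γ = Algebra.adjoin k (Set.range (ι.prod κ) ∪ {((y, S) : A × E)}) := ⟨_, rfl⟩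
  have cycΓ : CSAGal.IsCyclicAlg k K σ b Γ := by
    rw [hΓ]
    refine H6_isCyclicAlg_adjoin σ hσ (ι.prod κ) (y, S) b ?_ ?_
    · rw [Prod.pow_mk, hy, hS]
      rfl
    · intro x
      show (ι x, κ x) * (y, S) = (y, S) * (ι (σ x), κ (σ x))
      rw [Prod.mk_mul_mk, Prod.mk_mul_mk, hrel, hrelE]
  obtain ⟨hcen, hsim, hfd⟩ := H6_csa_of_isCyclicAlg σ hσ b cycΓ
  have hdimΓ : Module.finrank k Γ = Module.finrank k K ^ 2 := by
    obtain ⟨_, _, _, _, _, _, h⟩ := cycΓ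
    exact h
  obtain ⟨π₁, hπ₁⟩ : ∃ π₁ : Γ →ₐ[k] A, ∀ t : Γ, π₁ t = (t : A × E).1 :=
    ⟨(AlgHom.fst k A E).comp Γ.val, fun t => rfl⟩
  obtain ⟨π₂, hπ₂⟩ : ∃ π₂ : Γ →ₐ[k] E, ∀ t : Γ, π₂ t = (t : A × E).2 :=
    ⟨(AlgHom.snd k A E).comp Γ.val, fun t => rfl⟩
  have hinj : Function.Injective π₁ := RingHom.injective π₁.toRingHom
  have hbij : Function.Bijective π₁ :=
    ⟨hinj, (LinearMap.injective_iff_surjective_of_finrank_eq_finrank (f := π₁.toLinearMap)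
      (hdimΓ.trans hdim.symm)).1 hinj⟩
  obtain ⟨θ, hθ⟩ : ∃ θ : Γ ≃ₐ[k] A, ∀ t, θ t = π₁ t := ⟨AlgEquiv.ofBijective π₁ hbij, fun t => rfl⟩
  have hmem1 : ∀ x, ((ι x, κ x) : A × E) ∈ Γ := by
    intro x
    rw [hΓ]
    exact Algebra.subset_adjoin (Set.mem_union_left _ ⟨x, rfl⟩)
  have hmem2 : ((y, S) : A × E) ∈ Γ := by
    rw [hΓ]
    exact Algebra.subset_adjoin (Set.mem_union_right _ rfl)
  refine ⟨π₂.comp θ.symm.toAlgHom, ?_, ?_⟩
  · intro x
    have h1 : θ ⟨(ι x, κ x), hmem1 x⟩ = ι x := by rw [hθ, hπ₁]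
    have h2 : θ.symm (ι x) = ⟨(ι x, κ x), hmem1 x⟩ := by
      rw [AlgEquiv.symm_apply_eq]; exact h1.symm
    show π₂ (θ.symm (ι x)) = κ x
    rw [h2, hπ₂]
  · have h1 : θ ⟨(y, S), hmem2⟩ = y := by rw [hθ, hπ₁]
    have h2 : θ.symm y = ⟨(y, S), hmem2⟩ := by
      rw [AlgEquiv.symm_apply_eq]; exact h1.symm
    show π₂ (θ.symm y) = S
    rw [h2, hπ₂]

/-- Two cyclic algebras with the same data are isomorphic. -/
theorem H6_cyc_equiv {A : Type w} [Ring A] [Algebra k A] {A' : Type w'} [Ring A'] [Algebra k A']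
    (σ : K ≃ₐ[k] K) (hσ : ∀ τ : K ≃ₐ[k] K, τ ∈ Subgroup.zpowers σ) (b : kˣ)
    (h : CSAGal.IsCyclicAlg k K σ b A) (h' : CSAGal.IsCyclicAlg k K σ b A') :
    Nonempty (A ≃ₐ[k] A') := by
  obtain ⟨hcen, hsim, hfd⟩ := H6_csa_of_isCyclicAlg σ hσ b h
  obtain ⟨hcen', hsim', hfd'⟩ := H6_csa_of_isCyclicAlg σ hσ b h'
  obtain ⟨ι, y, hy, hrel, hgen, hm, hdim⟩ := h
  obtain ⟨ι', y', hy', hrel', hgen', hm', hdim'⟩ := h'
  obtain ⟨f, -, -⟩ := H6_cyc_lift σ hσ b ι y hy hrel hgen hdim ι' y' hy' hrel'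
  have hinj : Function.Injective f := RingHom.injective f.toRingHom
  have hbij : Function.Bijective f :=
    ⟨hinj, (LinearMap.injective_iff_surjective_of_finrank_eq_finrank (f := f.toLinearMap)
      (hdim.trans hdim'.symm)).1 hinj⟩
  exact ⟨AlgEquiv.ofBijective f hbij⟩

end

end Groth.Agent.Lib.helper6
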