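import Mathlib
import Groth.Prelude.Def_GSzCSA
import Groth.Agent.Lib.helper6.SkolemNoether

set_option autoImplicit false
universe u v w

open scoped TensorProduct

namespace Groth.Agent.Lib.helper6

section

variable {k : Type u} [Field k]

/-- If `A ⊗ B` is a matrix algebra over `k`, then `A` is Brauer equivalent to `Bᵐᵒᵖ`. -/
theorem H6_brauer_of_tensor_split {A : Type v} [Ring A] [Algebra k A]
    {B : Type w} [Ring B] [Algebra k B] [Algebra.IsCentral k B] [IsSimpleRing B]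
    [FiniteDimensional k B] (N : ℕ)
    (Ψ : A ⊗[k] B ≃ₐ[k] Matrix (Fin N) (Fin N) k) :
    Nonempty (Matrix (Fin (Module.finrank k B)) (Fin (Module.finrank k B)) A ≃ₐ[k]
      Matrix (Fin N) (Fin N) Bᵐᵒᵖ) := by
  classical
  -- M_r(A) ≃ A ⊗ M_r(k)
  let e1 : Matrix (Fin (Module.finrank k B)) (Fin (Module.finrank k B)) A ≃ₐ[k]
      A ⊗[k] Matrix (Fin (Module.finrank k B)) (Fin (Module.finrank k B)) k :=
    matrixEquivTensor (Fin (Module.finrank k B)) k A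
  -- M_r(k) ≃ End_k(B) ≃ B ⊗ Bᵐᵒᵖ
  let e2 : Module.End k B ≃ₐ[k] Matrix (Fin (Module.finrank k B)) (Fin (Module.finrank k B)) k :=
    algEquivMatrix (Module.finBasis k B)
  let e3 : B ⊗[k] Bᵐᵒᵖ ≃ₐ[k] Module.End k B :=
    AlgEquiv.ofBijective (AlgHom.mulLeftRight k B) (H6_mulLeftRight_bijective k B)
  let e4 : A ⊗[k] Matrix (Fin (Module.finrank k B)) (Fin (Module.finrank k B)) k ≃ₐ[k]
      A ⊗[k] (B ⊗[k] Bᵐᵒᵖ) :=
    Algebra.TensorProduct.congr AlgEquiv.refl (e3.trans e2).symm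
  let e5 : A ⊗[k] (B ⊗[k] Bᵐᵒᵖ) ≃ₐ[k] (A ⊗[k] B) ⊗[k] Bᵐᵒᵖ :=
    (Algebra.TensorProduct.assoc k k k A B Bᵐᵒᵖ).symm
  let e6 : (A ⊗[k] B) ⊗[k] Bᵐᵒᵖ ≃ₐ[k] Matrix (Fin N) (Fin N) k ⊗[k] Bᵐᵒᵖ :=
    Algebra.TensorProduct.congr Ψ AlgEquiv.refl
  let e7 : Matrix (Fin N) (Fin N) k ⊗[k] Bᵐᵒᵖ ≃ₐ[k] Bᵐᵒᵖ ⊗[k] Matrix (Fin N) (Fin N) k :=
    Algebra.TensorProduct.comm k _ _
  let e8 : Bᵐᵒᵖ ⊗[k] Matrix (Fin N) (Fin N) k ≃ₐ[k] Matrix (Fin N) (Fin N) Bᵐᵒᵖ :=
    (matrixEquivTensor (Fin N) k Bᵐᵒᵖ).symm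
  exact ⟨((((e1.trans e4).trans e5).trans e6).trans e7).trans e8⟩

/-- Shrinking a finite-dimensional algebra into the universe of a nontrivial algebra. -/
theorem H6_exists_shrink_algebra (A : Type w) [Ring A] [Algebra k A] [Nontrivial A]
    (B : Type v) [Ring B] [Algebra k B] [FiniteDimensional k B] :
    ∃ (B' : Type w) (_ : Ring B') (_ : Algebra k B'), Nonempty (B' ≃ₐ[k] B) := by
  haveI : Small.{w} B := by
    let b := Module.finBasis k B
    let f : B → (Fin (Module.finrank k B) → A) := fun x i => algebraMap k A (b.repr x i)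
    have hf : Function.Injective f := by
      intro x y hxy
      apply b.repr.injective
      ext i
      exact (algebraMap k A).injective (congrFun hxy i)
    exact small_of_injective hf
  exact ⟨Shrink.{w} B, inferInstance, inferInstance, ⟨Shrink.algEquiv k B⟩⟩

/-- Transport a cyclic presentation along an algebra isomorphism. -/
theorem H6_isCyclicAlg_of_algEquiv {K : Type v} [Field K] [Algebra k K] (σ : K ≃ₐ[k] K) (b : kˣ)
    {B : Type w} [Ring B] [Algebra k B] {B' : Type*} [Ring B'] [Algebra k B'] (e : B ≃ₐ[k] B')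
    (h : CSAGal.IsCyclicAlg k K σ b B) : CSAGal.IsCyclicAlg k K σ b B' := by
  obtain ⟨ι, y, hy, hrel, hgen, hm, hdim⟩ := h
  refine ⟨e.toAlgHom.comp ι, e y, ?_, ?_, ?_, hm, ?_⟩
  · rw [← map_pow, hy, AlgEquiv.commutes]
  · intro x
    show e (ι x) * e y = e y * e (ι (σ x))
    rw [← map_mul, ← map_mul, hrel]
  · have h1 : (Algebra.adjoin k (Set.range ι ∪ {y})).map e.toAlgHom = ⊤ := by
      rw [hgen, Algebra.map_top]
      exact (AlgHom.range_eq_top _).2 e.surjective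
    rw [AlgHom.map_adjoin] at h1
    rw [← h1]
    congr 1
    ext t
    simp only [Set.mem_union, Set.mem_range, Set.mem_singleton_iff, Set.mem_image,
      AlgHom.coe_comp, Function.comp_apply, AlgEquiv.toAlgHom_eq_coe, AlgHom.coe_coe]
    constructor
    · rintro (⟨x, rfl⟩ | rfl)
      · exact ⟨ι x, Or.inl ⟨x, rfl⟩, rfl⟩
      · exact ⟨y, Or.inr rfl, rfl⟩
    · rintro ⟨s, (⟨x, rfl⟩ | rfl), rfl⟩
      · exact Or.inl ⟨x, rfl⟩
      · exact Or.inr rfl
  · rw [← hdim]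
    exact e.toLinearEquiv.finrank_eq.symm

end

end Groth.Agent.Lib.helper6
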