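import Mathlib
import Groth.Prelude.Def_GSzCSA
import Groth.Agent.Lib.helper6.CyclicAlg3
import Groth.Agent.Lib.helper6.BrauerInv

set_option autoImplicit false
set_option linter.style.haveILetI false
universe u v w w' w''

open scoped TensorProduct

namespace Groth.Agent.Lib.helper6

section

variable {k : Type u} {K : Type v} [Field k] [Field K] [Algebra k K]
  [FiniteDimensional k K] [IsGalois k K]

/-- If a simple algebra `A₀` and a cyclic algebra `B'` act on `V` with commuting actions and the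
dimensions match, then `A₀` is Brauer equivalent to `B'ᵐᵒᵖ`. -/
theorem H6_core_general {A₀ : Type w} [Ring A₀] [Algebra k A₀] [IsSimpleRing A₀]
    [FiniteDimensional k A₀]
    {V : Type w'} [AddCommGroup V] [Module k V] [FiniteDimensional k V] [Nontrivial V]
    (σ : K ≃ₐ[k] K) (hσ : ∀ τ : K ≃ₐ[k] K, τ ∈ Subgroup.zpowers σ) (b : kˣ)
    {B' : Type w''} [Ring B'] [Algebra k B']
    (ρ : A₀ →ₐ[k] Module.End k V) (j : B' →ₐ[k] Module.End k V)
    (cyc' : CSAGal.IsCyclicAlg k K σ⁻¹ b B')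
    (hcomm : ∀ (a : A₀) (b' : B'), Commute (ρ a) (j b'))
    (hdim : Module.finrank k A₀ * Module.finrank k K ^ 2 =
      Module.finrank k V * Module.finrank k V) :
    CSAGal.IsCyclicAlg k K σ b B'ᵐᵒᵖ ∧
      Nonempty (Matrix (Fin (Module.finrank k K ^ 2)) (Fin (Module.finrank k K ^ 2)) A₀ ≃ₐ[k]
        Matrix (Fin (Module.finrank k V)) (Fin (Module.finrank k V)) B'ᵐᵒᵖ) := by
  classical
  have hm : 0 < Module.finrank k K := Module.finrank_pos
  haveI : Nontrivial (Module.End k V) := inferInstance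
  have hσ' : ∀ τ : K ≃ₐ[k] K, τ ∈ Subgroup.zpowers σ⁻¹ := by
    intro τ
    rw [Subgroup.zpowers_inv]
    exact hσ τ
  obtain ⟨hcen, hsim, hfd⟩ := H6_csa_of_isCyclicAlg σ⁻¹ hσ' b cyc'
  have hdimB' : Module.finrank k B' = Module.finrank k K ^ 2 := by
    obtain ⟨_, _, _, _, _, _, h⟩ := cyc'
    exact h
  obtain ⟨Ψ₀, hΨ₀⟩ : ∃ Ψ₀ : A₀ ⊗[k] B' →ₐ[k] Module.End k V, True :=
    ⟨Algebra.TensorProduct.lift ρ j hcomm, trivial⟩
  haveI h1 : IsSimpleRing (B' ⊗[k] A₀) := H6_isSimpleRing_tensor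
  haveI : IsSimpleRing (A₀ ⊗[k] B') :=
    IsSimpleRing.of_ringEquiv (Algebra.TensorProduct.comm k B' A₀).toRingEquiv h1
  have hinj : Function.Injective Ψ₀ := RingHom.injective Ψ₀.toRingHom
  have hdE : Module.finrank k (Module.End k V) = Module.finrank k V * Module.finrank k V :=
    Module.finrank_linearMap k k V V
  have hdT : Module.finrank k (A₀ ⊗[k] B') = Module.finrank k V * Module.finrank k V := by
    rw [Module.finrank_tensorProduct, hdimB', hdim]
  have hbij : Function.Bijective Ψ₀ :=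
    ⟨hinj, (LinearMap.injective_iff_surjective_of_finrank_eq_finrank (f := Ψ₀.toLinearMap)
      (hdT.trans hdE.symm)).1 hinj⟩
  obtain ⟨e⟩ := H6_brauer_of_tensor_split (Module.finrank k V)
    ((AlgEquiv.ofBijective Ψ₀ hbij).trans (algEquivMatrix (Module.finBasis k V)))
  have cyc : CSAGal.IsCyclicAlg k K σ b B'ᵐᵒᵖ := by
    have := H6_isCyclicAlg_op σ⁻¹ b cyc'
    rwa [inv_inv] at this
  refine ⟨cyc, ?_⟩
  rw [← hdimB']
  exact ⟨e⟩

end

end Groth.Agent.Lib.helper6
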