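import Mathlib

set_option autoImplicit false
universe u v

namespace Groth.Agent.Lib.helper6

section

variable {k : Type u} {K : Type v} [Field k] [Field K] [Algebra k K] (σ : K ≃ₐ[k] K) (b : k) (n : ℕ)

/-- The nonzero entries of the cyclic shift matrix. -/
def H6_cycC (j : Fin (n + 1)) : K := if j = Fin.last n then algebraMap k K b else 1

/-- The cyclic shift matrix. -/
def H6_cycF : Matrix (Fin (n + 1)) (Fin (n + 1)) K :=
  Matrix.of fun i j => if i = j + 1 then H6_cycC (K := K) b n j else 0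

theorem H6_cycF_eq :
    (Matrix.of (fun i j : Fin (n + 1) =>
      if j.val + 1 = i.val then (1 : K)
      else if i.val = 0 ∧ j.val + 1 = n + 1 then algebraMap k K b else 0)) = H6_cycF (K := K) b n := by
  ext i j
  simp only [H6_cycF, H6_cycC, Matrix.of_apply]
  by_cases hj : j = Fin.last n
  · subst hj
    have h1 : ¬ ((Fin.last n).val + 1 = i.val) := by
      have := i.2
      simp only [Fin.val_last]
      omega
    rw [if_neg h1, Fin.last_add_one]
    simp only [Fin.val_last, and_true, if_true]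
    by_cases hi : i = 0
    · subst hi; simp
    · have : ¬ (i.val = 0) := fun h => hi (Fin.ext h)
      rw [if_neg this, if_neg hi]
  · have hlt : j < Fin.last n := lt_of_le_of_ne (Fin.le_last j) hj
    have hv : (j + 1).val = j.val + 1 := Fin.val_add_one_of_lt hlt
    have h2 : ¬ (j.val + 1 = n + 1) := by
      have : j.val < n := hlt
      omega
    by_cases hi : i = j + 1
    · subst hi
      rw [if_pos hv.symm, if_pos rfl, if_neg hj]
    · have : ¬ (j.val + 1 = i.val) := fun h => hi (Fin.ext (by rw [hv, h]))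
      rw [if_neg this, if_neg hi, if_neg (fun h => h2 h.2)]

theorem H6_cycF_mul (N : Matrix (Fin (n + 1)) (Fin (n + 1)) K) (i j : Fin (n + 1)) :
    (H6_cycF (K := K) b n * N) (i + 1) j = H6_cycC (K := K) b n i * N i j := by
  rw [Matrix.mul_apply, Finset.sum_eq_single i]
  · simp [H6_cycF]
  · intro l _ hl
    have : ¬ (i + 1 = l + 1) := fun h => hl (add_right_cancel h).symm
    simp [H6_cycF, this]
  · intro h; exact absurd (Finset.mem_univ _) h

theorem H6_mul_cycF (N : Matrix (Fin (n + 1)) (Fin (n + 1)) K) (i j : Fin (n + 1)) :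
    (N * H6_cycF (K := K) b n) i j = N i (j + 1) * H6_cycC (K := K) b n j := by
  rw [Matrix.mul_apply, Finset.sum_eq_single (j + 1)]
  · simp [H6_cycF]
  · intro l _ hl
    simp [H6_cycF, hl]
  · intro h; exact absurd (Finset.mem_univ _) h

theorem H6_cycC_ne_zero (hb : b ≠ 0) (j : Fin (n + 1)) : H6_cycC (K := K) b n j ≠ 0 := by
  unfold H6_cycC
  split_ifs
  · exact (map_ne_zero_iff _ (algebraMap k K).injective).2 hb
  · exact one_ne_zero

theorem H6_cycC_map (j : Fin (n + 1)) : σ (H6_cycC (K := K) b n j) = H6_cycC (K := K) b n j := by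
  unfold H6_cycC
  split_ifs
  · exact σ.commutes b
  · exact map_one σ

theorem H6_cycF_map : (H6_cycF (K := K) b n).map σ = H6_cycF (K := K) b n := by
  ext i j
  simp only [Matrix.map_apply, H6_cycF, Matrix.of_apply]
  split_ifs
  · exact H6_cycC_map σ b n j
  · exact map_zero σ

/-- The fixed subalgebra. -/
def H6_cycB : Subalgebra k (Matrix (Fin (n + 1)) (Fin (n + 1)) K) where
  carrier := {M | H6_cycF (K := K) b n * M.map σ = M * H6_cycF (K := K) b n}
  mul_mem' := by
    intro M N hM hN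
    simp only [Set.mem_setOf_eq] at hM hN ⊢
    rw [Matrix.map_mul, ← mul_assoc, hM, mul_assoc, hN, mul_assoc]
  add_mem' := by
    intro M N hM hN
    simp only [Set.mem_setOf_eq] at hM hN ⊢
    rw [Matrix.map_add _ (map_add σ), mul_add, add_mul, hM, hN]
  algebraMap_mem' := by
    intro r
    simp only [Set.mem_setOf_eq]
    have : (algebraMap k (Matrix (Fin (n + 1)) (Fin (n + 1)) K) r).map σ =
        algebraMap k (Matrix (Fin (n + 1)) (Fin (n + 1)) K) r := by
      ext i j
      simp only [Matrix.map_apply, Matrix.algebraMap_matrix_apply]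
      split_ifs
      · exact σ.commutes r
      · exact map_zero σ
    rw [this]
    exact (Algebra.commutes r _).symm

theorem H6_mem_cycB (M : Matrix (Fin (n + 1)) (Fin (n + 1)) K) :
    M ∈ H6_cycB σ b n ↔ H6_cycF (K := K) b n * M.map σ = M * H6_cycF (K := K) b n := Iff.rfl

theorem H6_mem_cycB_iff (M : Matrix (Fin (n + 1)) (Fin (n + 1)) K) :
    M ∈ H6_cycB σ b n ↔
      ∀ i j, H6_cycC (K := K) b n i * σ (M i j) = M (i + 1) (j + 1) * H6_cycC (K := K) b n j := by
  rw [H6_mem_cycB]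
  constructor
  · intro h i j
    have := congrFun (congrFun h (i + 1)) j
    rw [H6_cycF_mul, H6_mul_cycF] at this
    exact this
  · intro h
    ext i j
    have := h (i - 1) j
    have hi : i - 1 + 1 = i := sub_add_cancel i 1
    rw [hi] at this
    rw [← hi, H6_cycF_mul, H6_mul_cycF, hi]
    exact this

end


section Part2

variable {k : Type u} {K : Type v} [Field k] [Field K] [Algebra k K] (σ : K ≃ₐ[k] K) (b : k) (n : ℕ)

/-- An element of the fixed algebra with vanishing first column is zero. -/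
theorem H6_cycB_eq_zero (hb : b ≠ 0) (M : Matrix (Fin (n + 1)) (Fin (n + 1)) K)
    (hM : M ∈ H6_cycB σ b n) (h0 : ∀ i, M i 0 = 0) : M = 0 := by
  rw [H6_mem_cycB_iff] at hM
  have key : ∀ (t : ℕ) (ht : t < n + 1) (i : Fin (n + 1)), M i ⟨t, ht⟩ = 0 := by
    intro t
    induction t with
    | zero => intro ht i; exact h0 i
    | succ t ih =>
      intro ht i
      have ht' : t < n + 1 := by omega
      have h1 := hM (i - 1) ⟨t, ht'⟩
      rw [ih ht' (i - 1), map_zero, mul_zero, sub_add_cancel] at h1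
      have hj : (⟨t, ht'⟩ : Fin (n + 1)) + 1 = ⟨t + 1, ht⟩ := by
        apply Fin.ext
        rw [Fin.val_add_one_of_lt]
        show (⟨t, ht'⟩ : Fin (n + 1)) < Fin.last n
        rw [Fin.lt_def]
        simp only [Fin.val_last]
        omega
      rw [hj] at h1
      rcases mul_eq_zero.1 h1.symm with h | h
      · exact h
      · exact absurd h (H6_cycC_ne_zero b n hb _)
  ext i j
  exact key j.val j.2 i

theorem H6_pow_val_add_one (hσ : σ ^ (n + 1) = 1) (j : Fin (n + 1)) :
    σ ^ ((j + 1 : Fin (n + 1)).val) = σ ^ (j.val + 1) := by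
  by_cases hj : j = Fin.last n
  · subst hj
    rw [Fin.last_add_one]
    simp only [Fin.val_zero, Fin.val_last, pow_zero]
    exact hσ.symm
  · have hlt : j < Fin.last n := lt_of_le_of_ne (Fin.le_last j) hj
    rw [Fin.val_add_one_of_lt hlt]

/-- The diagonal embedding of `K`. -/
def H6_cycD (x : K) : Matrix (Fin (n + 1)) (Fin (n + 1)) K :=
  Matrix.diagonal fun i => (σ ^ (i : ℕ)) x

theorem H6_cycD_mem (hσ : σ ^ (n + 1) = 1) (x : K) : H6_cycD σ n x ∈ H6_cycB σ b n := by
  rw [H6_mem_cycB_iff]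
  intro i j
  unfold H6_cycD
  by_cases hij : i = j
  · subst hij
    rw [Matrix.diagonal_apply_eq, Matrix.diagonal_apply_eq, H6_pow_val_add_one σ n hσ, pow_succ',
      mul_comm]
    rfl
  · have : i + 1 ≠ j + 1 := fun h => hij (add_right_cancel h)
    rw [Matrix.diagonal_apply_ne _ hij, Matrix.diagonal_apply_ne _ this, map_zero, mul_zero,
      zero_mul]

theorem H6_cycF_mem : H6_cycF (K := K) b n ∈ H6_cycB σ b n := by
  rw [H6_mem_cycB, H6_cycF_map]

theorem H6_cycD_rel (hσ : σ ^ (n + 1) = 1) (x : K) :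
    H6_cycD σ n x * H6_cycF (K := K) b n = H6_cycF (K := K) b n * H6_cycD σ n (σ x) := by
  ext i j
  rw [H6_mul_cycF]
  have hi : i - 1 + 1 = i := sub_add_cancel i 1
  rw [← hi, H6_cycF_mul, hi]
  unfold H6_cycD
  by_cases hij : i = j + 1
  · subst hij
    rw [add_sub_cancel_right, Matrix.diagonal_apply_eq, Matrix.diagonal_apply_eq,
      H6_pow_val_add_one σ n hσ, pow_succ, mul_comm]
    rfl
  · have : i - 1 ≠ j := fun h => hij (by rw [← h, hi])
    rw [Matrix.diagonal_apply_ne _ hij, Matrix.diagonal_apply_ne _ this, zero_mul, mul_zero]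

/-- `ι` as an algebra hom into matrices. -/
def H6_cycDHom : K →ₐ[k] Matrix (Fin (n + 1)) (Fin (n + 1)) K where
  toFun := H6_cycD σ n
  map_one' := by
    unfold H6_cycD
    simp
  map_mul' x y := by
    unfold H6_cycD
    rw [Matrix.diagonal_mul_diagonal]
    simp
  map_zero' := by
    unfold H6_cycD
    simp
  map_add' x y := by
    unfold H6_cycD
    rw [Matrix.diagonal_add]
    simp
  commutes' r := by
    unfold H6_cycD
    ext i j
    by_cases hij : i = j
    · subst hij
      rw [Matrix.diagonal_apply_eq, Matrix.algebraMap_matrix_apply, if_pos rfl]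
      exact AlgEquiv.commutes _ r
    · rw [Matrix.diagonal_apply_ne _ hij, Matrix.algebraMap_matrix_apply, if_neg hij]

/-- First column of powers of `F`. -/
theorem H6_cycF_pow_col (t : ℕ) (ht : t < n + 1) (i : Fin (n + 1)) :
    (H6_cycF (K := K) b n ^ t) i 0 = if i = ⟨t, ht⟩ then 1 else 0 := by
  induction t generalizing i with
  | zero =>
    rw [pow_zero, Matrix.one_apply]
    rfl
  | succ t ih =>
    have ht' : t < n + 1 := by omega
    have hi : i - 1 + 1 = i := sub_add_cancel i 1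
    rw [pow_succ', ← hi, H6_cycF_mul, hi, ih ht']
    have hj : (⟨t, ht'⟩ : Fin (n + 1)) + 1 = ⟨t + 1, ht⟩ := by
      apply Fin.ext
      rw [Fin.val_add_one_of_lt]
      show (⟨t, ht'⟩ : Fin (n + 1)) < Fin.last n
      rw [Fin.lt_def]
      simp only [Fin.val_last]
      omega
    by_cases h : i = ⟨t + 1, ht⟩
    · have h' : i - 1 = ⟨t, ht'⟩ := by rw [h, ← hj, add_sub_cancel_right]
      rw [if_pos h, if_pos h', mul_one, h']
      unfold H6_cycC
      rw [if_neg]
      intro hl
      have := congrArg Fin.val hl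
      simp only [Fin.val_last] at this
      omega
    · have h' : ¬ (i - 1 = ⟨t, ht'⟩) := fun h2 => h (by rw [← hi, h2, hj])
      rw [if_neg h, if_neg h', mul_zero]

theorem H6_cycF_pow (hb : b ≠ 0) :
    H6_cycF (K := K) b n ^ (n + 1) = algebraMap k (Matrix (Fin (n + 1)) (Fin (n + 1)) K) b := by
  rw [← sub_eq_zero]
  apply H6_cycB_eq_zero (AlgEquiv.refl : K ≃ₐ[k] K) b n hb
  · exact Subalgebra.sub_mem _ (Subalgebra.pow_mem _ (H6_cycF_mem _ b n) _)
      (Subalgebra.algebraMap_mem _ b)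
  · intro i
    have hi : i - 1 + 1 = i := sub_add_cancel i 1
    rw [Matrix.sub_apply, pow_succ', ← hi, H6_cycF_mul, hi, H6_cycF_pow_col b n n (by omega),
      Matrix.algebraMap_matrix_apply]
    by_cases h : i = 0
    · have h' : i - 1 = ⟨n, by omega⟩ := by
        rw [h, zero_sub]
        apply Fin.ext
        rw [Fin.coe_neg_one]
      rw [if_pos h', if_pos h, mul_one, h']
      unfold H6_cycC
      have hl : (⟨n, Nat.lt_succ_self n⟩ : Fin (n + 1)) = Fin.last n := rfl
      rw [if_pos hl, sub_self]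
    · have h' : ¬ (i - 1 = ⟨n, by omega⟩) := by
        intro h2
        apply h
        rw [← hi, h2]
        exact Fin.last_add_one n
      rw [if_neg h', if_neg h, mul_zero, sub_self]

end Part2


section Part3

variable {k : Type u} {K : Type v} [Field k] [Field K] [Algebra k K] (σ : K ≃ₐ[k] K) (b : k) (n : ℕ)

/-- `ι` into the fixed algebra. -/
def H6_cycι (hσ : σ ^ (n + 1) = 1) : K →ₐ[k] H6_cycB σ b n :=
  (H6_cycDHom σ n).codRestrict (H6_cycB σ b n) (H6_cycD_mem σ b n hσ)

/-- `y` in the fixed algebra. -/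
def H6_cycY : H6_cycB σ b n := ⟨H6_cycF (K := K) b n, H6_cycF_mem σ b n⟩

theorem H6_cycι_coe (hσ : σ ^ (n + 1) = 1) (x : K) :
    ((H6_cycι σ b n hσ x : H6_cycB σ b n) : Matrix (Fin (n + 1)) (Fin (n + 1)) K) =
      H6_cycD σ n x := rfl

theorem H6_cycY_coe :
    ((H6_cycY σ b n : H6_cycB σ b n) : Matrix (Fin (n + 1)) (Fin (n + 1)) K) =
      H6_cycF (K := K) b n := rfl

theorem H6_cycY_pow (hb : b ≠ 0) :
    H6_cycY σ b n ^ (n + 1) = algebraMap k (H6_cycB σ b n) b := by
  apply Subtype.ext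
  rw [SubmonoidClass.coe_pow, H6_cycY_coe, H6_cycF_pow b n hb]
  rfl

theorem H6_cycι_rel (hσ : σ ^ (n + 1) = 1) (x : K) :
    H6_cycι σ b n hσ x * H6_cycY σ b n = H6_cycY σ b n * H6_cycι σ b n hσ (σ x) := by
  apply Subtype.ext
  exact H6_cycD_rel σ b n hσ x

/-- First column. -/
def H6_cycCol : H6_cycB σ b n →ₗ[k] (Fin (n + 1) → K) where
  toFun M := fun i => (M : Matrix (Fin (n + 1)) (Fin (n + 1)) K) i 0
  map_add' M N := by ext i; rfl
  map_smul' r M := by ext i; rfl

theorem H6_cycCol_injective (hb : b ≠ 0) : Function.Injective (H6_cycCol σ b n) := by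
  rw [← LinearMap.ker_eq_bot, LinearMap.ker_eq_bot']
  intro M hM
  apply Subtype.ext
  apply H6_cycB_eq_zero σ b n hb _ M.2
  intro i
  exact congrFun hM i

/-- The inverse to the first column map. -/
noncomputable def H6_cycΦ (hσ : σ ^ (n + 1) = 1) (c : Fin (n + 1) → K) : H6_cycB σ b n :=
  ∑ j : Fin (n + 1), H6_cycι σ b n hσ ((σ ^ (j : ℕ))⁻¹ (c j)) * H6_cycY σ b n ^ (j : ℕ)

theorem H6_cycCol_Φ (hσ : σ ^ (n + 1) = 1) (c : Fin (n + 1) → K) :
    H6_cycCol σ b n (H6_cycΦ σ b n hσ c) = c := by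
  classical
  ext i
  show ((H6_cycΦ σ b n hσ c : H6_cycB σ b n) : Matrix (Fin (n + 1)) (Fin (n + 1)) K) i 0 = c i
  unfold H6_cycΦ
  rw [AddSubmonoidClass.coe_finset_sum, Matrix.sum_apply, Finset.sum_eq_single i]
  · rw [MulMemClass.coe_mul, SubmonoidClass.coe_pow, H6_cycι_coe, H6_cycY_coe]
    unfold H6_cycD
    rw [Matrix.diagonal_mul, H6_cycF_pow_col b n i.val i.2, if_pos rfl, mul_one]
    exact (σ ^ (i : ℕ)).apply_symm_apply (c i)
  · intro j _ hj
    rw [MulMemClass.coe_mul, SubmonoidClass.coe_pow, H6_cycι_coe, H6_cycY_coe]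
    unfold H6_cycD
    rw [Matrix.diagonal_mul, H6_cycF_pow_col b n j.val j.2, if_neg (fun h => hj h.symm), mul_zero]
  · intro h; exact absurd (Finset.mem_univ _) h

theorem H6_cycΦ_col (hb : b ≠ 0) (hσ : σ ^ (n + 1) = 1) (M : H6_cycB σ b n) :
    H6_cycΦ σ b n hσ (H6_cycCol σ b n M) = M :=
  H6_cycCol_injective σ b n hb (H6_cycCol_Φ σ b n hσ _)

theorem H6_cycΦ_mem (hσ : σ ^ (n + 1) = 1) (c : Fin (n + 1) → K) :
    H6_cycΦ σ b n hσ c ∈
      Algebra.adjoin k (Set.range (H6_cycι σ b n hσ) ∪ {H6_cycY σ b n}) := by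
  unfold H6_cycΦ
  apply Subalgebra.sum_mem
  intro j _
  apply Subalgebra.mul_mem
  · apply Algebra.subset_adjoin
    apply Set.mem_union_left
    exact ⟨_, rfl⟩
  · apply Subalgebra.pow_mem
    apply Algebra.subset_adjoin
    apply Set.mem_union_right
    exact rfl

theorem H6_cyc_adjoin (hb : b ≠ 0) (hσ : σ ^ (n + 1) = 1) :
    Algebra.adjoin k (Set.range (H6_cycι σ b n hσ) ∪ {H6_cycY σ b n}) = ⊤ := by
  rw [eq_top_iff]
  intro M _
  have h1 := H6_cycΦ_mem σ b n hσ (H6_cycCol σ b n M)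
  have h2 := H6_cycΦ_col σ b n hb hσ M
  exact h2 ▸ h1

theorem H6_cyc_finrank [FiniteDimensional k K] (hb : b ≠ 0) (hσ : σ ^ (n + 1) = 1)
    (hK : Module.finrank k K = n + 1) :
    Module.finrank k (H6_cycB σ b n) = (n + 1) ^ 2 := by
  have hbij : Function.Bijective (H6_cycCol σ b n) :=
    ⟨H6_cycCol_injective σ b n hb, fun c => ⟨_, H6_cycCol_Φ σ b n hσ c⟩⟩
  rw [(LinearEquiv.ofBijective _ hbij).finrank_eq, Module.finrank_pi_fintype]
  simp only [hK, Finset.sum_const, Finset.card_univ, Fintype.card_fin, smul_eq_mul]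
  ring

end Part3

section Main

variable {k : Type u} {K : Type v} [Field k] [Field K] [Algebra k K]
  [FiniteDimensional k K] [IsGalois k K]

theorem H6_cyclic_matrix_main (σ : K ≃ₐ[k] K)
    (hσ : ∀ τ : K ≃ₐ[k] K, τ ∈ Subgroup.zpowers σ) (b : kˣ) (m : ℕ)
    (hK : Module.finrank k K = m) :
    ∃ B : Subalgebra k (Matrix (Fin m) (Fin m) K),
      (∀ M : Matrix (Fin m) (Fin m) K,
        M ∈ B ↔
          Matrix.of (fun i j : Fin m =>
              if j.val + 1 = i.val then (1 : K)
              else if i.val = 0 ∧ j.val + 1 = m then algebraMap k K (b : k) else 0) *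
              M.map (fun x => σ x) =
            M * Matrix.of (fun i j : Fin m =>
              if j.val + 1 = i.val then (1 : K)
              else if i.val = 0 ∧ j.val + 1 = m then algebraMap k K (b : k) else 0)) ∧
      ∃ (ι : K →ₐ[k] B) (y : B),
        y ^ m = algebraMap k B (b : k) ∧
        (∀ x : K, ι x * y = y * ι (σ x)) ∧
        Algebra.adjoin k (Set.range ι ∪ {y}) = ⊤ ∧
        0 < m ∧ Module.finrank k B = m ^ 2 := by
  have hm : 0 < m := hK ▸ Module.finrank_pos
  obtain ⟨n, rfl⟩ : ∃ n, m = n + 1 := ⟨m - 1, by omega⟩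
  have hσn : σ ^ (n + 1) = 1 := by
    rw [← hK, ← IsGalois.card_aut_eq_finrank, ← orderOf_eq_card_of_forall_mem_zpowers hσ]
    exact pow_orderOf_eq_one σ
  have hb : (b : k) ≠ 0 := b.ne_zero
  refine ⟨H6_cycB σ (b : k) n, ?_, H6_cycι σ (b : k) n hσn, H6_cycY σ (b : k) n,
    H6_cycY_pow σ (b : k) n hb, H6_cycι_rel σ (b : k) n hσn, H6_cyc_adjoin σ (b : k) n hb hσn,
    hm, H6_cyc_finrank σ (b : k) n hb hσn hK⟩
  intro M
  rw [H6_cycF_eq]
  exact H6_mem_cycB σ (b : k) n M

end Main

end Groth.Agent.Lib.helper6
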