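import Mathlib
import Groth.Prelude.Def_GSzCSA
import Groth.Agent.Lib.helper6.CyclicMatrix
import Groth.Agent.Lib.helper6.CyclicLift
import Groth.Agent.Lib.helper6.BrauerCore

set_option autoImplicit false
set_option linter.style.haveILetI false
universe u v w

open scoped TensorProduct

namespace Groth.Agent.Lib.helper6

section Ops

variable {k : Type u} {K : Type v} [Field k] [Field K] [Algebra k K] (σ : K ≃ₐ[k] K) {n : ℕ}

/-- The twisted two-sided operator `f ↦ F σ(f) G`. -/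
noncomputable def H6_twR (F G : Matrix (Fin n) (Fin n) K) : Module.End k (Matrix (Fin n) (Fin n) K) where
  toFun f := F * f.map σ * G
  map_add' f f' := by
    rw [Matrix.map_add _ (map_add σ), mul_add, add_mul]
  map_smul' r f := by
    have : (r • f).map σ = r • f.map σ := by
      ext i j
      show σ (r • f i j) = r • σ (f i j)
      rw [map_smul]
    rw [RingHom.id_apply, this, Matrix.mul_smul, Matrix.smul_mul]

theorem H6_twR_apply (F G f : Matrix (Fin n) (Fin n) K) : H6_twR σ F G f = F * f.map σ * G := rfl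

theorem H6_map_pow_of_fixed (F : Matrix (Fin n) (Fin n) K) (hF : F.map σ = F) (j : ℕ) :
    (F ^ j).map σ = F ^ j := by
  have h1 : ∀ M : Matrix (Fin n) (Fin n) K, M.map σ = (σ : K →+* K).mapMatrix M := fun M => rfl
  rw [h1, map_pow, ← h1, hF]

theorem H6_twR_pow (F G : Matrix (Fin n) (Fin n) K) (hF : F.map σ = F) (hG : G.map σ = G) (j : ℕ)
    (f : Matrix (Fin n) (Fin n) K) :
    (H6_twR σ F G ^ j) f = F ^ j * f.map (σ ^ j) * G ^ j := by
  induction j generalizing f with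
  | zero =>
    simp only [pow_zero, Module.End.one_apply, one_mul, mul_one]
    ext a c
    rfl
  | succ j ih =>
    rw [pow_succ', Module.End.mul_apply, ih, H6_twR_apply]
    have h1 : ∀ M N : Matrix (Fin n) (Fin n) K, (M * N).map σ = M.map σ * N.map σ := by
      intro M N
      exact Matrix.map_mul
    rw [h1, h1, H6_map_pow_of_fixed σ F hF, H6_map_pow_of_fixed σ G hG]
    have h2 : (f.map (σ ^ j)).map σ = f.map (σ ^ (j + 1)) := by
      ext a c
      show σ ((σ ^ j) (f a c)) = (σ ^ (j + 1)) (f a c)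
      rw [pow_succ']
      rfl
    rw [h2, pow_succ' F, pow_succ G]
    simp only [mul_assoc]

end Ops


section Module

variable {k : Type u} {K : Type v} [Field k] [Field K] [Algebra k K] (σ : K ≃ₐ[k] K) (n : ℕ)

/-- Right multiplication by the transpose, as an algebra hom. -/
noncomputable def H6_rmulT :
    Matrix (Fin n) (Fin n) K →ₐ[k] Module.End k (Matrix (Fin n) (Fin n) K) where
  toFun M := LinearMap.mulRight k M.transpose
  map_one' := by
    rw [Matrix.transpose_one, LinearMap.mulRight_one]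
    rfl
  map_mul' M N := by
    rw [Matrix.transpose_mul, LinearMap.mulRight_mul]
    rfl
  map_zero' := by
    rw [Matrix.transpose_zero]
    apply LinearMap.ext
    intro f
    simp
  map_add' M N := by
    rw [Matrix.transpose_add]
    apply LinearMap.ext
    intro f
    simp [mul_add]
  commutes' r := by
    apply LinearMap.ext
    intro f
    show f * (algebraMap k (Matrix (Fin n) (Fin n) K) r).transpose = r • f
    rw [Algebra.algebraMap_eq_smul_one, Matrix.transpose_smul, Matrix.transpose_one,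
      Matrix.mul_smul, mul_one]

theorem H6_rmulT_apply (M f : Matrix (Fin n) (Fin n) K) :
    H6_rmulT (k := k) n M f = f * M.transpose := rfl

variable (b b' : k)

/-- The operator `S f = F σ(f) F'ᵀ`. -/
noncomputable def H6_ctS : Module.End k (Matrix (Fin (n + 1)) (Fin (n + 1)) K) :=
  H6_twR σ (H6_cycF (K := K) b n) (H6_cycF (K := K) b' n).transpose

theorem H6_ctS_pow (hb : b ≠ 0) (hb' : b' ≠ 0) (hσ : σ ^ (n + 1) = 1) :
    H6_ctS σ n b b' ^ (n + 1) =
      algebraMap k (Module.End k (Matrix (Fin (n + 1)) (Fin (n + 1)) K)) (b * b') := by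
  apply LinearMap.ext
  intro f
  unfold H6_ctS
  rw [H6_twR_pow σ _ _ (H6_cycF_map σ b n) (by
    rw [Matrix.transpose_map, H6_cycF_map σ b' n])]
  rw [hσ, ← Matrix.transpose_pow, H6_cycF_pow b n hb, H6_cycF_pow b' n hb']
  have h1 : f.map ((1 : K ≃ₐ[k] K)) = f := by
    ext i j
    rfl
  rw [h1, Algebra.algebraMap_eq_smul_one, Algebra.algebraMap_eq_smul_one, Matrix.transpose_smul,
    Matrix.transpose_one, Matrix.smul_mul, one_mul, Matrix.mul_smul, mul_one, smul_smul]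
  rw [Module.algebraMap_end_apply, mul_comm]

/-- Scalar multiplication by `K`. -/
noncomputable def H6_ctκ : K →ₐ[k] Module.End k (Matrix (Fin (n + 1)) (Fin (n + 1)) K) :=
  Algebra.lsmul k k (Matrix (Fin (n + 1)) (Fin (n + 1)) K)

theorem H6_ctκ_apply (x : K) (f : Matrix (Fin (n + 1)) (Fin (n + 1)) K) :
    H6_ctκ (k := k) n x f = x • f := rfl

theorem H6_ctS_rel (x : K) :
    H6_ctκ (k := k) n x * H6_ctS σ n b b' =
      H6_ctS σ n b b' * H6_ctκ (k := k) n (σ⁻¹ x) := by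
  apply LinearMap.ext
  intro f
  show x • (H6_cycF (K := K) b n * f.map σ * (H6_cycF (K := K) b' n).transpose) =
    H6_cycF (K := K) b n * (σ⁻¹ x • f).map σ * (H6_cycF (K := K) b' n).transpose
  have h1 : (σ⁻¹ x • f).map σ = x • f.map σ := by
    ext i j
    show σ (σ⁻¹ x * f i j) = x * σ (f i j)
    rw [map_mul]
    congr 1
    exact σ.apply_symm_apply x
  rw [h1, Matrix.mul_smul, Matrix.smul_mul]

theorem H6_ctS_comm_left (M : Matrix (Fin (n + 1)) (Fin (n + 1)) K) (hM : M ∈ H6_cycB σ b n) :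
    Algebra.lmul k (Matrix (Fin (n + 1)) (Fin (n + 1)) K) M * H6_ctS σ n b b' =
      H6_ctS σ n b b' * Algebra.lmul k (Matrix (Fin (n + 1)) (Fin (n + 1)) K) M := by
  apply LinearMap.ext
  intro f
  show M * (H6_cycF (K := K) b n * f.map σ * (H6_cycF (K := K) b' n).transpose) =
    H6_cycF (K := K) b n * (M * f).map σ * (H6_cycF (K := K) b' n).transpose
  rw [H6_mem_cycB] at hM
  have h1 : (M * f).map σ = M.map σ * f.map σ := Matrix.map_mul
  rw [h1, ← mul_assoc (H6_cycF (K := K) b n), hM]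
  simp only [mul_assoc]

theorem H6_ctS_comm_right (M : Matrix (Fin (n + 1)) (Fin (n + 1)) K) (hM : M ∈ H6_cycB σ b' n) :
    H6_rmulT (k := k) (n + 1) M * H6_ctS σ n b b' =
      H6_ctS σ n b b' * H6_rmulT (k := k) (n + 1) M := by
  apply LinearMap.ext
  intro f
  show (H6_cycF (K := K) b n * f.map σ * (H6_cycF (K := K) b' n).transpose) * M.transpose =
    H6_cycF (K := K) b n * (f * M.transpose).map σ * (H6_cycF (K := K) b' n).transpose
  rw [H6_mem_cycB] at hM
  have h1 : (f * M.transpose).map σ = f.map σ * (M.map σ).transpose := by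
    rw [← Matrix.transpose_map]
    exact Matrix.map_mul
  rw [h1]
  have h2 : (M.map σ).transpose * (H6_cycF (K := K) b' n).transpose =
      (H6_cycF (K := K) b' n).transpose * M.transpose := by
    rw [← Matrix.transpose_mul, hM, Matrix.transpose_mul]
  simp only [mul_assoc]
  rw [h2]

end Module


section Assemble

variable {k : Type u} {K : Type v} [Field k] [Field K] [Algebra k K]
  [FiniteDimensional k K] [IsGalois k K] (σ : K ≃ₐ[k] K)

theorem H6_pow_card_eq_one (hσ : ∀ τ : K ≃ₐ[k] K, τ ∈ Subgroup.zpowers σ) :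
    σ ^ Module.finrank k K = 1 := by
  rw [← IsGalois.card_aut_eq_finrank, ← orderOf_eq_card_of_forall_mem_zpowers hσ]
  exact pow_orderOf_eq_one σ

/-- The matrix model is a cyclic algebra. -/
theorem H6_isCyclicAlg_cycB (hσ : ∀ τ : K ≃ₐ[k] K, τ ∈ Subgroup.zpowers σ) (b : kˣ) (n : ℕ)
    (hK : Module.finrank k K = n + 1) :
    CSAGal.IsCyclicAlg k K σ b (H6_cycB σ (b : k) n) := by
  have hσn : σ ^ (n + 1) = 1 := hK ▸ H6_pow_card_eq_one σ hσ
  refine ⟨H6_cycι σ (b : k) n hσn, H6_cycY σ (b : k) n, ?_, H6_cycι_rel σ (b : k) n hσn,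
    H6_cyc_adjoin σ (b : k) n b.ne_zero hσn, by rw [hK]; omega, ?_⟩
  · rw [hK]
    exact H6_cycY_pow σ (b : k) n b.ne_zero
  · rw [hK]
    exact H6_cyc_finrank σ (b : k) n b.ne_zero hσn hK

/-- Any cyclic algebra maps into the matrix model. -/
theorem H6_exists_hom_cycB (hσ : ∀ τ : K ≃ₐ[k] K, τ ∈ Subgroup.zpowers σ) (b : kˣ) (n : ℕ)
    (hK : Module.finrank k K = n + 1) {A : Type w} [Ring A] [Algebra k A]
    (h : CSAGal.IsCyclicAlg k K σ b A) :
    ∃ i : A →ₐ[k] Matrix (Fin (n + 1)) (Fin (n + 1)) K, ∀ a, i a ∈ H6_cycB σ (b : k) n := by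
  have hσn : σ ^ (n + 1) = 1 := hK ▸ H6_pow_card_eq_one σ hσ
  obtain ⟨ι, y, hy, hrel, hgen, hm, hdim⟩ := h
  obtain ⟨f, -, -⟩ := H6_cyc_lift σ hσ b ι y hy hrel hgen hdim
    (H6_cycι σ (b : k) n hσn) (H6_cycY σ (b : k) n)
    (by rw [hK]; exact H6_cycY_pow σ (b : k) n b.ne_zero) (H6_cycι_rel σ (b : k) n hσn)
  exact ⟨(H6_cycB σ (b : k) n).val.comp f, fun a => (f a).2⟩

theorem H6_cyc_tensor_core (hσ : ∀ τ : K ≃ₐ[k] K, τ ∈ Subgroup.zpowers σ) (b b' : kˣ)
    {A₁ : Type w} [Ring A₁] [Algebra k A₁] {A₂ : Type w} [Ring A₂] [Algebra k A₂]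
    (h₁ : CSAGal.IsCyclicAlg k K σ b A₁) (h₂ : CSAGal.IsCyclicAlg k K σ b' A₂) :
    ∃ (B : Type v) (_ : Ring B) (_ : Algebra k B), CSAGal.IsCyclicAlg k K σ (b * b') B ∧
      ∃ n₁ n₂ : ℕ, n₁ ≠ 0 ∧ n₂ ≠ 0 ∧
        Nonempty (Matrix (Fin n₁) (Fin n₁) (A₁ ⊗[k] A₂) ≃ₐ[k] Matrix (Fin n₂) (Fin n₂) B) := by
  classical
  have hm : 0 < Module.finrank k K := Module.finrank_pos
  obtain ⟨n, hK⟩ : ∃ n, Module.finrank k K = n + 1 := ⟨Module.finrank k K - 1, by omega⟩
  have hσn : σ ^ (n + 1) = 1 := hK ▸ H6_pow_card_eq_one σ hσ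
  obtain ⟨hcen₁, hsim₁, hfd₁⟩ := H6_csa_of_isCyclicAlg σ hσ b h₁
  obtain ⟨hcen₂, hsim₂, hfd₂⟩ := H6_csa_of_isCyclicAlg σ hσ b' h₂
  have hd₁ : Module.finrank k A₁ = Module.finrank k K ^ 2 := by
    obtain ⟨_, _, _, _, _, _, h⟩ := h₁
    exact h
  have hd₂ : Module.finrank k A₂ = Module.finrank k K ^ 2 := by
    obtain ⟨_, _, _, _, _, _, h⟩ := h₂
    exact h
  obtain ⟨i₁, hi₁⟩ := H6_exists_hom_cycB σ hσ b n hK h₁
  obtain ⟨i₂, hi₂⟩ := H6_exists_hom_cycB σ hσ b' n hK h₂
  haveI : IsSimpleRing (A₁ ⊗[k] A₂) := H6_isSimpleRing_tensor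
  haveI : Nontrivial (Matrix (Fin (n + 1)) (Fin (n + 1)) K) := inferInstance
  obtain ⟨ρ₁, hρ₁⟩ : ∃ ρ₁ : A₁ →ₐ[k] Module.End k (Matrix (Fin (n + 1)) (Fin (n + 1)) K),
      ∀ a, ρ₁ a = Algebra.lmul k (Matrix (Fin (n + 1)) (Fin (n + 1)) K) (i₁ a) :=
    ⟨(Algebra.lmul k (Matrix (Fin (n + 1)) (Fin (n + 1)) K)).comp i₁, fun a => rfl⟩
  obtain ⟨ρ₂, hρ₂⟩ : ∃ ρ₂ : A₂ →ₐ[k] Module.End k (Matrix (Fin (n + 1)) (Fin (n + 1)) K),
      ∀ a, ρ₂ a = H6_rmulT (k := k) (n + 1) (i₂ a) :=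
    ⟨(H6_rmulT (k := k) (n + 1)).comp i₂, fun a => rfl⟩
  have hc12 : ∀ a a', Commute (ρ₁ a) (ρ₂ a') := by
    intro a a'
    rw [hρ₁, hρ₂]
    apply LinearMap.ext
    intro f
    show i₁ a * (f * (i₂ a').transpose) = (i₁ a * f) * (i₂ a').transpose
    rw [mul_assoc]
  obtain ⟨ρ, hρ⟩ : ∃ ρ : A₁ ⊗[k] A₂ →ₐ[k] Module.End k (Matrix (Fin (n + 1)) (Fin (n + 1)) K),
      ∀ a a', ρ (a ⊗ₜ[k] a') = ρ₁ a * ρ₂ a' :=
    ⟨Algebra.TensorProduct.lift ρ₁ ρ₂ hc12, fun a a' => Algebra.TensorProduct.lift_tmul _ _ _ _ _⟩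
  have hσ' : ∀ τ : K ≃ₐ[k] K, τ ∈ Subgroup.zpowers σ⁻¹ := by
    intro τ
    rw [Subgroup.zpowers_inv]
    exact hσ τ
  obtain ⟨S, hS⟩ : ∃ S, S = H6_ctS σ n (b : k) (b' : k) := ⟨_, rfl⟩
  have hSpow : S ^ Module.finrank k K =
      algebraMap k (Module.End k (Matrix (Fin (n + 1)) (Fin (n + 1)) K)) ((b * b' : kˣ) : k) := by
    rw [hK, hS, H6_ctS_pow σ n _ _ b.ne_zero b'.ne_zero hσn]
    rfl
  have hrel : ∀ x : K, H6_ctκ (k := k) (K := K) n x * S =
      S * H6_ctκ (k := k) (K := K) n (σ⁻¹ x) :=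
    fun x => hS ▸ H6_ctS_rel σ n _ _ x
  have cyc' := H6_isCyclicAlg_adjoin σ⁻¹ hσ'
    (H6_ctκ (k := k) (K := K) n) S (b * b') hSpow hrel
  have hcomm : ∀ (a : A₁ ⊗[k] A₂)
      (b'' : Algebra.adjoin k
        (Set.range (H6_ctκ (k := k) (K := K) n) ∪ {S})),
      Commute (ρ a) ((Algebra.adjoin k
        (Set.range (H6_ctκ (k := k) (K := K) n) ∪ {S})).val b'') := by
    intro a b''
    have hgen : ∀ T : Module.End k (Matrix (Fin (n + 1)) (Fin (n + 1)) K),
        (∀ a₁, Commute (ρ₁ a₁) T) → (∀ a₂, Commute (ρ₂ a₂) T) → Commute (ρ a) T := by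
      intro T h1 h2
      induction a using TensorProduct.induction_on with
      | zero => rw [map_zero]; exact Commute.zero_left T
      | add x y hx hy => rw [map_add]; exact hx.add_left hy
      | tmul a₁ a₂ => rw [hρ]; exact (h1 a₁).mul_left (h2 a₂)
    have hle : Algebra.adjoin k
        (Set.range (H6_ctκ (k := k) (K := K) n) ∪ {S}) ≤
        Subalgebra.centralizer k {ρ a} := by
      apply Algebra.adjoin_le
      rintro t (⟨x, rfl⟩ | ht)
      · rw [SetLike.mem_coe, Subalgebra.mem_centralizer_iff]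
        intro r hr
        rw [Set.mem_singleton_iff] at hr
        subst hr
        refine (hgen _ ?_ ?_).eq
        · intro a₁
          rw [hρ₁]
          apply LinearMap.ext
          intro f
          show i₁ a₁ * (x • f) = x • (i₁ a₁ * f)
          rw [Matrix.mul_smul]
        · intro a₂
          rw [hρ₂]
          apply LinearMap.ext
          intro f
          show (x • f) * (i₂ a₂).transpose = x • (f * (i₂ a₂).transpose)
          rw [Matrix.smul_mul]
      · rw [Set.mem_singleton_iff] at ht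
        subst ht
        rw [SetLike.mem_coe, Subalgebra.mem_centralizer_iff]
        intro r hr
        rw [Set.mem_singleton_iff] at hr
        subst hr
        refine (hgen _ ?_ ?_).eq
        · intro a₁
          rw [hρ₁, hS]
          exact H6_ctS_comm_left σ n _ _ _ (hi₁ a₁)
        · intro a₂
          rw [hρ₂, hS]
          exact H6_ctS_comm_right σ n _ _ _ (hi₂ a₂)
    have := hle b''.2
    rw [Subalgebra.mem_centralizer_iff] at this
    exact this _ rfl
  have hdW : Module.finrank k (Matrix (Fin (n + 1)) (Fin (n + 1)) K) =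
      (n + 1) * (n + 1) * (n + 1) := by
    rw [Module.finrank_matrix, Fintype.card_fin, hK]
  have hdim : Module.finrank k (A₁ ⊗[k] A₂) * Module.finrank k K ^ 2 =
      Module.finrank k (Matrix (Fin (n + 1)) (Fin (n + 1)) K) *
        Module.finrank k (Matrix (Fin (n + 1)) (Fin (n + 1)) K) := by
    rw [Module.finrank_tensorProduct, hd₁, hd₂, hdW, hK]
    ring
  obtain ⟨h3, h4⟩ := H6_core_general σ hσ (b * b') ρ _ cyc' hcomm hdim
  refine ⟨_, inferInstance, inferInstance, h3, Module.finrank k K ^ 2,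
    Module.finrank k (Matrix (Fin (n + 1)) (Fin (n + 1)) K), by positivity, ?_, h4⟩
  rw [hdW]
  positivity

end Assemble

end Groth.Agent.Lib.helper6
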