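import Mathlib
import Groth.Agent.Lib.helper4.Centralizer

set_option autoImplicit false
set_option linter.style.haveILetI false
universe u v w w'

open scoped TensorProduct

namespace Groth.Agent.Lib.helper6

section

variable {k : Type u} [Field k]

/-- A maximal commutative subalgebra of a central division algebra of dimension `d²` has
dimension `d`. -/
theorem H6_exists_maximal_comm_subalgebra {D : Type v} [DivisionRing D] [Algebra k D]
    [Algebra.IsCentral k D] [FiniteDimensional k D] (d : ℕ) (hd : Module.finrank k D = d ^ 2) :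
    ∃ L : Subalgebra k D, (∀ x ∈ L, ∀ y ∈ L, x * y = y * x) ∧ Module.finrank k L = d := by
  classical
  let P : ℕ → Prop := fun n => ∃ L : Subalgebra k D,
    (∀ x ∈ L, ∀ y ∈ L, x * y = y * x) ∧ Module.finrank k L = n
  have hP1 : P 1 := by
    refine ⟨⊥, ?_, Subalgebra.finrank_bot⟩
    rintro x ⟨a, rfl⟩ y ⟨b, rfl⟩
    exact Algebra.commutes a _
  have hbound : ∀ n, P n → n ≤ Module.finrank k D := by
    rintro n ⟨L, -, rfl⟩
    exact Submodule.finrank_le (Subalgebra.toSubmodule L)
  obtain ⟨L, hLc, hLn⟩ : P (Nat.findGreatest P (Module.finrank k D)) :=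
    Nat.findGreatest_spec (hbound 1 hP1) hP1
  have hmax : ∀ L' : Subalgebra k D, (∀ x ∈ L', ∀ y ∈ L', x * y = y * x) →
      Module.finrank k L' ≤ Module.finrank k L := by
    intro L' h
    rw [hLn]
    exact Nat.le_findGreatest (hbound _ ⟨L', h, rfl⟩) ⟨L', h, rfl⟩
  refine ⟨L, hLc, ?_⟩
  -- centralizer of L is L
  have hcent : Subalgebra.centralizer k (L : Set D) = L := by
    apply le_antisymm
    · intro x hx
      rw [Subalgebra.mem_centralizer_iff] at hx
      let s : Set D := (L : Set D) ∪ {x}
      have hs : ∀ a ∈ s, ∀ b ∈ s, a * b = b * a := by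
        rintro a (ha | ha) b (hb | hb)
        · exact hLc a ha b hb
        · rw [Set.mem_singleton_iff] at hb
          rw [hb]
          exact (hx a ha)
        · rw [Set.mem_singleton_iff] at ha
          rw [ha]
          exact (hx b hb).symm
        · rw [Set.mem_singleton_iff] at ha hb
          rw [ha, hb]
      letI := Algebra.adjoinCommRingOfComm k hs
      have hcomm' : ∀ a ∈ Algebra.adjoin k s, ∀ b ∈ Algebra.adjoin k s, a * b = b * a := by
        intro a ha b hb
        have := mul_comm (⟨a, ha⟩ : Algebra.adjoin k s) ⟨b, hb⟩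
        exact congrArg Subtype.val this
      have hle : L ≤ Algebra.adjoin k s := by
        intro a ha
        exact Algebra.subset_adjoin (Set.mem_union_left _ ha)
      have h1 := hmax _ hcomm'
      have h2 : Subalgebra.toSubmodule L = Subalgebra.toSubmodule (Algebra.adjoin k s) :=
        Submodule.eq_of_le_of_finrank_le hle h1
      have h3 : x ∈ Subalgebra.toSubmodule (Algebra.adjoin k s) :=
        Algebra.subset_adjoin (Set.mem_union_right _ rfl)
      rw [← h2] at h3
      exact h3
    · intro x hx
      rw [Subalgebra.mem_centralizer_iff]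
      intro y hy
      exact hLc y hy x hx
  letI : DivisionRing L := divisionRingOfFiniteDimensional k L
  haveI : IsSimpleRing L := inferInstance
  obtain ⟨-, hdim⟩ := Groth.Agent.H4.H4_centralizer_main k D L
  rw [hcent, hd] at hdim
  exact (Nat.pow_left_injective (by norm_num : 2 ≠ 0) (by
    show d ^ 2 = Module.finrank k L ^ 2
    rw [hdim, pow_two])).symm

/-- A central division algebra of dimension `d²` contains a subfield of degree `d`. -/
theorem H6_exists_maximal_subfield {D : Type v} [DivisionRing D] [Algebra k D]
    [Algebra.IsCentral k D] [FiniteDimensional k D] (d : ℕ) (hd : Module.finrank k D = d ^ 2) :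
    ∃ (L : Type v) (_ : Field L) (_ : Algebra k L) (_ : FiniteDimensional k L),
      Module.finrank k L = d ∧ Nonempty (L →ₐ[k] D) := by
  classical
  obtain ⟨L, hLc, hLd⟩ := H6_exists_maximal_comm_subalgebra d hd
  letI : CommRing L :=
    { (inferInstance : Ring L) with
      mul_comm := fun a b => Subtype.ext (hLc a a.2 b b.2) }
  letI : Field L := fieldOfFiniteDimensional k L
  exact ⟨L, inferInstance, inferInstance, inferInstance, hLd, ⟨L.val⟩⟩

end

end Groth.Agent.Lib.helper6
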