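import Mathlib

set_option autoImplicit false
set_option linter.style.haveILetI false
universe u v w w'

namespace Groth.Agent.Lib.helper6

/-- Over a finite-dimensional simple algebra, the dimension of a simple module divides the dimension
of every finite-dimensional module. -/
theorem H6_simple_finrank_dvd (k : Type u) {R : Type w} [Field k] [Ring R]
    [Algebra k R] [IsSimpleRing R] [FiniteDimensional k R]
    (C : Type v) [AddCommGroup C] [Module R C] [Module k C] [IsScalarTower k R C]
    (W : Type w') [AddCommGroup W] [Module R W] [Module k W] [IsScalarTower k R W]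
    [FiniteDimensional k W] [IsSimpleModule R C] :
    Module.finrank k C ∣ Module.finrank k W := by
  classical
  haveI : IsArtinianRing R := IsArtinianRing.of_finite k R
  haveI : Module.Finite R W := Module.Finite.of_restrictScalars_finite k R W
  rcases subsingleton_or_nontrivial W with hW | hW
  · rw [Module.finrank_zero_of_subsingleton (R := k) (M := W)]
    exact dvd_zero _
  · obtain ⟨n, hn, S, hS, ⟨e⟩⟩ := (IsSimpleRing.isIsotypic R W).linearEquiv_fun
    let m₁ : Submodule R (W × C) := S.map (LinearMap.inl R W C)
    let m₂ : Submodule R (W × C) := (⊤ : Submodule R C).map (LinearMap.inr R W C)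
    let e₁ : S ≃ₗ[R] m₁ := S.equivMapOfInjective _ LinearMap.inl_injective
    let e₂ : C ≃ₗ[R] m₂ := (Submodule.topEquiv.symm).trans
      ((⊤ : Submodule R C).equivMapOfInjective _ LinearMap.inr_injective)
    haveI : IsSimpleModule R m₁ := IsSimpleModule.congr e₁.symm
    haveI : IsSimpleModule R m₂ := IsSimpleModule.congr e₂.symm
    obtain ⟨f₁₂⟩ : Nonempty (m₁ ≃ₗ[R] m₂) := IsSimpleRing.isIsotypic R (W × C) m₂ m₁
    let f : S ≃ₗ[R] C := e₁ ≪≫ₗ f₁₂ ≪≫ₗ e₂.symm
    have hd : Module.finrank k S = Module.finrank k C := (f.restrictScalars k).finrank_eq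
    haveI : Module.Finite k S :=
      Module.Finite.of_injective (S.subtype.restrictScalars k) S.subtype_injective
    have hW' : Module.finrank k W = n * Module.finrank k S := by
      rw [(e.restrictScalars k).finrank_eq, Module.finrank_pi_fintype, Finset.sum_const,
        Finset.card_univ, Fintype.card_fin, smul_eq_mul]
    rw [hW', hd]
    exact dvd_mul_left _ _

/-- Representation form of `H6_simple_finrank_dvd`. -/
theorem H6_finrank_dvd_of_rep (k : Type u) [Field k] {S : Type w} [Ring S] [Algebra k S]
    [IsSimpleRing S] [FiniteDimensional k S]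
    {C : Type v} [AddCommGroup C] [Module k C] [Nontrivial C]
    (ρC : S →ₐ[k] Module.End k C)
    (hC : ∀ N : Submodule k C, (∀ s, ∀ v ∈ N, ρC s v ∈ N) → N = ⊥ ∨ N = ⊤)
    {W : Type w'} [AddCommGroup W] [Module k W] [FiniteDimensional k W]
    (ρW : S →ₐ[k] Module.End k W) :
    Module.finrank k C ∣ Module.finrank k W := by
  letI : Module S C := Module.compHom C ρC.toRingHom
  letI : Module S W := Module.compHom W ρW.toRingHom
  have hsC : ∀ (s : S) (v : C), s • v = ρC s v := fun s v => rfl
  have hsW : ∀ (s : S) (v : W), s • v = ρW s v := fun s v => rfl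
  haveI : IsScalarTower k S C := ⟨fun r s v => by rw [hsC, hsC, map_smul]; rfl⟩
  haveI : IsScalarTower k S W := ⟨fun r s v => by rw [hsW, hsW, map_smul]; rfl⟩
  haveI : IsSimpleModule S C := by
    rw [isSimpleModule_iff]
    refine { toNontrivial := inferInstance, eq_bot_or_eq_top := ?_ }
    intro N
    rcases hC (N.restrictScalars k) (fun s v hv => N.smul_mem s hv) with h | h
    · left
      exact (Submodule.restrictScalars_eq_bot_iff k S C).1 h
    · right
      exact (Submodule.restrictScalars_eq_top_iff k S C).1 h
  exact H6_simple_finrank_dvd (R := S) k C W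

section Col

variable (k : Type u) [Field k] (D : Type v) [Ring D] [Algebra k D] (m : ℕ)

/-- The column representation of a matrix algebra. -/
noncomputable def H6_colRep : Matrix (Fin m) (Fin m) D →ₐ[k] Module.End k (Fin m → D) where
  toFun M :=
    { toFun := fun v => M.mulVec v
      map_add' := Matrix.mulVec_add M
      map_smul' := fun r v => Matrix.mulVec_smul M r v }
  map_one' := by
    apply LinearMap.ext
    intro v
    exact Matrix.one_mulVec v
  map_mul' M N := by
    apply LinearMap.ext
    intro v
    exact (Matrix.mulVec_mulVec v M N).symm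
  map_zero' := by
    apply LinearMap.ext
    intro v
    exact Matrix.zero_mulVec v
  map_add' M N := by
    apply LinearMap.ext
    intro v
    exact Matrix.add_mulVec M N v
  commutes' r := by
    apply LinearMap.ext
    intro v
    ext i
    show ((algebraMap k (Matrix (Fin m) (Fin m) D) r).mulVec v) i = r • v i
    rw [Matrix.algebraMap_eq_diagonal, Matrix.mulVec_diagonal]
    simp [Algebra.smul_def]

theorem H6_colRep_apply (M : Matrix (Fin m) (Fin m) D) (v : Fin m → D) :
    H6_colRep k D m M v = M.mulVec v := rfl

end Col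

section ColSimple

variable (k : Type u) [Field k] (D : Type v) [DivisionRing D] [Algebra k D] (m : ℕ)

theorem H6_colRep_simple (N : Submodule k (Fin m → D))
    (hN : ∀ M : Matrix (Fin m) (Fin m) D, ∀ v ∈ N, H6_colRep k D m M v ∈ N) : N = ⊥ ∨ N = ⊤ := by
  classical
  by_cases h : N = ⊥
  · exact Or.inl h
  · right
    obtain ⟨v, hv, hv0⟩ := (Submodule.ne_bot_iff N).1 h
    obtain ⟨j, hj⟩ : ∃ j, v j ≠ 0 := by
      by_contra hcon
      push_neg at hcon
      exact hv0 (funext hcon)
    rw [eq_top_iff]
    intro w _
    have := hN (Matrix.of fun i j' => if j' = j then w i * (v j)⁻¹ else 0) v hv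
    convert this using 1
    ext i
    rw [H6_colRep_apply, Matrix.mulVec, dotProduct]
    simp only [Matrix.of_apply]
    rw [Finset.sum_eq_single j]
    · rw [if_pos rfl, mul_assoc, inv_mul_cancel₀ hj, mul_one]
    · intro j' _ hne
      rw [if_neg hne, zero_mul]
    · intro hj'
      exact absurd (Finset.mem_univ j) hj'

end ColSimple

section WU

variable {k : Type u} [Field k]

/-- Uniqueness in Wedderburn's theorem, dimension form. -/
theorem H6_wedderburn_unique_dim {D : Type v} [DivisionRing D] [Algebra k D] [FiniteDimensional k D]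
    {D' : Type w} [DivisionRing D'] [Algebra k D'] [FiniteDimensional k D']
    (p q : ℕ) (hp : p ≠ 0) (hq : q ≠ 0)
    (e : Matrix (Fin p) (Fin p) D ≃ₐ[k] Matrix (Fin q) (Fin q) D') :
    p = q ∧ Module.finrank k D = Module.finrank k D' := by
  classical
  haveI : NeZero p := ⟨hp⟩
  haveI : NeZero q := ⟨hq⟩
  haveI : Nonempty (Fin p) := ⟨0⟩
  haveI : Nonempty (Fin q) := ⟨0⟩
  haveI : Nontrivial (Fin p → D) := Function.nontrivial
  haveI : Nontrivial (Fin q → D') := Function.nontrivial
  have h1 : Module.finrank k (Fin p → D) ∣ Module.finrank k (Fin q → D') :=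
    H6_finrank_dvd_of_rep k (H6_colRep k D p) (H6_colRep_simple k D p)
      ((H6_colRep k D' q).comp e.toAlgHom)
  have h2 : Module.finrank k (Fin q → D') ∣ Module.finrank k (Fin p → D) :=
    H6_finrank_dvd_of_rep k (H6_colRep k D' q) (H6_colRep_simple k D' q)
      ((H6_colRep k D p).comp e.symm.toAlgHom)
  have h3 := Nat.dvd_antisymm h1 h2
  rw [Module.finrank_pi_fintype, Module.finrank_pi_fintype, Finset.sum_const, Finset.sum_const,
    Finset.card_univ, Finset.card_univ, Fintype.card_fin, Fintype.card_fin, smul_eq_mul,
    smul_eq_mul] at h3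
  have h4 := e.toLinearEquiv.finrank_eq
  rw [Module.finrank_matrix, Module.finrank_matrix, Fintype.card_fin, Fintype.card_fin] at h4
  have hD : 0 < Module.finrank k D := Module.finrank_pos
  have hD' : 0 < Module.finrank k D' := Module.finrank_pos
  have hpq : p = q := by
    have h5 : p * (p * Module.finrank k D) = q * (q * Module.finrank k D') := by
      rw [← mul_assoc, ← mul_assoc]; exact h4
    rw [h3] at h5
    exact Nat.eq_of_mul_eq_mul_right (Nat.mul_pos (Nat.pos_of_ne_zero hq) hD') h5
  refine ⟨hpq, ?_⟩
  subst hpq
  exact Nat.eq_of_mul_eq_mul_left (Nat.pos_of_ne_zero hp) h3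

end WU

end Groth.Agent.Lib.helper6
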