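import Mathlib
import Groth.Agent.Lib.helper6.CSATensor
import Groth.Prelude.Def_Curves

set_option autoImplicit false
universe u v w

open scoped TensorProduct

namespace Groth.Agent.Lib.helper6

/-- `A` as a `K`-vector space through right multiplication by `ι`. -/
def H6_RMod {k : Type u} {K : Type v} {A : Type w} [Field k] [Field K] [Algebra k K] [Ring A]
    [Algebra k A] (_ι : K →ₐ[k] A) : Type w := A

namespace H6_RMod

variable {k : Type u} {K : Type v} {A : Type w} [Field k] [Field K] [Algebra k K] [Ring A]
    [Algebra k A] (ι : K →ₐ[k] A)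

instance : AddCommGroup (H6_RMod ι) := inferInstanceAs (AddCommGroup A)
instance : Module k (H6_RMod ι) := inferInstanceAs (Module k A)

/-- The identity map. -/
def mk (a : A) : H6_RMod ι := a
/-- The identity map. -/
def out (x : H6_RMod ι) : A := x

instance : Module K (H6_RMod ι) where
  smul x v := mk ι (out ι v * ι x)
  one_smul v := by show out ι v * ι 1 = v; rw [map_one, mul_one]; rfl
  mul_smul x x' v := by
    show out ι v * ι (x * x') = (out ι v * ι x') * ι x
    rw [mul_comm x x', map_mul, mul_assoc]
  smul_zero x := by show (0 : A) * ι x = 0; rw [zero_mul]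
  smul_add x v w := by show (out ι v + out ι w) * ι x = out ι v * ι x + out ι w * ι x; rw [add_mul]
  add_smul x x' v := by
    show out ι v * ι (x + x') = out ι v * ι x + out ι v * ι x'
    rw [map_add, mul_add]
  zero_smul v := by show out ι v * ι 0 = 0; rw [map_zero, mul_zero]

theorem smul_def (x : K) (v : H6_RMod ι) : x • v = mk ι (out ι v * ι x) := rfl

instance : IsScalarTower k K (H6_RMod ι) where
  smul_assoc c x v := by
    show out ι v * ι (c • x) = c • (out ι v * ι x)
    rw [map_smul, mul_smul_comm]

instance : SMulCommClass K k (H6_RMod ι) where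
  smul_comm x c v := by
    show (c • out ι v) * ι x = c • (out ι v * ι x)
    rw [smul_mul_assoc]

instance [FiniteDimensional k A] : FiniteDimensional k (H6_RMod ι) :=
  inferInstanceAs (FiniteDimensional k A)

/-- Left multiplication as a `K`-linear endomorphism. -/
def leftMul : A →ₐ[k] Module.End K (H6_RMod ι) where
  toFun a :=
    { toFun := fun v => mk ι (a * out ι v)
      map_add' := fun v w => by show a * (out ι v + out ι w) = a * out ι v + a * out ι w; rw [mul_add]
      map_smul' := fun x v => by
        show a * (out ι v * ι x) = (a * out ι v) * ι x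
        rw [mul_assoc] }
  map_one' := by ext v; show (1 : A) * out ι v = v; rw [one_mul]; rfl
  map_mul' a b := by ext v; show (a * b) * out ι v = a * (b * out ι v); rw [mul_assoc]
  map_zero' := by ext v; show (0 : A) * out ι v = 0; rw [zero_mul]
  map_add' a b := by ext v; show (a + b) * out ι v = a * out ι v + b * out ι v; rw [add_mul]
  commutes' c := by
    ext v
    show algebraMap k A c * out ι v = c • out ι v
    rw [Algebra.smul_def]

theorem leftMul_apply (a : A) (v : H6_RMod ι) : leftMul ι a v = mk ι (a * out ι v) := rfl

end H6_RMod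

/-- A subfield of degree `m` in a central simple algebra of dimension `m²` splits it. -/
theorem H6_splits_of_subfield {k : Type u} {K : Type v} {A : Type w} [Field k] [Field K]
    [Algebra k K] [Ring A] [Algebra k A] [Algebra.IsCentral k A] [IsSimpleRing A]
    [FiniteDimensional k A] [FiniteDimensional k K] (ι : K →ₐ[k] A)
    (hdim : Module.finrank k A = Module.finrank k K ^ 2) : Curves.Splits k A K := by
  classical
  have hm : 0 < Module.finrank k K := Module.finrank_pos
  haveI : IsSimpleRing (A ⊗[k] K) := H6_isSimpleRing_tensor
  haveI : IsSimpleRing (K ⊗[k] A) :=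
    IsSimpleRing.of_ringEquiv (Algebra.TensorProduct.comm k A K).toRingEquiv inferInstance
  haveI : Module.Finite K (H6_RMod ι) := Module.Finite.of_restrictScalars_finite k K _
  -- dimension of V over K
  have hV : Module.finrank K (H6_RMod ι) = Module.finrank k K := by
    have h1 : Module.finrank k K * Module.finrank K (H6_RMod ι) = Module.finrank k (H6_RMod ι) :=
      Module.finrank_mul_finrank k K (H6_RMod ι)
    have h2 : Module.finrank k (H6_RMod ι) = Module.finrank k A := rfl
    rw [h2, hdim, pow_two] at h1
    exact Nat.eq_of_mul_eq_mul_left hm h1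
  let Ψ : K ⊗[k] A →ₐ[K] Module.End K (H6_RMod ι) :=
    Algebra.TensorProduct.lift (Algebra.ofId K _) (H6_RMod.leftMul ι)
      (fun x a => Algebra.commute_algebraMap_left x _)
  haveI : Nontrivial (H6_RMod ι) := Module.nontrivial_of_finrank_pos (R := K) (by rw [hV]; exact hm)
  haveI : Nontrivial (Module.End K (H6_RMod ι)) := inferInstance
  have hinj : Function.Injective Ψ := RingHom.injective Ψ.toRingHom
  have hd1 : Module.finrank K (K ⊗[k] A) = Module.finrank k K ^ 2 := by
    rw [Module.finrank_baseChange, hdim]
  have hd2 : Module.finrank K (Module.End K (H6_RMod ι)) = Module.finrank k K ^ 2 := by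
    have := Module.finrank_linearMap K K (H6_RMod ι) (H6_RMod ι)
    rw [hV] at this
    rw [pow_two]
    exact this
  have hbij : Function.Bijective Ψ :=
    ⟨hinj, (LinearMap.injective_iff_surjective_of_finrank_eq_finrank (f := Ψ.toLinearMap)
      (hd1.trans hd2.symm)).1 hinj⟩
  let b : Module.Basis (Fin (Module.finrank k K)) K (H6_RMod ι) :=
    (Module.finBasis K (H6_RMod ι)).reindex (finCongr hV)
  exact ⟨Module.finrank k K, hm.ne',
    ⟨(AlgEquiv.ofBijective Ψ hbij).trans (algEquivMatrix b)⟩⟩

end Groth.Agent.Lib.helper6
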