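import Mathlib
import Groth.Prelude.Def_GSzCSA
import Groth.Agent.Lib.helper6.SplitCalc
import Groth.Agent.Lib.helper6.SimpleDim
import Groth.Agent.Lib.helper6.MaxSubfield
import Groth.Agent.Lib.helper6.SplitSubfield

set_option autoImplicit false
set_option linter.style.haveILetI false
universe u v w w'

open scoped TensorProduct

namespace Groth.Agent.Lib.helper6

section

variable {k : Type u} [Field k]

/-- The dimension of a central simple algebra is a square. -/
theorem H6_csa_finrank_sq (A : Type v) [Ring A] [Algebra k A] [Algebra.IsCentral k A]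
    [IsSimpleRing A] [FiniteDimensional k A] : ∃ n : ℕ, n ≠ 0 ∧ Module.finrank k A = n ^ 2 := by
  obtain ⟨m, hm, ⟨e⟩⟩ := H6_split_baseChange_sepClosed (k := k) (A := A) (SeparableClosure k)
  refine ⟨m, hm, ?_⟩
  have := e.toLinearEquiv.finrank_eq
  rw [Module.finrank_baseChange, Module.finrank_matrix, Module.finrank_self, Fintype.card_fin,
    mul_one] at this
  rw [this, pow_two]

/-- Every central simple algebra has an index. -/
theorem H6_exists_isIndex (A : Type v) [Ring A] [Algebra k A] [Algebra.IsCentral k A]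
    [IsSimpleRing A] [FiniteDimensional k A] : ∃ d : ℕ, CSAGal.IsIndex k A d := by
  classical
  haveI := IsArtinianRing.of_finite k A
  obtain ⟨n, hn, D, _, _, _, ⟨e⟩⟩ := IsSimpleRing.exists_algEquiv_matrix_divisionRing_finite k A
  haveI : Algebra.IsCentral k (Matrix (Fin n) (Fin n) D) := H6_isCentral_of_algEquiv e
  haveI : Algebra.IsCentral k D := H6_isCentral_of_matrix n
  obtain ⟨d, hd0, hd⟩ := H6_csa_finrank_sq (k := k) D
  exact ⟨d, Nat.pos_of_ne_zero hd0, n, D, inferInstance, inferInstance,
    Nat.pos_of_ne_zero hn.out, hd, ⟨e⟩⟩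

theorem H6_isIndex_unique {A : Type v} [Ring A] [Algebra k A] {d d' : ℕ}
    (h : CSAGal.IsIndex k A d) (h' : CSAGal.IsIndex k A d') : d = d' := by
  obtain ⟨hd0, m, D, _, _, hm, hd, ⟨e⟩⟩ := h
  obtain ⟨hd0', m', D', _, _, hm', hd', ⟨e'⟩⟩ := h'
  haveI : FiniteDimensional k D := Module.finite_of_finrank_pos (by rw [hd]; positivity)
  haveI : FiniteDimensional k D' := Module.finite_of_finrank_pos (by rw [hd']; positivity)
  obtain ⟨-, h2⟩ := H6_wedderburn_unique_dim m m' hm.ne' hm'.ne' (e.symm.trans e')
  rw [hd, hd'] at h2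
  exact Nat.pow_left_injective (by norm_num : 2 ≠ 0) h2

/-- Every finite-dimensional module over a central simple algebra of degree `n` and index `d` has
dimension divisible by `n * d`. -/
theorem H6_isIndex_rep_dvd {A : Type v} [Ring A] [Algebra k A] [IsSimpleRing A]
    [FiniteDimensional k A] {d : ℕ} (h : CSAGal.IsIndex k A d) (n : ℕ)
    (hn : Module.finrank k A = n ^ 2)
    {W : Type w} [AddCommGroup W] [Module k W] [FiniteDimensional k W]
    (ρ : A →ₐ[k] Module.End k W) : n * d ∣ Module.finrank k W := by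
  classical
  obtain ⟨hd0, m, D, _, _, hm, hd, ⟨e⟩⟩ := h
  haveI : NeZero m := ⟨hm.ne'⟩
  haveI : Nonempty (Fin m) := ⟨0⟩
  haveI : Nontrivial (Fin m → D) := Function.nontrivial
  haveI : FiniteDimensional k D := Module.finite_of_finrank_pos (by rw [hd]; positivity)
  have h1 : Module.finrank k (Fin m → D) ∣ Module.finrank k W := by
    refine H6_finrank_dvd_of_rep k ((H6_colRep k D m).comp e.toAlgHom) ?_ ρ
    intro N hN
    refine H6_colRep_simple k D m N ?_
    intro M v hv
    have := hN (e.symm M) v hv
    rw [AlgHom.comp_apply] at this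
    simpa using this
  rw [Module.finrank_pi_fintype, Finset.sum_const, Finset.card_univ, Fintype.card_fin, smul_eq_mul,
    hd] at h1
  have h2 := e.toLinearEquiv.finrank_eq
  rw [hn, Module.finrank_matrix, Fintype.card_fin, hd] at h2
  have h3 : n = m * d := by
    have : n ^ 2 = (m * d) ^ 2 := by rw [h2]; ring
    exact Nat.pow_left_injective (by norm_num : 2 ≠ 0) this
  rw [h3]
  have : m * d * d = m * d ^ 2 := by ring
  rw [this]
  exact h1

/-- The index divides the degree of every finite splitting field. -/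
theorem H6_index_dvd_of_splits {A : Type v} [Ring A] [Algebra k A] [Algebra.IsCentral k A]
    [IsSimpleRing A] [FiniteDimensional k A] {d : ℕ} (h : CSAGal.IsIndex k A d)
    (L : Type w) [Field L] [Algebra k L] [FiniteDimensional k L] (hL : Curves.Splits k A L) :
    d ∣ Module.finrank k L := by
  classical
  obtain ⟨n, hn0, hn⟩ := H6_csa_finrank_sq (k := k) A
  obtain ⟨r, hr, ⟨ψ⟩⟩ := hL
  have h1 := ψ.toLinearEquiv.finrank_eq
  rw [Module.finrank_baseChange, Module.finrank_matrix, Module.finrank_self, Fintype.card_fin,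
    mul_one, hn, ← pow_two] at h1
  have hrn : n = r := Nat.pow_left_injective (by norm_num : 2 ≠ 0) h1
  subst hrn
  have h2 := H6_isIndex_rep_dvd h n hn (W := Fin n → L)
    (((H6_colRep k L n).comp (ψ.toAlgHom.restrictScalars k)).comp
      (Algebra.TensorProduct.includeRight : A →ₐ[k] L ⊗[k] A))
  rw [Module.finrank_pi_fintype, Finset.sum_const, Finset.card_univ, Fintype.card_fin,
    smul_eq_mul] at h2
  exact Nat.dvd_of_mul_dvd_mul_left (Nat.pos_of_ne_zero hn0) h2

/-- Every finite-dimensional module over `A ≃ M_m(D)` has dimension divisible by `m * dim D`. -/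
theorem H6_matrix_rep_dvd {A : Type v} [Ring A] [Algebra k A] [IsSimpleRing A]
    [FiniteDimensional k A] {D : Type w'} [DivisionRing D] [Algebra k D] (m : ℕ) (hm : m ≠ 0)
    (e : A ≃ₐ[k] Matrix (Fin m) (Fin m) D)
    {W : Type w} [AddCommGroup W] [Module k W] [FiniteDimensional k W]
    (ρ : A →ₐ[k] Module.End k W) : m * Module.finrank k D ∣ Module.finrank k W := by
  classical
  haveI : NeZero m := ⟨hm⟩
  haveI : Nonempty (Fin m) := ⟨0⟩
  haveI : Nontrivial (Fin m → D) := Function.nontrivial
  haveI : FiniteDimensional k D := by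
    refine Module.Finite.of_surjective
      ((Matrix.entryLinearMap k D (0 : Fin m) (0 : Fin m)).comp e.toLinearMap) ?_
    intro x
    refine ⟨e.symm (Matrix.of fun _ _ => x), ?_⟩
    simp
  have h1 : Module.finrank k (Fin m → D) ∣ Module.finrank k W := by
    refine H6_finrank_dvd_of_rep k ((H6_colRep k D m).comp e.toAlgHom) ?_ ρ
    intro N hN
    refine H6_colRep_simple k D m N ?_
    intro M v hv
    have := hN (e.symm M) v hv
    rw [AlgHom.comp_apply] at this
    simpa using this
  rw [Module.finrank_pi_fintype, Finset.sum_const, Finset.card_univ, Fintype.card_fin,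
    smul_eq_mul] at h1
  exact h1

/-- An algebra of index `d` has a splitting field of degree `d`. -/
theorem H6_exists_splitting_of_isIndex {A : Type v} [Ring A] [Algebra k A] [Algebra.IsCentral k A]
    [IsSimpleRing A] [FiniteDimensional k A] {d : ℕ} (h : CSAGal.IsIndex k A d) :
    ∃ (L : Type v) (_ : Field L) (_ : Algebra k L) (_ : FiniteDimensional k L),
      Module.finrank k L = d ∧ Curves.Splits k A L := by
  classical
  obtain ⟨hd0, m, D, _, _, hm, hd, ⟨e⟩⟩ := h
  haveI : NeZero m := ⟨hm.ne'⟩
  haveI : FiniteDimensional k D := Module.finite_of_finrank_pos (by rw [hd]; positivity)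
  haveI : Algebra.IsCentral k (Matrix (Fin m) (Fin m) D) := H6_isCentral_of_algEquiv e
  haveI : Algebra.IsCentral k D := H6_isCentral_of_matrix m
  obtain ⟨L, _, _, _, hL, ⟨ι⟩⟩ := H6_exists_maximal_subfield (k := k) (D := D) d hd
  refine ⟨L, inferInstance, inferInstance, inferInstance, hL, ?_⟩
  have h1 : Curves.Splits k D L := H6_splits_of_subfield ι (by rw [hd, hL])
  have h2 : H6_BrEq k D A :=
    ((H6_BrEq.of_algEquiv e).trans (H6_BrEq.matrix D m hm.ne')).symm
  exact H6_splits_of_brEq h2 h1

end

end Groth.Agent.Lib.helper6
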