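import Mathlib
import Groth.Prelude.Def_Curves
import Groth.Agent.Lib.helper6.GaloisTower
import Groth.Agent.Lib.helper6.SepClosedSplit
import Groth.Agent.Lib.helper6.CSADescent

set_option autoImplicit false
set_option linter.style.haveILetI false
universe u

open scoped TensorProduct

namespace Groth.Agent.Lib.helper6

section AtoB

/-- a central division algebra of dimension one over `F'` ... split criterion. -/
theorem H6_splits_of_brauer_trivial {F' : Type u} [Field F']
    (ha : ∀ (D : Type u) [DivisionRing D] [Algebra F' D] [Algebra.IsCentral F' D]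
      [FiniteDimensional F' D], Module.finrank F' D = 1)
    (B : Type u) [Ring B] [Algebra F' B] [Algebra.IsCentral F' B] [IsSimpleRing B]
    [FiniteDimensional F' B] :
    ∃ m : ℕ, m ≠ 0 ∧ Nonempty (B ≃ₐ[F'] Matrix (Fin m) (Fin m) F') := by
  classical
  haveI := IsArtinianRing.of_finite F' B
  obtain ⟨n, hn, D, _, _, _, ⟨e⟩⟩ := IsSimpleRing.exists_algEquiv_matrix_divisionRing_finite F' B
  haveI : Algebra.IsCentral F' (Matrix (Fin n) (Fin n) D) :=
    Algebra.IsCentral.of_algEquiv F' _ _ e
  haveI : Algebra.IsCentral F' D := H6_isCentral_of_matrix n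
  have h1 := ha D
  have htop : (⊥ : Subalgebra F' D) = ⊤ := Subalgebra.bot_eq_top_of_finrank_eq_one h1
  have hbij : Function.Bijective (Algebra.ofId F' D) := by
    constructor
    · exact (algebraMap F' D).injective
    · intro d
      have : d ∈ (⊥ : Subalgebra F' D) := by rw [htop]; trivial
      exact this
  exact ⟨n, hn.out, ⟨e.trans (AlgEquiv.mapMatrix (AlgEquiv.ofBijective _ hbij).symm)⟩⟩

theorem H6_cd_a_to_b
    (K F : Type u) [Field K] [Field F] [Algebra K F]
    (ha : ∀ (F' : Type u) [Field F'] [Algebra F F'] [FiniteDimensional F F']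
        [Algebra.IsSeparable F F']
        (D : Type u) [DivisionRing D] [Algebra F' D] [Algebra.IsCentral F' D]
        [FiniteDimensional F' D], Module.finrank F' D = 1)
    (E : Type u) [Field E] [Algebra K E] [FiniteDimensional K E] [Algebra.IsSeparable K E]
    (D : Type u) [DivisionRing D] [Algebra E D] [Algebra.IsCentral E D] [FiniteDimensional E D]
    (M : Type u) [Field M] [Algebra K M] [Algebra E M] [Algebra F M] [IsScalarTower K E M]
    [IsScalarTower K F M] :
    ∃ n : ℕ, Nonempty ((M ⊗[E] D) ≃ₐ[M] Matrix (Fin n) (Fin n) M) := by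
  classical
  obtain ⟨bE, hbE⟩ : ∃ bE : Module.Basis (Fin (Module.finrank K E)) K E, bE = Module.finBasis K E :=
    ⟨_, rfl⟩
  obtain ⟨S, hS⟩ : ∃ S : Set M, S = Set.range (fun i => algebraMap E M (bE i)) := ⟨_, rfl⟩
  haveI : Finite S := by rw [hS]; exact Set.finite_range _
  have hint : ∀ x ∈ S, IsIntegral F x := by
    rintro x hx
    rw [hS] at hx
    obtain ⟨i, rfl⟩ := hx
    have h1 : IsIntegral K (bE i) := Algebra.IsIntegral.isIntegral _
    have h2 : IsIntegral K (algebraMap E M (bE i)) := h1.map (IsScalarTower.toAlgHom K E M)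
    exact h2.tower_top
  have hsep : ∀ x ∈ S, IsSeparable F x := by
    rintro x hx
    rw [hS] at hx
    obtain ⟨i, rfl⟩ := hx
    have h1 : IsSeparable K (bE i) := Algebra.IsSeparable.isSeparable K _
    have h2 : IsSeparable K (algebraMap E M (bE i)) := by
      have := h1.map (f := IsScalarTower.toAlgHom K E M) (algebraMap E M).injective
      exact this
    exact h2.tower_top F
  obtain ⟨F', hF'⟩ : ∃ F' : IntermediateField F M, F' = IntermediateField.adjoin F S := ⟨_, rfl⟩
  haveI : FiniteDimensional F F' := by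
    rw [hF']; exact IntermediateField.finiteDimensional_adjoin hint
  haveI : Algebra.IsSeparable F F' := by
    rw [hF']; exact (IntermediateField.isSeparable_adjoin_iff_isSeparable F M).2 hsep
  have hEF' : ∀ e : E, algebraMap E M e ∈ F' := by
    intro e
    rw [← bE.sum_repr e, map_sum]
    refine sum_mem fun i _ => ?_
    rw [Algebra.smul_def, map_mul, ← IsScalarTower.algebraMap_apply K E M,
      IsScalarTower.algebraMap_apply K F M]
    refine mul_mem (F'.algebraMap_mem _) ?_
    rw [hF']
    exact IntermediateField.subset_adjoin F S (by rw [hS]; exact ⟨i, rfl⟩)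
  letI : Algebra E F' := ((algebraMap E M).codRestrict F' hEF').toAlgebra
  haveI : IsScalarTower E F' M := IsScalarTower.of_algebraMap_eq (fun x => rfl)
  haveI : Algebra.IsCentral F' (F' ⊗[E] D) := H6_isCentral_baseChange
  haveI : IsSimpleRing (F' ⊗[E] D) := H6_isSimpleRing_baseChange
  have hsp : Curves.Splits E D F' :=
    H6_splits_of_brauer_trivial (F' := F') (fun D' _ _ _ _ => ha F' D') (F' ⊗[E] D)
  obtain ⟨n, -, hn⟩ := H6_splits_of_tower (L' := M) hsp
  exact ⟨n, hn⟩

end AtoB

section BtoA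

lemma H6_matrix_noZeroDiv {R : Type*} [Ring R] [Nontrivial R] (m : ℕ)
    (h : ∀ x y : Matrix (Fin m) (Fin m) R, x * y = 0 → x = 0 ∨ y = 0) : m ≤ 1 := by
  classical
  by_contra hcon
  push Not at hcon
  have h0 : (⟨0, by omega⟩ : Fin m) ≠ ⟨1, by omega⟩ := by
    intro h; have := congrArg Fin.val h; simp at this
  have hne : ∀ i : Fin m, Matrix.single i i (1 : R) ≠ 0 := by
    intro i hi
    have := congrFun (congrFun hi i) i
    simp at this
  have hz : Matrix.single (⟨0, by omega⟩ : Fin m) (⟨0, by omega⟩ : Fin m) (1 : R) *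
      Matrix.single (⟨1, by omega⟩ : Fin m) (⟨1, by omega⟩ : Fin m) (1 : R) = 0 :=
    Matrix.single_mul_single_of_ne _ _ _ _ h0 _
  rcases h _ _ hz with h1 | h1
  · exact hne _ h1
  · exact hne _ h1

theorem H6_cd_b_to_a
    (K F : Type u) [Field K] [Field F] [Algebra K F] [Algebra.IsSeparable K F]
    (hb : ∀ (E : Type u) [Field E] [Algebra K E] [FiniteDimensional K E] [Algebra.IsSeparable K E]
        (D : Type u) [DivisionRing D] [Algebra E D] [Algebra.IsCentral E D] [FiniteDimensional E D]
        (M : Type u) [Field M] [Algebra K M] [Algebra E M] [Algebra F M] [IsScalarTower K E M]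
        [IsScalarTower K F M],
        ∃ n : ℕ, Nonempty ((M ⊗[E] D) ≃ₐ[M] Matrix (Fin n) (Fin n) M))
    (F' : Type u) [Field F'] [Algebra F F'] [FiniteDimensional F F'] [Algebra.IsSeparable F F']
    (D : Type u) [DivisionRing D] [Algebra F' D] [Algebra.IsCentral F' D]
    [FiniteDimensional F' D] : Module.finrank F' D = 1 := by
  classical
  letI : Algebra K F' := ((algebraMap F F').comp (algebraMap K F)).toAlgebra
  haveI : IsScalarTower K F F' := IsScalarTower.of_algebraMap_eq (fun _ => rfl)
  haveI : Algebra.IsSeparable K F' := Algebra.IsSeparable.trans K F F'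
  obtain ⟨N, hN⟩ : ∃ N : ℕ, N = Module.finrank F' D := ⟨_, rfl⟩
  obtain ⟨b, -⟩ : ∃ b : Module.Basis (Fin N) F' D, b = b := ⟨hN ▸ Module.finBasis F' D, rfl⟩
  obtain ⟨S, hS⟩ : ∃ S : Set F', S = (Set.range fun ijk : Fin N × Fin N × Fin N =>
      b.repr (b ijk.1 * b ijk.2.1) ijk.2.2) ∪ Set.range (fun k => b.repr 1 k) := ⟨_, rfl⟩
  haveI : Finite S := by
    rw [hS]; exact (Set.finite_union.2 ⟨Set.finite_range _, Set.finite_range _⟩)
  obtain ⟨E, hE⟩ : ∃ E : IntermediateField K F', E = IntermediateField.adjoin K S := ⟨_, rfl⟩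
  haveI : FiniteDimensional K E := by
    rw [hE]
    exact IntermediateField.finiteDimensional_adjoin (fun x _ => Algebra.IsIntegral.isIntegral x)
  haveI : Algebra.IsSeparable K E := Algebra.isSeparable_tower_bot_of_isSeparable K E F'
  have hc : ∀ i j k, b.repr (b i * b j) k ∈ E := by
    intro i j k
    rw [hE]
    exact IntermediateField.subset_adjoin K S (by rw [hS]; exact Or.inl ⟨(i, j, k), rfl⟩)
  have hu : ∀ k, b.repr 1 k ∈ E := by
    intro k
    rw [hE]
    exact IntermediateField.subset_adjoin K S (by rw [hS]; exact Or.inr ⟨k, rfl⟩)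
  have hsm : ∀ (e : E) (d : D), e • d = (e : F') • d := fun e d => rfl
  -- the E-form of D
  have h_one : (1 : D) ∈ Submodule.span E (Set.range b) := by
    rw [← b.sum_repr 1]
    refine Submodule.sum_mem _ fun k _ => ?_
    have : b.repr 1 k • b k = (⟨b.repr 1 k, hu k⟩ : E) • b k := rfl
    rw [this]
    exact Submodule.smul_mem _ _ (Submodule.subset_span ⟨k, rfl⟩)
  have h_mul : ∀ x y : D, x ∈ Submodule.span E (Set.range b) →
      y ∈ Submodule.span E (Set.range b) → x * y ∈ Submodule.span E (Set.range b) := by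
    intro x y hx hy
    have h1 := Submodule.mul_mem_mul hx hy
    rw [Submodule.span_mul_span] at h1
    refine (Submodule.span_le.2 ?_) h1
    rintro _ ⟨_, ⟨i, rfl⟩, _, ⟨j, rfl⟩, rfl⟩
    beta_reduce
    rw [SetLike.mem_coe, ← b.sum_repr (b i * b j)]
    refine Submodule.sum_mem _ fun k _ => ?_
    have : b.repr (b i * b j) k • b k = (⟨b.repr (b i * b j) k, hc i j k⟩ : E) • b k := rfl
    rw [this]
    exact Submodule.smul_mem _ _ (Submodule.subset_span ⟨k, rfl⟩)
  obtain ⟨D₀, hD₀⟩ : ∃ D₀ : Subalgebra E D,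
      D₀ = (Submodule.span E (Set.range b)).toSubalgebra h_one h_mul := ⟨_, rfl⟩
  have hD₀sub : Subalgebra.toSubmodule D₀ = Submodule.span E (Set.range b) := by
    rw [hD₀, Submodule.toSubalgebra_toSubmodule]
  have hbmem : ∀ i, b i ∈ D₀ := by
    intro i
    have : b i ∈ Subalgebra.toSubmodule D₀ := by
      rw [hD₀sub]; exact Submodule.subset_span ⟨i, rfl⟩
    exact this
  haveI : Module.Finite E D₀ := by
    have : Module.Finite E (Subalgebra.toSubmodule D₀) := by
      rw [hD₀sub]; exact Module.Finite.span_of_finite E (Set.finite_range b)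
    exact this
  have hrank : Module.finrank E D₀ ≤ N := by
    rw [← Subalgebra.finrank_toSubmodule, hD₀sub]
    exact (finrank_range_le_card (R := E) (b : Fin N → D)).trans (by simp)
  -- comparison map
  obtain ⟨φ, hφ⟩ : ∃ φ : F' ⊗[E] D₀ →ₐ[F'] D, φ = Algebra.TensorProduct.lift
      (Algebra.ofId F' D) D₀.val (fun x y => Algebra.commutes x _) := ⟨_, rfl⟩
  have hφt : ∀ (x : F') (d : D₀), φ (x ⊗ₜ d) = x • (d : D) := by
    intro x d
    rw [hφ, Algebra.TensorProduct.lift_tmul, Algebra.ofId_apply, Algebra.smul_def]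
    rfl
  have hsurj : Function.Surjective φ := by
    intro d
    refine ⟨∑ k, b.repr d k ⊗ₜ[E] (⟨b k, hbmem k⟩ : D₀), ?_⟩
    rw [map_sum]
    simp only [hφt]
    exact b.sum_repr d
  have hinj : Function.Injective φ := by
    have h1 : Module.finrank F' (F' ⊗[E] D₀) = Module.finrank E D₀ := Module.finrank_baseChange
    have h2 : Module.finrank F' D ≤ Module.finrank F' (F' ⊗[E] D₀) :=
      LinearMap.finrank_le_finrank_of_surjective (f := φ.toLinearMap) hsurj
    have h3 : Module.finrank F' (F' ⊗[E] D₀) = Module.finrank F' D := by omega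
    exact (LinearMap.injective_iff_surjective_of_finrank_eq_finrank
      (f := φ.toLinearMap) h3).2 hsurj
  obtain ⟨e⟩ : Nonempty (F' ⊗[E] D₀ ≃ₐ[F'] D) := ⟨AlgEquiv.ofBijective φ ⟨hinj, hsurj⟩⟩
  haveI : IsSimpleRing (F' ⊗[E] D₀) := IsSimpleRing.of_ringEquiv e.symm.toRingEquiv inferInstance
  haveI : Algebra.IsCentral F' (F' ⊗[E] D₀) := Algebra.IsCentral.of_algEquiv F' _ _ e.symm
  haveI : IsSimpleRing D₀ := H6_isSimpleRing_of_baseChange (k := E) (K := F')
  haveI : Algebra.IsCentral E D₀ := H6_isCentral_of_baseChange (k := E) (K := F')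
  haveI := IsArtinianRing.of_finite E D₀
  obtain ⟨m, hm, D₁, _, _, _, ⟨e₀⟩⟩ := IsSimpleRing.exists_algEquiv_matrix_divisionRing_finite E D₀
  haveI : Algebra.IsCentral E (Matrix (Fin m) (Fin m) D₁) :=
    Algebra.IsCentral.of_algEquiv E _ _ e₀
  haveI : Algebra.IsCentral E D₁ := H6_isCentral_of_matrix m
  obtain ⟨n, ⟨e₁⟩⟩ := hb E D₁ F'
  -- assemble
  have e₂ : D ≃ₐ[F'] Matrix (Fin m) (Fin m) (Matrix (Fin n) (Fin n) F') :=
    ((e.symm.trans (Algebra.TensorProduct.congr (AlgEquiv.refl : F' ≃ₐ[F'] F') e₀)).trans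
      (H6_matBaseChange (k := E) F' D₁ m)).trans (AlgEquiv.mapMatrix e₁)
  have hnz : ∀ x y : Matrix (Fin m) (Fin m) (Matrix (Fin n) (Fin n) F'),
      x * y = 0 → x = 0 ∨ y = 0 := by
    intro x y hxy
    have h1 : e₂.symm x * e₂.symm y = 0 := by rw [← map_mul, hxy, map_zero]
    rcases mul_eq_zero.1 h1 with h | h
    · exact Or.inl (e₂.symm.map_eq_zero_iff.1 h)
    · exact Or.inr (e₂.symm.map_eq_zero_iff.1 h)
  haveI : Nontrivial (Matrix (Fin m) (Fin m) (Matrix (Fin n) (Fin n) F')) :=
    e₂.injective.nontrivial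
  haveI : Nontrivial (Matrix (Fin n) (Fin n) F') := by
    by_contra hcon
    rw [not_nontrivial_iff_subsingleton] at hcon
    exact not_subsingleton (Matrix (Fin m) (Fin m) (Matrix (Fin n) (Fin n) F')) inferInstance
  have hm1 : m = 1 := by
    have := H6_matrix_noZeroDiv m hnz
    have := hm.out
    omega
  subst hm1
  have hnz' : ∀ x y : Matrix (Fin n) (Fin n) F', x * y = 0 → x = 0 ∨ y = 0 := by
    intro x y hxy
    have h1 := hnz (Matrix.of fun _ _ => x) (Matrix.of fun _ _ => y) (by
      ext i j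
      simp [Matrix.mul_apply, hxy])
    rcases h1 with h | h
    · exact Or.inl (by have := congrFun (congrFun h 0) 0; simpa using this)
    · exact Or.inr (by have := congrFun (congrFun h 0) 0; simpa using this)
  have hn1 : n = 1 := by
    have h1 := H6_matrix_noZeroDiv n hnz'
    have h2 : n ≠ 0 := by
      rintro rfl
      exact not_subsingleton (Matrix (Fin 0) (Fin 0) F') inferInstance
    omega
  subst hn1
  rw [e₂.toLinearEquiv.finrank_eq, Module.finrank_matrix, Module.finrank_matrix]
  simp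

end BtoA

theorem H6_cd_iff (K F : Type u) [Field K] [Field F] [Algebra K F] [Algebra.IsSeparable K F] :
    (∀ (F' : Type u) [Field F'] [Algebra F F'] [FiniteDimensional F F'] [Algebra.IsSeparable F F']
        (D : Type u) [DivisionRing D] [Algebra F' D] [Algebra.IsCentral F' D]
        [FiniteDimensional F' D], Module.finrank F' D = 1) ↔
    (∀ (E : Type u) [Field E] [Algebra K E] [FiniteDimensional K E] [Algebra.IsSeparable K E]
        (D : Type u) [DivisionRing D] [Algebra E D] [Algebra.IsCentral E D] [FiniteDimensional E D]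
        (M : Type u) [Field M] [Algebra K M] [Algebra E M] [Algebra F M] [IsScalarTower K E M]
        [IsScalarTower K F M],
        ∃ n : ℕ, Nonempty ((M ⊗[E] D) ≃ₐ[M] Matrix (Fin n) (Fin n) M)) := by
  constructor
  · intro ha E _ _ _ _ D _ _ _ _ M _ _ _ _ _ _
    exact H6_cd_a_to_b K F ha E D M
  · intro hb F' _ _ _ _ D _ _ _ _
    exact H6_cd_b_to_a K F hb F' D

end Groth.Agent.Lib.helper6
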