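import Mathlib
import Groth.Prelude.Def_ArtFun5
import Groth.Agent.Lib.helper6.CRingPres
import Groth.Agent.Lib.helper6.CRingQuot

set_option autoImplicit false
universe u v

open ArtFun ArtFun.Art CategoryTheory

namespace Groth.Agent.Lib.helper6

variable {Λ : Type u} {k : Type u} [CommRing Λ] [Field k] [Algebra Λ k]

theorem H6_poly_ext_append {a b : ℕ} {X : Type*} [CommRing X] [Algebra Λ X]
    (f g : MvPolynomial (Fin (a + b)) Λ →ₐ[Λ] X)
    (h₁ : ∀ i : Fin a, f (MvPolynomial.X (Fin.castAdd b i)) = g (MvPolynomial.X (Fin.castAdd b i)))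
    (h₂ : ∀ j : Fin b, f (MvPolynomial.X (Fin.natAdd a j)) = g (MvPolynomial.X (Fin.natAdd a j))) :
    f = g := by
  apply MvPolynomial.algHom_ext
  intro i
  refine Fin.addCases (fun i => ?_) (fun j => ?_) i
  · exact h₁ i
  · exact h₂ j

variable [IsNoetherianRing Λ] [Module.Finite Λ k]

/-- Coproducts of pairs in the category of coefficient rings. -/
theorem H6_cring_coprod (R S : CRing Λ k) :
    ∃ (P : CRing Λ k) (i₁ : R.carrier →ₐ[Λ] P.carrier) (i₂ : S.carrier →ₐ[Λ] P.carrier),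
      P.res.comp i₁ = R.res ∧ P.res.comp i₂ = S.res ∧
      ∀ (T : CRing Λ k) (g₁ : R.carrier →ₐ[Λ] T.carrier) (g₂ : S.carrier →ₐ[Λ] T.carrier),
        T.res.comp g₁ = R.res → T.res.comp g₂ = S.res →
          ∃! h : P.carrier →ₐ[Λ] T.carrier, T.res.comp h = P.res ∧ h.comp i₁ = g₁ ∧ h.comp i₂ = g₂ := by
  classical
  obtain ⟨a, ρ₁, hρ₁, π₁, hπ₁, hπ₁s⟩ := H6_exists_smooth_coverC R
  obtain ⟨b, ρ₂, hρ₂, π₂, hπ₂, hπ₂s⟩ := H6_exists_smooth_coverC S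
  have hπ₁' : ∀ x, R.res (π₁ x) = H6_PPres ρ₁ x := fun x =>
    congrArg (fun f : H6_PP ρ₁ →ₐ[Λ] k => f x) hπ₁
  have hπ₂' : ∀ x, S.res (π₂ x) = H6_PPres ρ₂ x := fun x =>
    congrArg (fun f : H6_PP ρ₂ →ₐ[Λ] k => f x) hπ₂
  let ι₁ : MvPolynomial (Fin a) Λ →ₐ[Λ] MvPolynomial (Fin (a + b)) Λ :=
    MvPolynomial.rename (Fin.castAdd b)
  let ι₂ : MvPolynomial (Fin b) Λ →ₐ[Λ] MvPolynomial (Fin (a + b)) Λ :=
    MvPolynomial.rename (Fin.natAdd a)
  let ρ : MvPolynomial (Fin (a + b)) Λ →ₐ[Λ] k :=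
    MvPolynomial.aeval (Fin.append (fun i => ρ₁ (MvPolynomial.X i)) (fun j => ρ₂ (MvPolynomial.X j)))
  have hρι₁ : ∀ q, ρ (ι₁ q) = ρ₁ q := by
    intro q
    have : ρ.comp ι₁ = ρ₁ := by
      apply MvPolynomial.algHom_ext
      intro i
      show ρ (MvPolynomial.rename (Fin.castAdd b) (MvPolynomial.X i)) = ρ₁ (MvPolynomial.X i)
      rw [MvPolynomial.rename_X]
      show MvPolynomial.aeval _ (MvPolynomial.X (Fin.castAdd b i)) = _
      rw [MvPolynomial.aeval_X, Fin.append_left]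
    exact congrArg (fun f : MvPolynomial (Fin a) Λ →ₐ[Λ] k => f q) this
  have hρι₂ : ∀ q, ρ (ι₂ q) = ρ₂ q := by
    intro q
    have : ρ.comp ι₂ = ρ₂ := by
      apply MvPolynomial.algHom_ext
      intro i
      show ρ (MvPolynomial.rename (Fin.natAdd a) (MvPolynomial.X i)) = ρ₂ (MvPolynomial.X i)
      rw [MvPolynomial.rename_X]
      show MvPolynomial.aeval _ (MvPolynomial.X (Fin.natAdd a i)) = _
      rw [MvPolynomial.aeval_X, Fin.append_right]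
    exact congrArg (fun f : MvPolynomial (Fin b) Λ →ₐ[Λ] k => f q) this
  have hρ : Function.Surjective ρ := by
    intro c
    obtain ⟨q, rfl⟩ := hρ₁ c
    exact ⟨ι₁ q, hρι₁ q⟩
  let P : CRing Λ k := H6_smoothRing ρ hρ
  have hPof : ∀ q, P.res (H6_PPof ρ q) = ρ q := fun q =>
    congrArg (fun f : MvPolynomial (Fin (a + b)) Λ →ₐ[Λ] k => f q) (H6_PPres_comp_of ρ)
  have hof₁ : ∀ q, H6_PPres ρ₁ (H6_PPof ρ₁ q) = ρ₁ q := fun q =>
    congrArg (fun f : MvPolynomial (Fin a) Λ →ₐ[Λ] k => f q) (H6_PPres_comp_of ρ₁)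
  have hof₂ : ∀ q, H6_PPres ρ₂ (H6_PPof ρ₂ q) = ρ₂ q := fun q =>
    congrArg (fun f : MvPolynomial (Fin b) Λ →ₐ[Λ] k => f q) (H6_PPres_comp_of ρ₂)
  obtain ⟨j₁, hj₁, hj₁of⟩ := H6_PP_liftC ρ₁ P ((H6_PPof ρ).comp ι₁) (by
    apply AlgHom.ext
    intro q
    show P.res (H6_PPof ρ (ι₁ q)) = ρ₁ q
    rw [hPof, hρι₁])
  obtain ⟨j₂, hj₂, hj₂of⟩ := H6_PP_liftC ρ₂ P ((H6_PPof ρ).comp ι₂) (by
    apply AlgHom.ext
    intro q
    show P.res (H6_PPof ρ (ι₂ q)) = ρ₂ q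
    rw [hPof, hρι₂])
  have hj₁' : ∀ x, P.res (j₁ x) = H6_PPres ρ₁ x := fun x =>
    congrArg (fun f : H6_PP ρ₁ →ₐ[Λ] k => f x) hj₁
  have hj₂' : ∀ x, P.res (j₂ x) = H6_PPres ρ₂ x := fun x =>
    congrArg (fun f : H6_PP ρ₂ →ₐ[Λ] k => f x) hj₂
  have hj₁of' : ∀ q, j₁ (H6_PPof ρ₁ q) = H6_PPof ρ (ι₁ q) := fun q =>
    congrArg (fun f : MvPolynomial (Fin a) Λ →ₐ[Λ] P.carrier => f q) hj₁of
  have hj₂of' : ∀ q, j₂ (H6_PPof ρ₂ q) = H6_PPof ρ (ι₂ q) := fun q =>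
    congrArg (fun f : MvPolynomial (Fin b) Λ →ₐ[Λ] P.carrier => f q) hj₂of
  let J : Ideal P.carrier := Ideal.map j₁ (RingHom.ker π₁) ⊔ Ideal.map j₂ (RingHom.ker π₂)
  have hJ : J ≤ IsLocalRing.maximalIdeal P.carrier := by
    apply sup_le
    · rw [Ideal.map_le_iff_le_comap]
      intro x hx
      rw [Ideal.mem_comap, CRing.mem_maximalIdeal_iff, hj₁', ← hπ₁', (RingHom.mem_ker).1 hx, map_zero]
    · rw [Ideal.map_le_iff_le_comap]
      intro x hx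
      rw [Ideal.mem_comap, CRing.mem_maximalIdeal_iff, hj₂', ← hπ₂', (RingHom.mem_ker).1 hx, map_zero]
  let C : CRing Λ k := H6_cringQuot P J hJ
  let mk : P.carrier →ₐ[Λ] C.carrier := H6_cringQuotMk P J hJ
  have hmk : ∀ p, C.res (mk p) = P.res p := fun p =>
    congrArg (fun f : P.carrier →ₐ[Λ] k => f p) (H6_cringQuotMk_res P J hJ)
  have hmks : Function.Surjective mk := H6_cringQuotMk_surjective P J hJ
  obtain ⟨i₁, hi₁⟩ := H6_algHom_factor π₁ hπ₁s (mk.comp j₁) (by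
    intro x hx
    show mk (j₁ x) = 0
    exact (H6_cringQuotMk_eq_zero_iff P J hJ _).2
      (Ideal.mem_sup_left (Ideal.mem_map_of_mem _ ((RingHom.mem_ker).2 hx))))
  obtain ⟨i₂, hi₂⟩ := H6_algHom_factor π₂ hπ₂s (mk.comp j₂) (by
    intro x hx
    show mk (j₂ x) = 0
    exact (H6_cringQuotMk_eq_zero_iff P J hJ _).2
      (Ideal.mem_sup_right (Ideal.mem_map_of_mem _ ((RingHom.mem_ker).2 hx))))
  have hi₁' : ∀ x, i₁ (π₁ x) = mk (j₁ x) := fun x =>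
    congrArg (fun f : H6_PP ρ₁ →ₐ[Λ] C.carrier => f x) hi₁
  have hi₂' : ∀ x, i₂ (π₂ x) = mk (j₂ x) := fun x =>
    congrArg (fun f : H6_PP ρ₂ →ₐ[Λ] C.carrier => f x) hi₂
  have hCi₁ : C.res.comp i₁ = R.res := by
    apply AlgHom.ext
    intro r
    obtain ⟨x, rfl⟩ := hπ₁s r
    show C.res (i₁ (π₁ x)) = R.res (π₁ x)
    rw [hi₁', hmk, hj₁', hπ₁']
  have hCi₂ : C.res.comp i₂ = S.res := by
    apply AlgHom.ext
    intro r
    obtain ⟨x, rfl⟩ := hπ₂s r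
    show C.res (i₂ (π₂ x)) = S.res (π₂ x)
    rw [hi₂', hmk, hj₂', hπ₂']
  refine ⟨C, i₁, i₂, hCi₁, hCi₂, ?_⟩
  intro T g₁ g₂ hg₁ hg₂
  have hg₁' : ∀ r, T.res (g₁ r) = R.res r := fun r =>
    congrArg (fun f : R.carrier →ₐ[Λ] k => f r) hg₁
  have hg₂' : ∀ r, T.res (g₂ r) = S.res r := fun r =>
    congrArg (fun f : S.carrier →ₐ[Λ] k => f r) hg₂
  let ψ : MvPolynomial (Fin (a + b)) Λ →ₐ[Λ] T.carrier :=
    MvPolynomial.aeval (Fin.append (fun i => g₁ (π₁ (H6_PPof ρ₁ (MvPolynomial.X i))))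
      (fun j => g₂ (π₂ (H6_PPof ρ₂ (MvPolynomial.X j)))))
  have hψι₁ : ∀ q, ψ (ι₁ q) = g₁ (π₁ (H6_PPof ρ₁ q)) := by
    intro q
    have : ψ.comp ι₁ = (g₁.comp π₁).comp (H6_PPof ρ₁) := by
      apply MvPolynomial.algHom_ext
      intro i
      show ψ (MvPolynomial.rename (Fin.castAdd b) (MvPolynomial.X i)) = _
      rw [MvPolynomial.rename_X]
      show MvPolynomial.aeval _ (MvPolynomial.X (Fin.castAdd b i)) = _
      rw [MvPolynomial.aeval_X, Fin.append_left]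
      rfl
    exact congrArg (fun f : MvPolynomial (Fin a) Λ →ₐ[Λ] T.carrier => f q) this
  have hψι₂ : ∀ q, ψ (ι₂ q) = g₂ (π₂ (H6_PPof ρ₂ q)) := by
    intro q
    have : ψ.comp ι₂ = (g₂.comp π₂).comp (H6_PPof ρ₂) := by
      apply MvPolynomial.algHom_ext
      intro i
      show ψ (MvPolynomial.rename (Fin.natAdd a) (MvPolynomial.X i)) = _
      rw [MvPolynomial.rename_X]
      show MvPolynomial.aeval _ (MvPolynomial.X (Fin.natAdd a i)) = _
      rw [MvPolynomial.aeval_X, Fin.append_right]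
      rfl
    exact congrArg (fun f : MvPolynomial (Fin b) Λ →ₐ[Λ] T.carrier => f q) this
  have hX₁ : ∀ i : Fin a, (MvPolynomial.X (Fin.castAdd b i) : MvPolynomial (Fin (a + b)) Λ) =
      ι₁ (MvPolynomial.X i) := fun i => (MvPolynomial.rename_X _ _).symm
  have hX₂ : ∀ j : Fin b, (MvPolynomial.X (Fin.natAdd a j) : MvPolynomial (Fin (a + b)) Λ) =
      ι₂ (MvPolynomial.X j) := fun j => (MvPolynomial.rename_X _ _).symm
  have hψ : T.res.comp ψ = ρ := by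
    apply H6_poly_ext_append
    · intro i
      show T.res (ψ _) = ρ _
      rw [hX₁, hψι₁, hρι₁, hg₁', hπ₁', hof₁]
    · intro j
      show T.res (ψ _) = ρ _
      rw [hX₂, hψι₂, hρι₂, hg₂', hπ₂', hof₂]
  obtain ⟨ht, hht, hhtof⟩ := H6_PP_liftC ρ T ψ hψ
  have hht' : ∀ p, T.res (ht p) = P.res p := fun p =>
    congrArg (fun f : H6_PP ρ →ₐ[Λ] k => f p) hht
  have hhtof' : ∀ q, ht (H6_PPof ρ q) = ψ q := fun q =>
    congrArg (fun f : MvPolynomial (Fin (a + b)) Λ →ₐ[Λ] T.carrier => f q) hhtof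
  have hhtj₁ : ∀ x, ht (j₁ x) = g₁ (π₁ x) := by
    intro x
    have : ht.comp j₁ = g₁.comp π₁ := by
      apply H6_PP_hom_extC ρ₁ T
      · apply AlgHom.ext
        intro y
        show T.res (ht (j₁ y)) = H6_PPres ρ₁ y
        rw [hht', hj₁']
      · apply AlgHom.ext
        intro y
        show T.res (g₁ (π₁ y)) = H6_PPres ρ₁ y
        rw [hg₁', hπ₁']
      · apply AlgHom.ext
        intro q
        show ht (j₁ (H6_PPof ρ₁ q)) = g₁ (π₁ (H6_PPof ρ₁ q))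
        rw [hj₁of', hhtof', hψι₁]
    exact congrArg (fun f : H6_PP ρ₁ →ₐ[Λ] T.carrier => f x) this
  have hhtj₂ : ∀ x, ht (j₂ x) = g₂ (π₂ x) := by
    intro x
    have : ht.comp j₂ = g₂.comp π₂ := by
      apply H6_PP_hom_extC ρ₂ T
      · apply AlgHom.ext
        intro y
        show T.res (ht (j₂ y)) = H6_PPres ρ₂ y
        rw [hht', hj₂']
      · apply AlgHom.ext
        intro y
        show T.res (g₂ (π₂ y)) = H6_PPres ρ₂ y
        rw [hg₂', hπ₂']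
      · apply AlgHom.ext
        intro q
        show ht (j₂ (H6_PPof ρ₂ q)) = g₂ (π₂ (H6_PPof ρ₂ q))
        rw [hj₂of', hhtof', hψι₂]
    exact congrArg (fun f : H6_PP ρ₂ →ₐ[Λ] T.carrier => f x) this
  have hJker : ∀ p ∈ J, ht p = 0 := by
    have : J ≤ RingHom.ker (ht : P.carrier →ₐ[Λ] T.carrier) := by
      apply sup_le
      · rw [Ideal.map_le_iff_le_comap]
        intro x hx
        show ht (j₁ x) = 0
        rw [hhtj₁, (RingHom.mem_ker).1 hx, map_zero]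
      · rw [Ideal.map_le_iff_le_comap]
        intro x hx
        show ht (j₂ x) = 0
        rw [hhtj₂, (RingHom.mem_ker).1 hx, map_zero]
    exact fun p hp => this hp
  let h : C.carrier →ₐ[Λ] T.carrier := Ideal.Quotient.liftₐ J ht hJker
  have hhmk : ∀ p, h (mk p) = ht p := fun p => rfl
  have hTh : T.res.comp h = C.res := by
    apply AlgHom.ext
    intro x
    obtain ⟨p, rfl⟩ := hmks x
    show T.res (h (mk p)) = C.res (mk p)
    rw [hhmk, hht', hmk]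
  refine ⟨h, ⟨hTh, ?_, ?_⟩, ?_⟩
  · apply AlgHom.ext
    intro r
    obtain ⟨x, rfl⟩ := hπ₁s r
    show h (i₁ (π₁ x)) = g₁ (π₁ x)
    rw [hi₁', hhmk, hhtj₁]
  · apply AlgHom.ext
    intro r
    obtain ⟨x, rfl⟩ := hπ₂s r
    show h (i₂ (π₂ x)) = g₂ (π₂ x)
    rw [hi₂', hhmk, hhtj₂]
  · rintro h' ⟨hTh', hh'₁, hh'₂⟩
    have hh'₁' : ∀ r, h' (i₁ r) = g₁ r := fun r =>
      congrArg (fun f : R.carrier →ₐ[Λ] T.carrier => f r) hh'₁
    have hh'₂' : ∀ r, h' (i₂ r) = g₂ r := fun r =>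
      congrArg (fun f : S.carrier →ₐ[Λ] T.carrier => f r) hh'₂
    have hTh'' : ∀ x, T.res (h' x) = C.res x := fun x =>
      congrArg (fun f : C.carrier →ₐ[Λ] k => f x) hTh'
    have key : h'.comp mk = ht := by
      apply H6_PP_hom_extC ρ T
      · apply AlgHom.ext
        intro p
        show T.res (h' (mk p)) = P.res p
        rw [hTh'', hmk]
      · exact hht
      · apply H6_poly_ext_append
        · intro i
          show h' (mk (H6_PPof ρ _)) = ht (H6_PPof ρ _)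
          rw [hX₁, ← hj₁of', ← hi₁', hh'₁', hhtj₁]
        · intro j
          show h' (mk (H6_PPof ρ _)) = ht (H6_PPof ρ _)
          rw [hX₂, ← hj₂of', ← hi₂', hh'₂', hhtj₂]
    apply AlgHom.ext
    intro x
    obtain ⟨p, rfl⟩ := hmks x
    rw [hhmk]
    exact congrArg (fun f : P.carrier →ₐ[Λ] T.carrier => f p) key

end Groth.Agent.Lib.helper6
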