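import Mathlib

/-! Abelian groups having a nonzero element contained in every nonzero subgroup ("cocyclic"). -/

namespace Groth.Agent.Lib.helper6

open AddSubgroup

variable {A : Type*} [AddCommGroup A]

theorem H6_cocyclic_addOrderOf_prime (a : A) (ha : a ≠ 0) (hfin : IsOfFinAddOrder a)
    (h : ∀ B : AddSubgroup A, B ≠ ⊥ → a ∈ B) : (addOrderOf a).Prime := by
  set n := addOrderOf a with hn
  have hn0 : 0 < n := hfin.addOrderOf_pos
  have hn1 : n ≠ 1 := by
    intro h1
    exact ha (AddMonoid.addOrderOf_eq_one_iff.mp h1)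
  have hq : (n.minFac).Prime := Nat.minFac_prime hn1
  obtain ⟨m, hm⟩ := Nat.minFac_dvd n
  have hm0 : m ≠ 0 := by
    rintro rfl
    simp at hm
    omega
  have hmn : m < n := by
    have := hq.two_le
    nlinarith [Nat.pos_of_ne_zero hm0]
  have hb : m • a ≠ 0 := nsmul_ne_zero_of_lt_addOrderOf hm0 hmn
  have hB : AddSubgroup.zmultiples (m • a) ≠ ⊥ := by
    intro hbot
    apply hb
    have : m • a ∈ AddSubgroup.zmultiples (m • a) := AddSubgroup.mem_zmultiples _
    rw [hbot] at this
    simpa using this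
  obtain ⟨k, hk⟩ := AddSubgroup.mem_zmultiples_iff.mp (h _ hB)
  have hqa : n.minFac • a = 0 := by
    rw [← hk, smul_comm, ← mul_nsmul', ← hm, hn, addOrderOf_nsmul_eq_zero, smul_zero]
  have hdvd : n ∣ n.minFac := addOrderOf_dvd_of_nsmul_eq_zero hqa
  rcases (Nat.dvd_prime hq).mp hdvd with h1 | h1
  · exact absurd h1 hn1
  · rw [h1]; exact hq

theorem H6_cocyclic_mem_zmultiples (a : A) (ha : a ≠ 0) (hfin : IsOfFinAddOrder a)
    (h : ∀ B : AddSubgroup A, B ≠ ⊥ → a ∈ B) (x : A) (hx : addOrderOf a • x = 0) :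
    x ∈ AddSubgroup.zmultiples a := by
  have hp := H6_cocyclic_addOrderOf_prime a ha hfin h
  by_cases hx0 : x = 0
  · rw [hx0]; exact zero_mem _
  have hB : AddSubgroup.zmultiples x ≠ ⊥ := by
    intro hbot
    apply hx0
    have : x ∈ AddSubgroup.zmultiples x := AddSubgroup.mem_zmultiples _
    rw [hbot] at this
    simpa using this
  obtain ⟨k, hk⟩ := AddSubgroup.mem_zmultiples_iff.mp (h _ hB)
  have hpk : ¬ ((addOrderOf a : ℤ) ∣ k) := by
    rintro ⟨j, rfl⟩
    apply ha
    rw [← hk, mul_comm, mul_smul, natCast_zsmul, hx, smul_zero]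
  have hcop : IsCoprime (addOrderOf a : ℤ) k :=
    ((Nat.prime_iff_prime_int.mp hp).irreducible.coprime_iff_not_dvd).mpr hpk
  obtain ⟨u, v, huv⟩ := hcop
  have : x = v • a := by
    calc x = (u * (addOrderOf a : ℤ) + v * k) • x := by rw [huv, one_smul]
      _ = v • a := by
        rw [add_smul, mul_smul, mul_smul, natCast_zsmul, hx, smul_zero, zero_add, hk]
  rw [this]
  exact AddSubgroup.zsmul_mem _ (AddSubgroup.mem_zmultiples _) _

theorem H6_cocyclic_torsion (a : A) (ha : a ≠ 0) (hfin : IsOfFinAddOrder a)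
    (h : ∀ B : AddSubgroup A, B ≠ ⊥ → a ∈ B) (n : ℕ) (hn : 0 < n) :
    Finite (nsmulAddMonoidHom (α := A) n).ker ∧
      Nat.card (nsmulAddMonoidHom (α := A) n).ker ≤ n := by
  induction n using Nat.strong_induction_on with
  | _ n ih =>
  have hp := H6_cocyclic_addOrderOf_prime a ha hfin h
  set p := addOrderOf a with hpdef
  by_cases hbot : (nsmulAddMonoidHom (α := A) n).ker = ⊥
  · rw [hbot]
    refine ⟨inferInstance, ?_⟩
    simp
    omega
  · have han : a ∈ (nsmulAddMonoidHom (α := A) n).ker := h _ hbot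
    have hna : n • a = 0 := by simpa [AddMonoidHom.mem_ker] using han
    obtain ⟨m, hm⟩ : p ∣ n := addOrderOf_dvd_of_nsmul_eq_zero hna
    have hm0 : 0 < m := by
      rcases Nat.eq_zero_or_pos m with h0 | h0
      · rw [h0] at hm; omega
      · exact h0
    have hmn : m < n := by
      have := hp.two_le
      nlinarith
    obtain ⟨hfm, hcm⟩ := ih m hmn hm0
    let T : AddSubgroup A := (nsmulAddMonoidHom (α := A) n).ker
    let ψ : T →+ A := (nsmulAddMonoidHom (α := A) p).comp T.subtype
    have hrange : ψ.range ≤ (nsmulAddMonoidHom (α := A) m).ker := by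
      rintro _ ⟨x, rfl⟩
      have hx : n • (x : A) = 0 := by simpa [AddMonoidHom.mem_ker] using x.2
      simp only [AddMonoidHom.mem_ker, nsmulAddMonoidHom_apply, ψ, AddMonoidHom.comp_apply,
        AddSubgroup.coe_subtype]
      rw [← mul_nsmul, ← hm]
      exact hx
    have hfr : Finite ψ.range := Finite.Set.subset _ hrange
    have hcr : Nat.card ψ.range ≤ m :=
      (AddSubgroup.card_le_of_le hrange).trans hcm
    have hfz : Finite (AddSubgroup.zmultiples a) := hfin.finite_zmultiples.to_subtype
    have hker : Nat.card ψ.ker ≤ p ∧ Finite ψ.ker := by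
      have hinj : Function.Injective (fun x : ψ.ker => (⟨((x : T) : A), by
          apply H6_cocyclic_mem_zmultiples a ha hfin h
          have := AddMonoidHom.mem_ker.mp x.2
          simpa [ψ] using this⟩ : AddSubgroup.zmultiples a)) := by
        intro x y hxy
        apply Subtype.ext
        apply Subtype.ext
        simpa using congrArg Subtype.val hxy
      refine ⟨?_, Finite.of_injective _ hinj⟩
      have := Nat.card_le_card_of_injective _ hinj
      rwa [Nat.card_zmultiples] at this
    have hfk := hker.2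
    have hfT : Finite T := (AddMonoidHom.finite_iff_finite_ker_range ψ).mpr ⟨hfk, hfr⟩
    refine ⟨hfT, ?_⟩
    have hcard : Nat.card ψ.ker * Nat.card ψ.range = Nat.card T := by
      rw [← AddSubgroup.index_ker ψ]
      exact ψ.ker.card_mul_index
    calc Nat.card T = Nat.card ψ.ker * Nat.card ψ.range := hcard.symm
      _ ≤ p * m := Nat.mul_le_mul hker.1 hcr
      _ = n := hm.symm

end Groth.Agent.Lib.helper6
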