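import Mathlib
import Groth.Agent.Lib.helper6.GeomRedFS2
import Groth.Agent.Lib.helper6.AdicTrans

set_option autoImplicit false
set_option linter.style.haveILetI false

namespace Groth.Agent.Lib.helper6

universe u w

/-- completeness for `I` gives completeness for `I^2`. -/
lemma H6_complete_sq {C : Type u} [CommRing C] (I : Ideal C) [IsAdicComplete I C] :
    IsAdicComplete (I ^ 2) C := by
  have hpow : ∀ n : ℕ, ((I ^ 2) ^ n • ⊤ : Submodule C C) ≤ (I ^ n • ⊤ : Submodule C C) := by
    intro n
    rw [← pow_mul]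
    exact Submodule.smul_mono_left (Ideal.pow_le_pow_right (by omega))
  have hH : IsHausdorff (I ^ 2) C := by
    refine ⟨fun x hx => ?_⟩
    refine IsHausdorff.haus (inferInstance : IsHausdorff I C) x (fun n => ?_)
    have h1 := hx n
    rw [SModEq.zero] at h1 ⊢
    exact hpow n h1
  have hP : IsPrecomplete (I ^ 2) C := by
    refine ⟨fun f hf => ?_⟩
    have hf' : ∀ {m n : ℕ}, m ≤ n → f m ≡ f n [SMOD (I ^ m • ⊤ : Submodule C C)] := by
      intro m n hmn
      have h1 := hf hmn
      rw [SModEq.sub_mem] at h1 ⊢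
      exact hpow m h1
    obtain ⟨L, hL⟩ := IsPrecomplete.prec (inferInstance : IsPrecomplete I C) hf'
    refine ⟨L, fun n => ?_⟩
    rw [SModEq.sub_mem]
    have h1 : f n - f (2 * n) ∈ ((I ^ 2) ^ n • ⊤ : Submodule C C) := by
      have := hf (show n ≤ 2 * n by omega)
      rwa [SModEq.sub_mem] at this
    have h2 : f (2 * n) - L ∈ ((I ^ 2) ^ n • ⊤ : Submodule C C) := by
      have := hL (2 * n)
      rw [SModEq.sub_mem] at this
      rw [← pow_mul]
      exact this
    have : f n - L = (f n - f (2 * n)) + (f (2 * n) - L) := by ring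
    rw [this]
    exact add_mem h1 h2
  exact { toIsHausdorff := hH, toIsPrecomplete := hP }

/-- lifting a ring hom from a formally smooth field extension of a "rigid" base to a complete
ring. -/
lemma H6_lift_complete_field {F : Type w} {K C : Type u} [CommRing F] [CommRing K] [Algebra F K]
    [Algebra.FormallySmooth F K] [CommRing C]
    (hF : ∀ (X : Type u) [CommRing X], Subsingleton (F →+* X))
    (I : Ideal C) [IsAdicComplete I C] (ρ : F →+* C) (v₁ : K →+* C ⧸ I) :
    ∃ v : K →+* C, (Ideal.Quotient.mk I).comp v = v₁ := by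
  letI : Algebra F C := ρ.toAlgebra
  let v₁' : K →ₐ[F] C ⧸ I :=
    { v₁ with
      commutes' := fun x => by
        haveI := hF (C ⧸ I)
        exact congrArg (fun g => g x)
          (Subsingleton.elim (v₁.comp (algebraMap F K)) (algebraMap F (C ⧸ I))) }
  obtain ⟨g, hg⟩ := Algebra.FormallySmooth.exists_mkₐ_comp_eq_of_isAdicComplete v₁'
  refine ⟨g.toRingHom, ?_⟩
  ext x
  exact congrArg (fun h => h x) hg

/-- a field is formally smooth over a rigid prime field, in ring-hom lifting form. -/
lemma H6_field_lift_complete {K C : Type u} [Field K] [CommRing C] (I : Ideal C)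
    [IsAdicComplete I C] (u : K →+* C) (v₁ : K →+* C ⧸ I) :
    ∃ v : K →+* C, (Ideal.Quotient.mk I).comp v = v₁ := by
  obtain _ | ⟨p, hp, hpk⟩ := CharP.exists' K
  · haveI : Algebra.FormallySmooth ℚ K := H6_fs_char0 K
    exact H6_lift_complete_field (F := ℚ) (fun X _ => inferInstance) I
      (u.comp (algebraMap ℚ K)) v₁
  · letI : Algebra (ZMod p) K := ZMod.algebra K p
    haveI : Algebra.FormallySmooth (ZMod p) K := H6_fs_field_of_perfect (ZMod p) K
    exact H6_lift_complete_field (F := ZMod p) (fun X _ => inferInstance) I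
      (u.comp (algebraMap (ZMod p) K)) v₁

end Groth.Agent.Lib.helper6
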