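import Mathlib

set_option autoImplicit false
set_option linter.style.haveILetI false

namespace Groth.Agent.Lib.helper6

universe u
open TensorProduct

section

variable {A : Type u} [CommRing A] {M M' : Type u} [AddCommGroup M] [Module A M]
  [AddCommGroup M'] [Module A M']

/-- multiplication `J ⊗ M → M`. -/
noncomputable def H6_muJ (J : Ideal A) (M : Type u) [AddCommGroup M] [Module A M] :
    J ⊗[A] M →ₗ[A] M :=
  (TensorProduct.lid A M).toLinearMap ∘ₗ (J.subtype.restrictScalars A).rTensor M

lemma H6_muJ_tmul (J : Ideal A) (a : J) (m : M) : H6_muJ J M (a ⊗ₜ[A] m) = (a : A) • m := by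
  simp [H6_muJ]

lemma H6_muJ_injective (J : Ideal A) [Module.Flat A M'] : Function.Injective (H6_muJ J M') := by
  unfold H6_muJ
  rw [LinearMap.coe_comp]
  exact (TensorProduct.lid A M').injective.comp
    (Module.Flat.rTensor_preserves_injective_linearMap _ Subtype.val_injective)

lemma H6_flat_ker_inf [Module.Flat A M'] (g : M →ₗ[A] M') (hg : Function.Surjective g)
    (J : Ideal A) (x : M) (hx : x ∈ LinearMap.ker g) (hxJ : x ∈ (J • ⊤ : Submodule A M)) :
    x ∈ J • LinearMap.ker g := by
  -- x = μ s
  have hs : ∃ s : J ⊗[A] M, H6_muJ J M s = x := by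
    refine Submodule.smul_induction_on hxJ ?_ ?_
    · intro a ha m _
      exact ⟨(⟨a, ha⟩ : J) ⊗ₜ[A] m, H6_muJ_tmul J _ m⟩
    · rintro y z ⟨s, rfl⟩ ⟨t, rfl⟩
      exact ⟨s + t, map_add _ _ _⟩
  obtain ⟨s, rfl⟩ := hs
  have hnat : ∀ s : J ⊗[A] M, g (H6_muJ J M s) = H6_muJ J M' (g.lTensor J s) := by
    intro s
    induction s using TensorProduct.induction_on with
    | zero => simp
    | tmul a m => rw [LinearMap.lTensor_tmul, H6_muJ_tmul, H6_muJ_tmul, map_smul]
    | add y z hy hz => rw [map_add, map_add, hy, hz, map_add, map_add]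
  have h0 : g.lTensor J s = 0 := by
    apply H6_muJ_injective (M' := M') J
    rw [← hnat, map_zero]
    exact hx
  have hexact := lTensor_exact J (LinearMap.exact_subtype_ker_map g) hg
  obtain ⟨s', rfl⟩ := (hexact s).1 h0
  induction s' using TensorProduct.induction_on with
  | zero => simp
  | tmul a k =>
    rw [LinearMap.lTensor_tmul, H6_muJ_tmul]
    exact Submodule.smul_mem_smul a.2 k.2
  | add y z hy hz =>
    rw [map_add, map_add]
    have hy0 : g.lTensor J ((LinearMap.ker g).subtype.lTensor J y) = 0 := (hexact _).2 ⟨y, rfl⟩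
    have hz0 : g.lTensor J ((LinearMap.ker g).subtype.lTensor J z) = 0 := (hexact _).2 ⟨z, rfl⟩
    have hxy : H6_muJ J M ((LinearMap.ker g).subtype.lTensor J y) ∈ LinearMap.ker g := by
      rw [LinearMap.mem_ker, hnat, hy0, map_zero]
    have hxz : H6_muJ J M ((LinearMap.ker g).subtype.lTensor J z) ∈ LinearMap.ker g := by
      rw [LinearMap.mem_ker, hnat, hz0, map_zero]
    have hJy : H6_muJ J M ((LinearMap.ker g).subtype.lTensor J y) ∈ (J • ⊤ : Submodule A M) := by
      refine TensorProduct.induction_on (motive := fun t => H6_muJ J M t ∈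
        (J • ⊤ : Submodule A M)) _ ?_ ?_ ?_
      · simp
      · intro a m
        rw [H6_muJ_tmul]
        exact Submodule.smul_mem_smul a.2 trivial
      · intro t t' ht ht'
        rw [map_add]
        exact Submodule.add_mem _ ht ht'
    have hJz : H6_muJ J M ((LinearMap.ker g).subtype.lTensor J z) ∈ (J • ⊤ : Submodule A M) := by
      refine TensorProduct.induction_on (motive := fun t => H6_muJ J M t ∈
        (J • ⊤ : Submodule A M)) _ ?_ ?_ ?_
      · simp
      · intro a m
        rw [H6_muJ_tmul]
        exact Submodule.smul_mem_smul a.2 trivial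
      · intro t t' ht ht'
        rw [map_add]
        exact Submodule.add_mem _ ht ht'
    exact Submodule.add_mem _ (hy hxy hJy (by rw [hy0]) ) (hz hxz hJz (by rw [hz0]))

end

end Groth.Agent.Lib.helper6
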