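import Mathlib
import Groth.Agent.Lib.helper6.FlatKer

set_option autoImplicit false
set_option linter.style.haveILetI false

namespace Groth.Agent.Lib.helper6

universe u
open TensorProduct

/-- if `1 ⊗ ω = 0` in `C ⊗_B M` with `B → C` surjective then `ω ∈ ker • M`. -/
lemma H6_mem_ker_smul_of_tmul_eq_zero {B C : Type u} [CommRing B] [CommRing C] [Algebra B C]
    (hBC : Function.Surjective (algebraMap B C)) {M : Type u} [AddCommGroup M] [Module B M]
    (ω : M) (h : (1 : C) ⊗ₜ[B] ω = 0) :
    ω ∈ (RingHom.ker (algebraMap B C) • ⊤ : Submodule B M) := by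
  obtain ⟨J, hJ⟩ : ∃ J : Ideal B, J = RingHom.ker (algebraMap B C) := ⟨_, rfl⟩
  rw [← hJ]
  have hex : Function.Exact (J.subtype : J →ₗ[B] B) (Algebra.linearMap B C) := by
    intro b
    constructor
    · intro hb
      exact ⟨⟨b, by rw [hJ]; exact hb⟩, rfl⟩
    · rintro ⟨j, rfl⟩
      have h0 : (j : B) ∈ RingHom.ker (algebraMap B C) := hJ ▸ j.2
      exact h0
  have hexact := rTensor_exact M hex hBC
  have h1 : (Algebra.linearMap B C).rTensor M ((1 : B) ⊗ₜ[B] ω) = 0 := by
    rw [LinearMap.rTensor_tmul, Algebra.linearMap_apply, map_one]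
    exact h
  obtain ⟨s, hs⟩ := (hexact _).1 h1
  have h2 : ∀ s : J ⊗[B] M, TensorProduct.lid B M ((J.subtype : J →ₗ[B] B).rTensor M s) ∈
      (J • ⊤ : Submodule B M) := by
    intro s
    induction s using TensorProduct.induction_on with
    | zero => simp
    | tmul j m =>
      rw [LinearMap.rTensor_tmul, TensorProduct.lid_tmul]
      exact Submodule.smul_mem_smul j.2 trivial
    | add x y hx hy =>
      rw [map_add, map_add]
      exact Submodule.add_mem _ hx hy
  have h3 := h2 s
  rw [hs, TensorProduct.lid_tmul, one_smul] at h3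
  exact h3

end Groth.Agent.Lib.helper6

namespace Groth.Agent.Lib.helper6

universe u
open TensorProduct

section

variable (A : Type u) [CommRing A] (B : Type u) [CommRing B] [Algebra A B]
  [Algebra.FormallySmooth A B] (C : Type u) [CommRing C] [Algebra B C] [Algebra A C]
  [IsScalarTower A B C] (hC : Function.Surjective (algebraMap A C))

include hC

/-- the lift `σ : B → A/I²` together with its basic properties. -/
lemma H6_exists_sigma :
    ∃ σ : B →ₐ[A] A ⧸ (RingHom.ker (algebraMap A C)) ^ 2,
      (∀ b, ∃ a : A, σ b = Ideal.Quotient.mk _ a ∧ algebraMap A C a = algebraMap B C b) := by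
  let q : A ⧸ (RingHom.ker (algebraMap A C)) ^ 2 →ₐ[A] C :=
    Ideal.Quotient.liftₐ _ (Algebra.ofId A C) (fun a ha => Ideal.pow_le_self two_ne_zero ha)
  have hqmk : ∀ a : A, q (Ideal.Quotient.mk _ a) = algebraMap A C a := fun a => rfl
  have hq : Function.Surjective q := by
    intro c
    obtain ⟨a, rfl⟩ := hC c
    exact ⟨Ideal.Quotient.mk _ a, hqmk a⟩
  have hq' : IsNilpotent (RingHom.ker (q : (A ⧸ (RingHom.ker (algebraMap A C)) ^ 2) →+* C)) := by
    refine ⟨2, ?_⟩
    rw [Ideal.zero_eq_bot, eq_bot_iff]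
    refine (le_of_eq (pow_two _)).trans ?_
    rw [Ideal.mul_le]
    intro x hx y hy
    obtain ⟨a, rfl⟩ := Ideal.Quotient.mk_surjective x
    obtain ⟨a', rfl⟩ := Ideal.Quotient.mk_surjective y
    have ha : a ∈ RingHom.ker (algebraMap A C) := hx
    have ha' : a' ∈ RingHom.ker (algebraMap A C) := hy
    rw [Ideal.mem_bot, ← map_mul, Ideal.Quotient.eq_zero_iff_mem]
    have hle : RingHom.ker (algebraMap A C) * RingHom.ker (algebraMap A C) ≤
        RingHom.ker (algebraMap A C) ^ 2 := le_of_eq (pow_two _).symm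
    exact hle (Ideal.mul_mem_mul ha ha')
  let σ := Algebra.FormallySmooth.liftOfSurjective (IsScalarTower.toAlgHom A B C) q hq hq'
  refine ⟨σ, fun b => ?_⟩
  obtain ⟨a, ha⟩ := Ideal.Quotient.mk_surjective (σ b)
  refine ⟨a, ha.symm, ?_⟩
  have h1 := Algebra.FormallySmooth.liftOfSurjective_apply (IsScalarTower.toAlgHom A B C) q hq hq' b
  rw [← hqmk a, ha]
  exact h1

/-- retraction of the conormal map. -/
lemma H6_cot_retraction :
    ∃ r : (RingHom.ker (algebraMap B C)).Cotangent →ₗ[A]
        (RingHom.ker (algebraMap A C)).Cotangent,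
      r ∘ₗ (Ideal.mapCotangent (RingHom.ker (algebraMap A C)) (RingHom.ker (algebraMap B C))
        (Algebra.ofId A B)
        (le_of_eq (congrArg RingHom.ker (IsScalarTower.algebraMap_eq A B C)))) =
          LinearMap.id := by
  obtain ⟨σ, hσ⟩ := H6_exists_sigma A B C hC
  obtain ⟨I, hI⟩ : ∃ I : Ideal A, I = RingHom.ker (algebraMap A C) := ⟨_, rfl⟩
  obtain ⟨J, hJ⟩ : ∃ J : Ideal B, J = RingHom.ker (algebraMap B C) := ⟨_, rfl⟩
  have hσJ : ∀ y ∈ RingHom.ker (algebraMap B C),
      σ y ∈ (RingHom.ker (algebraMap A C)).cotangentIdeal := by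
    intro y hy
    obtain ⟨a, ha, hac⟩ := hσ y
    rw [ha, Ideal.mk_mem_cotangentIdeal, RingHom.mem_ker, hac]
    exact hy
  let σJ : (RingHom.ker (algebraMap B C)) →ₗ[A] (RingHom.ker (algebraMap A C)).cotangentIdeal :=
    LinearMap.codRestrict ((RingHom.ker (algebraMap A C)).cotangentIdeal.restrictScalars A)
      (σ.toLinearMap ∘ₗ ((RingHom.ker (algebraMap B C)).restrictScalars A).subtype)
      (fun y => hσJ y y.2)
  let r₀ : (RingHom.ker (algebraMap B C)) →ₗ[A] (RingHom.ker (algebraMap A C)).Cotangent :=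
    (RingHom.ker (algebraMap A C)).cotangentEquivIdeal.symm.toLinearMap ∘ₗ σJ
  have hkill : ∀ z : RingHom.ker (algebraMap B C),
      z ∈ (RingHom.ker (algebraMap B C) • ⊤ : Submodule B (RingHom.ker (algebraMap B C))) →
        r₀ z = 0 := by
    intro z hz
    have h0 : σ (z : B) = 0 := by
      refine Submodule.smul_induction_on hz ?_ ?_
      · intro j hj w _
        have h1 : σ ((j • w : RingHom.ker (algebraMap B C)) : B) = σ j * σ (w : B) := by
          rw [← map_mul]; rfl
        rw [h1]
        have hle : (RingHom.ker (algebraMap A C)).cotangentIdeal *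
            (RingHom.ker (algebraMap A C)).cotangentIdeal ≤ ⊥ := by
          rw [← Ideal.cotangentIdeal_square]
          exact le_of_eq (pow_two _).symm
        have h2 := hle (Ideal.mul_mem_mul (hσJ j hj) (hσJ w w.2))
        rw [Ideal.mem_bot] at h2
        exact h2
      · intro x y hx hy
        rw [Submodule.coe_add, map_add, hx, hy, add_zero]
    have h1 : σJ z = 0 := Subtype.ext h0
    show (RingHom.ker (algebraMap A C)).cotangentEquivIdeal.symm (σJ z) = 0
    rw [h1, map_zero]
  let r : (RingHom.ker (algebraMap B C)).Cotangent →ₗ[A]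
      (RingHom.ker (algebraMap A C)).Cotangent :=
    Submodule.liftQ ((RingHom.ker (algebraMap B C) • ⊤ :
      Submodule B (RingHom.ker (algebraMap B C))).restrictScalars A) r₀
      (fun z hz => hkill z hz)
  refine ⟨r, ?_⟩
  apply LinearMap.ext
  intro z
  obtain ⟨x, rfl⟩ := (RingHom.ker (algebraMap A C)).toCotangent_surjective z
  rw [LinearMap.comp_apply, Ideal.mapCotangent_toCotangent, LinearMap.id_apply]
  show (RingHom.ker (algebraMap A C)).cotangentEquivIdeal.symm (σJ _) = _
  rw [LinearEquiv.symm_apply_eq]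
  apply Subtype.ext
  show σ (Algebra.ofId A B (x : A)) = _
  rw [Ideal.cotangentEquivIdeal_apply, Ideal.toCotangent_to_quotient_square]
  exact σ.commutes (x : A)

lemma H6_BC_surjective : Function.Surjective (algebraMap B C) := by
  intro c
  obtain ⟨a, rfl⟩ := hC c
  exact ⟨algebraMap A B a, (IsScalarTower.algebraMap_apply A B C a).symm⟩

lemma H6_kerCot_surjective :
    Function.Surjective (KaehlerDifferential.kerCotangentToTensor A B C) := by
  have hex := KaehlerDifferential.exact_kerCotangentToTensor_mapBaseChange A B C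
    (H6_BC_surjective A B C hC)
  haveI : Subsingleton (Ω[C⁄A]) := KaehlerDifferential.subsingleton_of_surjective A C hC
  intro x
  exact (hex x).1 (Subsingleton.elim _ _)

lemma H6_cot_range_eq :
    LinearMap.range (Ideal.mapCotangent (RingHom.ker (algebraMap A C))
        (RingHom.ker (algebraMap B C)) (Algebra.ofId A B)
        (le_of_eq (congrArg RingHom.ker (IsScalarTower.algebraMap_eq A B C)))) =
      LinearMap.ker ((KaehlerDifferential.kerCotangentToTensor A B C).restrictScalars A) := by
  apply le_antisymm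
  · rintro _ ⟨z, rfl⟩
    obtain ⟨x, rfl⟩ := (RingHom.ker (algebraMap A C)).toCotangent_surjective z
    rw [LinearMap.mem_ker, Ideal.mapCotangent_toCotangent]
    show KaehlerDifferential.kerCotangentToTensor A B C _ = 0
    rw [KaehlerDifferential.kerCotangentToTensor_toCotangent]
    show (1 : C) ⊗ₜ[B] KaehlerDifferential.D A B (algebraMap A B (x : A)) = 0
    rw [Derivation.map_algebraMap, TensorProduct.tmul_zero]
  · intro z hz
    obtain ⟨y, rfl⟩ := (RingHom.ker (algebraMap B C)).toCotangent_surjective z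
    have hz1 : (1 : C) ⊗ₜ[B] KaehlerDifferential.D A B (y : B) = 0 := hz
    obtain ⟨σ, hσ⟩ := H6_exists_sigma A B C hC
    have hIJ : RingHom.ker (algebraMap A C) ≤
        (RingHom.ker (algebraMap B C)).comap (Algebra.ofId A B) :=
      le_of_eq (congrArg RingHom.ker (IsScalarTower.algebraMap_eq A B C))
    have hIJ2 : RingHom.ker (algebraMap A C) ^ 2 ≤
        (RingHom.ker (algebraMap B C) ^ 2).comap (Algebra.ofId A B) :=
      (Ideal.pow_right_mono hIJ 2).trans (Ideal.le_comap_pow _ 2)
    let ι : A ⧸ RingHom.ker (algebraMap A C) ^ 2 →ₐ[A] B ⧸ RingHom.ker (algebraMap B C) ^ 2 :=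
      Ideal.quotientMapₐ (RingHom.ker (algebraMap B C) ^ 2) (Algebra.ofId A B) hIJ2
    have hιmk : ∀ a : A, ι (Ideal.Quotient.mk _ a) = Ideal.Quotient.mk _ (algebraMap A B a) :=
      fun a => rfl
    let τ : B →ₐ[A] B ⧸ RingHom.ker (algebraMap B C) ^ 2 := ι.comp σ
    have hτ : ∀ b, τ b - Ideal.Quotient.mk _ b ∈ (RingHom.ker (algebraMap B C)).cotangentIdeal := by
      intro b
      obtain ⟨a, ha, hac⟩ := hσ b
      have h1 : τ b = Ideal.Quotient.mk _ (algebraMap A B a) := by
        show ι (σ b) = _
        rw [ha, hιmk]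
      rw [h1, ← map_sub, Ideal.mk_mem_cotangentIdeal, RingHom.mem_ker, map_sub,
        ← IsScalarTower.algebraMap_apply, hac, sub_self]
    have eτ : (Ideal.Quotient.mkₐ A (RingHom.ker (algebraMap B C)).cotangentIdeal).comp τ =
        IsScalarTower.toAlgHom A B
          ((B ⧸ RingHom.ker (algebraMap B C) ^ 2) ⧸
            (RingHom.ker (algebraMap B C)).cotangentIdeal) := by
      ext b
      show Ideal.Quotient.mk _ (τ b) = Ideal.Quotient.mk _ (Ideal.Quotient.mk _ b)
      rw [Ideal.Quotient.eq]
      exact hτ b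
    let D₀ := derivationToSquareZeroOfLift (RingHom.ker (algebraMap B C)).cotangentIdeal
      (Ideal.cotangentIdeal_square _) τ eτ
    have hD₀ : ∀ b, ((D₀ b : (RingHom.ker (algebraMap B C)).cotangentIdeal) :
        B ⧸ RingHom.ker (algebraMap B C) ^ 2) = τ b - Ideal.Quotient.mk _ b := fun b => rfl
    have hkillJ : ∀ j ∈ RingHom.ker (algebraMap B C),
        ∀ t : (RingHom.ker (algebraMap B C)).cotangentIdeal, j • t = 0 := by
      intro j hj t
      apply Subtype.ext
      show Ideal.Quotient.mk _ j * (t : B ⧸ RingHom.ker (algebraMap B C) ^ 2) = 0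
      have hle : (RingHom.ker (algebraMap B C)).cotangentIdeal *
          (RingHom.ker (algebraMap B C)).cotangentIdeal ≤ ⊥ := by
        rw [← Ideal.cotangentIdeal_square]
        exact le_of_eq (pow_two _).symm
      have h2 := hle (Ideal.mul_mem_mul (Ideal.mk_mem_cotangentIdeal.2 hj) t.2)
      rw [Ideal.mem_bot] at h2
      exact h2
    have hmem := H6_mem_ker_smul_of_tmul_eq_zero (H6_BC_surjective A B C hC)
      (KaehlerDifferential.D A B (y : B)) hz1
    have hL : D₀.liftKaehlerDifferential (KaehlerDifferential.D A B (y : B)) = 0 := by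
      refine Submodule.smul_induction_on hmem ?_ ?_
      · intro j hj ω _
        rw [map_smul]
        exact hkillJ j hj _
      · intro x x' hx hx'
        rw [map_add, hx, hx', add_zero]
    rw [Derivation.liftKaehlerDifferential_comp_D] at hL
    obtain ⟨a, ha, hac⟩ := hσ (y : B)
    have haI : a ∈ RingHom.ker (algebraMap A C) := by
      rw [RingHom.mem_ker, hac]
      exact y.2
    have h3 : τ (y : B) - Ideal.Quotient.mk _ (y : B) = 0 := by
      rw [← hD₀, hL]
      rfl
    have h4 : τ (y : B) = Ideal.Quotient.mk _ (algebraMap A B a) := by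
      show ι (σ (y : B)) = _
      rw [ha, hιmk]
    rw [h4, ← map_sub, Ideal.Quotient.eq_zero_iff_mem] at h3
    refine ⟨(RingHom.ker (algebraMap A C)).toCotangent ⟨a, haI⟩, ?_⟩
    rw [Ideal.mapCotangent_toCotangent, Ideal.toCotangent_eq]
    exact h3

end

end Groth.Agent.Lib.helper6
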