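import Mathlib
import Groth.Prelude.Def_CAlgX

set_option autoImplicit false
set_option linter.style.haveILetI false

namespace Groth.Agent.Lib.helper6

universe u
open TensorProduct

section

variable {R R' A : Type u} [CommRing R] [CommRing R'] [Algebra R R'] [CommRing A] [Algebra R A]

noncomputable def H6_rhoA (ρ : R' →ₗ[R] R) : R' ⊗[R] A →ₗ[R] A :=
  (TensorProduct.lid R A).toLinearMap ∘ₗ ρ.rTensor A

lemma H6_rhoA_tmul (ρ : R' →ₗ[R] R) (r' : R') (a : A) :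
    H6_rhoA ρ (r' ⊗ₜ[R] a) = ρ r' • a := by
  simp [H6_rhoA]

lemma H6_rhoA_mul (ρ : R' →ₗ[R] R) (a : A) (z : R' ⊗[R] A) :
    H6_rhoA ρ (((1 : R') ⊗ₜ[R] a) * z) = a * H6_rhoA ρ z := by
  induction z using TensorProduct.induction_on with
  | zero => simp
  | tmul r' a₂ =>
    rw [Algebra.TensorProduct.tmul_mul_tmul, one_mul, H6_rhoA_tmul, H6_rhoA_tmul, mul_smul_comm]
  | add x y hx hy => rw [mul_add, map_add, hx, hy, map_add, mul_add]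

lemma H6_rhoA_mem (ρ : R' →ₗ[R] R) (J : Ideal A) (z : R' ⊗[R] A)
    (hz : z ∈ J.map (Algebra.TensorProduct.includeRight : A →ₐ[R] R' ⊗[R] A)) :
    H6_rhoA ρ z ∈ J := by
  have key : ∀ w : R' ⊗[R] A, H6_rhoA ρ (w * z) ∈ J := by
    unfold Ideal.map at hz
    refine Submodule.span_induction (p := fun z _ => ∀ w : R' ⊗[R] A, H6_rhoA ρ (w * z) ∈ J)
      ?_ ?_ ?_ ?_ hz
    · rintro _ ⟨j, hj, rfl⟩ w
      show H6_rhoA ρ (w * ((1 : R') ⊗ₜ[R] j)) ∈ J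
      rw [mul_comm, H6_rhoA_mul]
      exact J.mul_mem_right _ hj
    · intro w
      rw [mul_zero, map_zero]
      exact J.zero_mem
    · intro x y _ _ hx hy w
      rw [mul_add, map_add]
      exact J.add_mem (hx w) (hy w)
    · intro c x _ hx w
      rw [smul_eq_mul, ← mul_assoc]
      exact hx _
  have := key 1
  rwa [one_mul] at this

lemma H6_rhoA_mul_of_mem (ρ : R' →ₗ[R] R) (hρ1 : ρ 1 = 1) (J : Ideal A) (hJ : J ^ 2 = ⊥)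
    (w₁ w₂ : R' ⊗[R] A) (a₁ a₂ : A)
    (h₁ : w₁ - (1 : R') ⊗ₜ[R] a₁ ∈
      J.map (Algebra.TensorProduct.includeRight : A →ₐ[R] R' ⊗[R] A))
    (h₂ : w₂ - (1 : R') ⊗ₜ[R] a₂ ∈
      J.map (Algebra.TensorProduct.includeRight : A →ₐ[R] R' ⊗[R] A)) :
    H6_rhoA ρ (w₁ * w₂) = H6_rhoA ρ w₁ * H6_rhoA ρ w₂ := by
  obtain ⟨z₁, hz₁⟩ : ∃ z₁, z₁ = w₁ - (1 : R') ⊗ₜ[R] a₁ := ⟨_, rfl⟩
  obtain ⟨z₂, hz₂⟩ : ∃ z₂, z₂ = w₂ - (1 : R') ⊗ₜ[R] a₂ := ⟨_, rfl⟩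
  rw [← hz₁] at h₁
  rw [← hz₂] at h₂
  have hw₁ : w₁ = (1 : R') ⊗ₜ[R] a₁ + z₁ := by rw [hz₁]; ring
  have hw₂ : w₂ = (1 : R') ⊗ₜ[R] a₂ + z₂ := by rw [hz₂]; ring
  have hzz : z₁ * z₂ = 0 := by
    have h3 : z₁ * z₂ ∈ (J.map (Algebra.TensorProduct.includeRight : A →ₐ[R] R' ⊗[R] A)) ^ 2 := by
      rw [pow_two]; exact Ideal.mul_mem_mul h₁ h₂
    rw [← Ideal.map_pow, hJ, Ideal.map_bot, Ideal.mem_bot] at h3
    exact h3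
  have hp : H6_rhoA ρ z₁ * H6_rhoA ρ z₂ = 0 := by
    have h3 : H6_rhoA ρ z₁ * H6_rhoA ρ z₂ ∈ J ^ 2 := by
      rw [pow_two]; exact Ideal.mul_mem_mul (H6_rhoA_mem ρ J z₁ h₁) (H6_rhoA_mem ρ J z₂ h₂)
    rw [hJ, Ideal.mem_bot] at h3
    exact h3
  have e : w₁ * w₂ = ((1 : R') ⊗ₜ[R] a₁) * ((1 : R') ⊗ₜ[R] a₂ + z₂) +
      ((1 : R') ⊗ₜ[R] a₂) * z₁ + z₁ * z₂ := by
    rw [hw₁, hw₂]; ring
  have e1 : H6_rhoA ρ ((1 : R') ⊗ₜ[R] a₁) = a₁ := by rw [H6_rhoA_tmul, hρ1, one_smul]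
  have e2 : H6_rhoA ρ ((1 : R') ⊗ₜ[R] a₂) = a₂ := by rw [H6_rhoA_tmul, hρ1, one_smul]
  rw [e, hzz, add_zero, map_add, H6_rhoA_mul, H6_rhoA_mul, map_add, e2, hw₁, hw₂, map_add,
    map_add, e1, e2]
  linear_combination (-1 : A) * hp

end

end Groth.Agent.Lib.helper6

namespace Groth.Agent.Lib.helper6

universe u
open TensorProduct

theorem H6_ds_descent {R S R' : Type u} [CommRing R] [CommRing S] [Algebra R S]
    (𝔫 : Ideal S) [CommRing R'] [Algebra R R'] (ρ : R' →ₗ[R] R)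
    (hρ : ∀ r : R, ρ (algebraMap R R' r) = r)
    (h : CAlgX.IsAdicFormallySmooth R' (R' ⊗[R] S)
      (𝔫.map (Algebra.TensorProduct.includeRight : S →ₐ[R] R' ⊗[R] S))) :
    CAlgX.IsAdicFormallySmooth R S 𝔫 := by
  intro A _ _ J hJ ψ hk
  obtain ⟨k, hk⟩ := hk
  let incA : A →ₐ[R] R' ⊗[R] A := Algebra.TensorProduct.includeRight
  let J' : Ideal (R' ⊗[R] A) := J.map incA
  have hJ' : J' ^ 2 = ⊥ := by
    show (J.map incA) ^ 2 = ⊥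
    rw [← Ideal.map_pow, hJ, Ideal.map_bot]
  let ψ₀ : A ⧸ J →ₐ[R] (R' ⊗[R] A) ⧸ J' := Ideal.quotientMapₐ J' incA Ideal.le_comap_map
  let ψ' : R' ⊗[R] S →ₐ[R'] (R' ⊗[R] A) ⧸ J' :=
    Algebra.TensorProduct.lift (Algebra.ofId R' ((R' ⊗[R] A) ⧸ J')) (ψ₀.comp ψ)
      (fun _ _ => Commute.all _ _)
  have hψ'1 : ∀ x : S, ψ' ((1 : R') ⊗ₜ[R] x) = ψ₀ (ψ x) := fun x => by
    show Algebra.TensorProduct.lift (Algebra.ofId R' ((R' ⊗[R] A) ⧸ J')) (ψ₀.comp ψ)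
      (fun _ _ => Commute.all _ _) ((1 : R') ⊗ₜ[R] x) = ψ₀ (ψ x)
    rw [Algebra.TensorProduct.lift_tmul, map_one, one_mul]
    rfl
  have hψ'k : ∃ k' : ℕ, ∀ x ∈
      (𝔫.map (Algebra.TensorProduct.includeRight : S →ₐ[R] R' ⊗[R] S)) ^ k', ψ' x = 0 := by
    refine ⟨k, fun x hx => ?_⟩
    rw [← Ideal.map_pow] at hx
    have hle : (𝔫 ^ k).map (Algebra.TensorProduct.includeRight : S →ₐ[R] R' ⊗[R] S) ≤
        RingHom.ker ψ' := by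
      rw [Ideal.map_le_iff_le_comap]
      intro y hy
      rw [Ideal.mem_comap, RingHom.mem_ker]
      show ψ' ((1 : R') ⊗ₜ[R] y) = 0
      rw [hψ'1, hk y hy, map_zero]
    exact hle hx
  obtain ⟨χ', hχ'⟩ := h (R' ⊗[R] A) J' hJ' ψ' hψ'k
  have hχ'1 : ∀ x : S, Ideal.Quotient.mk J' (χ' ((1 : R') ⊗ₜ[R] x)) = ψ₀ (ψ x) := fun x =>
    (congrArg (fun g => g ((1 : R') ⊗ₜ[R] x)) hχ').trans (hψ'1 x)
  choose a ha using fun x : S => Ideal.Quotient.mk_surjective (ψ x)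
  have hz : ∀ x : S, χ' ((1 : R') ⊗ₜ[R] x) - (1 : R') ⊗ₜ[R] a x ∈ J.map incA := fun x => by
    have h1 : Ideal.Quotient.mk J' (χ' ((1 : R') ⊗ₜ[R] x)) =
        Ideal.Quotient.mk J' ((1 : R') ⊗ₜ[R] a x) := by
      rw [hχ'1, ← ha x]
      rfl
    exact Ideal.Quotient.eq.1 h1
  have hρ1 : ρ 1 = 1 := by
    have := hρ 1
    rwa [map_one] at this
  let t : S →ₗ[R] A :=
    (H6_rhoA ρ) ∘ₗ (χ'.toLinearMap.restrictScalars R) ∘ₗ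
      (Algebra.TensorProduct.includeRight : S →ₐ[R] R' ⊗[R] S).toLinearMap
  have ht : ∀ x : S, t x = H6_rhoA ρ (χ' ((1 : R') ⊗ₜ[R] x)) := fun x => rfl
  have hmul : ∀ x y : S, t (x * y) = t x * t y := by
    intro x y
    rw [ht, ht, ht]
    have h1 : ((1 : R') ⊗ₜ[R] (x * y) : R' ⊗[R] S) =
        ((1 : R') ⊗ₜ[R] x) * ((1 : R') ⊗ₜ[R] y) := by
      rw [Algebra.TensorProduct.tmul_mul_tmul, one_mul]
    rw [h1, map_mul]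
    exact H6_rhoA_mul_of_mem ρ hρ1 J hJ _ _ (a x) (a y) (hz x) (hz y)
  have hone : t 1 = 1 := by
    rw [ht]
    have h1 : ((1 : R') ⊗ₜ[R] (1 : S) : R' ⊗[R] S) = 1 := rfl
    rw [h1, map_one]
    have h2 : (1 : R' ⊗[R] A) = (1 : R') ⊗ₜ[R] (1 : A) := rfl
    rw [h2, H6_rhoA_tmul, hρ1, one_smul]
  refine ⟨AlgHom.ofLinearMap t hone hmul, ?_⟩
  ext x
  show Ideal.Quotient.mk J (t x) = ψ x
  rw [ht, ← ha x]
  have h3 : χ' ((1 : R') ⊗ₜ[R] x) =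
      (1 : R') ⊗ₜ[R] a x + (χ' ((1 : R') ⊗ₜ[R] x) - (1 : R') ⊗ₜ[R] a x) := by ring
  rw [h3, map_add, H6_rhoA_tmul, hρ1, one_smul, map_add,
    Ideal.Quotient.eq_zero_iff_mem.2 (H6_rhoA_mem ρ J _ (hz x)), add_zero]

end Groth.Agent.Lib.helper6
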