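import Mathlib

set_option autoImplicit false

namespace Groth.Agent.Lib.helper6

open scoped TensorProduct

section
variable {R : Type*} [CommRing R] [IsDomain R] [IsDiscreteValuationRing R]
  {K : Type*} [Field K] [Algebra R K] [IsFractionRing R K]

omit [IsDomain R] [IsDiscreteValuationRing R] [IsFractionRing R K] in
/-- clearing denominators in `K ⊗ M`. -/
lemma H6_dvr_clear {ϖ : R} (hK : ∀ k : K, ∃ (n : ℕ) (r : R), ϖ ^ n • k = algebraMap R K r)
    {M : Type*} [AddCommGroup M] [Module R M] (x : K ⊗[R] M) :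
    ∃ (n : ℕ) (m : M), ϖ ^ n • x = (1 : K) ⊗ₜ[R] m := by
  induction x using TensorProduct.induction_on with
  | zero => exact ⟨0, 0, by simp⟩
  | tmul k m =>
    obtain ⟨n, r, hk⟩ := hK k
    refine ⟨n, r • m, ?_⟩
    rw [TensorProduct.smul_tmul', hk, Algebra.algebraMap_eq_smul_one, TensorProduct.smul_tmul]
  | add x y hx hy =>
    obtain ⟨n₁, m₁, h₁⟩ := hx
    obtain ⟨n₂, m₂, h₂⟩ := hy
    refine ⟨n₁ + n₂, ϖ ^ n₂ • m₁ + ϖ ^ n₁ • m₂, ?_⟩
    rw [smul_add, TensorProduct.tmul_add]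
    congr 1
    · rw [pow_add, mul_comm, mul_smul, h₁, TensorProduct.tmul_smul]
    · rw [pow_add, mul_smul, h₂, TensorProduct.tmul_smul]

lemma H6_dvr_frac {ϖ : R} (hϖ : Irreducible ϖ) (k : K) :
    ∃ (n : ℕ) (r : R), ϖ ^ n • k = algebraMap R K r := by
  obtain ⟨a, b, hb, rfl⟩ := IsFractionRing.div_surjective (A := R) k
  have hb0 : b ≠ 0 := nonZeroDivisors.ne_zero hb
  obtain ⟨n, u, hu⟩ := IsDiscreteValuationRing.eq_unit_mul_pow_irreducible hb0 hϖ
  refine ⟨n, a * ↑u⁻¹, ?_⟩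
  have hbK : algebraMap R K b ≠ 0 := by
    rwa [Ne, IsFractionRing.to_map_eq_zero_iff]
  rw [Algebra.smul_def, mul_div_assoc', div_eq_iff hbK, ← map_mul, ← map_mul]
  congr 1
  rw [hu]
  have : (↑u⁻¹ : R) * ↑u = 1 := Units.inv_mul u
  calc ϖ ^ n * a = a * (↑u⁻¹ * ↑u) * ϖ ^ n := by rw [this]; ring
    _ = a * ↑u⁻¹ * (↑u * ϖ ^ n) := by ring

/-- module-level descent. -/
lemma H6_dvr_descent_mod
    (A : Type*) [CommRing A] [Algebra R A] [Module.FaithfullyFlat R A]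
    (M : Type*) [AddCommGroup M] [Module R M] [Module.Flat R M]
    (jL : K ⊗[R] M →ₗ[R] (K ⊗[R] A) ⊗[R] M) (jR : A ⊗[R] M →ₗ[R] (K ⊗[R] A) ⊗[R] M)
    (hjL : ∀ (k : K) (m : M), jL (k ⊗ₜ m) = (k ⊗ₜ[R] (1 : A)) ⊗ₜ[R] m)
    (hjR : ∀ (a : A) (m : M), jR (a ⊗ₜ m) = ((1 : K) ⊗ₜ[R] a) ⊗ₜ[R] m)
    (x : K ⊗[R] M) (y : A ⊗[R] M) (h : jL x = jR y) :
    ∃ m : M, x = 1 ⊗ₜ m ∧ y = 1 ⊗ₜ m := by
  obtain ⟨ϖ, hϖ⟩ := IsDiscreteValuationRing.exists_irreducible R
  have hϖ0 : ϖ ≠ 0 := hϖ.ne_zero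
  -- jR injective
  have hjRinj : Function.Injective jR := by
    have h1 : jR = LinearMap.rTensor M (TensorProduct.mk R K A 1) := by
      apply TensorProduct.ext'
      intro a m
      rw [hjR]; simp
    rw [h1]
    exact Module.Flat.rTensor_preserves_injective_linearMap _
      (Module.Flat.tensorProduct_mk_injective R A K)
  obtain ⟨n, m, hx⟩ := H6_dvr_clear (fun k => H6_dvr_frac hϖ k) x
  have hy : ϖ ^ n • y = (1 : A) ⊗ₜ[R] m := by
    apply hjRinj
    rw [map_smul, ← h, ← map_smul, hx, hjL, hjR]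
  -- m ∈ ϖ^n M
  obtain ⟨m', hm'⟩ : ∃ m' : M, ϖ ^ n • m' = m := by
    obtain ⟨N, hN⟩ : ∃ N : Submodule R M, N = LinearMap.range (LinearMap.lsmul R M (ϖ ^ n)) :=
      ⟨_, rfl⟩
    have hkill : ∀ z : A ⊗[R] (M ⧸ N), ϖ ^ n • z = 0 := by
      intro z
      induction z using TensorProduct.induction_on with
      | zero => simp
      | tmul a z =>
        obtain ⟨z, rfl⟩ := N.mkQ_surjective z
        rw [← TensorProduct.tmul_smul, ← map_smul]
        have : N.mkQ (ϖ ^ n • z) = 0 := by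
          rw [Submodule.mkQ_apply, Submodule.Quotient.mk_eq_zero, hN]
          exact ⟨z, rfl⟩
        rw [this, TensorProduct.tmul_zero]
      | add z w hz hw => rw [smul_add, hz, hw, add_zero]
    have h2 : (1 : A) ⊗ₜ[R] N.mkQ m = 0 := by
      have := congrArg (LinearMap.lTensor A N.mkQ) hy
      rw [map_smul, hkill, LinearMap.lTensor_tmul] at this
      exact this.symm
    have h3 : N.mkQ m = 0 := by
      apply Module.FaithfullyFlat.tensorProduct_mk_injective (A := R) (B := A) (M ⧸ N)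
      simpa using h2
    rw [Submodule.mkQ_apply, Submodule.Quotient.mk_eq_zero, hN] at h3
    obtain ⟨m', hm'⟩ := h3
    exact ⟨m', hm'⟩
  refine ⟨m', ?_, ?_⟩
  · have hne : algebraMap R K (ϖ ^ n) ≠ 0 := by
      rw [Ne, IsFractionRing.to_map_eq_zero_iff]; exact pow_ne_zero _ hϖ0
    have h4 : algebraMap R K (ϖ ^ n) • x = algebraMap R K (ϖ ^ n) • ((1 : K) ⊗ₜ[R] m') := by
      rw [algebraMap_smul, algebraMap_smul, hx, ← hm', TensorProduct.tmul_smul]
    exact smul_right_injective _ hne h4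
  · have hreg : IsRegular (ϖ ^ n) := IsRegular.of_ne_zero (pow_ne_zero _ hϖ0)
    have h5 : ϖ ^ n • y = ϖ ^ n • ((1 : A) ⊗ₜ[R] m') := by
      rw [hy, ← hm', TensorProduct.tmul_smul]
    exact (Module.IsTorsionFree.isSMulRegular hreg : IsSMulRegular (A ⊗[R] M) (ϖ ^ n)) h5

theorem H6_dvr_descent_alg
    (A : Type*) [CommRing A] [Algebra R A] [Module.FaithfullyFlat R A]
    (B₁ B₂ : Type*) [CommRing B₁] [CommRing B₂] [Algebra R B₁] [Algebra R B₂]
    [Module.Flat R B₁]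
    (φK : K ⊗[R] B₂ →ₐ[K] K ⊗[R] B₁) (φA : A ⊗[R] B₂ →ₐ[A] A ⊗[R] B₁)
    (hcomp : ∀ b : B₂,
      Algebra.TensorProduct.map (Algebra.TensorProduct.includeLeft : K →ₐ[R] K ⊗[R] A)
          (AlgHom.id R B₁) (φK (1 ⊗ₜ b)) =
        Algebra.TensorProduct.map (Algebra.TensorProduct.includeRight : A →ₐ[R] K ⊗[R] A)
          (AlgHom.id R B₁) (φA (1 ⊗ₜ b))) :
    ∃! φ : B₂ →ₐ[R] B₁, (∀ b : B₂, φK (1 ⊗ₜ b) = 1 ⊗ₜ φ b) ∧
      (∀ b : B₂, φA (1 ⊗ₜ b) = 1 ⊗ₜ φ b) := by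
  have key : ∀ b : B₂, ∃ m : B₁, φK (1 ⊗ₜ b) = 1 ⊗ₜ m ∧ φA (1 ⊗ₜ b) = 1 ⊗ₜ m := fun b =>
    H6_dvr_descent_mod A B₁
      (Algebra.TensorProduct.map (Algebra.TensorProduct.includeLeft : K →ₐ[R] K ⊗[R] A)
          (AlgHom.id R B₁)).toLinearMap
      (Algebra.TensorProduct.map (Algebra.TensorProduct.includeRight : A →ₐ[R] K ⊗[R] A)
          (AlgHom.id R B₁)).toLinearMap
      (fun k m => by simp) (fun a m => by simp) _ _ (hcomp b)
  choose φ0 hφK hφA using key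
  have hinj : Function.Injective (fun m : B₁ => (1 : K) ⊗ₜ[R] m) :=
    Module.Flat.tensorProduct_mk_injective R B₁ K
  have h_one : φ0 1 = 1 := by
    apply hinj
    beta_reduce
    rw [← hφK, ← Algebra.TensorProduct.one_def, map_one, Algebra.TensorProduct.one_def]
  have h_mul : ∀ a b, φ0 (a * b) = φ0 a * φ0 b := by
    intro a b
    apply hinj
    beta_reduce
    rw [← hφK]
    have : (1 : K) ⊗ₜ[R] (a * b) = ((1 : K) ⊗ₜ[R] a) * ((1 : K) ⊗ₜ[R] b) := by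
      rw [Algebra.TensorProduct.tmul_mul_tmul, one_mul]
    rw [this, map_mul, hφK, hφK, Algebra.TensorProduct.tmul_mul_tmul, one_mul]
  have h_zero : φ0 0 = 0 := by
    apply hinj
    beta_reduce
    rw [← hφK, TensorProduct.tmul_zero, map_zero, TensorProduct.tmul_zero]
  have h_add : ∀ a b, φ0 (a + b) = φ0 a + φ0 b := by
    intro a b
    apply hinj
    beta_reduce
    rw [← hφK, TensorProduct.tmul_add, map_add, hφK, hφK, TensorProduct.tmul_add]
  have h_comm : ∀ r : R, φ0 (algebraMap R B₂ r) = algebraMap R B₁ r := by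
    intro r
    apply hinj
    beta_reduce
    rw [← hφK, Algebra.algebraMap_eq_smul_one, Algebra.algebraMap_eq_smul_one,
      TensorProduct.tmul_smul, TensorProduct.tmul_smul, ← algebraMap_smul K r,
      ← algebraMap_smul K r ((1 : K) ⊗ₜ[R] (1 : B₁)), map_smul,
      ← Algebra.TensorProduct.one_def, map_one, Algebra.TensorProduct.one_def]
  refine ⟨{ toFun := φ0, map_one' := h_one, map_mul' := h_mul, map_zero' := h_zero,
            map_add' := h_add, commutes' := h_comm }, ⟨fun b => hφK b, fun b => hφA b⟩, ?_⟩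
  rintro ψ ⟨hψK, -⟩
  ext b
  apply hinj
  beta_reduce
  rw [← hψK]
  exact hφK b

end

end Groth.Agent.Lib.helper6
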