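import Mathlib

set_option autoImplicit false
set_option linter.style.haveILetI false

open scoped nonZeroDivisors

namespace Groth.Agent.Lib.helper6

variable {D : Type*} [CommRing D] [IsDomain D]

/-- an ideal is invertible as a fractional ideal -/
def H6_Inv (I : Ideal D) : Prop := IsUnit (I : FractionalIdeal D⁰ (FractionRing D))

theorem H6_Inv_span_singleton {a : D} (ha : a ≠ 0) : H6_Inv (Ideal.span {a}) := by
  rw [H6_Inv, FractionalIdeal.coeIdeal_span_singleton]
  have h0 : algebraMap D (FractionRing D) a ≠ 0 :=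
    mt (IsFractionRing.to_map_eq_zero_iff).mp ha
  refine IsUnit.of_mul_eq_one (FractionalIdeal.spanSingleton D⁰ (algebraMap D (FractionRing D) a)⁻¹) ?_
  rw [FractionalIdeal.spanSingleton_mul_spanSingleton, mul_inv_cancel₀ h0,
    FractionalIdeal.spanSingleton_one]

theorem H6_Inv_mul {I J : Ideal D} : H6_Inv (I * J) ↔ H6_Inv I ∧ H6_Inv J := by
  rw [H6_Inv, FractionalIdeal.coeIdeal_mul, IsUnit.mul_iff]
  rfl

theorem H6_Inv_top : H6_Inv (⊤ : Ideal D) := by
  rw [H6_Inv, FractionalIdeal.coeIdeal_top]
  exact isUnit_one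

theorem H6_Inv_multiset_prod {s : Multiset (Ideal D)} :
    H6_Inv s.prod ↔ ∀ p ∈ s, H6_Inv p := by
  induction s using Multiset.induction_on with
  | empty =>
    simp only [Multiset.prod_zero, Multiset.notMem_zero, false_imp_iff, implies_true, iff_true]
    rw [Ideal.one_eq_top]
    exact H6_Inv_top (D := D)
  | cons a s ih =>
    rw [Multiset.prod_cons, H6_Inv_mul, ih]
    simp

theorem H6_Inv_cancel {p A B : Ideal D} (hp : H6_Inv p) (h : p * A = p * B) : A = B := by
  apply FractionalIdeal.coeIdeal_injective (K := FractionRing D)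
  have h2 := congrArg (fun I : Ideal D => (I : FractionalIdeal D⁰ (FractionRing D))) h
  simp only [FractionalIdeal.coeIdeal_mul] at h2
  exact hp.mul_left_cancel h2

theorem H6_Inv_ne_bot {p : Ideal D} (hp : H6_Inv p) : p ≠ ⊥ := by
  intro h
  rw [H6_Inv, h] at hp
  have : ((⊥ : Ideal D) : FractionalIdeal D⁰ (FractionRing D)) = 0 := by simp
  rw [this] at hp
  exact not_isUnit_zero hp

/-- uniqueness of factorisation into invertible primes -/
theorem H6_unique_fact (s t : Multiset (Ideal D)) (hs : ∀ p ∈ s, p.IsPrime ∧ H6_Inv p)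
    (ht : ∀ q ∈ t, q.IsPrime) (h : s.prod = t.prod) : s = t := by
  induction hn : Multiset.card s using Nat.strong_induction_on generalizing s t with
  | _ n ih =>
    by_cases hs0 : s = 0
    · subst hs0
      rw [Multiset.prod_zero] at h
      by_contra hne
      obtain ⟨q, hq⟩ := Multiset.exists_mem_of_ne_zero (Ne.symm hne)
      have hle : t.prod ≤ q := Ideal.multiset_prod_le_inf.trans (Multiset.inf_le hq)
      rw [← h] at hle
      rw [Ideal.one_eq_top] at hle
      exact (ht q hq).ne_top (top_le_iff.mp hle)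
    -- choose a minimal element of s
    obtain ⟨p, hp, hpmin⟩ : ∃ p ∈ s, ∀ p' ∈ s, p' ≤ p → p' = p := by
      have hne : s.toFinset.Nonempty := by
        obtain ⟨x, hx⟩ := Multiset.exists_mem_of_ne_zero hs0
        exact ⟨x, Multiset.mem_toFinset.mpr hx⟩
      obtain ⟨p, hp, hmin⟩ := s.toFinset.exists_minimal hne
      refine ⟨p, Multiset.mem_toFinset.mp hp, fun p' hp' hle => ?_⟩
      exact le_antisymm hle (hmin (Multiset.mem_toFinset.mpr hp') hle)
    have hpprime := (hs p hp).1
    have h1 : t.prod ≤ p := by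
      rw [← h]; exact Ideal.multiset_prod_le_inf.trans (Multiset.inf_le hp)
    obtain ⟨q, hq, hqp⟩ := hpprime.multiset_prod_le.mp h1
    have h2 : s.prod ≤ q := by
      rw [h]; exact Ideal.multiset_prod_le_inf.trans (Multiset.inf_le hq)
    obtain ⟨p', hp', hp'q⟩ := (ht q hq).multiset_prod_le.mp h2
    have hp'p : p' = p := hpmin p' hp' (hp'q.trans hqp)
    have hqeq : q = p := le_antisymm hqp (hp'p ▸ hp'q)
    subst hqeq
    obtain ⟨s', rfl⟩ := Multiset.exists_cons_of_mem hp
    obtain ⟨t', rfl⟩ := Multiset.exists_cons_of_mem hq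
    rw [Multiset.prod_cons, Multiset.prod_cons] at h
    have h3 := H6_Inv_cancel (hs q hp).2 h
    have := ih (Multiset.card s') (by rw [← hn, Multiset.card_cons]; exact Nat.lt_succ_self _) s' t'
      (fun p hp => hs p (Multiset.mem_cons_of_mem hp))
      (fun p hp => ht p (Multiset.mem_cons_of_mem hp)) h3 rfl
    rw [this]

end Groth.Agent.Lib.helper6
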