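import Mathlib
import Groth.Agent.Lib.helper6.DedekindFact

set_option autoImplicit false
set_option linter.style.haveILetI false

open scoped nonZeroDivisors

namespace Groth.Agent.Lib.helper6

variable {R : Type*} [CommRing R] [IsDomain R]

theorem H6_map_multiset_prod {S : Type*} [CommRing S] (f : R →+* S) (s : Multiset (Ideal R)) :
    Ideal.map f s.prod = (s.map (Ideal.map f)).prod :=
  map_multiset_prod (Ideal.mapHom f) s

/-- an invertible prime is maximal, in a domain where ideals factor into primes -/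
theorem H6_inv_prime_isMaximal
    (hE : ∀ I : Ideal R, I ≠ ⊥ → ∃ s : Multiset (Ideal R), (∀ p ∈ s, p.IsPrime) ∧ s.prod = I)
    (P : Ideal R) [hP : P.IsPrime] (hPinv : H6_Inv P) : P.IsMaximal := by
  have hP0 : P ≠ ⊥ := H6_Inv_ne_bot hPinv
  refine Ideal.isMaximal_iff.mpr ⟨fun h1 => hP.ne_top ((Ideal.eq_top_iff_one P).mpr h1), ?_⟩
  intro J a hPJ haP haJ
  -- it suffices that P ⊔ (a) = ⊤
  suffices hI : P ⊔ Ideal.span {a} = ⊤ by
    have hle : P ⊔ Ideal.span {a} ≤ J :=
      sup_le hPJ ((Ideal.span_singleton_le_iff_mem J).mpr haJ)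
    rw [hI] at hle
    exact (Ideal.eq_top_iff_one J).mp (top_le_iff.mp hle)
  obtain ⟨I, hIdef⟩ : ∃ I, I = P ⊔ Ideal.span {a} := ⟨_, rfl⟩
  obtain ⟨I2, hI2def⟩ : ∃ I2, I2 = P ⊔ Ideal.span {a ^ 2} := ⟨_, rfl⟩
  rw [← hIdef]
  have hPI : P ≤ I := hIdef ▸ le_sup_left
  have hPI2 : P ≤ I2 := hI2def ▸ le_sup_left
  have hI0 : I ≠ ⊥ := fun h => hP0 (le_bot_iff.mp (h ▸ hPI))
  have hI20 : I2 ≠ ⊥ := fun h => hP0 (le_bot_iff.mp (h ▸ hPI2))
  obtain ⟨s, hs, hsI⟩ := hE I hI0
  obtain ⟨t, ht, htI2⟩ := hE I2 hI20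
  have hsP : ∀ p ∈ s, P ≤ p := fun p hp =>
    hPI.trans (hsI ▸ Ideal.multiset_prod_le_inf.trans (Multiset.inf_le hp))
  have htP : ∀ p ∈ t, P ≤ p := fun p hp =>
    hPI2.trans (htI2 ▸ Ideal.multiset_prod_le_inf.trans (Multiset.inf_le hp))
  -- pass to the quotient
  let f := Ideal.Quotient.mk P
  have hf : Function.Surjective f := Ideal.Quotient.mk_surjective
  have hker : RingHom.ker f = P := Ideal.mk_ker
  have hfa : f a ≠ 0 := fun h => haP (Ideal.Quotient.eq_zero_iff_mem.mp h)
  have hmapI : Ideal.map f I = Ideal.span {f a} := by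
    rw [hIdef, Ideal.map_sup, Ideal.map_quotient_self, bot_sup_eq, Ideal.map_span,
      Set.image_singleton]
  have hmapI2 : Ideal.map f I2 = Ideal.span {f a} * Ideal.span {f a} := by
    rw [hI2def, Ideal.map_sup, Ideal.map_quotient_self, bot_sup_eq, Ideal.map_span,
      Set.image_singleton, Ideal.span_singleton_mul_span_singleton, map_pow, pow_two]
  have hprod1 : ((s + s).map (Ideal.map f)).prod = Ideal.span {f a} * Ideal.span {f a} := by
    rw [Multiset.map_add, Multiset.prod_add, ← H6_map_multiset_prod, hsI, hmapI]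
  have hprod2 : (t.map (Ideal.map f)).prod = Ideal.span {f a} * Ideal.span {f a} := by
    rw [← H6_map_multiset_prod, htI2, hmapI2]
  have hinvall : ∀ p' ∈ (s + s).map (Ideal.map f), H6_Inv p' := by
    rw [← H6_Inv_multiset_prod, hprod1, H6_Inv_mul]
    exact ⟨H6_Inv_span_singleton hfa, H6_Inv_span_singleton hfa⟩
  have hkey : (s + s).map (Ideal.map f) = t.map (Ideal.map f) := by
    apply H6_unique_fact
    · intro p' hp'
      refine ⟨?_, hinvall p' hp'⟩
      obtain ⟨p, hp, rfl⟩ := Multiset.mem_map.mp hp'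
      rw [Multiset.mem_add, or_self] at hp
      haveI := hs p hp
      exact Ideal.map_isPrime_of_surjective hf (hker.le.trans (hsP p hp))
    · intro q' hq'
      obtain ⟨q, hq, rfl⟩ := Multiset.mem_map.mp hq'
      haveI := ht q hq
      exact Ideal.map_isPrime_of_surjective hf (hker.le.trans (htP q hq))
    · rw [hprod1, hprod2]
  have hcomap : ∀ p : Ideal R, P ≤ p → Ideal.comap f (Ideal.map f p) = p := by
    intro p hp
    rw [Ideal.comap_map_of_surjective f hf, ← RingHom.ker_eq_comap_bot, hker, sup_eq_left.mpr hp]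
  have hst : s + s = t := by
    have h1 := congrArg (Multiset.map (Ideal.comap f)) hkey
    rw [Multiset.map_map, Multiset.map_map] at h1
    have h2 : (s + s).map (Ideal.comap f ∘ Ideal.map f) = s + s := by
      conv_rhs => rw [← Multiset.map_id (s + s)]
      refine Multiset.map_congr rfl fun p hp => ?_
      rw [Multiset.mem_add, or_self] at hp
      exact hcomap p (hsP p hp)
    have h3 : t.map (Ideal.comap f ∘ Ideal.map f) = t := by
      conv_rhs => rw [← Multiset.map_id t]
      refine Multiset.map_congr rfl fun p hp => ?_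
      exact hcomap p (htP p hp)
    rw [h2, h3] at h1
    exact h1
  have hI2eq : I2 = I * I := by
    rw [← htI2, ← hst, Multiset.prod_add, hsI]
  -- P ≤ P * I
  have hPle : P ≤ P * I := by
    intro x hx
    have hx2 : x ∈ I * I := hI2eq ▸ hPI2 hx
    have hII : I * I ≤ P * P ⊔ Ideal.span {a} := by
      have e1 : P * (P ⊔ Ideal.span {a}) ≤ P * P ⊔ Ideal.span {a} := by
        rw [Ideal.mul_sup]
        exact sup_le le_sup_left (Ideal.mul_le_right.trans le_sup_right)
      have e2 : Ideal.span {a} * (P ⊔ Ideal.span {a}) ≤ P * P ⊔ Ideal.span {a} :=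
        Ideal.mul_le_left.trans le_sup_right
      rw [hIdef, Ideal.sup_mul]
      exact sup_le e1 e2
    obtain ⟨y, hy, z, hz, hyz⟩ := Submodule.mem_sup.mp (hII hx2)
    obtain ⟨c, rfl⟩ := Ideal.mem_span_singleton'.mp hz
    have hca : c * a ∈ P := by
      have : c * a = x - y := by rw [← hyz]; ring
      rw [this]
      exact P.sub_mem hx (Ideal.mul_le_right hy)
    have hc : c ∈ P := (hP.mem_or_mem hca).resolve_right haP
    rw [← hyz]
    refine (P * I).add_mem (Ideal.mul_mono_right hPI hy) ?_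
    exact Ideal.mul_mem_mul hc (hIdef ▸ Ideal.mem_sup_right (Ideal.mem_span_singleton_self a))
  have hPeq : P * I = P * ⊤ := by
    rw [Ideal.mul_top]
    exact le_antisymm Ideal.mul_le_left hPle
  exact H6_Inv_cancel hPinv hPeq

end Groth.Agent.Lib.helper6
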