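import Mathlib
import Groth.Agent.Lib.helper6.DedekindFact2

set_option autoImplicit false
set_option linter.style.haveILetI false

open scoped nonZeroDivisors

namespace Groth.Agent.Lib.helper6

variable {R : Type*} [CommRing R] [IsDomain R]

theorem H6_prime_inv
    (hE : ∀ I : Ideal R, I ≠ ⊥ → ∃ s : Multiset (Ideal R), (∀ p ∈ s, p.IsPrime) ∧ s.prod = I)
    (P : Ideal R) [hP : P.IsPrime] (hP0 : P ≠ ⊥) : H6_Inv P := by
  obtain ⟨a, haP, ha0⟩ := Submodule.exists_mem_ne_zero_of_ne_bot hP0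
  have hspan0 : Ideal.span {a} ≠ ⊥ := by
    rw [Ne, Ideal.span_singleton_eq_bot]; exact ha0
  obtain ⟨s, hs, hsa⟩ := hE (Ideal.span {a}) hspan0
  have hinv : ∀ p ∈ s, H6_Inv p := by
    rw [← H6_Inv_multiset_prod, hsa]
    exact H6_Inv_span_singleton ha0
  have hle : s.prod ≤ P := by
    rw [hsa]; exact (Ideal.span_singleton_le_iff_mem P).mpr haP
  obtain ⟨p, hp, hpP⟩ := hP.multiset_prod_le.mp hle
  haveI := hs p hp
  have hmax := H6_inv_prime_isMaximal hE p (hinv p hp)
  have : p = P := hmax.eq_of_le hP.ne_top hpP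
  rw [← this]
  exact hinv p hp

theorem H6_dedekind_of_fact
    (hE : ∀ I : Ideal R, I ≠ ⊥ → ∃ s : Multiset (Ideal R), (∀ p ∈ s, p.IsPrime) ∧ s.prod = I) :
    IsDedekindDomain R := by
  have hall : ∀ I : Ideal R, I ≠ ⊥ → H6_Inv I := by
    intro I hI
    obtain ⟨s, hs, hsI⟩ := hE I hI
    rw [← hsI, H6_Inv_multiset_prod]
    intro p hp
    haveI := hs p hp
    refine H6_prime_inv hE p ?_
    intro h0
    apply hI
    rw [← hsI]
    have : s.prod ≤ p := Ideal.multiset_prod_le_inf.trans (Multiset.inf_le hp)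
    rw [h0] at this
    exact le_bot_iff.mp this
  rw [isDedekindDomain_iff_mul_inv_cancel (K := FractionRing R)]
  intro J hJ
  rw [FractionalIdeal.mul_inv_cancel_iff_isUnit]
  obtain ⟨a, aI, ha, hJeq⟩ := FractionalIdeal.exists_eq_spanSingleton_mul J
  have haI : aI ≠ ⊥ := by
    intro h
    apply hJ
    rw [hJeq, h]
    simp
  rw [hJeq, IsUnit.mul_iff]
  refine ⟨?_, hall aI haI⟩
  have h0 : algebraMap R (FractionRing R) a ≠ 0 :=
    mt (IsFractionRing.to_map_eq_zero_iff).mp ha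
  refine IsUnit.of_mul_eq_one (FractionalIdeal.spanSingleton R⁰ (algebraMap R (FractionRing R) a)) ?_
  rw [FractionalIdeal.spanSingleton_mul_spanSingleton, inv_mul_cancel₀ h0,
    FractionalIdeal.spanSingleton_one]

end Groth.Agent.Lib.helper6
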