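import Mathlib
import Groth.Prelude.Def_CAlgX
import Groth.Prelude.Def_EGA41
import Groth.Agent.Lib.helper6.AdicLift
import Groth.Agent.Lib.helper6.AdicProj

set_option autoImplicit false
set_option linter.style.haveILetI false

namespace Groth.Agent.Lib.helper6

universe u

/-- square-zero lifting implies nilpotent lifting (adic version). -/
theorem H6_ega_of_adicfs {A B : Type u} [CommRing A] [CommRing B] [Algebra A B] (𝔟 : Ideal B)
    (h : CAlgX.IsAdicFormallySmooth A B 𝔟) (𝔞 : Ideal A) :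
    EGA41.IsFormallySmoothAdic A 𝔞 B 𝔟 := by
  intro C _ _ J hJ hak u hu
  clear hak
  revert u
  have hJ' := hJ
  revert hJ'
  revert ‹Algebra A C›
  apply Ideal.IsNilpotent.induction_on (S := C) J hJ
  · intro S _ I hI _ _ u hu
    exact h S I hI u hu
  · intro S _ I J hIJ h₁ h₂ _ hJnil g hg
    have hInil : IsNilpotent I := by
      obtain ⟨n, hn⟩ := hJnil
      refine ⟨n, ?_⟩
      rw [Ideal.zero_eq_bot] at hn ⊢
      exact le_bot_iff.1 ((Ideal.pow_right_mono hIJ n).trans hn.le)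
    have hJ'nil : IsNilpotent (J.map (Ideal.Quotient.mk I)) := by
      obtain ⟨n, hn⟩ := hJnil
      refine ⟨n, ?_⟩
      rw [← Ideal.map_pow, hn, Ideal.zero_eq_bot, Ideal.map_bot, Ideal.zero_eq_bot]
    let e : ((S ⧸ I) ⧸ J.map (Ideal.Quotient.mk I)) ≃ₐ[A] S ⧸ J :=
      { (DoubleQuot.quotQuotEquivQuotSup I J).trans
          (Ideal.quotEquivOfEq (sup_eq_right.mpr hIJ)) with
        commutes' := fun x => rfl }
    obtain ⟨g', e1⟩ := h₂ hJ'nil (e.symm.toAlgHom.comp g) (by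
      obtain ⟨k, hk⟩ := hg
      refine ⟨k, fun x hx => ?_⟩
      show e.symm (g x) = 0
      rw [hk x hx, map_zero])
    have hg' : ∃ k, ∀ x ∈ 𝔟 ^ k, g' x = 0 := by
      obtain ⟨k, hk⟩ := hg
      obtain ⟨N, hN⟩ := hJ'nil
      refine ⟨k * N, fun x hx => ?_⟩
      have hle : (𝔟 ^ k).map g'.toRingHom ≤ J.map (Ideal.Quotient.mk I) := by
        rw [Ideal.map_le_iff_le_comap]
        intro y hy
        rw [Ideal.mem_comap, ← Ideal.Quotient.eq_zero_iff_mem]
        have h3 : Ideal.Quotient.mk (J.map (Ideal.Quotient.mk I)) (g' y) = e.symm (g y) :=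
          congrArg (fun φ => φ y) e1
        show Ideal.Quotient.mk (J.map (Ideal.Quotient.mk I)) (g' y) = 0
        rw [h3, hk y hy, map_zero]
      have h4 : g' x ∈ ((𝔟 ^ k).map g'.toRingHom) ^ N := by
        rw [← Ideal.map_pow, ← pow_mul]
        exact Ideal.mem_map_of_mem g'.toRingHom hx
      have h5 := Ideal.pow_right_mono hle N h4
      rwa [hN, Ideal.zero_eq_bot, Ideal.mem_bot] at h5
    obtain ⟨f, rfl⟩ := h₁ hInil g' hg'
    refine ⟨f, ?_⟩
    replace e1 := congr_arg e.toAlgHom.comp e1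
    conv_rhs at e1 =>
      rw [← AlgHom.comp_assoc, AlgEquiv.comp_symm, AlgHom.id_comp]
    exact e1

section tsze

variable {B : Type u} [CommRing B] (𝔪 : Ideal B)

/-- the ideal of `B[ε]` of elements both of whose components lie in `𝔪^n`. -/
def H6_tszeIdeal (n : ℕ) : Ideal (TrivSqZeroExt B B) where
  carrier := {x | x.fst ∈ 𝔪 ^ n ∧ x.snd ∈ 𝔪 ^ n}
  add_mem' := fun {x y} hx hy => by
    refine ⟨?_, ?_⟩
    · rw [TrivSqZeroExt.fst_add]; exact add_mem hx.1 hy.1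
    · rw [TrivSqZeroExt.snd_add]; exact add_mem hx.2 hy.2
  zero_mem' := ⟨by rw [TrivSqZeroExt.fst_zero]; exact zero_mem _,
    by rw [TrivSqZeroExt.snd_zero]; exact zero_mem _⟩
  smul_mem' := fun c x hx => by
    refine ⟨?_, ?_⟩
    · rw [smul_eq_mul, TrivSqZeroExt.fst_mul]
      exact Ideal.mul_mem_left _ _ hx.1
    · rw [smul_eq_mul, TrivSqZeroExt.snd_mul, op_smul_eq_smul, smul_eq_mul, smul_eq_mul]
      exact add_mem (Ideal.mul_mem_left _ _ hx.2) (Ideal.mul_mem_right _ _ hx.1)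

lemma H6_mem_tszeIdeal (n : ℕ) (x : TrivSqZeroExt B B) :
    x ∈ H6_tszeIdeal 𝔪 n ↔ x.fst ∈ 𝔪 ^ n ∧ x.snd ∈ 𝔪 ^ n := Iff.rfl

lemma H6_tszeIdeal_mul_le (n : ℕ) :
    H6_tszeIdeal 𝔪 1 * H6_tszeIdeal 𝔪 n ≤ H6_tszeIdeal 𝔪 (n + 1) := by
  rw [Ideal.mul_le]
  intro x hx y hy
  rw [H6_mem_tszeIdeal] at hx hy ⊢
  rw [pow_one] at hx
  refine ⟨?_, ?_⟩
  · rw [TrivSqZeroExt.fst_mul, pow_succ']
    exact Ideal.mul_mem_mul hx.1 hy.1
  · rw [TrivSqZeroExt.snd_mul, op_smul_eq_smul, smul_eq_mul, smul_eq_mul, pow_succ']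
    refine add_mem (Ideal.mul_mem_mul hx.1 hy.2) ?_
    rw [mul_comm y.fst x.snd]
    exact Ideal.mul_mem_mul hx.2 hy.1

lemma H6_tszeIdeal_pow (n : ℕ) : H6_tszeIdeal 𝔪 1 ^ n = H6_tszeIdeal 𝔪 n := by
  apply le_antisymm
  · induction n with
    | zero =>
      intro x _
      rw [H6_mem_tszeIdeal, pow_zero, Ideal.one_eq_top]
      exact ⟨Submodule.mem_top, Submodule.mem_top⟩
    | succ n ih =>
      have h1 : H6_tszeIdeal 𝔪 1 ^ (n + 1) = H6_tszeIdeal 𝔪 1 ^ n * H6_tszeIdeal 𝔪 1 :=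
        Submodule.pow_succ _
      rw [h1, Ideal.mul_comm]
      exact (Ideal.mul_mono_right ih).trans (H6_tszeIdeal_mul_le 𝔪 n)
  · intro x hx
    rw [H6_mem_tszeIdeal] at hx
    have hinl : ∀ b ∈ 𝔪 ^ n, (TrivSqZeroExt.inl b : TrivSqZeroExt B B) ∈ H6_tszeIdeal 𝔪 1 ^ n := by
      intro b hb
      have hle : 𝔪.map (TrivSqZeroExt.inlHom B B) ≤ H6_tszeIdeal 𝔪 1 := by
        rw [Ideal.map_le_iff_le_comap]
        intro c hc
        rw [Ideal.mem_comap, H6_mem_tszeIdeal, pow_one]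
        exact ⟨hc, by simp⟩
      have h1 : TrivSqZeroExt.inlHom B B b ∈ (𝔪.map (TrivSqZeroExt.inlHom B B)) ^ n := by
        rw [← Ideal.map_pow]
        exact Ideal.mem_map_of_mem _ hb
      exact Ideal.pow_right_mono hle n h1
    have hx' : x = TrivSqZeroExt.inl x.fst + TrivSqZeroExt.inl x.snd * TrivSqZeroExt.inr 1 := by
      ext
      · simp
      · simp
    rw [hx']
    exact add_mem (hinl _ hx.1) (Ideal.mul_mem_right _ _ (hinl _ hx.2))

lemma H6_tsze_smodEq (n : ℕ) (x y : TrivSqZeroExt B B) :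
    x ≡ y [SMOD (H6_tszeIdeal 𝔪 1 ^ n • ⊤ : Submodule (TrivSqZeroExt B B) (TrivSqZeroExt B B))] ↔
      x.fst - y.fst ∈ 𝔪 ^ n ∧ x.snd - y.snd ∈ 𝔪 ^ n := by
  rw [SModEq.sub_mem, smul_eq_mul, Ideal.mul_top, H6_tszeIdeal_pow, H6_mem_tszeIdeal,
    TrivSqZeroExt.fst_sub, TrivSqZeroExt.snd_sub]

lemma H6_b_smodEq (n : ℕ) (x y : B) :
    x ≡ y [SMOD (𝔪 ^ n • ⊤ : Submodule B B)] ↔ x - y ∈ 𝔪 ^ n := by
  rw [SModEq.sub_mem, smul_eq_mul, Ideal.mul_top]

theorem H6_tsze_complete [IsAdicComplete 𝔪 B] :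
    IsAdicComplete (H6_tszeIdeal 𝔪 1) (TrivSqZeroExt B B) := by
  have hH : IsHausdorff (H6_tszeIdeal 𝔪 1) (TrivSqZeroExt B B) := by
    refine ⟨fun x hx => ?_⟩
    have h1 : x.fst = 0 := by
      refine IsHausdorff.haus (inferInstance : IsHausdorff 𝔪 B) _ (fun n => ?_)
      rw [H6_b_smodEq, sub_zero]
      have := (H6_tsze_smodEq 𝔪 n x 0).1 (hx n)
      simpa using this.1
    have h2 : x.snd = 0 := by
      refine IsHausdorff.haus (inferInstance : IsHausdorff 𝔪 B) _ (fun n => ?_)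
      rw [H6_b_smodEq, sub_zero]
      have := (H6_tsze_smodEq 𝔪 n x 0).1 (hx n)
      simpa using this.2
    ext
    · simpa using h1
    · simpa using h2
  have hP : IsPrecomplete (H6_tszeIdeal 𝔪 1) (TrivSqZeroExt B B) := by
    refine ⟨fun f hf => ?_⟩
    obtain ⟨L1, hL1⟩ := IsPrecomplete.prec (inferInstance : IsPrecomplete 𝔪 B)
      (f := fun n => (f n).fst) (fun {m n} hmn => by
        rw [H6_b_smodEq]
        exact ((H6_tsze_smodEq 𝔪 m _ _).1 (hf hmn)).1)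
    obtain ⟨L2, hL2⟩ := IsPrecomplete.prec (inferInstance : IsPrecomplete 𝔪 B)
      (f := fun n => (f n).snd) (fun {m n} hmn => by
        rw [H6_b_smodEq]
        exact ((H6_tsze_smodEq 𝔪 m _ _).1 (hf hmn)).2)
    refine ⟨TrivSqZeroExt.inl L1 + TrivSqZeroExt.inr L2, fun n => ?_⟩
    rw [H6_tsze_smodEq]
    refine ⟨?_, ?_⟩
    · have := (H6_b_smodEq 𝔪 n _ _).1 (hL1 n)
      simpa using this
    · have := (H6_b_smodEq 𝔪 n _ _).1 (hL2 n)
      simpa using this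
  exact { toIsHausdorff := hH, toIsPrecomplete := hP }

end tsze

/-- the ring map `a ↦ a + D(a) ε` into `B[ε]`. -/
def H6_twist {A B : Type u} [CommRing A] [CommRing B] [Algebra A B] (D : Derivation ℤ A A) :
    A →+* TrivSqZeroExt B B where
  toFun a := TrivSqZeroExt.inl (algebraMap A B a) + TrivSqZeroExt.inr (algebraMap A B (D a))
  map_one' := by
    ext
    · simp
    · simp
  map_mul' x y := by
    ext
    · simp
    · simp only [Derivation.leibniz, smul_eq_mul, map_add, map_mul, TrivSqZeroExt.snd_add,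
        TrivSqZeroExt.snd_inl, TrivSqZeroExt.snd_inr, zero_add, TrivSqZeroExt.snd_mul,
        TrivSqZeroExt.fst_add, TrivSqZeroExt.fst_inl, TrivSqZeroExt.fst_inr, add_zero,
        op_smul_eq_smul]
  map_zero' := by
    ext
    · simp
    · simp
  map_add' x y := by
    ext
    · simp
    · simp only [map_add, TrivSqZeroExt.snd_add, TrivSqZeroExt.snd_inl, TrivSqZeroExt.snd_inr,
        zero_add]

lemma H6_twist_fst {A B : Type u} [CommRing A] [CommRing B] [Algebra A B] (D : Derivation ℤ A A)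
    (a : A) : (H6_twist (B := B) D a).fst = algebraMap A B a := by
  simp [H6_twist]

lemma H6_twist_snd {A B : Type u} [CommRing A] [CommRing B] [Algebra A B] (D : Derivation ℤ A A)
    (a : A) : (H6_twist (B := B) D a).snd = algebraMap A B (D a) := by
  show (TrivSqZeroExt.inl (algebraMap A B a) + TrivSqZeroExt.inr (algebraMap A B (D a)) :
    TrivSqZeroExt B B).snd = _
  rw [TrivSqZeroExt.snd_add, TrivSqZeroExt.snd_inl, TrivSqZeroExt.snd_inr, zero_add]

theorem H6_deriv_ext (A B : Type u) [CommRing A] [CommRing B] [Algebra A B] (𝔪 : Ideal B)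
    [IsAdicComplete 𝔪 B] (hfs : CAlgX.IsAdicFormallySmooth A B 𝔪) (D : Derivation ℤ A A) :
    ∃ D' : Derivation ℤ B B, ∀ a : A, D' (algebraMap A B a) = algebraMap A B (D a) := by
  letI : Algebra A (TrivSqZeroExt B B) := (H6_twist (B := B) D).toAlgebra
  have halg : ∀ a : A, algebraMap A (TrivSqZeroExt B B) a = H6_twist (B := B) D a := fun _ => rfl
  haveI : IsAdicComplete (H6_tszeIdeal 𝔪 1) (TrivSqZeroExt B B) := H6_tsze_complete 𝔪
  let J : Ideal (TrivSqZeroExt B B) :=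
    RingHom.ker (TrivSqZeroExt.fstHom B B B : TrivSqZeroExt B B →ₐ[B] B).toRingHom
  have hJmem : ∀ x : TrivSqZeroExt B B, x ∈ J ↔ x.fst = 0 := fun x => Iff.rfl
  have hJ2 : J ^ 2 ≤ H6_tszeIdeal 𝔪 1 := by
    rw [pow_two, Ideal.mul_le]
    intro x hx y hy
    rw [H6_tsze_mul_eq_zero (C := B) (N := B) x y ((hJmem x).1 hx) ((hJmem y).1 hy)]
    exact zero_mem _
  haveI hH : IsHausdorff ((H6_tszeIdeal 𝔪 1).map (Ideal.Quotient.mk J))
      (TrivSqZeroExt B B ⧸ J) := by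
    refine ⟨fun x hx => ?_⟩
    obtain ⟨c, rfl⟩ := Ideal.Quotient.mk_surjective x
    rw [Ideal.Quotient.eq_zero_iff_mem, hJmem]
    refine IsHausdorff.haus (inferInstance : IsHausdorff 𝔪 B) _ (fun n => ?_)
    rw [H6_b_smodEq, sub_zero]
    have h1 := hx n
    rw [SModEq.zero, smul_eq_mul, Ideal.mul_top, ← Ideal.map_pow] at h1
    obtain ⟨c', hc', hcc'⟩ := (Ideal.mem_map_iff_of_surjective _ Ideal.Quotient.mk_surjective).1 h1
    rw [H6_tszeIdeal_pow, H6_mem_tszeIdeal] at hc'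
    have h2 : c' - c ∈ J := Ideal.Quotient.eq.1 hcc'
    rw [hJmem, TrivSqZeroExt.fst_sub, sub_eq_zero] at h2
    rw [← h2]
    exact hc'.1
  let u : B →ₐ[A] TrivSqZeroExt B B ⧸ J :=
    { toRingHom := (Ideal.Quotient.mk J).comp (TrivSqZeroExt.inlHom B B)
      commutes' := fun a => by
        show Ideal.Quotient.mk J (TrivSqZeroExt.inl (algebraMap A B a)) =
          Ideal.Quotient.mk J (algebraMap A (TrivSqZeroExt B B) a)
        rw [Ideal.Quotient.eq, hJmem, TrivSqZeroExt.fst_sub, halg, H6_twist_fst,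
          TrivSqZeroExt.fst_inl, sub_self] }
  have hu : ∃ k : ℕ, (𝔪 ^ k).map u.toRingHom ≤
      (H6_tszeIdeal 𝔪 1).map (Ideal.Quotient.mk J) := by
    refine ⟨1, ?_⟩
    rw [pow_one, Ideal.map_le_iff_le_comap]
    intro b hb
    rw [Ideal.mem_comap]
    show Ideal.Quotient.mk J (TrivSqZeroExt.inl b) ∈ _
    refine Ideal.mem_map_of_mem _ ?_
    rw [H6_mem_tszeIdeal, pow_one]
    exact ⟨by simpa using hb, by simp⟩
  have hB := H6_ega_of_adicfs 𝔪 hfs (⊥ : Ideal A)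
  obtain ⟨v, -, hv⟩ := H6_lift_complete (⊥ : Ideal A) 𝔪 (H6_tszeIdeal 𝔪 1) hB
    ⟨1, by rw [pow_one, Ideal.map_bot]; exact bot_le⟩ J ⟨2, hJ2⟩ u hu
  have hv1 : ∀ b, (v b).fst = b := by
    intro b
    have h1 : Ideal.Quotient.mk J (v b) = Ideal.Quotient.mk J (TrivSqZeroExt.inl b) :=
      congrArg (fun g => g b) hv
    rw [Ideal.Quotient.eq, hJmem, TrivSqZeroExt.fst_sub, TrivSqZeroExt.fst_inl, sub_eq_zero] at h1
    exact h1
  let d : B →ₗ[ℤ] B := AddMonoidHom.toIntLinearMap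
    { toFun := fun b => (v b).snd
      map_zero' := by rw [map_zero, TrivSqZeroExt.snd_zero]
      map_add' := fun x y => by rw [map_add, TrivSqZeroExt.snd_add] }
  refine ⟨Derivation.mk' d (fun x y => ?_), fun a => ?_⟩
  · show (v (x * y)).snd = x • (v y).snd + y • (v x).snd
    rw [map_mul, TrivSqZeroExt.snd_mul, hv1, hv1, op_smul_eq_smul]
  · show (v (algebraMap A B a)).snd = _
    rw [v.commutes, halg, H6_twist_snd]

end Groth.Agent.Lib.helper6
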