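import Mathlib
import Groth.Agent.Lib.helper6.ArtLocalFS

set_option autoImplicit false
open TensorProduct

namespace Groth.Agent.Lib.helper6

universe w u

/-- Artinian ring formally smooth over a perfect field is reduced. -/
theorem H6_artinian_fs_reduced (k₀ : Type w) (T : Type u) [Field k₀] [PerfectField k₀]
    [CommRing T] [IsArtinianRing T] [Algebra k₀ T] [Algebra.FormallySmooth k₀ T] :
    IsReduced T := by
  refine isReduced_ofLocalizationMaximal _ ?_
  intro m hm
  haveI : Algebra.FormallySmooth T (Localization.AtPrime m) :=
    Algebra.FormallySmooth.of_isLocalization m.primeCompl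
  haveI : Algebra.FormallySmooth k₀ (Localization.AtPrime m) :=
    Algebra.FormallySmooth.comp k₀ T (Localization.AtPrime m)
  have hF : IsField (Localization.AtPrime m) := H6_artinian_local_fs_isField k₀ _
  let _ : Field (Localization.AtPrime m) := hF.toField
  infer_instance

theorem H6_fs_tensor_reduced (k₀ : Type w) (k K B : Type u) [Field k₀] [PerfectField k₀]
    [Field k] [Field K] [CommRing B] [Algebra k₀ k] [Algebra k K] [Algebra k B] [Algebra k₀ B]
    [IsScalarTower k₀ k B] (hB : IsField B) [Module.Finite k B] [Algebra.FormallySmooth k K] :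
    IsReduced (K ⊗[k] B) := by
  haveI : Algebra.FormallySmooth k₀ B := by
    letI : Field B := hB.toField
    exact H6_fs_field_of_perfect k₀ B
  haveI : Algebra.FormallySmooth B (B ⊗[k] K) := inferInstance
  haveI : Algebra.FormallySmooth k₀ (B ⊗[k] K) := Algebra.FormallySmooth.comp k₀ B (B ⊗[k] K)
  haveI h3 : IsArtinianRing (K ⊗[k] B) := IsArtinianRing.of_finite K _
  haveI h4 : IsArtinianRing (B ⊗[k] K) :=
    RingEquiv.isArtinianRing (Algebra.TensorProduct.comm k K B).toRingEquiv
  haveI h5 : IsReduced (B ⊗[k] K) := H6_artinian_fs_reduced k₀ _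
  exact isReduced_of_injective (Algebra.TensorProduct.comm k K B).toRingEquiv.toRingHom
    (Algebra.TensorProduct.comm k K B).injective

theorem H6_geomRed_of_fs_perfectSub (k₀ : Type w) (k K : Type u) [Field k₀] [PerfectField k₀]
    [Field k] [Field K] [Algebra k₀ k] [Algebra k K] [Algebra.FormallySmooth k K] :
    Algebra.IsGeometricallyReduced k K := by
  rw [Algebra.isGeometricallyReduced_field_iff]
  haveI hK : IsReduced (K ⊗[k] (AlgebraicClosure k)) := by
    apply IsReduced.tensorProduct_of_flat_of_forall_fg
    intro B hB
    have hBf : IsField B := Subalgebra.isField_of_algebraic B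
    haveI : Algebra.FiniteType k B := (Subalgebra.fg_iff_finiteType B).mp hB
    haveI : Algebra.IsIntegral k B := Algebra.IsIntegral.of_injective B.val Subtype.val_injective
    haveI : Module.Finite k B := Algebra.IsIntegral.finite
    letI : Algebra k₀ B := ((algebraMap k B).comp (algebraMap k₀ k)).toAlgebra
    haveI : IsScalarTower k₀ k B := IsScalarTower.of_algebraMap_eq (fun _ => rfl)
    exact H6_fs_tensor_reduced k₀ k K B hBf
  exact isReduced_of_injective
    (Algebra.TensorProduct.comm k (AlgebraicClosure k) K).toRingEquiv.toRingHom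
    (Algebra.TensorProduct.comm k (AlgebraicClosure k) K).injective

/-- a formally smooth field extension is geometrically reduced (separable). -/
theorem H6_geomRed_of_fs_field (k K : Type u) [Field k] [Field K] [Algebra k K]
    [Algebra.FormallySmooth k K] : Algebra.IsGeometricallyReduced k K := by
  obtain ⟨p, hp⟩ := CharP.exists k
  rcases CharP.char_is_prime_or_zero k p with hpp | hp0
  · haveI := Fact.mk hpp
    letI := ZMod.algebra k p
    exact H6_geomRed_of_fs_perfectSub (ZMod p) k K
  · subst hp0
    haveI : CharZero k := CharP.charP_to_charZero k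
    exact H6_geomRed_of_fs_perfectSub ℚ k K

end Groth.Agent.Lib.helper6
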