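import Mathlib
import Groth.Agent.Lib.helper6.FSFieldGeomRed

set_option autoImplicit false
open TensorProduct

namespace Groth.Agent.Lib.helper6

/-- `Ω[B/R] → Ω[B/S]` is injective when `R → S` is surjective. -/
theorem H6_kaehler_map_inj (R S B : Type*) [CommRing R] [CommRing S] [CommRing B]
    [Algebra R S] [Algebra R B] [Algebra S B] [IsScalarTower R S B]
    (h : Function.Surjective (algebraMap R S)) :
    Function.Injective (KaehlerDifferential.map R S B B) := by
  haveI := KaehlerDifferential.subsingleton_of_surjective R S h
  have hall : ∀ y : B ⊗[S] Ω[S⁄R], y = 0 := by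
    intro y
    induction y using TensorProduct.induction_on with
    | zero => rfl
    | tmul b ω => rw [Subsingleton.elim ω 0, TensorProduct.tmul_zero]
    | add a b ha hb => rw [ha, hb, add_zero]
  rw [injective_iff_map_eq_zero]
  intro x hx
  obtain ⟨y, rfl⟩ := (KaehlerDifferential.exact_mapBaseChange_map R S B x).mp hx
  rw [hall y, map_zero]

theorem H6_map_comp_eq (R S k K : Type*) [CommRing R] [CommRing S] [CommRing k] [CommRing K]
    [Algebra R S] [Algebra R k] [Algebra S k] [IsScalarTower R S k] [Algebra k K] [Algebra R K]
    [Algebra S K] [IsScalarTower R k K] [IsScalarTower S k K] [IsScalarTower R S K]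
    (ω : Ω[k⁄R]) :
    KaehlerDifferential.map S S k K (KaehlerDifferential.map R S k k ω) =
      KaehlerDifferential.map R S K K (KaehlerDifferential.map R R k K ω) := by
  have := Derivation.liftKaehlerDifferential_unique (R := R) (S := k)
    ((KaehlerDifferential.map S S k K).comp (KaehlerDifferential.map R S k k))
    (((KaehlerDifferential.map R S K K).restrictScalars k).comp (KaehlerDifferential.map R R k K))
    (by ext a; simp)
  exact LinearMap.congr_fun this ω

/-- injectivity of `K ⊗ Ω[k/R] → Ω[K/R]` passes to the quotient base `S` of `R`. -/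
theorem H6_mapBaseChange_inj_of_surj (R S k K : Type*) [CommRing R] [CommRing S] [CommRing k]
    [CommRing K]
    [Algebra R S] [Algebra R k] [Algebra S k] [IsScalarTower R S k] [Algebra k K] [Algebra R K]
    [Algebra S K] [IsScalarTower R k K] [IsScalarTower S k K] [IsScalarTower R S K]
    (h : Function.Surjective (algebraMap R S))
    (hinj : Function.Injective (KaehlerDifferential.mapBaseChange R k K)) :
    Function.Injective (KaehlerDifferential.mapBaseChange S k K) := by
  rw [injective_iff_map_eq_zero]
  intro y hy
  obtain ⟨z, rfl⟩ := LinearMap.lTensor_surjective K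
    (KaehlerDifferential.map_surjective R S k) y
  have hcomm : ∀ z : K ⊗[k] Ω[k⁄R], KaehlerDifferential.mapBaseChange S k K
      (LinearMap.lTensor K (KaehlerDifferential.map R S k k) z) =
      KaehlerDifferential.map R S K K (KaehlerDifferential.mapBaseChange R k K z) := by
    intro z
    induction z using TensorProduct.induction_on with
    | zero => simp
    | tmul b ω =>
      rw [LinearMap.lTensor_tmul, KaehlerDifferential.mapBaseChange_tmul,
        KaehlerDifferential.mapBaseChange_tmul, map_smul, H6_map_comp_eq]
    | add a b ha hb => rw [map_add, map_add, ha, hb, map_add, map_add]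
  rw [hcomm] at hy
  have h1 : KaehlerDifferential.mapBaseChange R k K z = 0 :=
    H6_kaehler_map_inj R S K h (by rw [hy, map_zero])
  have h2 : z = 0 := hinj (by rw [h1, map_zero])
  rw [h2, map_zero]

end Groth.Agent.Lib.helper6

namespace Groth.Agent.Lib.helper6

universe w u

theorem H6_geomRed_of_kaehler_inj (k₀ : Type w) (k K : Type u) [Field k₀] [PerfectField k₀]
    [Field k] [Field K] [Algebra k₀ k] [Algebra k K] [Algebra k₀ K] [IsScalarTower k₀ k K]
    (hinj : Function.Injective (KaehlerDifferential.mapBaseChange k₀ k K)) :
    Algebra.IsGeometricallyReduced k K := by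
  haveI : Algebra.FormallySmooth k₀ K := H6_fs_field_of_perfect k₀ K
  have hsub : Subsingleton (Algebra.H1Cotangent k K) := by
    refine ⟨fun a b => ?_⟩
    have key : ∀ z : Algebra.H1Cotangent k K, z = 0 := by
      intro z
      have h1 : KaehlerDifferential.mapBaseChange k₀ k K (Algebra.H1Cotangent.δ k₀ k K z) = 0 :=
        (Algebra.H1Cotangent.exact_δ_mapBaseChange k₀ k K).apply_apply_eq_zero z
      have h2 : Algebra.H1Cotangent.δ k₀ k K z = 0 := hinj (by rw [h1, map_zero])
      obtain ⟨w, rfl⟩ := (Algebra.H1Cotangent.exact_map_δ k₀ k K z).mp h2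
      rw [Subsingleton.elim w 0, map_zero]
    rw [key a, key b]
  haveI : Algebra.FormallySmooth k K := ⟨inferInstance, hsub⟩
  exact H6_geomRed_of_fs_field k K

theorem H6_kaehler_inj_of_geomRed (R : Type w) (k K : Type u) [CommRing R]
    [Field k] [Field K] [Algebra R k] [Algebra k K] [Algebra R K] [IsScalarTower R k K]
    [Algebra.IsGeometricallyReduced k K] :
    Function.Injective (KaehlerDifferential.mapBaseChange R k K) := by
  haveI : Algebra.FormallySmooth k K := H6_fs_field_of_geomReduced k K
  rw [injective_iff_map_eq_zero]
  intro y hy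
  obtain ⟨z, rfl⟩ := (Algebra.H1Cotangent.exact_δ_mapBaseChange R k K y).mp hy
  rw [Subsingleton.elim z 0, map_zero]

end Groth.Agent.Lib.helper6
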