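import Mathlib
import Groth.Agent.Lib.helper6.KaehlerPrime

set_option autoImplicit false
open TensorProduct

namespace Groth.Agent.Lib.helper6

universe w u

theorem H6_deriv_ext_of_inj (R : Type w) (k K : Type u) [CommRing R] [Field k] [Field K]
    [Algebra R k] [Algebra k K] [Algebra R K] [IsScalarTower R k K]
    (hinj : Function.Injective (KaehlerDifferential.mapBaseChange R k K))
    (D : Derivation R k K) :
    ∃ D' : Derivation R K K, ∀ a : k, D' (algebraMap k K a) = D a := by
  obtain ⟨r, hr⟩ := LinearMap.exists_leftInverse_of_injective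
    (KaehlerDifferential.mapBaseChange R k K) (LinearMap.ker_eq_bot.mpr hinj)
  refine ⟨((D.liftKaehlerDifferential.liftBaseChange K).comp r).compDer
    (KaehlerDifferential.D R K), fun a => ?_⟩
  have h1 : KaehlerDifferential.D R K (algebraMap k K a) =
      KaehlerDifferential.mapBaseChange R k K ((1 : K) ⊗ₜ[k] KaehlerDifferential.D R k a) := by
    rw [KaehlerDifferential.mapBaseChange_tmul, one_smul, KaehlerDifferential.map_D]
  show (D.liftKaehlerDifferential.liftBaseChange K) (r (KaehlerDifferential.D R K (algebraMap k K a))) = _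
  rw [h1]
  have h2 := LinearMap.congr_fun hr ((1 : K) ⊗ₜ[k] KaehlerDifferential.D R k a)
  simp only [LinearMap.comp_apply, LinearMap.id_apply] at h2
  rw [h2, LinearMap.liftBaseChange_tmul, one_smul, Derivation.liftKaehlerDifferential_comp_D]

theorem H6_inj_of_deriv_ext (R : Type w) (k K : Type u) [CommRing R] [Field k] [Field K]
    [Algebra R k] [Algebra k K] [Algebra R K] [IsScalarTower R k K]
    (hext : ∀ D : Derivation R k K, ∃ D' : Derivation R K K,
      ∀ a : k, D' (algebraMap k K a) = D a) :
    Function.Injective (KaehlerDifferential.mapBaseChange R k K) := by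
  rw [injective_iff_map_eq_zero]
  intro y hy
  by_contra hy0
  obtain ⟨φ, hφ⟩ : ∃ φ : Module.Dual K (K ⊗[k] Ω[k⁄R]), φ y ≠ 0 := by
    by_contra hcon
    push_neg at hcon
    exact hy0 ((Module.forall_dual_apply_eq_zero_iff K y).mp hcon)
  let ψ : Ω[k⁄R] →ₗ[k] K := (φ.restrictScalars k).comp (TensorProduct.mk k K Ω[k⁄R] 1)
  obtain ⟨D', hD'⟩ := hext (ψ.compDer (KaehlerDifferential.D R k))
  have hψ : ψ = (D'.liftKaehlerDifferential.restrictScalars k).comp
      (KaehlerDifferential.map R R k K) := by
    apply Derivation.liftKaehlerDifferential_unique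
    ext a
    show ψ (KaehlerDifferential.D R k a) =
      D'.liftKaehlerDifferential (KaehlerDifferential.map R R k K (KaehlerDifferential.D R k a))
    rw [KaehlerDifferential.map_D, Derivation.liftKaehlerDifferential_comp_D, hD']
    rfl
  have hφeq : ∀ z : K ⊗[k] Ω[k⁄R], φ z =
      D'.liftKaehlerDifferential (KaehlerDifferential.mapBaseChange R k K z) := by
    intro z
    induction z using TensorProduct.induction_on with
    | zero => simp
    | tmul b ω =>
      rw [KaehlerDifferential.mapBaseChange_tmul, map_smul]
      have : b ⊗ₜ[k] ω = b • ((1 : K) ⊗ₜ[k] ω) := by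
        rw [TensorProduct.smul_tmul', smul_eq_mul, mul_one]
      rw [this, map_smul]
      congr 1
      exact LinearMap.congr_fun hψ ω
    | add a b ha hb => rw [map_add, map_add, map_add, ha, hb]
  apply hφ
  rw [hφeq, hy, map_zero]

end Groth.Agent.Lib.helper6

namespace Groth.Agent.Lib.helper6

universe u

theorem H6_geomRed_of_kaehler_inj_int (k K : Type u) [Field k] [Field K] [Algebra k K]
    (hinj : Function.Injective (KaehlerDifferential.mapBaseChange ℤ k K)) :
    Algebra.IsGeometricallyReduced k K := by
  obtain ⟨p, hp⟩ := CharP.exists k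
  rcases CharP.char_is_prime_or_zero k p with hpp | hp0
  · haveI := Fact.mk hpp
    letI : Algebra (ZMod p) k := ZMod.algebra k p
    letI : Algebra (ZMod p) K := ((algebraMap k K).comp (algebraMap (ZMod p) k)).toAlgebra
    haveI : IsScalarTower (ZMod p) k K := IsScalarTower.of_algebraMap_eq (fun _ => rfl)
    have hs : Function.Surjective (algebraMap ℤ (ZMod p)) := fun x => by
      obtain ⟨n, rfl⟩ := ZMod.intCast_surjective x
      exact ⟨n, by simp⟩
    exact H6_geomRed_of_kaehler_inj (ZMod p) k K
      (H6_mapBaseChange_inj_of_surj ℤ (ZMod p) k K hs hinj)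
  · subst hp0
    haveI : CharZero k := CharP.charP_to_charZero k
    haveI : Algebra.FormallySmooth k K := H6_fs_field_of_perfect k K
    exact H6_geomRed_of_fs_field k K

end Groth.Agent.Lib.helper6
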