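import Mathlib

set_option autoImplicit false
set_option linter.style.haveILetI false

open TensorProduct LinearMap Function
open scoped Classical

namespace Groth.Agent.Lib.helper6

variable {R S : Type*} [CommRing R] [CommRing S] [Algebra R S]

/-- raw output of the equational criterion applied to `1 ⊗ s = s ⊗ 1` -/
theorem H6_zigzag_raw (s : S) (h : (1 : S) ⊗ₜ[R] s = s ⊗ₜ[R] (1 : S)) :
    ∃ ma : Finset (↥(LinearMap.ker (Finsupp.linearCombination R (_root_.id : S → S))) × S),
      ∀ t : S, ∑ kj ∈ ma, ((kj.1 : S →₀ R) t) • kj.2 =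
        (if t = 1 then s else 0) - (if t = s then 1 else 0) := by
  classical
  set G : (S →₀ R) →ₗ[R] S := Finsupp.linearCombination R (_root_.id : S → S) with hG
  have G_basis_eq (i : S) : G (Finsupp.single i 1) = i := by simp [hG]
  have G_surjective : Surjective G := fun x => ⟨Finsupp.single x 1, G_basis_eq x⟩
  set en : (S →₀ R) ⊗[R] S :=
    Finsupp.single (1 : S) (1 : R) ⊗ₜ[R] s - Finsupp.single s (1 : R) ⊗ₜ[R] (1 : S) with hen
  have en_mem_ker : en ∈ ker (rTensor S G) := by
    simp [hen, G_basis_eq, h]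
  have exact_ker_subtype : Exact (ker G).subtype G := G.exact_subtype_ker_map
  have exact_rTensor_ker_subtype : Exact (rTensor S (ker G).subtype) (rTensor S G) :=
    rTensor_exact (M := ↥(ker G)) S exact_ker_subtype G_surjective
  have en_mem_range : en ∈ range (rTensor S (ker G).subtype) :=
    exact_rTensor_ker_subtype.linearMap_ker_eq ▸ en_mem_ker
  obtain ⟨kn, hkn⟩ := en_mem_range
  obtain ⟨ma, rfl : kn = ∑ kj ∈ ma, kj.1 ⊗ₜ[R] kj.2⟩ := exists_finset kn
  refine ⟨ma, fun t => ?_⟩
  apply_fun finsuppScalarLeft R S S at hkn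
  apply_fun (· t) at hkn
  simp only [map_sum, rTensor_tmul, Submodule.coe_subtype, Finsupp.finsetSum_apply,
    finsuppScalarLeft_apply_tmul_apply, hen, map_sub, Finsupp.sub_apply,
    Finsupp.single_apply, ite_smul, one_smul, zero_smul] at hkn
  rw [hkn]
  congr 1
  · simp only [eq_comm]
  · simp only [eq_comm]

end Groth.Agent.Lib.helper6
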