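import Mathlib
import Groth.Agent.Lib.helper6.EpiZigzag

set_option autoImplicit false
set_option linter.style.haveILetI false

open TensorProduct LinearMap Function
open scoped Classical

namespace Groth.Agent.Lib.helper6

variable {R S : Type*} [CommRing R] [CommRing S] [Algebra R S]

/-- `s` is coded by `(a, P, b)` -/
def H6_Coded {ι κ : Type*} [Fintype ι] [Fintype κ] (s : S) (a : κ → R) (P : ι → κ → R)
    (b : ι → R) : Prop :=
  ∃ (X : ι → S) (Y : κ → S),
    (∀ j, ∑ i, X i * algebraMap R S (P i j) = algebraMap R S (a j)) ∧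
    (∀ i, ∑ j, algebraMap R S (P i j) * Y j = algebraMap R S (b i)) ∧
    s = ∑ j, algebraMap R S (a j) * Y j

theorem H6_Coded_unique {ι κ : Type*} [Fintype ι] [Fintype κ] (s s' : S) (a : κ → R)
    (P : ι → κ → R) (b : ι → R) (h : H6_Coded s a P b) (h' : H6_Coded s' a P b) : s = s' := by
  obtain ⟨X, Y, h1, h2, h3⟩ := h
  obtain ⟨X', Y', h1', h2', h3'⟩ := h'
  have e1 : s' = ∑ i, X i * algebraMap R S (b i) := by
    rw [h3']
    simp_rw [← h1, ← h2', Finset.sum_mul, Finset.mul_sum]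
    rw [Finset.sum_comm]
    refine Finset.sum_congr rfl fun i _ => Finset.sum_congr rfl fun j _ => ?_
    ring
  have e2 : s = ∑ i, X i * algebraMap R S (b i) := by
    rw [h3]
    simp_rw [← h1, ← h2, Finset.sum_mul, Finset.mul_sum]
    rw [Finset.sum_comm]
    refine Finset.sum_congr rfl fun i _ => Finset.sum_congr rfl fun j _ => ?_
    ring
  rw [e1, e2]

theorem H6_Coded_reindex {ι κ ι' κ' : Type*} [Fintype ι] [Fintype κ] [Fintype ι'] [Fintype κ']
    (e : ι' ≃ ι) (f : κ' ≃ κ) (s : S) (a : κ → R) (P : ι → κ → R) (b : ι → R)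
    (h : H6_Coded s a P b) :
    H6_Coded s (a ∘ f) (fun i j => P (e i) (f j)) (b ∘ e) := by
  obtain ⟨X, Y, h1, h2, h3⟩ := h
  refine ⟨X ∘ e, Y ∘ f, fun j => ?_, fun i => ?_, ?_⟩
  · rw [Function.comp_apply, ← h1 (f j)]
    exact Equiv.sum_comp e (fun i => X i * algebraMap R S (P i (f j)))
  · rw [Function.comp_apply, ← h2 (e i)]
    exact Equiv.sum_comp f (fun j => algebraMap R S (P (e i) j) * Y j)
  · rw [h3]
    exact (Equiv.sum_comp f (fun j => algebraMap R S (a j) * Y j)).symm

end Groth.Agent.Lib.helper6
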