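import Mathlib
import Groth.Agent.Lib.helper6.EpiZigzag2

set_option autoImplicit false
set_option linter.style.haveILetI false

open TensorProduct LinearMap Function
open scoped Classical

namespace Groth.Agent.Lib.helper6

universe u
variable {R S : Type u} [CommRing R] [CommRing S] [Algebra R S]

theorem H6_exists_coded_fintype (s : S) (h : (1 : S) ⊗ₜ[R] s = s ⊗ₜ[R] (1 : S)) :
    ∃ (ι κ : Type u) (_ : Fintype ι) (_ : Fintype κ) (a : κ → R) (P : ι → κ → R) (b : ι → R),
      H6_Coded s a P b := by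
  by_cases hs1 : s = 1
  · refine ⟨PUnit.{u+1}, PUnit.{u+1}, inferInstance, inferInstance, fun _ => 1, fun _ _ => 1, fun _ => 1,
      fun _ => 1, fun _ => 1, ?_, ?_, ?_⟩
    · intro j; simp
    · intro i; simp
    · simp [hs1]
  obtain ⟨ma, hma⟩ := H6_zigzag_raw (R := R) s h
  obtain ⟨T', hT'⟩ : ∃ T' : Finset S,
      T' = (ma.biUnion (fun kj => (kj.1 : S →₀ R).support)).erase 1 := ⟨_, rfl⟩
  have h1T : (1 : S) ∉ T' := by rw [hT']; exact Finset.notMem_erase _ _
  have hsupp : ∀ kj ∈ ma, (kj.1 : S →₀ R).support ⊆ insert 1 T' := by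
    intro kj hkj t ht
    by_cases ht1 : t = 1
    · rw [ht1]; exact Finset.mem_insert_self _ _
    · apply Finset.mem_insert_of_mem
      rw [hT']
      exact Finset.mem_erase.mpr ⟨ht1, Finset.mem_biUnion.mpr ⟨kj, hkj, ht⟩⟩
  refine ⟨↥T', ↥ma, inferInstance, inferInstance,
    fun j => (j.1.1 : S →₀ R) 1, fun t j => -((j.1.1 : S →₀ R) t.1),
    fun t => if t.1 = s then 1 else 0, fun t => t.1, fun j => j.1.2, ?_, ?_, ?_⟩
  · rintro ⟨kj, hkj⟩
    have hker : Finsupp.linearCombination R (_root_.id : S → S) (kj.1 : S →₀ R) = 0 :=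
      LinearMap.mem_ker.mp kj.1.2
    rw [Finsupp.linearCombination_apply,
      Finsupp.sum_of_support_subset _ (hsupp kj hkj) (fun i a => a • _root_.id i)
        (fun i _ => zero_smul R _),
      Finset.sum_insert h1T] at hker
    simp only [_root_.id] at hker
    have h2 := Finset.sum_coe_sort T' (fun t => t * algebraMap R S (-((kj.1 : S →₀ R) t)))
    simp only at h2 ⊢
    rw [h2]
    have h3 : ∑ t ∈ T', t * algebraMap R S (-((kj.1 : S →₀ R) t)) =
        -∑ t ∈ T', ((kj.1 : S →₀ R) t) • t := by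
      rw [← Finset.sum_neg_distrib]
      refine Finset.sum_congr rfl fun t _ => ?_
      rw [Algebra.smul_def, map_neg]
      ring
    rw [h3]
    have h4 : ∑ t ∈ T', ((kj.1 : S →₀ R) t) • t = -(((kj.1 : S →₀ R) 1) • (1 : S)) := by
      rw [eq_neg_iff_add_eq_zero, add_comm]
      exact hker
    rw [h4, neg_neg, Algebra.smul_def, mul_one]
  · rintro ⟨t, ht⟩
    have ht1 : t ≠ 1 := fun h => h1T (h ▸ ht)
    have h2 := Finset.sum_coe_sort ma
      (fun kj => algebraMap R S (-((kj.1 : S →₀ R) t)) * kj.2)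
    simp only at h2 ⊢
    rw [h2]
    have h3 : ∑ kj ∈ ma, algebraMap R S (-((kj.1 : S →₀ R) t)) * kj.2 =
        -∑ kj ∈ ma, ((kj.1 : S →₀ R) t) • kj.2 := by
      rw [← Finset.sum_neg_distrib]
      refine Finset.sum_congr rfl fun kj _ => ?_
      rw [Algebra.smul_def, map_neg]
      ring
    rw [h3, hma t, if_neg ht1, zero_sub, neg_neg]
    split_ifs <;> simp
  · have h2 := Finset.sum_coe_sort ma
      (fun kj => algebraMap R S ((kj.1 : S →₀ R) 1) * kj.2)
    simp only at h2 ⊢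
    rw [h2]
    have h3 : ∑ kj ∈ ma, algebraMap R S ((kj.1 : S →₀ R) 1) * kj.2 =
        ∑ kj ∈ ma, ((kj.1 : S →₀ R) 1) • kj.2 := by
      refine Finset.sum_congr rfl fun kj _ => ?_
      rw [Algebra.smul_def]
    rw [h3, hma 1, if_pos rfl, if_neg (Ne.symm hs1), sub_zero]

theorem H6_exists_coded (s : S) (h : (1 : S) ⊗ₜ[R] s = s ⊗ₜ[R] (1 : S)) :
    ∃ (n k : ℕ) (a : Fin k → R) (P : Fin n → Fin k → R) (b : Fin n → R),
      H6_Coded s a P b := by
  obtain ⟨ι, κ, hι, hκ, a, P, b, hc⟩ := H6_exists_coded_fintype (R := R) s h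
  exact ⟨Fintype.card ι, Fintype.card κ, _, _, _,
    H6_Coded_reindex (Fintype.equivFin ι).symm (Fintype.equivFin κ).symm s a P b hc⟩

end Groth.Agent.Lib.helper6
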