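import Mathlib
import Groth.Agent.Lib.helper6.EpiZigzag3

set_option autoImplicit false
set_option linter.style.haveILetI false

open TensorProduct LinearMap Function Cardinal
open scoped Classical

namespace Groth.Agent.Lib.helper6

universe u

theorem H6_card_fun (ι : Type) [Fintype ι] (R : Type u) [Infinite R] : #(ι → R) ≤ #R := by
  rw [Cardinal.mk_arrow]
  simp only [Cardinal.lift_uzero, Cardinal.mk_fintype, Cardinal.lift_natCast]
  exact Cardinal.power_nat_le (Cardinal.aleph0_le_mk R)

/-- type of codes -/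
abbrev H6_Code (R : Type u) : Type u :=
  Σ (n : ℕ) (k : ℕ), (Fin k → R) × (Fin n × Fin k → R) × (Fin n → R)

theorem H6_card_code (R : Type u) [Infinite R] : #(H6_Code R) ≤ #R := by
  have hR : ℵ₀ ≤ #R := Cardinal.aleph0_le_mk R
  have h1 : ∀ n k : ℕ, #((Fin k → R) × (Fin n × Fin k → R) × (Fin n → R)) ≤ #R := by
    intro n k
    rw [Cardinal.mk_prod, Cardinal.mk_prod]
    simp only [Cardinal.lift_id]
    calc #(Fin k → R) * (#(Fin n × Fin k → R) * #(Fin n → R))
        ≤ #R * (#R * #R) :=
          mul_le_mul' (H6_card_fun _ R) (mul_le_mul' (H6_card_fun _ R) (H6_card_fun _ R))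
      _ = #R := by rw [Cardinal.mul_eq_self hR, Cardinal.mul_eq_self hR]
  have h2 : ∀ n : ℕ, #(Σ (k : ℕ), (Fin k → R) × (Fin n × Fin k → R) × (Fin n → R)) ≤ #R := by
    intro n
    rw [Cardinal.mk_sigma]
    calc (Cardinal.sum fun k : ℕ => #((Fin k → R) × (Fin n × Fin k → R) × (Fin n → R)))
        ≤ Cardinal.sum fun _ : ℕ => #R := Cardinal.sum_le_sum _ _ (h1 n)
      _ = #R := by
          rw [Cardinal.sum_const]
          simp only [Cardinal.mk_eq_aleph0, Cardinal.lift_aleph0, Cardinal.lift_uzero]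
          exact Cardinal.aleph0_mul_eq hR
  rw [Cardinal.mk_sigma]
  calc (Cardinal.sum fun n : ℕ =>
        #(Σ (k : ℕ), (Fin k → R) × (Fin n × Fin k → R) × (Fin n → R)))
      ≤ Cardinal.sum fun _ : ℕ => #R := Cardinal.sum_le_sum _ _ h2
    _ = #R := by
        rw [Cardinal.sum_const]
        simp only [Cardinal.mk_eq_aleph0, Cardinal.lift_aleph0, Cardinal.lift_uzero]
        exact Cardinal.aleph0_mul_eq hR

theorem H6_epi_card_le (R S : Type u) [CommRing R] [CommRing S] [Algebra R S]
    [Algebra.IsEpi R S] [Infinite R] : #S ≤ #R := by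
  have hepi := (Algebra.isEpi_iff_forall_one_tmul_eq R S).mp inferInstance
  have hex : ∀ s : S, ∃ c : H6_Code R,
      H6_Coded s c.2.2.1 (fun i j => c.2.2.2.1 (i, j)) c.2.2.2.2 := by
    intro s
    obtain ⟨n, k, a, P, b, hc⟩ := H6_exists_coded (R := R) s (hepi s)
    exact ⟨⟨n, k, a, fun ij => P ij.1 ij.2, b⟩, hc⟩
  choose c hc using hex
  have hinj : Function.Injective c := by
    intro s s' hss
    have h1 := hc s
    have h2 := hc s'
    rw [← hss] at h2
    exact H6_Coded_unique s s' _ _ _ h1 h2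
  exact (Cardinal.mk_le_of_injective hinj).trans (H6_card_code R)

end Groth.Agent.Lib.helper6
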