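import Mathlib

set_option autoImplicit false
set_option linter.style.haveILetI false

namespace Groth.Agent.Lib.helper6
open scoped TensorProduct

universe u

section abstract

variable (S S' : Type u) [CommRing S] [CommRing S'] [Algebra S S']

/-- abstract lifting for formally smooth maps, in terms of ring homs. -/
lemma H6_exists_lift_ringHom [Algebra.FormallySmooth S S'] (Q : Type u) [CommRing Q]
    (ρ : S →+* Q) (π : Q →+* S') (hπ : Function.Surjective π)
    (hnil : IsNilpotent (RingHom.ker π)) (hρ : ∀ s, π (ρ s) = algebraMap S S' s) :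
    ∃ ψ : S' →+* Q, (∀ s, ψ (algebraMap S S' s) = ρ s) ∧ ∀ x, π (ψ x) = x := by
  letI : Algebra S Q := ρ.toAlgebra
  let πa : Q →ₐ[S] S' := { π with commutes' := fun s => hρ s }
  have hsurj : Function.Surjective πa := hπ
  have hnil' : IsNilpotent (RingHom.ker (πa : Q →+* S')) := hnil
  refine ⟨(Algebra.FormallySmooth.liftOfSurjective (AlgHom.id S S') πa hsurj hnil').toRingHom,
    fun s => ?_, fun x => ?_⟩
  · exact (Algebra.FormallySmooth.liftOfSurjective (AlgHom.id S S') πa hsurj hnil').commutes s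
  · exact Algebra.FormallySmooth.liftOfSurjective_apply (AlgHom.id S S') πa hsurj hnil' x

/-- abstract uniqueness for formally unramified maps, in terms of ring homs. -/
lemma H6_ringHom_ext_of_unramified [Algebra.FormallyUnramified S S'] (Q : Type u) [CommRing Q]
    {C : Type*} [CommRing C] (π : Q →+* C) (hnil : IsNilpotent (RingHom.ker π))
    (g₁ g₂ : S' →+* Q) (h1 : ∀ s, g₁ (algebraMap S S' s) = g₂ (algebraMap S S' s))
    (h2 : ∀ x, π (g₁ x) = π (g₂ x)) : g₁ = g₂ := by
  letI : Algebra S Q := (g₁.comp (algebraMap S S')).toAlgebra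
  let a₁ : S' →ₐ[S] Q := { g₁ with commutes' := fun s => rfl }
  let a₂ : S' →ₐ[S] Q := { g₂ with commutes' := fun s => (h1 s).symm }
  have := Algebra.FormallyUnramified.ext' π hnil a₁ a₂ h2
  ext x
  exact AlgHom.congr_fun this x

end abstract

section nil

variable {T C : Type*} [CommRing T] [CommRing C]

lemma H6_ker_lift_nilpotent (I : Ideal T) (ε : T →+* C) (hI : ∀ t, t ∈ I ↔ ε t = 0) (k : ℕ)
    (h : ∀ a ∈ I ^ (k + 1), ε a = 0) :
    IsNilpotent (RingHom.ker (Ideal.Quotient.lift (I ^ (k + 1)) ε h)) := by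
  refine ⟨k + 1, ?_⟩
  have hle : RingHom.ker (Ideal.Quotient.lift (I ^ (k + 1)) ε h) ≤
      I.map (Ideal.Quotient.mk (I ^ (k + 1))) := by
    intro x hx
    obtain ⟨t, rfl⟩ := Ideal.Quotient.mk_surjective x
    rw [RingHom.mem_ker, Ideal.Quotient.lift_mk] at hx
    exact Ideal.mem_map_of_mem _ ((hI t).2 hx)
  rw [Ideal.zero_eq_bot, eq_bot_iff]
  refine (Ideal.pow_right_mono hle (k + 1)).trans ?_
  rw [← Ideal.map_pow, Ideal.map_le_iff_le_comap]
  intro x hx
  exact Ideal.Quotient.eq_zero_iff_mem.2 hx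

lemma H6_pow_le_self_ker (I : Ideal T) (ε : T →+* C) (hI : ∀ t, t ∈ I ↔ ε t = 0) (k : ℕ) :
    ∀ a ∈ I ^ (k + 1), ε a = 0 := fun a ha =>
  (hI a).1 (Ideal.pow_le_self (Nat.succ_ne_zero k) ha)

end nil

end Groth.Agent.Lib.helper6
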