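import Mathlib
import Groth.Agent.Lib.helper6.EtaleBC1

set_option autoImplicit false
set_option linter.style.haveILetI false

namespace Groth.Agent.Lib.helper6
open scoped TensorProduct

universe u

section

variable (R S S' : Type u) [CommRing R] [CommRing S] [CommRing S'] [Algebra R S] [Algebra R S']
  [Algebra S S'] [IsScalarTower R S S']

/-- `φ = id ⊗ (S → S') : S' ⊗_R S → S' ⊗_R S'`. -/
noncomputable def H6_phi : S' ⊗[R] S →ₐ[S'] S' ⊗[R] S' :=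
  Algebra.TensorProduct.map (AlgHom.id S' S') (IsScalarTower.toAlgHom R S S')

lemma H6_phi_tmul (a : S') (s : S) : H6_phi R S S' (a ⊗ₜ s) = a ⊗ₜ algebraMap S S' s := by
  simp [H6_phi]

/-- `I = φ⁻¹(J')`. -/
noncomputable def H6_I : Ideal (S' ⊗[R] S) :=
  (KaehlerDifferential.ideal R S').comap (H6_phi R S S').toRingHom

/-- augmentation `ε : S' ⊗_R S → S'`. -/
noncomputable def H6_eps : S' ⊗[R] S →+* S' :=
  (Algebra.TensorProduct.lmul' R : S' ⊗[R] S' →ₐ[R] S').toRingHom.comp (H6_phi R S S').toRingHom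

lemma H6_eps_tmul (a : S') (s : S) : H6_eps R S S' (a ⊗ₜ s) = a * algebraMap S S' s := by
  simp [H6_eps, H6_phi]

lemma H6_mem_I (t : S' ⊗[R] S) : t ∈ H6_I R S S' ↔ H6_eps R S S' t = 0 := by
  rw [H6_I, Ideal.mem_comap]
  rfl

lemma H6_mem_J' (t : S' ⊗[R] S') :
    t ∈ KaehlerDifferential.ideal R S' ↔
      (Algebra.TensorProduct.lmul' R : S' ⊗[R] S' →ₐ[R] S').toRingHom t = 0 := Iff.rfl

abbrev H6_Q (k : ℕ) : Type u := (S' ⊗[R] S) ⧸ (H6_I R S S') ^ (k + 1)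

abbrev H6_Q' (k : ℕ) : Type u := (S' ⊗[R] S') ⧸ (KaehlerDifferential.ideal R S') ^ (k + 1)

/-- `π : Q → S'`. -/
noncomputable def H6_piQ (k : ℕ) : H6_Q R S S' k →+* S' :=
  Ideal.Quotient.lift _ (H6_eps R S S') (H6_pow_le_self_ker _ _ (H6_mem_I R S S') k)

/-- `π' : Q' → S'`. -/
noncomputable def H6_piQ' (k : ℕ) : H6_Q' R S' k →+* S' :=
  Ideal.Quotient.lift _ (Algebra.TensorProduct.lmul' R : S' ⊗[R] S' →ₐ[R] S').toRingHom
    (H6_pow_le_self_ker _ _ (H6_mem_J' R S') k)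

lemma H6_piQ_mk (k : ℕ) (t : S' ⊗[R] S) :
    H6_piQ R S S' k (Ideal.Quotient.mk _ t) = H6_eps R S S' t := rfl

lemma H6_piQ'_mk (k : ℕ) (t : S' ⊗[R] S') :
    H6_piQ' R S' k (Ideal.Quotient.mk _ t) =
      (Algebra.TensorProduct.lmul' R : S' ⊗[R] S' →ₐ[R] S') t := rfl

lemma H6_piQ_nil (k : ℕ) : IsNilpotent (RingHom.ker (H6_piQ R S S' k)) :=
  H6_ker_lift_nilpotent _ _ (H6_mem_I R S S') k _

lemma H6_piQ'_nil (k : ℕ) : IsNilpotent (RingHom.ker (H6_piQ' R S' k)) :=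
  H6_ker_lift_nilpotent _ _ (H6_mem_J' R S') k _

/-- `φ̄ : Q → Q'`. -/
noncomputable def H6_phiBar (k : ℕ) : H6_Q R S S' k →+* H6_Q' R S' k :=
  Ideal.quotientMap (KaehlerDifferential.ideal R S' ^ (k + 1)) (H6_phi R S S').toRingHom
    (Ideal.le_comap_pow (H6_phi R S S').toRingHom (K := KaehlerDifferential.ideal R S') (k + 1))

lemma H6_phiBar_mk (k : ℕ) (t : S' ⊗[R] S) :
    H6_phiBar R S S' k (Ideal.Quotient.mk _ t) = Ideal.Quotient.mk _ (H6_phi R S S' t) := by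
  unfold H6_phiBar
  rw [Ideal.quotientMap_mk]
  rfl

lemma H6_piQ'_phiBar (k : ℕ) (x : H6_Q R S S' k) :
    H6_piQ' R S' k (H6_phiBar R S S' k x) = H6_piQ R S S' k x := by
  obtain ⟨t, rfl⟩ := Ideal.Quotient.mk_surjective x
  rw [H6_phiBar_mk, H6_piQ'_mk, H6_piQ_mk]
  rfl

end

end Groth.Agent.Lib.helper6
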