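import Mathlib
import Groth.Agent.Lib.helper6.EtaleBC2

set_option autoImplicit false
set_option linter.style.haveILetI false

namespace Groth.Agent.Lib.helper6
open scoped TensorProduct

universe u

section

variable (R S S' : Type u) [CommRing R] [CommRing S] [CommRing S'] [Algebra R S] [Algebra R S']
  [Algebra S S'] [IsScalarTower R S S']

lemma H6_one_tmul_algebraMap (r : R) :
    ((1 : S') ⊗ₜ[R] algebraMap R S r) = algebraMap R (S' ⊗[R] S) r := by
  rw [Algebra.TensorProduct.algebraMap_apply, Algebra.algebraMap_eq_smul_one,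
    Algebra.algebraMap_eq_smul_one, TensorProduct.tmul_smul, TensorProduct.smul_tmul']

theorem H6_etaleBC_data [Algebra.FormallyEtale S S'] (k : ℕ) :
    ∃ (ψ : S' →+* H6_Q R S S' k) (χ : S' ⊗[R] S' →+* H6_Q R S S' k),
      (∀ s : S, ψ (algebraMap S S' s) = Ideal.Quotient.mk _ ((1 : S') ⊗ₜ[R] s)) ∧
      (∀ x, H6_piQ R S S' k (ψ x) = x) ∧
      (∀ a b : S', χ (a ⊗ₜ[R] b) = Ideal.Quotient.mk _ (a ⊗ₜ[R] (1 : S)) * ψ b) ∧
      (∀ t ∈ KaehlerDifferential.ideal R S' ^ (k + 1), χ t = 0) ∧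
      (∀ t : S' ⊗[R] S, χ (H6_phi R S S' t) = Ideal.Quotient.mk _ t) ∧
      (∀ t' : S' ⊗[R] S', H6_phiBar R S S' k (χ t') = Ideal.Quotient.mk _ t') := by
  let ρ : S →+* H6_Q R S S' k :=
    (Ideal.Quotient.mk _).comp
      (Algebra.TensorProduct.includeRight (R := R) (A := S') (B := S)).toRingHom
  have hρ_apply : ∀ s, ρ s = Ideal.Quotient.mk _ ((1 : S') ⊗ₜ[R] s) := fun s => rfl
  have hπsurj : Function.Surjective (H6_piQ R S S' k) := by
    intro x
    refine ⟨Ideal.Quotient.mk _ (x ⊗ₜ[R] (1 : S)), ?_⟩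
    rw [H6_piQ_mk, H6_eps_tmul, map_one, mul_one]
  have hρ : ∀ s, H6_piQ R S S' k (ρ s) = algebraMap S S' s := by
    intro s
    rw [hρ_apply, H6_piQ_mk, H6_eps_tmul, one_mul]
  obtain ⟨ψ, hψ1, hψ2⟩ := H6_exists_lift_ringHom S S' (H6_Q R S S' k) ρ (H6_piQ R S S' k) hπsurj
    (H6_piQ_nil R S S' k) hρ
  -- R-algebra maps
  let l : S' →ₐ[R] H6_Q R S S' k :=
    (Ideal.Quotient.mkₐ R _).comp (Algebra.TensorProduct.includeLeft (R := R) (S := R) (A := S') (B := S))
  have hl : ∀ a, l a = Ideal.Quotient.mk _ (a ⊗ₜ[R] (1 : S)) := fun a => rfl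
  let ψa : S' →ₐ[R] H6_Q R S S' k :=
    { ψ with
      commutes' := fun r => by
        show ψ (algebraMap R S' r) = _
        rw [IsScalarTower.algebraMap_apply R S S', hψ1, hρ_apply, H6_one_tmul_algebraMap]
        rfl }
  have hψa : ∀ b, ψa b = ψ b := fun b => rfl
  let χ : S' ⊗[R] S' →ₐ[R] H6_Q R S S' k := Algebra.TensorProduct.productMap l ψa
  have hχ : ∀ a b : S', χ (a ⊗ₜ[R] b) = Ideal.Quotient.mk _ (a ⊗ₜ[R] (1 : S)) * ψ b := by
    intro a b
    rw [Algebra.TensorProduct.productMap_apply_tmul, hl, hψa]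
  -- χ kills J'^(k+1)
  have hJ : KaehlerDifferential.ideal R S' ≤ (RingHom.ker (H6_piQ R S S' k)).comap χ.toRingHom := by
    rw [← KaehlerDifferential.span_range_eq_ideal, Ideal.span_le]
    rintro _ ⟨b, rfl⟩
    show H6_piQ R S S' k (χ ((1 : S') ⊗ₜ[R] b - b ⊗ₜ[R] (1 : S'))) = 0
    rw [map_sub, hχ, hχ, map_sub, map_mul, map_mul, hψ2, hψ2, H6_piQ_mk, H6_piQ_mk, H6_eps_tmul,
      H6_eps_tmul]
    simp
  have hχJ : ∀ t ∈ KaehlerDifferential.ideal R S' ^ (k + 1), χ t = 0 := by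
    intro t ht
    obtain ⟨n, hn⟩ := H6_piQ_nil R S S' k
    have h1 : KaehlerDifferential.ideal R S' ^ (k + 1) ≤
        ((RingHom.ker (H6_piQ R S S' k)) ^ (k + 1)).comap χ.toRingHom :=
      (Ideal.pow_right_mono hJ (k + 1)).trans (Ideal.le_comap_pow _ _)
    have h2 := h1 ht
    have h3 : (RingHom.ker (H6_piQ R S S' k)) ^ (k + 1) = ⊥ := by
      -- direct: kernel ≤ image of I
      have hle : RingHom.ker (H6_piQ R S S' k) ≤
          (H6_I R S S').map (Ideal.Quotient.mk ((H6_I R S S') ^ (k + 1))) := by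
        intro x hx
        obtain ⟨t, rfl⟩ := Ideal.Quotient.mk_surjective x
        rw [RingHom.mem_ker, H6_piQ_mk] at hx
        exact Ideal.mem_map_of_mem _ ((H6_mem_I R S S' t).2 hx)
      rw [eq_bot_iff]
      refine (Ideal.pow_right_mono hle (k + 1)).trans ?_
      rw [← Ideal.map_pow, Ideal.map_le_iff_le_comap]
      intro x hx
      exact Ideal.Quotient.eq_zero_iff_mem.2 hx
    rw [h3] at h2
    exact h2
  have hχφ : ∀ t : S' ⊗[R] S, χ (H6_phi R S S' t) = Ideal.Quotient.mk _ t := by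
    intro t
    induction t using TensorProduct.induction_on with
    | zero => simp
    | tmul a s =>
      rw [H6_phi_tmul, hχ, hψ1, hρ_apply, ← map_mul, Algebra.TensorProduct.tmul_mul_tmul, mul_one,
        one_mul]
    | add x y hx hy => rw [map_add, map_add, hx, hy, map_add]
  refine ⟨ψ, χ.toRingHom, hψ1, hψ2, hχ, hχJ, hχφ, ?_⟩
  -- φ̄ ∘ χ = mk
  have hg : (H6_phiBar R S S' k).comp ψ =
      (Ideal.Quotient.mk _).comp
        (Algebra.TensorProduct.includeRight (R := R) (A := S') (B := S')).toRingHom := by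
    refine H6_ringHom_ext_of_unramified S S' (H6_Q' R S' k) (H6_piQ' R S' k) (H6_piQ'_nil R S' k)
      _ _ ?_ ?_
    · intro s
      rw [RingHom.comp_apply, hψ1, hρ_apply, H6_phiBar_mk, H6_phi_tmul]
      rfl
    · intro x
      rw [RingHom.comp_apply, H6_piQ'_phiBar, hψ2]
      show x = H6_piQ' R S' k (Ideal.Quotient.mk _ ((1 : S') ⊗ₜ[R] x))
      rw [H6_piQ'_mk, Algebra.TensorProduct.lmul'_apply_tmul, one_mul]
  intro t'
  show H6_phiBar R S S' k (χ t') = _
  induction t' using TensorProduct.induction_on with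
  | zero => simp
  | tmul a b =>
    rw [hχ, map_mul, H6_phiBar_mk, H6_phi_tmul, map_one]
    have := congrArg (fun f => f b) hg
    simp only [RingHom.comp_apply] at this
    rw [this]
    show Ideal.Quotient.mk _ (a ⊗ₜ[R] (1 : S')) * Ideal.Quotient.mk _ ((1 : S') ⊗ₜ[R] b) = _
    rw [← map_mul, Algebra.TensorProduct.tmul_mul_tmul, mul_one, one_mul]
  | add x y hx hy => rw [map_add, map_add, hx, hy, map_add]

end

end Groth.Agent.Lib.helper6
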