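import Mathlib
import Groth.Prelude.Def_PP16

set_option autoImplicit false
set_option linter.style.haveILetI false

namespace Groth.Agent.Lib.helper6
open PP16
open scoped TensorProduct

universe u

/-- kernel of a map between quotients induced by a surjection. -/
lemma H6_quot_ker {R R' : Type*} [CommRing R] [CommRing R'] (f : R →+* R')
    (hf : Function.Surjective f)
    (J : Ideal R) (J' : Ideal R') (hJ : J.map f = J') (g : R ⧸ J →+* R' ⧸ J')
    (hg : ∀ t, g (Ideal.Quotient.mk J t) = Ideal.Quotient.mk J' (f t)) :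
    Function.Surjective g ∧ RingHom.ker g = (RingHom.ker f).map (Ideal.Quotient.mk J) := by
  constructor
  · intro y
    obtain ⟨y', rfl⟩ := Ideal.Quotient.mk_surjective y
    obtain ⟨t, rfl⟩ := hf y'
    exact ⟨Ideal.Quotient.mk J t, hg t⟩
  · ext x
    obtain ⟨t, rfl⟩ := Ideal.Quotient.mk_surjective x
    rw [RingHom.mem_ker, hg, Ideal.Quotient.eq_zero_iff_mem,
      Ideal.mem_map_iff_of_surjective _ Ideal.Quotient.mk_surjective]
    constructor
    · intro h
      rw [← hJ, Ideal.mem_map_iff_of_surjective _ hf] at h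
      obtain ⟨s, hs, hst⟩ := h
      refine ⟨t - s, ?_, ?_⟩
      · rw [RingHom.mem_ker, map_sub, hst, sub_self]
      · rw [map_sub, Ideal.Quotient.eq_zero_iff_mem.2 hs, sub_zero]
    · rintro ⟨k, hk, hkt⟩
      have h1 : g (Ideal.Quotient.mk J k) = g (Ideal.Quotient.mk J t) := by rw [hkt]
      rw [hg, hg, RingHom.mem_ker.1 hk, map_zero] at h1
      exact Ideal.Quotient.eq_zero_iff_mem.1 h1.symm

section

variable (A B A' B' : Type u) [CommRing A] [CommRing B] [Algebra A B]
  [CommRing A'] [CommRing B'] [Algebra A' B'] [Algebra A A'] [Algebra B B'] [Algebra A B']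
  [IsScalarTower A A' B'] [IsScalarTower A B B']

lemma H6_tensorMap_surjective (hs : Function.Surjective (algebraMap B B')) :
    Function.Surjective (tensorMap A B A' B') := by
  intro y
  induction y using TensorProduct.induction_on with
  | zero => exact ⟨0, map_zero _⟩
  | tmul b c =>
    obtain ⟨b, rfl⟩ := hs b
    obtain ⟨c, rfl⟩ := hs c
    exact ⟨b ⊗ₜ c, tensorMap_tmul A B A' B' b c⟩
  | add x y hx hy =>
    obtain ⟨x, rfl⟩ := hx
    obtain ⟨y, rfl⟩ := hy
    exact ⟨x + y, map_add _ _ _⟩

lemma H6_ideal_map_tensorMap (hs : Function.Surjective (algebraMap B B')) :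
    (KaehlerDifferential.ideal A B).map (tensorMap A B A' B') = KaehlerDifferential.ideal A' B' := by
  apply le_antisymm (ideal_map_tensorMap_le A B A' B')
  rw [← KaehlerDifferential.span_range_eq_ideal A' B', Ideal.span_le]
  rintro _ ⟨s, rfl⟩
  obtain ⟨s, rfl⟩ := hs s
  have : (1 : B') ⊗ₜ[A'] algebraMap B B' s - algebraMap B B' s ⊗ₜ[A'] (1 : B') =
      tensorMap A B A' B' ((1 : B) ⊗ₜ[A] s - s ⊗ₜ[A] (1 : B)) := by
    rw [map_sub, tensorMap_tmul, tensorMap_tmul, map_one]
  show (1 : B') ⊗ₜ[A'] algebraMap B B' s - algebraMap B B' s ⊗ₜ[A'] (1 : B') ∈ _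
  rw [this]
  exact Ideal.mem_map_of_mem _ (KaehlerDifferential.one_smul_sub_smul_one_mem_ideal A s)

/-- general kernel statement for `PP16.map` when `B → B'` is surjective. -/
lemma H6_map_surj_ker (n : ℕ) (hs : Function.Surjective (algebraMap B B')) :
    Function.Surjective (PP16.map n A B A' B') ∧
      RingHom.ker (PP16.map n A B A' B') =
        (RingHom.ker (tensorMap A B A' B')).map
          (Ideal.Quotient.mk ((KaehlerDifferential.ideal A B) ^ (n + 1))) := by
  have := H6_quot_ker (tensorMap A B A' B' : B ⊗[A] B →+* B' ⊗[A'] B')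
    (H6_tensorMap_surjective A B A' B' hs)
    ((KaehlerDifferential.ideal A B) ^ (n + 1)) ((KaehlerDifferential.ideal A' B') ^ (n + 1))
    (by
      rw [Ideal.map_pow]
      congr 1
      exact H6_ideal_map_tensorMap A B A' B' hs)
    (PP16.map n A B A' B' : P n A B →+* P n A' B') (fun t => rfl)
  exact this

end

end Groth.Agent.Lib.helper6
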