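import Mathlib
import Groth.Prelude.Def_PP16
import Groth.Prelude.Def_DiffOp
import Groth.Agent.Lib.helper6.PP16Basic

set_option autoImplicit false
set_option linter.style.haveILetI false

namespace Groth.Agent.Lib.helper6
open PP16 Diff16
open scoped TensorProduct

universe u

section

variable (A B : Type u) [CommRing A] [CommRing B] [Algebra A B]
    (M N : Type u) [AddCommGroup M] [Module A M] [Module B M] [IsScalarTower A B M]
    [AddCommGroup N] [Module A N] [Module B N] [IsScalarTower A B N]

/-- `λ_D : B ⊗_A B → Hom_A(M,N)`, `b ⊗ c ↦ b ∘ D ∘ c`. -/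
noncomputable def H6_lam (D : M →ₗ[A] N) : B ⊗[A] B →ₗ[A] (M →ₗ[A] N) :=
  TensorProduct.lift
    (LinearMap.mk₂ A (fun b c => ((LinearMap.lsmul B N b).restrictScalars A) ∘ₗ D ∘ₗ
        ((LinearMap.lsmul B M c).restrictScalars A))
      (by intro b b' c; ext m; simp [add_smul])
      (by intro a b c; ext m; simp)
      (by intro b c c'; ext m; simp [add_smul])
      (by intro a b c; ext m; simp [smul_comm b a]))

lemma H6_lam_tmul (D : M →ₗ[A] N) (b c : B) (m : M) :
    H6_lam A B M N D (b ⊗ₜ c) m = b • D (c • m) := by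
  simp [H6_lam]

lemma H6_commutator_apply (D : M →ₗ[A] N) (b : B) (m : M) :
    Diff16.commutator A B M N D b m = D (b • m) - b • D m := by
  simp [Diff16.commutator]

lemma H6_lam_zero (t : B ⊗[A] B) : H6_lam A B M N 0 t = 0 := by
  induction t using TensorProduct.induction_on with
  | zero => simp
  | tmul x y =>
    ext m
    rw [H6_lam_tmul]
    simp
  | add x y hx hy => rw [map_add, hx, hy, add_zero]

lemma H6_lam_mul_gen (D : M →ₗ[A] N) (b : B) (t : B ⊗[A] B) :
    H6_lam A B M N D (t * ((1 : B) ⊗ₜ[A] b - b ⊗ₜ[A] (1 : B))) =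
      H6_lam A B M N (Diff16.commutator A B M N D b) t := by
  induction t using TensorProduct.induction_on with
  | zero => simp
  | tmul x y =>
    ext m
    rw [mul_sub, Algebra.TensorProduct.tmul_mul_tmul, Algebra.TensorProduct.tmul_mul_tmul, map_sub,
      LinearMap.sub_apply, H6_lam_tmul, H6_lam_tmul, H6_lam_tmul, H6_commutator_apply, mul_one,
      mul_one, smul_sub, mul_smul, mul_smul, smul_comm y b m]
  | add x y hx hy => rw [add_mul, map_add, map_add, hx, hy]

lemma H6_lam_left (D : M →ₗ[A] N) (b : B) (t : B ⊗[A] B) (m : M) :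
    H6_lam A B M N D ((b ⊗ₜ[A] (1 : B)) * t) m = b • H6_lam A B M N D t m := by
  induction t using TensorProduct.induction_on with
  | zero => simp
  | tmul x y =>
    rw [Algebra.TensorProduct.tmul_mul_tmul, H6_lam_tmul, H6_lam_tmul, one_mul, mul_smul]
  | add x y hx hy => rw [mul_add, map_add, LinearMap.add_apply, hx, hy, map_add,
      LinearMap.add_apply, smul_add]

lemma H6_lam_right (D : M →ₗ[A] N) (b : B) (t : B ⊗[A] B) (m : M) :
    H6_lam A B M N D (((1 : B) ⊗ₜ[A] b) * t) m = H6_lam A B M N D t (b • m) := by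
  induction t using TensorProduct.induction_on with
  | zero => simp
  | tmul x y =>
    rw [Algebra.TensorProduct.tmul_mul_tmul, H6_lam_tmul, H6_lam_tmul, one_mul, mul_smul,
      smul_comm b y m]
  | add x y hx hy => rw [mul_add, map_add, LinearMap.add_apply, hx, hy, map_add,
      LinearMap.add_apply]

/-- vanishing on `J * I` from vanishing of commutators on `J`. -/
lemma H6_lam_mul_ideal (D : M →ₗ[A] N) (J : Ideal (B ⊗[A] B))
    (h : ∀ b : B, ∀ t ∈ J, H6_lam A B M N (Diff16.commutator A B M N D b) t = 0) :
    ∀ s ∈ J * KaehlerDifferential.ideal A B, H6_lam A B M N D s = 0 := by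
  have key : ∀ i ∈ KaehlerDifferential.ideal A B, ∀ t ∈ J, H6_lam A B M N D (t * i) = 0 := by
    intro i hi
    rw [← KaehlerDifferential.span_range_eq_ideal] at hi
    induction hi using Submodule.span_induction with
    | mem x hx =>
      obtain ⟨b, rfl⟩ := hx
      intro t ht
      show H6_lam A B M N D (t * ((1 : B) ⊗ₜ[A] b - b ⊗ₜ[A] (1 : B))) = 0
      rw [H6_lam_mul_gen]
      exact h b t ht
    | zero => intro t _; simp
    | add x y _ _ hx hy =>
      intro t ht
      rw [mul_add, map_add, hx t ht, hy t ht, add_zero]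
    | smul r x _ hx =>
      intro t ht
      rw [smul_eq_mul, ← mul_assoc]
      exact hx (t * r) (Ideal.mul_mem_right _ _ ht)
  intro s hs
  refine Submodule.mul_induction_on hs ?_ ?_
  · intro t ht i hi
    exact key i hi t ht
  · intro x y hx hy
    rw [map_add, hx, hy, add_zero]

theorem H6_isDiffOpLE_iff (n : ℕ) (D : M →ₗ[A] N) :
    IsDiffOpLE A B M N n D ↔
      ∀ t ∈ KaehlerDifferential.ideal A B ^ (n + 1), H6_lam A B M N D t = 0 := by
  induction n generalizing D with
  | zero =>
    rw [zero_add, pow_one]
    constructor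
    · intro h
      have h0 : ∀ b : B, Diff16.commutator A B M N D b = 0 := by
        intro b
        ext m
        rw [H6_commutator_apply, h b m, sub_self]
        rfl
      have := H6_lam_mul_ideal A B M N D ⊤ (fun b t _ => by rw [h0 b, H6_lam_zero])
      intro t ht
      exact this t (by rw [Ideal.top_mul]; exact ht)
    · intro h b m
      have := h _ (KaehlerDifferential.one_smul_sub_smul_one_mem_ideal A b)
      have h2 := congrArg (fun f => f m) this
      simp only [map_sub, LinearMap.sub_apply, H6_lam_tmul, one_smul, LinearMap.zero_apply] at h2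
      exact sub_eq_zero.1 h2
  | succ n ih =>
    show (∀ b : B, IsDiffOpLE A B M N n (Diff16.commutator A B M N D b)) ↔ _
    constructor
    · intro h
      rw [pow_succ]
      exact H6_lam_mul_ideal A B M N D _ (fun b => (ih _).1 (h b))
    · intro h b
      rw [ih]
      intro t ht
      rw [← H6_lam_mul_gen]
      apply h
      rw [pow_succ _ (n + 1)]
      exact Ideal.mul_mem_mul ht (KaehlerDifferential.one_smul_sub_smul_one_mem_ideal A b)

end

end Groth.Agent.Lib.helper6
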