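import Mathlib
import Groth.Prelude.Def_DiffOp
import Groth.Agent.Lib.helper6.EtaleBC3
import Groth.Agent.Lib.helper6.PP16Diff
import Groth.Agent.Lib.helper1.DiffOp

set_option autoImplicit false
set_option linter.style.haveILetI false

namespace Groth.Agent.Lib.helper6
open scoped TensorProduct
open Diff16

universe u

section

variable (R S S' : Type u) [CommRing R] [CommRing S] [CommRing S'] [Algebra R S] [Algebra R S']
  [Algebra S S'] [IsScalarTower R S S']
  (M : Type u) [AddCommGroup M] [Module S M] [Module R M] [IsScalarTower R S M]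
  (N' : Type u) [AddCommGroup N'] [Module S' N'] [Module R N'] [IsScalarTower R S' N']

lemma H6_algebraMap_smul_one_tmul (s : S) (m : M) :
    algebraMap S S' s • ((1 : S') ⊗ₜ[S] m) = (1 : S') ⊗ₜ[S] (s • m) := by
  rw [TensorProduct.smul_tmul', smul_eq_mul, mul_one, Algebra.algebraMap_eq_smul_one,
    TensorProduct.smul_tmul]

theorem H6_eq_zero_of_vanish_on_base [Algebra.FormallyEtale S S'] (k : ℕ)
    (E : S' ⊗[S] M →ₗ[R] N')
    (hE : Diff16.IsDiffOpLE R S' (S' ⊗[S] M) N' k E)
    (h0 : ∀ m : M, E ((1 : S') ⊗ₜ[S] m) = 0) : E = 0 := by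
  obtain ⟨ψ, χ, hψ1, hψ2, hχ, hχJ, hχφ, hφχ⟩ := H6_etaleBC_data R S S' k
  rw [H6_isDiffOpLE_iff] at hE
  have key : ∀ (t : S' ⊗[R] S) (m : M),
      H6_lam R S' (S' ⊗[S] M) N' E (H6_phi R S S' t) ((1 : S') ⊗ₜ[S] m) = 0 := by
    intro t m
    induction t using TensorProduct.induction_on with
    | zero => simp
    | tmul a s =>
      rw [H6_phi_tmul, H6_lam_tmul, H6_algebraMap_smul_one_tmul, h0, smul_zero]
    | add x y hx hy => rw [map_add, map_add, LinearMap.add_apply, hx, hy, add_zero]
  apply LinearMap.ext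
  intro x
  induction x using TensorProduct.induction_on with
  | zero => simp
  | tmul s' m =>
    obtain ⟨t, ht⟩ := Ideal.Quotient.mk_surjective (χ ((1 : S') ⊗ₜ[R] s'))
    have h1 : (1 : S') ⊗ₜ[R] s' - H6_phi R S S' t ∈ KaehlerDifferential.ideal R S' ^ (k + 1) := by
      rw [← Ideal.Quotient.eq, ← H6_phiBar_mk, ht, hφχ]
    have h2 := hE _ h1
    have h3 := congrArg (fun f => f ((1 : S') ⊗ₜ[S] m)) h2
    simp only [map_sub, LinearMap.sub_apply, LinearMap.zero_apply, key, sub_zero, H6_lam_tmul,
      one_smul] at h3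
    rw [TensorProduct.smul_tmul', smul_eq_mul, mul_one] at h3
    rw [h3]; rfl
  | add x y hx hy => rw [map_add, hx, hy]; simp

end

section restrict

variable (R S S' : Type u) [CommRing R] [CommRing S] [CommRing S'] [Algebra R S] [Algebra R S']
  [Algebra S S'] [IsScalarTower R S S']
  (M : Type u) [AddCommGroup M] [Module S M] [Module R M] [IsScalarTower R S M]
  (M' : Type u) [AddCommGroup M'] [Module S' M'] [Module R M'] [IsScalarTower R S' M']
  (N' : Type u) [AddCommGroup N'] [Module S' N'] [Module R N'] [IsScalarTower R S' N']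
  [Module S N'] [IsScalarTower S S' N'] [IsScalarTower R S N']

/-- restriction of the order along `S → S'` and a semilinear `ι : M → M'`. -/
lemma H6_isDiffOpLE_restrict (ι : M →ₗ[R] M')
    (hι : ∀ (s : S) (m : M), ι (s • m) = algebraMap S S' s • ι m) :
    ∀ (k : ℕ) (D' : M' →ₗ[R] N'), IsDiffOpLE R S' M' N' k D' →
      IsDiffOpLE R S M N' k (D' ∘ₗ ι) := by
  intro k
  induction k with
  | zero =>
    intro D' hD' s m
    rw [LinearMap.comp_apply, hι, hD', LinearMap.comp_apply, algebraMap_smul]
  | succ k ih =>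
    intro D' hD' s
    have : Diff16.commutator R S M N' (D' ∘ₗ ι) s =
        Diff16.commutator R S' M' N' D' (algebraMap S S' s) ∘ₗ ι := by
      ext m
      rw [Groth.Agent.H1.H1_commutator_apply, LinearMap.comp_apply, LinearMap.comp_apply,
        LinearMap.comp_apply, Groth.Agent.H1.H1_commutator_apply, hι,
        ← algebraMap_smul S' s (D' (ι m))]
    rw [this]
    exact ih _ (hD' (algebraMap S S' s))

end restrict

end Groth.Agent.Lib.helper6
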