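import Mathlib
import Groth.Prelude.Def_DiffOp
import Groth.Agent.Lib.helper6.EtaleBC4

set_option autoImplicit false
set_option linter.style.haveILetI false

namespace Groth.Agent.Lib.helper6
open scoped TensorProduct
open Diff16

universe u

section

variable (R S S' : Type u) [CommRing R] [CommRing S] [CommRing S'] [Algebra R S] [Algebra R S']
  [Algebra S S'] [IsScalarTower R S S']
  (M N : Type u) [AddCommGroup M] [Module S M] [Module R M] [IsScalarTower R S M]
  [AddCommGroup N] [Module S N] [Module R N] [IsScalarTower R S N]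

/-- `Λ_D : S' ⊗_R S → Hom_R(M, S' ⊗_S N)`, `a ⊗ b ↦ (m ↦ a ⊗ D (b m))`. -/
noncomputable def H6_Lam (D : M →ₗ[R] N) : S' ⊗[R] S →ₗ[R] (M →ₗ[R] S' ⊗[S] N) :=
  TensorProduct.lift
    (LinearMap.mk₂ R
      (fun (a : S') (b : S) =>
        ({ toFun := fun m => a ⊗ₜ[S] D (b • m)
           map_add' := fun m m' => by rw [smul_add, map_add, TensorProduct.tmul_add]
           map_smul' := fun r m => by
             rw [smul_comm, map_smul, RingHom.id_apply, TensorProduct.tmul_smul] } :
          M →ₗ[R] S' ⊗[S] N))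
      (by intro a a' b; ext m; simp [TensorProduct.add_tmul])
      (by intro r a b; ext m; simp [TensorProduct.smul_tmul'])
      (by intro a b b'; ext m; simp [add_smul, TensorProduct.tmul_add])
      (by intro r a b; ext m; simp [TensorProduct.tmul_smul]))

lemma H6_Lam_tmul (D : M →ₗ[R] N) (a : S') (b : S) (m : M) :
    H6_Lam R S S' M N D (a ⊗ₜ b) m = a ⊗ₜ[S] D (b • m) := by
  simp [H6_Lam]

lemma H6_Lam_zero (t : S' ⊗[R] S) : H6_Lam R S S' M N 0 t = 0 := by
  induction t using TensorProduct.induction_on with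
  | zero => simp
  | tmul a b => ext m; rw [H6_Lam_tmul]; simp
  | add x y hx hy => rw [map_add, hx, hy, add_zero]

lemma H6_Lam_left (D : M →ₗ[R] N) (a : S') (t : S' ⊗[R] S) (m : M) :
    H6_Lam R S S' M N D ((a ⊗ₜ[R] (1 : S)) * t) m = a • H6_Lam R S S' M N D t m := by
  induction t using TensorProduct.induction_on with
  | zero => simp
  | tmul x y =>
    rw [Algebra.TensorProduct.tmul_mul_tmul, H6_Lam_tmul, H6_Lam_tmul, one_mul,
      TensorProduct.smul_tmul', smul_eq_mul]
  | add x y hx hy =>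
    rw [mul_add, map_add, LinearMap.add_apply, hx, hy, map_add, LinearMap.add_apply, smul_add]

lemma H6_Lam_right (D : M →ₗ[R] N) (s : S) (t : S' ⊗[R] S) (m : M) :
    H6_Lam R S S' M N D (((1 : S') ⊗ₜ[R] s) * t) m = H6_Lam R S S' M N D t (s • m) := by
  induction t using TensorProduct.induction_on with
  | zero => simp
  | tmul x y =>
    rw [Algebra.TensorProduct.tmul_mul_tmul, H6_Lam_tmul, H6_Lam_tmul, one_mul, mul_smul,
      smul_comm s y m]
  | add x y hx hy =>
    rw [mul_add, map_add, LinearMap.add_apply, hx, hy, map_add, LinearMap.add_apply]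

lemma H6_Lam_mul_gen (D : M →ₗ[R] N) (s : S) (t : S' ⊗[R] S) :
    H6_Lam R S S' M N D (t * ((1 : S') ⊗ₜ[R] s - algebraMap S S' s ⊗ₜ[R] (1 : S))) =
      H6_Lam R S S' M N (Diff16.commutator R S M N D s) t := by
  induction t using TensorProduct.induction_on with
  | zero => simp
  | tmul a b =>
    ext m
    rw [mul_sub, Algebra.TensorProduct.tmul_mul_tmul, Algebra.TensorProduct.tmul_mul_tmul, map_sub,
      LinearMap.sub_apply, H6_Lam_tmul, H6_Lam_tmul, H6_Lam_tmul, mul_one, mul_one,
      Groth.Agent.H1.H1_commutator_apply, TensorProduct.tmul_sub, mul_comm b s, mul_smul]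
    congr 1
    rw [mul_comm, ← Algebra.smul_def, TensorProduct.smul_tmul]
  | add x y hx hy => rw [add_mul, map_add, map_add, hx, hy]

/-- the ideal generated by `1 ⊗ s - s ⊗ 1`. -/
noncomputable def H6_GS : Ideal (S' ⊗[R] S) :=
  Ideal.span (Set.range fun s : S => (1 : S') ⊗ₜ[R] s - algebraMap S S' s ⊗ₜ[R] (1 : S))

lemma H6_I_le_GS : H6_I R S S' ≤ H6_GS R S S' := by
  have key : ∀ t : S' ⊗[R] S, t - (H6_eps R S S' t) ⊗ₜ[R] (1 : S) ∈ H6_GS R S S' := by
    intro t
    induction t using TensorProduct.induction_on with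
    | zero => simp
    | tmul a s =>
      have : a ⊗ₜ[R] s - (H6_eps R S S' (a ⊗ₜ[R] s)) ⊗ₜ[R] (1 : S) =
          (a ⊗ₜ[R] (1 : S)) * ((1 : S') ⊗ₜ[R] s - algebraMap S S' s ⊗ₜ[R] (1 : S)) := by
        rw [H6_eps_tmul, mul_sub, Algebra.TensorProduct.tmul_mul_tmul,
          Algebra.TensorProduct.tmul_mul_tmul, mul_one, one_mul, mul_one]
      rw [this]
      exact Ideal.mul_mem_left _ _ (Ideal.subset_span ⟨s, rfl⟩)
    | add x y hx hy =>
      have : x + y - (H6_eps R S S' (x + y)) ⊗ₜ[R] (1 : S) =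
          (x - (H6_eps R S S' x) ⊗ₜ[R] (1 : S)) + (y - (H6_eps R S S' y) ⊗ₜ[R] (1 : S)) := by
        rw [map_add, TensorProduct.add_tmul]; abel
      rw [this]
      exact Ideal.add_mem _ hx hy
  intro t ht
  have h1 := key t
  rw [(H6_mem_I R S S' t).1 ht, TensorProduct.zero_tmul, sub_zero] at h1
  exact h1

lemma H6_Lam_kills_pow : ∀ (k : ℕ) (D : M →ₗ[R] N), IsDiffOpLE R S M N k D →
    ∀ t ∈ H6_GS R S S' ^ (k + 1), ∀ c : S' ⊗[R] S, H6_Lam R S S' M N D (c * t) = 0 := by
  have step : ∀ (D : M →ₗ[R] N) (J : Ideal (S' ⊗[R] S)),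
      (∀ s : S, ∀ t ∈ J, H6_Lam R S S' M N (Diff16.commutator R S M N D s) t = 0) →
      ∀ g ∈ H6_GS R S S', ∀ t ∈ J, H6_Lam R S S' M N D (t * g) = 0 := by
    intro D J h g hg
    unfold H6_GS at hg
    induction hg using Submodule.span_induction with
    | mem x hx =>
      obtain ⟨s, rfl⟩ := hx
      intro t ht
      rw [H6_Lam_mul_gen]
      exact h s t ht
    | zero => intro t _; simp
    | add x y _ _ hx hy =>
      intro t ht
      rw [mul_add, map_add, hx t ht, hy t ht, add_zero]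
    | smul r x _ hx =>
      intro t ht
      rw [smul_eq_mul, ← mul_assoc]
      exact hx (t * r) (Ideal.mul_mem_right _ _ ht)
  intro k
  induction k with
  | zero =>
    intro D hD t ht c
    rw [zero_add, pow_one] at ht
    have h0 : ∀ s : S, Diff16.commutator R S M N D s = 0 :=
      (Groth.Agent.H1.H1_isDiffOpLE_zero_iff' D).1 hD
    exact step D ⊤ (fun s t _ => by rw [h0 s, H6_Lam_zero]) t ht c trivial
  | succ k ih =>
    intro D hD t ht c
    rw [pow_succ] at ht
    have hmul : ∀ x ∈ H6_GS R S S' ^ (k + 1) * H6_GS R S S',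
        ∀ c : S' ⊗[R] S, H6_Lam R S S' M N D (c * x) = 0 := by
      intro x hx
      refine Submodule.mul_induction_on hx ?_ ?_
      · intro y hy g hg c
        rw [← mul_assoc]
        refine step D (H6_GS R S S' ^ (k + 1)) (fun s t ht => ?_) g hg (c * y)
          (Ideal.mul_mem_left _ _ hy)
        have := ih _ (hD s) t ht 1
        rwa [one_mul] at this
      · intro x y hx hy c
        rw [mul_add, map_add, hx c, hy c, add_zero]
    exact hmul t ht c

lemma H6_Lam_kills_I (k : ℕ) (D : M →ₗ[R] N) (hD : IsDiffOpLE R S M N k D)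
    (t : S' ⊗[R] S) (ht : t ∈ H6_I R S S' ^ (k + 1)) : H6_Lam R S S' M N D t = 0 := by
  have := H6_Lam_kills_pow R S S' M N k D hD t
    (Ideal.pow_right_mono (H6_I_le_GS R S S') (k + 1) ht) 1
  rwa [one_mul] at this

end

end Groth.Agent.Lib.helper6
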