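import Mathlib
import Groth.Prelude.Def_DiffOp
import Groth.Agent.Lib.helper6.EtaleBC5

set_option autoImplicit false
set_option linter.style.haveILetI false

namespace Groth.Agent.Lib.helper6
open scoped TensorProduct
open Diff16

universe u

section

variable (R S S' : Type u) [CommRing R] [CommRing S] [CommRing S'] [Algebra R S] [Algebra R S']
  [Algebra S S'] [IsScalarTower R S S']
  (M N : Type u) [AddCommGroup M] [Module S M] [Module R M] [IsScalarTower R S M]
  [AddCommGroup N] [Module S N] [Module R N] [IsScalarTower R S N]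

/-- `Λ̄ : Q_k → Hom_R(M, S' ⊗_S N)`. -/
noncomputable def H6_LamBar (k : ℕ) (D : M →ₗ[R] N) (hD : IsDiffOpLE R S M N k D) :
    H6_Q R S S' k →ₗ[R] (M →ₗ[R] S' ⊗[S] N) :=
  let p : Submodule R (S' ⊗[R] S) := ((H6_I R S S') ^ (k + 1)).restrictScalars R
  let f : (S' ⊗[R] S ⧸ p) →ₗ[R] (M →ₗ[R] S' ⊗[S] N) :=
    Submodule.liftQ (R₂ := R) (M₂ := M →ₗ[R] S' ⊗[S] N) (τ₁₂ := RingHom.id R) p
      (H6_Lam R S S' M N D)
      (fun t ht => LinearMap.mem_ker.2 (H6_Lam_kills_I R S S' M N k D hD t ht))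
  f ∘ₗ (Submodule.Quotient.restrictScalarsEquiv R ((H6_I R S S') ^ (k + 1))).symm.toLinearMap

lemma H6_LamBar_mk (k : ℕ) (D : M →ₗ[R] N) (hD : IsDiffOpLE R S M N k D) (t : S' ⊗[R] S) :
    H6_LamBar R S S' M N k D hD (Ideal.Quotient.mk _ t) = H6_Lam R S S' M N D t := by
  show H6_LamBar R S S' M N k D hD (Submodule.Quotient.mk t) = _
  unfold H6_LamBar
  rw [LinearMap.comp_apply, LinearEquiv.coe_coe, Submodule.Quotient.restrictScalarsEquiv_symm_mk,
    Submodule.liftQ_apply]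

lemma H6_LamBar_left (k : ℕ) (D : M →ₗ[R] N) (hD : IsDiffOpLE R S M N k D) (a : S')
    (q : H6_Q R S S' k) (m : M) :
    H6_LamBar R S S' M N k D hD (Ideal.Quotient.mk _ (a ⊗ₜ[R] (1 : S)) * q) m =
      a • H6_LamBar R S S' M N k D hD q m := by
  obtain ⟨t, rfl⟩ := Ideal.Quotient.mk_surjective q
  rw [← map_mul, H6_LamBar_mk, H6_LamBar_mk, H6_Lam_left]

lemma H6_LamBar_right (k : ℕ) (D : M →ₗ[R] N) (hD : IsDiffOpLE R S M N k D) (s : S)
    (q : H6_Q R S S' k) (m : M) :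
    H6_LamBar R S S' M N k D hD (Ideal.Quotient.mk _ ((1 : S') ⊗ₜ[R] s) * q) m =
      H6_LamBar R S S' M N k D hD q (s • m) := by
  obtain ⟨t, rfl⟩ := Ideal.Quotient.mk_surjective q
  rw [← map_mul, H6_LamBar_mk, H6_LamBar_mk, H6_Lam_right]

theorem H6_exists_extension [Algebra.FormallyEtale S S'] (k : ℕ) (D : M →ₗ[R] N)
    (hD : IsDiffOpLE R S M N k D) :
    ∃ D' : S' ⊗[S] M →ₗ[R] S' ⊗[S] N,
      IsDiffOpLE R S' (S' ⊗[S] M) (S' ⊗[S] N) k D' ∧
        ∀ m : M, D' ((1 : S') ⊗ₜ[S] m) = (1 : S') ⊗ₜ[S] D m := by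
  obtain ⟨ψ, χ, hψ1, hψ2, hχ, hχJ, hχφ, hφχ⟩ := H6_etaleBC_data R S S' k
  let L := H6_LamBar R S S' M N k D hD
  let F : S' →+ M →+ S' ⊗[S] N :=
    AddMonoidHom.mk' (fun s' => (L (ψ s')).toAddMonoidHom)
      (by intro a b; ext m; simp [map_add])
  have hF_apply : ∀ s' m, F s' m = L (ψ s') m := fun s' m => rfl
  have hF : ∀ (s : S) (s' : S') (m : M), F (s • s') m = F s' (s • m) := by
    intro s s' m
    rw [hF_apply, hF_apply, Algebra.smul_def, map_mul, hψ1]
    exact H6_LamBar_right R S S' M N k D hD s (ψ s') m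
  let D'₀ : S' ⊗[S] M →+ S' ⊗[S] N := TensorProduct.liftAddHom F hF
  have hD'₀ : ∀ s' m, D'₀ (s' ⊗ₜ[S] m) = L (ψ s') m := fun s' m => by
    show TensorProduct.liftAddHom F hF (s' ⊗ₜ[S] m) = _
    rw [TensorProduct.liftAddHom_tmul]
    rfl
  let D' : S' ⊗[S] M →ₗ[R] S' ⊗[S] N :=
    { toFun := D'₀
      map_add' := map_add D'₀
      map_smul' := fun r x => by
        rw [RingHom.id_apply]
        induction x using TensorProduct.induction_on with
        | zero => simp
        | tmul s' m =>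
          have h1 : r • (s' ⊗ₜ[S] m) = s' ⊗ₜ[S] (r • m) := by
            rw [TensorProduct.tmul_smul]
          rw [h1, hD'₀, hD'₀, map_smul]
        | add x y hx hy => rw [smul_add, map_add, hx, hy, map_add, smul_add] }
  have hD'_tmul : ∀ s' m, D' (s' ⊗ₜ[S] m) = L (ψ s') m := hD'₀
  refine ⟨D', ?_, ?_⟩
  · rw [H6_isDiffOpLE_iff]
    have key : ∀ (t' : S' ⊗[R] S') (s' : S') (m : M),
        H6_lam R S' (S' ⊗[S] M) (S' ⊗[S] N) D' t' (s' ⊗ₜ[S] m) = L (χ t' * ψ s') m := by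
      intro t' s' m
      induction t' using TensorProduct.induction_on with
      | zero => simp
      | tmul a' b' =>
        rw [H6_lam_tmul, TensorProduct.smul_tmul', smul_eq_mul, hD'_tmul, hχ, mul_assoc, ← map_mul]
        exact (H6_LamBar_left R S S' M N k D hD a' (ψ (b' * s')) m).symm
      | add x y hx hy =>
        rw [map_add, LinearMap.add_apply, hx, hy, map_add, add_mul, map_add, LinearMap.add_apply]
    intro t' ht'
    apply LinearMap.ext
    intro x
    induction x using TensorProduct.induction_on with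
    | zero => simp
    | tmul s' m =>
      rw [key, hχJ t' ht', zero_mul, map_zero]
      rfl
    | add x y hx hy => rw [map_add, hx, hy]; simp
  · intro m
    rw [hD'_tmul, map_one]
    show L (Ideal.Quotient.mk _ (1 : S' ⊗[R] S)) m = _
    rw [H6_LamBar_mk, Algebra.TensorProduct.one_def, H6_Lam_tmul, one_smul]

end

end Groth.Agent.Lib.helper6
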