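import Mathlib

set_option autoImplicit false
set_option linter.style.haveILetI false

open Cardinal

namespace Groth.Agent.Lib.helper6

universe u

theorem H6_card_fun_le (X : Type u) (κ : Cardinal.{u}) (hκ : ℵ₀ ≤ κ) (hX : #X ≤ κ) (l : ℕ) :
    #(Fin l → X) ≤ κ := by
  rw [Cardinal.mk_arrow]
  simp only [Cardinal.lift_uzero, Cardinal.mk_fintype, Cardinal.lift_natCast, Fintype.card_fin]
  calc #X ^ (l : Cardinal) ≤ κ ^ (l : Cardinal) := Cardinal.power_le_power_right hX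
    _ ≤ κ := Cardinal.power_nat_le hκ

theorem H6_card_sigma_nat_le (F : ℕ → Type u) (κ : Cardinal.{u}) (hκ : ℵ₀ ≤ κ)
    (hF : ∀ l, #(F l) ≤ κ) : #(Σ l, F l) ≤ κ := by
  rw [Cardinal.mk_sigma]
  calc (Cardinal.sum fun l : ℕ => #(F l)) ≤ Cardinal.sum fun _ : ℕ => κ :=
        Cardinal.sum_le_sum _ _ hF
    _ = κ := by
        rw [Cardinal.sum_const]
        simp only [Cardinal.mk_eq_aleph0, Cardinal.lift_aleph0, Cardinal.lift_uzero]
        exact Cardinal.aleph0_mul_eq hκ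

variable {A B : Type u} [CommRing A] [CommRing B] [Algebra A B]

/-- one step: trivialise all relations among elements of `E` -/
theorem H6_flat_step [Module.Flat A B] (E : Subalgebra A B)
    (hE : #E ≤ max #A ℵ₀) :
    ∃ E' : Subalgebra A B, E ≤ E' ∧ #E' ≤ max #A ℵ₀ ∧
      ∀ (l : ℕ) (f : Fin l → A) (x : Fin l → B), (∀ i, x i ∈ E) → ∑ i, f i • x i = 0 →
        ∃ (k : ℕ) (a : Fin l → Fin k → A) (y : Fin k → B), (∀ j, y j ∈ E') ∧
          (∀ i, x i = ∑ j, a i j • y j) ∧ ∀ j, ∑ i, f i * a i j = 0 := by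
  classical
  obtain ⟨κ, hκdef⟩ : ∃ κ : Cardinal.{u}, κ = max #A ℵ₀ := ⟨_, rfl⟩
  rw [← hκdef] at hE ⊢
  have hκ : ℵ₀ ≤ κ := hκdef ▸ le_max_right _ _
  have hAκ : #A ≤ κ := hκdef ▸ le_max_left _ _
  -- the type of relations
  have hex : ∀ r : (Σ l : ℕ, (Fin l → A) × (Fin l → E)), ∃ Y : Finset B,
      (∑ i, r.2.1 i • ((r.2.2 i : E) : B) = 0 →
        ∃ (k : ℕ) (a : Fin r.1 → Fin k → A) (y : Fin k → B), (∀ j, y j ∈ Y) ∧
          (∀ i, ((r.2.2 i : E) : B) = ∑ j, a i j • y j) ∧ ∀ j, ∑ i, r.2.1 i * a i j = 0) := by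
    intro r
    by_cases h : ∑ i, r.2.1 i • ((r.2.2 i : E) : B) = 0
    · obtain ⟨k, a, y, h1, h2⟩ := Module.Flat.isTrivialRelation_of_sum_smul_eq_zero (R := A)
        (M := B) (f := r.2.1) (x := fun i => ((r.2.2 i : E) : B)) h
      exact ⟨Finset.univ.image y, fun _ => ⟨k, a, y,
        fun j => Finset.mem_image_of_mem y (Finset.mem_univ j), h1, h2⟩⟩
    · exact ⟨∅, fun h' => absurd h' h⟩
  choose Y hY using hex
  obtain ⟨W, hW⟩ : ∃ W : Set B, W = ⋃ r, (Y r : Set B) := ⟨_, rfl⟩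
  have hRel : #(Σ l : ℕ, (Fin l → A) × (Fin l → E)) ≤ κ := by
    apply H6_card_sigma_nat_le _ κ hκ
    intro l
    rw [Cardinal.mk_prod]
    simp only [Cardinal.lift_id]
    calc #(Fin l → A) * #(Fin l → E) ≤ κ * κ :=
          mul_le_mul' (H6_card_fun_le A κ hκ hAκ l) (H6_card_fun_le E κ hκ hE l)
      _ = κ := Cardinal.mul_eq_self hκ
  have hWcard : #W ≤ κ := by
    rw [hW]
    calc #(⋃ r, (Y r : Set B)) ≤ Cardinal.sum fun r => #(Y r : Set B) :=
          Cardinal.mk_iUnion_le_sum_mk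
      _ ≤ Cardinal.sum fun _ : (Σ l : ℕ, (Fin l → A) × (Fin l → E)) => ℵ₀ := by
          refine Cardinal.sum_le_sum _ _ fun r => ?_
          exact (Cardinal.lt_aleph0_of_finite _).le
      _ = #(Σ l : ℕ, (Fin l → A) × (Fin l → E)) * ℵ₀ := by
          rw [Cardinal.sum_const']
      _ ≤ κ * κ := mul_le_mul' hRel hκ
      _ = κ := Cardinal.mul_eq_self hκ
  refine ⟨Algebra.adjoin A ((E : Set B) ∪ W), ?_, ?_, ?_⟩
  · intro x hx
    exact Algebra.subset_adjoin (Or.inl hx)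
  · refine (Algebra.cardinalMk_adjoin_le A _).trans ?_
    refine max_le (max_le hAκ ?_) hκ
    calc #((E : Set B) ∪ W : Set B) ≤ #(E : Set B) + #W := Cardinal.mk_union_le _ _
      _ ≤ κ + κ := add_le_add hE hWcard
      _ = κ := Cardinal.add_eq_self hκ
  · intro l f x hx hrel
    have := hY ⟨l, f, fun i => ⟨x i, hx i⟩⟩ hrel
    obtain ⟨k, a, y, hy, h1, h2⟩ := this
    refine ⟨k, a, y, fun j => ?_, h1, h2⟩
    apply Algebra.subset_adjoin
    right
    rw [hW]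
    exact Set.mem_iUnion.mpr ⟨_, hy j⟩

end Groth.Agent.Lib.helper6
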