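import Mathlib
import Groth.Agent.Lib.helper6.FlatSubalg

set_option autoImplicit false
set_option linter.style.haveILetI false

open Cardinal

namespace Groth.Agent.Lib.helper6

universe u

variable {A B : Type u} [CommRing A] [CommRing B] [Algebra A B]

theorem H6_flat_subalgebra [Module.Flat A B] (E : Subalgebra A B)
    (hE : #E ≤ max #A ℵ₀) :
    ∃ B' : Subalgebra A B, E ≤ B' ∧ Module.Flat A B' ∧ #B' ≤ max #A ℵ₀ := by
  classical
  have hκ : ℵ₀ ≤ max #A ℵ₀ := le_max_right _ _
  -- the sequence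
  choose next hnext1 hnext2 hnext3 using
    fun (E : {E : Subalgebra A B // #E ≤ max #A ℵ₀}) => H6_flat_step E.1 E.2
  let F : ℕ → {E : Subalgebra A B // #E ≤ max #A ℵ₀} :=
    fun n => Nat.rec ⟨E, hE⟩ (fun _ X => ⟨next X, hnext2 X⟩) n
  have hFsucc : ∀ n, (F (n + 1)).1 = next (F n) := fun n => rfl
  have hF0 : (F 0).1 = E := rfl
  have hmono : Monotone (fun n => (F n).1) := by
    apply monotone_nat_of_le_succ
    intro n
    rw [hFsucc]
    exact hnext1 (F n)
  have hdir : Directed (· ≤ ·) (fun n => (F n).1) := hmono.directed_le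
  have hmem : ∀ b : B, b ∈ ⨆ n, (F n).1 ↔ ∃ n, b ∈ (F n).1 := by
    intro b
    rw [← SetLike.mem_coe, Subalgebra.coe_iSup_of_directed hdir, Set.mem_iUnion]
    rfl
  refine ⟨⨆ n, (F n).1, ?_, ?_, ?_⟩
  · rw [← hF0]
    exact le_iSup (fun n => (F n).1) 0
  · apply Module.Flat.of_forall_isTrivialRelation
    intro l f x hrel
    have hx : ∀ i, ∃ n, (x i : B) ∈ (F n).1 := fun i =>
      (hmem _).mp (x i).2
    choose n hn using hx
    obtain ⟨N, hN⟩ : ∃ N, ∀ i, n i ≤ N := ⟨Finset.univ.sup n, fun i => Finset.le_sup (Finset.mem_univ i)⟩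
    have hxN : ∀ i, (x i : B) ∈ (F N).1 := fun i => hmono (hN i) (hn i)
    have hrelB : ∑ i, f i • (x i : B) = 0 := by
      have := congrArg (Subtype.val) hrel
      simpa using this
    obtain ⟨k, a, y, hy, h1, h2⟩ := hnext3 (F N) l f (fun i => (x i : B)) hxN hrelB
    have hyB : ∀ j, y j ∈ ⨆ n, (F n).1 := fun j =>
      (hmem _).mpr ⟨N + 1, by rw [hFsucc]; exact hy j⟩
    refine ⟨k, a, fun j => ⟨y j, hyB j⟩, fun i => ?_, h2⟩
    apply Subtype.ext
    rw [h1 i]
    simp
  · have hcoe : ((⨆ n, (F n).1 : Subalgebra A B) : Set B) = ⋃ n, ((F n).1 : Set B) :=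
      Subalgebra.coe_iSup_of_directed hdir
    have h1 : #((⨆ n, (F n).1 : Subalgebra A B) : Set B) ≤ max #A ℵ₀ := by
      rw [hcoe]
      have := Cardinal.mk_iUnion_le_sum_mk_lift (f := fun n : ℕ => ((F n).1 : Set B))
      simp only [Cardinal.lift_uzero] at this
      refine this.trans ?_
      calc (Cardinal.sum fun n : ℕ => #((F n).1 : Set B))
          ≤ Cardinal.sum fun _ : ℕ => max #A ℵ₀ := Cardinal.sum_le_sum _ _ fun n => (F n).2
        _ = max #A ℵ₀ := by
            rw [Cardinal.sum_const]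
            simp only [Cardinal.mk_eq_aleph0, Cardinal.lift_aleph0, Cardinal.lift_uzero]
            exact Cardinal.aleph0_mul_eq hκ
    exact h1

end Groth.Agent.Lib.helper6
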