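import Mathlib

set_option autoImplicit false
universe v u₁ v₁

open CategoryTheory CategoryTheory.Limits

namespace Groth.Agent.Lib.helper6

variable {C : Type u₁} [Category.{v₁} C] {F G H : C ⥤ Type v} (f : H ⟶ F) (g : G ⟶ F)

theorem H6_pb_isPullback (A : C) :
    IsPullback ((pullback.fst f g).app A) ((pullback.snd f g).app A) (f.app A) (g.app A) :=
  (IsPullback.of_hasPullback f g).map ((evaluation C (Type v)).obj A)

theorem H6_pb_ext (A : C) (z z' : (pullback f g).obj A)
    (h1 : (pullback.fst f g).app A z = (pullback.fst f g).app A z')
    (h2 : (pullback.snd f g).app A z = (pullback.snd f g).app A z') : z = z' :=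
  Types.ext_of_isPullback (H6_pb_isPullback f g A) h1 h2

theorem H6_pb_exists (A : C) (x : H.obj A) (y : G.obj A) (h : f.app A x = g.app A y) :
    ∃ z : (pullback f g).obj A, (pullback.fst f g).app A z = x ∧ (pullback.snd f g).app A z = y :=
  Types.exists_of_isPullback (H6_pb_isPullback f g A) x y h

theorem H6_pb_condition (A : C) (z : (pullback f g).obj A) :
    f.app A ((pullback.fst f g).app A z) = g.app A ((pullback.snd f g).app A z) := by
  have := congrArg (fun t : pullback f g ⟶ F => t.app A z) (pullback.condition (f := f) (g := g))
  exact this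

end Groth.Agent.Lib.helper6
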