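import Mathlib
import Groth.Agent.Lib.helper6.GeomRedFS2
import Groth.Agent.Lib.helper4.SmoothReduced

set_option autoImplicit false
set_option linter.style.haveILetI false

namespace Groth.Agent.Lib.helper6

universe u

open TensorProduct

/-- geometric reducedness passes from a domain to its fraction field. -/
lemma H6_geomRed_fraction (K C L : Type u) [Field K] [CommRing C] [IsDomain C] [Field L]
    [Algebra K C] [Algebra K L] [Algebra C L] [IsScalarTower K C L] [IsFractionRing C L]
    (hC : IsReduced (AlgebraicClosure K ⊗[K] C)) :
    IsReduced (AlgebraicClosure K ⊗[K] L) := by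
  letI : Algebra (AlgebraicClosure K ⊗[K] C) (AlgebraicClosure K ⊗[K] L) :=
    (Algebra.TensorProduct.map (AlgHom.id K (AlgebraicClosure K))
      (IsScalarTower.toAlgHom K C L)).toRingHom.toAlgebra
  haveI : IsScalarTower (AlgebraicClosure K) (AlgebraicClosure K ⊗[K] C)
      (AlgebraicClosure K ⊗[K] L) := by
    refine IsScalarTower.of_algebraMap_eq (fun x => ?_)
    show x ⊗ₜ[K] (1 : L) = Algebra.TensorProduct.map (AlgHom.id K (AlgebraicClosure K))
      (IsScalarTower.toAlgHom K C L) (x ⊗ₜ[K] (1 : C))
    rw [Algebra.TensorProduct.map_tmul, map_one]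
    rfl
  haveI := IsLocalization.tensorProduct_tensorProduct_right K (AlgebraicClosure K)
    (nonZeroDivisors C) L (by
      ext c
      show Algebra.TensorProduct.map (AlgHom.id K (AlgebraicClosure K))
        (IsScalarTower.toAlgHom K C L) ((1 : AlgebraicClosure K) ⊗ₜ[K] c) = 1 ⊗ₜ[K] algebraMap C L c
      rw [Algebra.TensorProduct.map_tmul, map_one]
      rfl)
  exact isReduced_localizationPreserves ((nonZeroDivisors C).map
    (Algebra.TensorProduct.includeRight (R := K) (A := AlgebraicClosure K)))
    (AlgebraicClosure K ⊗[K] L) hC

/-- a formally smooth finitely generated field extension is geometrically reduced. -/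
theorem H6_geomRed_of_fs_essFT (K L : Type u) [Field K] [Field L] [Algebra K L]
    [Algebra.EssFiniteType K L] [Algebra.FormallySmooth K L] :
    Algebra.IsGeometricallyReduced K L := by
  classical
  haveI hft : Algebra.FiniteType K (Algebra.EssFiniteType.subalgebra K L) := inferInstance
  haveI hfp : Algebra.FinitePresentation K (Algebra.EssFiniteType.subalgebra K L) :=
    Algebra.FinitePresentation.of_finiteType.1 hft
  have hloc := Algebra.EssFiniteType.isLocalization (R := K) (S := L)
  have hM : Algebra.EssFiniteType.submonoid K L =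
      nonZeroDivisors (Algebra.EssFiniteType.subalgebra K L) := by
    ext b
    rw [Algebra.EssFiniteType.submonoid, Submonoid.mem_comap, IsUnit.mem_submonoid_iff,
      isUnit_iff_ne_zero, mem_nonZeroDivisors_iff_ne_zero]
    exact map_ne_zero_iff (algebraMap (Algebra.EssFiniteType.subalgebra K L) L)
      Subtype.val_injective
  rw [hM] at hloc
  haveI : IsFractionRing (Algebra.EssFiniteType.subalgebra K L) L := hloc
  haveI hfr : IsFractionRing (Algebra.EssFiniteType.subalgebra K L)
      (Localization.AtPrime (⊥ : Ideal (Algebra.EssFiniteType.subalgebra K L))) := by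
    simpa [Ideal.primeCompl_bot] using Localization.isLocalization
      (M := (⊥ : Ideal (Algebra.EssFiniteType.subalgebra K L)).primeCompl)
  let e : L ≃ₐ[Algebra.EssFiniteType.subalgebra K L]
      Localization.AtPrime (⊥ : Ideal (Algebra.EssFiniteType.subalgebra K L)) :=
    IsLocalization.algEquiv (nonZeroDivisors (Algebra.EssFiniteType.subalgebra K L)) _ _
  haveI : Algebra.FormallySmooth K
      (Localization.AtPrime (⊥ : Ideal (Algebra.EssFiniteType.subalgebra K L))) :=
    Algebra.FormallySmooth.of_equiv (e.restrictScalars K)
  haveI : Algebra.IsSmoothAt K (⊥ : Ideal (Algebra.EssFiniteType.subalgebra K L)) :=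
    inferInstanceAs (Algebra.FormallySmooth K
      (Localization.AtPrime (⊥ : Ideal (Algebra.EssFiniteType.subalgebra K L))))
  obtain ⟨f, hf, hsm⟩ := Algebra.IsSmoothAt.exists_notMem_smooth K
    (⊥ : Ideal (Algebra.EssFiniteType.subalgebra K L))
  have hf0 : f ≠ 0 := fun h => hf (by rw [h]; exact zero_mem _)
  haveI : IsReduced (AlgebraicClosure K ⊗[K] Localization.Away f) :=
    Groth.Agent.H4.H4_isReduced_of_smooth (AlgebraicClosure K) _
  have hinj : Function.Injective (algebraMap (Algebra.EssFiniteType.subalgebra K L)
      (Localization.Away f)) :=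
    IsLocalization.injective _ (powers_le_nonZeroDivisors_of_noZeroDivisors hf0)
  have hB : IsReduced (AlgebraicClosure K ⊗[K] (Algebra.EssFiniteType.subalgebra K L)) := by
    refine isReduced_of_injective (Algebra.TensorProduct.map (AlgHom.id K (AlgebraicClosure K))
      (IsScalarTower.toAlgHom K (Algebra.EssFiniteType.subalgebra K L) (Localization.Away f))) ?_
    exact Module.Flat.lTensor_preserves_injective_linearMap
      (IsScalarTower.toAlgHom K (Algebra.EssFiniteType.subalgebra K L)
        (Localization.Away f)).toLinearMap hinj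
  rw [Algebra.isGeometricallyReduced_field_iff]
  exact H6_geomRed_fraction K (Algebra.EssFiniteType.subalgebra K L) L hB

end Groth.Agent.Lib.helper6
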