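import Mathlib

set_option autoImplicit false

namespace Groth.Agent.Lib.helper6

open DirectSum

section
variable {R A : Type*} [CommRing R] [CommRing A] [Algebra R A]
  (𝒜 : ℤ → Submodule R A) [GradedAlgebra 𝒜]

open Classical in
lemma H6_gr_coeffs (T : Finset A) (deg : A → ℤ) (hdeg : ∀ t ∈ T, t ∈ 𝒜 (deg t)) {n : ℤ} {y : A}
    (hy : y ∈ 𝒜 n) (hyT : y ∈ Ideal.span (T : Set A)) :
    ∃ c : A → A, (∀ t ∈ T, c t ∈ 𝒜 (n - deg t)) ∧ y = ∑ t ∈ T, c t * t := by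
  obtain ⟨a, -, ha⟩ := (Submodule.mem_span_finset).1 hyT
  refine ⟨fun t => (decompose 𝒜 (a t) (n - deg t) : A), fun t _ => SetLike.coe_mem _, ?_⟩
  have h1 : y = (decompose 𝒜 y n : A) := (decompose_of_mem_same 𝒜 hy).symm
  rw [h1, ← ha, decompose_sum, DFinsupp.finset_sum_apply, AddSubmonoidClass.coe_finset_sum]
  refine Finset.sum_congr rfl fun t ht => ?_
  have := coe_decompose_mul_add_of_right_mem 𝒜 (a := a t) (i := n - deg t) (hdeg t ht)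
  rwa [sub_add_cancel] at this

open Classical in
lemma H6_gr_fin (h2 : ∀ I : Ideal A, I.IsHomogeneous 𝒜 → I.FG) (n : ℤ) (S : Set A)
    (hS : S ⊆ 𝒜 n) :
    ∃ T : Finset A, (T : Set A) ⊆ S ∧ ∀ y ∈ Ideal.span S, y ∈ 𝒜 n →
      ∃ c : A → 𝒜 0, y = ∑ t ∈ T, (c t : A) * t := by
  have hom : (Ideal.span S).IsHomogeneous 𝒜 :=
    Ideal.homogeneous_span 𝒜 S (fun x hx => ⟨n, hS hx⟩)
  obtain ⟨T, hTS, hT⟩ := (Submodule.fg_span_iff_fg_span_finset_subset S).1 (h2 _ hom)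
  refine ⟨T, hTS, fun y hy hyn => ?_⟩
  have hy' : y ∈ Ideal.span (T : Set A) := by rw [Ideal.span, ← hT]; exact hy
  obtain ⟨c, hc, hyc⟩ := H6_gr_coeffs 𝒜 T (fun _ => n) (fun t ht => hS (hTS ht)) hyn hy'
  refine ⟨fun t => decompose 𝒜 (c t) 0, ?_⟩
  rw [hyc]
  refine Finset.sum_congr rfl fun t ht => ?_
  have := hc t ht
  rw [sub_self] at this
  rw [decompose_of_mem_same 𝒜 this]

open Classical in
lemma H6_gr_zero_noeth (h2 : ∀ I : Ideal A, I.IsHomogeneous 𝒜 → I.FG) :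
    IsNoetherianRing (𝒜 0) := by
  rw [isNoetherianRing_iff_ideal_fg]
  intro J
  obtain ⟨T, hTS, hT⟩ := H6_gr_fin 𝒜 h2 0 ((↑) '' (J : Set (𝒜 0)))
    (by rintro _ ⟨x, _, rfl⟩; exact x.2)
  obtain ⟨T', hT'J, rfl⟩ := (Finset.subset_set_image_iff).1 hTS
  refine ⟨T', le_antisymm (Ideal.span_le.2 hT'J) fun x hx => ?_⟩
  obtain ⟨c, hxc⟩ := hT x (Ideal.subset_span ⟨x, hx, rfl⟩) x.2
  rw [Finset.sum_image (fun a _ b _ h => Subtype.ext h)] at hxc
  have hx' : x = ∑ t ∈ T', c (t : A) * t := by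
    apply Subtype.ext
    rw [hxc, AddSubmonoidClass.coe_finset_sum]
    rfl
  rw [hx']
  exact Ideal.sum_mem _ fun t ht => Ideal.mul_mem_left _ _ (Ideal.subset_span ht)

open Classical in
lemma H6_gr_half_fg (h2 : ∀ I : Ideal A, I.IsHomogeneous 𝒜 → I.FG) (ε : ℤ) :
    (Algebra.adjoin (𝒜 0) {a : A | ∃ n : ℕ, a ∈ 𝒜 (ε * n)}).FG := by
  obtain ⟨X, hXP, hX⟩ := (Submodule.fg_span_iff_fg_span_finset_subset _).1
    (h2 (Ideal.span {a : A | ∃ k : ℕ, 0 < k ∧ a ∈ 𝒜 (ε * k)})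
      (Ideal.homogeneous_span 𝒜 _ (by rintro x ⟨k, -, hk⟩; exact ⟨_, hk⟩)))
  have hXP' : ∀ t ∈ X, ∃ k : ℕ, 0 < k ∧ t ∈ 𝒜 (ε * k) := fun t ht => hXP ht
  choose! kk hkpos hkmem using hXP'
  obtain ⟨d, hdpos, hd⟩ : ∃ d : ℕ, 0 < d ∧ ∀ t ∈ X, kk t < d :=
    ⟨X.sup kk + 1, Nat.succ_pos _, fun t ht => Nat.lt_succ_of_le (Finset.le_sup ht)⟩
  choose G hGsub hG using fun j : ℕ => H6_gr_fin 𝒜 h2 (ε * j) (𝒜 (ε * j) : Set A) subset_rfl
  obtain ⟨GG, hGG⟩ : ∃ GG : Finset A, GG = X ∪ (Finset.range d).biUnion G := ⟨_, rfl⟩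
  have hGG1 : ∀ t ∈ X, t ∈ GG := fun t ht => by rw [hGG]; exact Finset.mem_union_left _ ht
  have hGG2 : ∀ j < d, ∀ t ∈ G j, t ∈ GG := fun j hj t ht => by
    rw [hGG]
    exact Finset.mem_union_right _ (Finset.mem_biUnion.2 ⟨j, Finset.mem_range.2 hj, ht⟩)
  have key : ∀ n : ℕ, ∀ y ∈ 𝒜 (ε * n), y ∈ Algebra.adjoin (𝒜 0) (GG : Set A) := by
    intro n
    induction n using Nat.strong_induction_on with
    | _ n ih =>
      intro y hy
      by_cases hn : n < d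
      · obtain ⟨c, hyc⟩ := hG n y (Ideal.subset_span hy) hy
        rw [hyc]
        refine Subalgebra.sum_mem _ fun t ht => ?_
        have : (c t : A) * t = c t • t := rfl
        rw [this]
        exact Subalgebra.smul_mem _ (Algebra.subset_adjoin (hGG2 n hn t ht)) _
      · push Not at hn
        have hd0 : 0 < n := by omega
        have hypos : y ∈ Ideal.span (X : Set A) := by
          rw [Ideal.span, ← hX]; exact Ideal.subset_span ⟨n, hd0, hy⟩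
        obtain ⟨c, hc, hyc⟩ := H6_gr_coeffs 𝒜 X (fun t => ε * kk t) (fun t ht => hkmem t ht)
          hy hypos
        rw [hyc]
        refine Subalgebra.sum_mem _ fun t ht =>
          Subalgebra.mul_mem _ ?_ (Algebra.subset_adjoin (hGG1 t ht))
        have h0 := hd t ht
        have h1 : ε * n - ε * kk t = ε * ((n - kk t : ℕ) : ℤ) := by
          rw [Nat.cast_sub (by omega : kk t ≤ n)]; ring
        have := hc t ht
        beta_reduce at this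
        rw [h1] at this
        exact ih (n - kk t) (by have := hkpos t ht; omega) _ this
  refine ⟨GG, le_antisymm (Algebra.adjoin_mono ?_) (Algebra.adjoin_le ?_)⟩
  · intro t ht
    rw [hGG] at ht
    rcases Finset.mem_union.1 ht with ht | ht
    · exact ⟨kk t, hkmem t ht⟩
    · obtain ⟨j, _, ht⟩ := Finset.mem_biUnion.1 ht
      exact ⟨j, hGsub j ht⟩
  · rintro y ⟨n, hy⟩; exact key n y hy

open Classical in
lemma H6_gr_finiteType
    (hp : (Algebra.adjoin (𝒜 0) {a : A | ∃ n : ℤ, 0 ≤ n ∧ a ∈ 𝒜 n}).FG)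
    (hn : (Algebra.adjoin (𝒜 0) {a : A | ∃ n : ℤ, n ≤ 0 ∧ a ∈ 𝒜 n}).FG) :
    Algebra.FiniteType (𝒜 0) A := by
  constructor
  have : (⊤ : Subalgebra (𝒜 0) A) = Algebra.adjoin (𝒜 0) {a : A | ∃ n : ℤ, 0 ≤ n ∧ a ∈ 𝒜 n} ⊔
      Algebra.adjoin (𝒜 0) {a : A | ∃ n : ℤ, n ≤ 0 ∧ a ∈ 𝒜 n} := by
    refine (eq_top_iff.2 fun a _ => ?_).symm
    rw [← DirectSum.sum_support_decompose 𝒜 a]
    refine Subalgebra.sum_mem _ fun i _ => ?_
    rcases le_total 0 i with hi | hi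
    · exact Algebra.mem_sup_left (Algebra.subset_adjoin ⟨i, hi, SetLike.coe_mem _⟩)
    · exact Algebra.mem_sup_right (Algebra.subset_adjoin ⟨i, hi, SetLike.coe_mem _⟩)
  rw [this]; exact hp.sup hn

theorem H6_gr_tfae :
    [IsNoetherianRing A,
     ∀ I : Ideal A, I.IsHomogeneous 𝒜 → I.FG,
     IsNoetherianRing (𝒜 0) ∧ (Algebra.adjoin (𝒜 0) {a : A | ∃ n : ℤ, 0 ≤ n ∧ a ∈ 𝒜 n}).FG ∧
       (Algebra.adjoin (𝒜 0) {a : A | ∃ n : ℤ, n ≤ 0 ∧ a ∈ 𝒜 n}).FG,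
     IsNoetherianRing (𝒜 0) ∧ Algebra.FiniteType (𝒜 0) A].TFAE := by
  tfae_have 1 → 2 := fun h I _ => (isNoetherianRing_iff_ideal_fg A).1 h I
  tfae_have 2 → 3 := by
    intro h2
    refine ⟨H6_gr_zero_noeth 𝒜 h2, ?_, ?_⟩
    · have := H6_gr_half_fg 𝒜 h2 1
      convert this using 3
      ext a
      constructor
      · rintro ⟨n, hn, ha⟩
        exact ⟨n.toNat, by rwa [one_mul, Int.toNat_of_nonneg hn]⟩
      · rintro ⟨n, ha⟩
        exact ⟨n, by positivity, by simpa using ha⟩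
    · have := H6_gr_half_fg 𝒜 h2 (-1)
      convert this using 3
      ext a
      constructor
      · rintro ⟨n, hn, ha⟩
        refine ⟨(-n).toNat, ?_⟩
        rwa [Int.toNat_of_nonneg (by omega), neg_one_mul, neg_neg]
      · rintro ⟨n, ha⟩
        exact ⟨-n, by simp, by simpa using ha⟩
  tfae_have 3 → 4 := fun ⟨h0, hp, hn⟩ => ⟨h0, H6_gr_finiteType 𝒜 hp hn⟩
  tfae_have 4 → 1 := fun ⟨h0, hft⟩ => Algebra.FiniteType.isNoetherianRing (𝒜 0) A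
  tfae_finish

end

end Groth.Agent.Lib.helper6
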