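import Mathlib

set_option autoImplicit false

namespace Groth.Agent.Lib.helper6

open DirectSum

section
variable {R A : Type*} [CommRing R] [CommRing A] [Algebra R A]
  (𝒜 : ℤ → Submodule R A) [GradedAlgebra 𝒜]

open Classical in
lemma H6_gr_coeffs_range {p : ℕ} (f : Fin p → A) (deg : Fin p → ℤ) (hf : ∀ i, f i ∈ 𝒜 (deg i))
    {n : ℤ} {y : A} (hy : y ∈ 𝒜 n) (hyT : y ∈ Ideal.span (Set.range f)) :
    ∃ c : Fin p → A, (∀ i, c i ∈ 𝒜 (n - deg i)) ∧ y = ∑ i, c i * f i := by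
  obtain ⟨a, ha⟩ := Ideal.mem_span_range_iff_exists_fun.1 hyT
  refine ⟨fun t => (decompose 𝒜 (a t) (n - deg t) : A), fun t => SetLike.coe_mem _, ?_⟩
  have h1 : y = (decompose 𝒜 y n : A) := (decompose_of_mem_same 𝒜 hy).symm
  rw [h1, ← ha, decompose_sum, DFinsupp.finset_sum_apply, AddSubmonoidClass.coe_finset_sum]
  refine Finset.sum_congr rfl fun t _ => ?_
  have := coe_decompose_mul_add_of_right_mem 𝒜 (a := a t) (i := n - deg t) (hf t)
  rwa [sub_add_cancel] at this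

variable {p : ℕ} (f : Fin p → A) (deg : Fin p → ℤ)

/-- monomial in the `f i`. -/
def H6_mono (α : Fin p → ℕ) : A := ∏ i, f i ^ α i

/-- weight of a multi-exponent. -/
def H6_wt (α : Fin p → ℕ) : ℤ := ∑ i, (α i : ℤ) * deg i

lemma H6_mono_add_single (α : Fin p → ℕ) (i : Fin p) (k : ℕ) :
    H6_mono f (α + Pi.single i k) = H6_mono f α * f i ^ k := by
  unfold H6_mono
  simp only [Pi.add_apply, pow_add, Finset.prod_mul_distrib]
  congr 1
  rw [Finset.prod_eq_single i]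
  · simp
  · intro j _ hj; simp [Pi.single_eq_of_ne hj]
  · simp

lemma H6_wt_add_single (α : Fin p → ℕ) (i : Fin p) (k : ℕ) :
    H6_wt deg (α + Pi.single i k) = H6_wt deg α + k * deg i := by
  unfold H6_wt
  simp only [Pi.add_apply, Nat.cast_add, add_mul, Finset.sum_add_distrib]
  congr 1
  rw [Finset.sum_eq_single i]
  · simp
  · intro j _ hj; simp [Pi.single_eq_of_ne hj]
  · simp

include 𝒜 in
lemma H6_mono_mem (hf : ∀ i, f i ∈ 𝒜 (deg i)) (α : Fin p → ℕ) :
    H6_mono f α ∈ 𝒜 (H6_wt deg α) := by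
  have := SetLike.prod_pow_mem_graded 𝒜 deg f (F := Finset.univ) α (fun k _ => hf k)
  simpa [H6_mono, H6_wt] using this

/-- the span of `c * f^α` with `c` of degree `N - wt α ≤ 0`. -/
def H6_TN (N : ℤ) : Submodule R A :=
  Submodule.span R {y | ∃ (α : Fin p → ℕ) (c : A), c ∈ 𝒜 (N - H6_wt deg α) ∧ N ≤ H6_wt deg α ∧
    y = c * H6_mono f α}

lemma H6_TN_mul (N : ℤ) (i : Fin p) {c : A} (hc : c ∈ H6_TN 𝒜 f deg (N - deg i)) :
    c * f i ∈ H6_TN 𝒜 f deg N := by
  unfold H6_TN at hc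
  induction hc using Submodule.span_induction with
  | mem x hx =>
    obtain ⟨α, c', hc', hle, rfl⟩ := hx
    refine Submodule.subset_span ⟨α + Pi.single i 1, c', ?_, ?_, ?_⟩
    · rw [H6_wt_add_single]
      convert hc' using 2; push_cast; ring
    · rw [H6_wt_add_single]; push_cast; linarith
    · rw [H6_mono_add_single, pow_one, mul_assoc]
  | zero => rw [zero_mul]; exact zero_mem _
  | add x y _ _ hx hy => rw [add_mul]; exact add_mem hx hy
  | smul r x _ hx => rw [smul_mul_assoc]; exact Submodule.smul_mem _ _ hx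

lemma H6_le_TN (hdeg : ∀ i, 0 < deg i) (hf : ∀ i, f i ∈ 𝒜 (deg i))
    (hgen : Ideal.span {a : A | ∃ n : ℤ, 0 < n ∧ a ∈ 𝒜 n} = Ideal.span (Set.range f)) :
    ∀ n : ℕ, ∀ N : ℤ, N ≤ n → 𝒜 N ≤ H6_TN 𝒜 f deg N := by
  intro n
  induction n with
  | zero =>
    intro N hN y hy
    refine Submodule.subset_span ⟨0, y, ?_, ?_, ?_⟩
    · simpa [H6_wt] using hy
    · simpa [H6_wt] using hN
    · simp [H6_mono]
  | succ n ih =>
    intro N hN y hy
    by_cases hN' : N ≤ n
    · exact ih N hN' hy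
    · have hpos : 0 < N := by push_cast at hN; omega
      have hy1 : y ∈ Ideal.span (Set.range f) := by
        rw [← hgen]; exact Ideal.subset_span ⟨N, hpos, hy⟩
      obtain ⟨c, hc, rfl⟩ := H6_gr_coeffs_range 𝒜 f deg hf hy hy1
      refine Submodule.sum_mem _ fun i _ => H6_TN_mul 𝒜 f deg N i ?_
      refine ih (N - deg i) ?_ (hc i)
      have := hdeg i
      push_cast at hN; omega

lemma H6_TN_le (hdeg : ∀ i, 0 < deg i) (hf : ∀ i, f i ∈ 𝒜 (deg i))
    (d : ℤ) (hd : 0 < d) (hdvd : ∀ i, deg i ∣ d) (N : ℤ) (hN : d * p - ∑ i, deg i < N) :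
    H6_TN 𝒜 f deg N ≤ 𝒜 d * 𝒜 (N - d) := by
  refine Submodule.span_le.2 ?_
  rintro _ ⟨α, c, hc, hle, rfl⟩
  obtain ⟨i, hi⟩ : ∃ i, d ≤ α i * deg i := by
    by_contra hcon
    push Not at hcon
    have h1 : ∀ i, (α i : ℤ) * deg i ≤ d - deg i := by
      intro i
      obtain ⟨e, he⟩ := hdvd i
      have h2 := hcon i
      have h3 := hdeg i
      rw [he, mul_comm (deg i) e] at h2
      have h4 : (α i : ℤ) < e := lt_of_mul_lt_mul_right h2 h3.le
      have h5 : (α i : ℤ) + 1 ≤ e := h4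
      rw [he]
      nlinarith
    have h2 : H6_wt deg α ≤ d * p - ∑ i, deg i := by
      unfold H6_wt
      calc ∑ i, (α i : ℤ) * deg i ≤ ∑ i : Fin p, (d - deg i) := Finset.sum_le_sum fun i _ => h1 i
        _ = d * p - ∑ i, deg i := by
          rw [Finset.sum_sub_distrib]; simp [mul_comm]
    linarith
  obtain ⟨e, he⟩ := hdvd i
  have h3 := hdeg i
  have hepos : 0 ≤ e := by
    by_contra hneg
    push Not at hneg
    have : d < 0 := by rw [he]; exact mul_neg_of_pos_of_neg h3 hneg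
    linarith
  lift e to ℕ using hepos
  have hαe : e ≤ α i := by
    rw [he, mul_comm (deg i)] at hi
    exact_mod_cast le_of_mul_le_mul_right hi h3
  obtain ⟨α', rfl⟩ : ∃ α' : Fin p → ℕ, α = α' + Pi.single i e := by
    refine ⟨α - Pi.single i e, ?_⟩
    funext j
    by_cases hj : j = i
    · subst hj; simp [hαe]
    · simp [Pi.single_eq_of_ne hj]
  have hw : H6_wt deg (α' + Pi.single i e) = H6_wt deg α' + d := by
    rw [H6_wt_add_single, he, mul_comm]
  rw [H6_mono_add_single]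
  have e1 : c * (H6_mono f α' * f i ^ e) = f i ^ e * (c * H6_mono f α') := by ring
  rw [e1]
  refine Submodule.mul_mem_mul ?_ ?_
  · have := SetLike.pow_mem_graded e (hf i)
    rwa [nsmul_eq_mul, mul_comm, ← he] at this
  · have := SetLike.mul_mem_graded hc (H6_mono_mem 𝒜 f deg hf α')
    convert this using 2
    linarith

theorem H6_piece_eq (hdeg : ∀ i, 0 < deg i) (hf : ∀ i, f i ∈ 𝒜 (deg i))
    (hgen : Ideal.span {a : A | ∃ n : ℤ, 0 < n ∧ a ∈ 𝒜 n} = Ideal.span (Set.range f))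
    (d : ℤ) (hd : 0 < d) (hdvd : ∀ i, deg i ∣ d) (N : ℤ) (hN : d * p - ∑ i, deg i < N) :
    𝒜 N = 𝒜 d * 𝒜 (N - d) := by
  refine le_antisymm ?_ (Submodule.mul_le.2 fun a ha b hb => ?_)
  · exact (H6_le_TN 𝒜 f deg hdeg hf hgen N.toNat N (Int.self_le_toNat N)).trans
      (H6_TN_le 𝒜 f deg hdeg hf d hd hdvd N hN)
  · have := SetLike.mul_mem_graded ha hb
    rwa [add_sub_cancel] at this

end

end Groth.Agent.Lib.helper6
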