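import Mathlib
import Groth.Agent.Lib.helper6.GradedPieces

set_option autoImplicit false

namespace Groth.Agent.Lib.helper6

open DirectSum

section
variable {R A : Type*} [CommRing R] [CommRing A] [Algebra R A]
  (𝒜 : ℤ → Submodule R A) [GradedAlgebra 𝒜]
variable {p : ℕ} (f : Fin p → A) (deg : Fin p → ℤ)

lemma H6_mono_mem_pow (α : Fin p → ℕ) :
    H6_mono f α ∈ (Ideal.span (Set.range f)) ^ (∑ i, α i) := by
  have : ∏ i, f i ^ α i ∈ ∏ i, (Ideal.span (Set.range f)) ^ α i :=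
    Ideal.prod_mem_prod (fun i _ => Ideal.pow_mem_pow (Ideal.subset_span (Set.mem_range_self i)) _)
  rwa [Finset.prod_pow_eq_pow_sum] at this

include 𝒜 in
lemma H6_pow_le_piece (d : ℤ) (n : ℕ) : (𝒜 d) ^ n ≤ 𝒜 (n * d) := by
  induction n with
  | zero =>
    rw [pow_zero, Submodule.one_le]
    simpa using SetLike.one_mem_graded 𝒜
  | succ n ih =>
    rw [pow_succ]
    refine Submodule.mul_le.2 fun a ha b hb => ?_
    have := SetLike.mul_mem_graded (ih ha) hb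
    convert this using 2
    push_cast; ring

lemma H6_piece_le_pow (hdeg : ∀ i, 0 < deg i) (hf : ∀ i, f i ∈ 𝒜 (deg i))
    (hgen : Ideal.span {a : A | ∃ n : ℤ, 0 < n ∧ a ∈ 𝒜 n} = Ideal.span (Set.range f))
    (k : ℕ) (n : ℤ) (hn : k * (∑ i, deg i) + 1 ≤ n) {r : A} (hr : r ∈ 𝒜 n) :
    r ∈ (Ideal.span (Set.range f)) ^ k := by
  have h1 : H6_TN 𝒜 f deg n ≤ ((Ideal.span (Set.range f)) ^ k).restrictScalars R := by
    refine Submodule.span_le.2 ?_
    rintro _ ⟨α, c, -, hle, rfl⟩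
    refine Ideal.mul_mem_left _ c (Ideal.pow_le_pow_right ?_ (H6_mono_mem_pow f α))
    by_contra hcon
    push Not at hcon
    have hD : ∀ i, deg i ≤ ∑ j, deg j := fun i =>
      Finset.single_le_sum (f := deg) (fun j _ => (hdeg j).le) (Finset.mem_univ i)
    have hD0 : 0 ≤ ∑ j, deg j := Finset.sum_nonneg fun j _ => (hdeg j).le
    have h2 : H6_wt deg α ≤ (∑ i, α i : ℕ) * ∑ j, deg j := by
      unfold H6_wt
      push_cast
      rw [Finset.sum_mul]
      exact Finset.sum_le_sum fun i _ => mul_le_mul_of_nonneg_left (hD i) (by positivity)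
    have h3 : ((∑ i, α i : ℕ) : ℤ) * ∑ j, deg j ≤ k * ∑ j, deg j :=
      mul_le_mul_of_nonneg_right (by exact_mod_cast hcon.le) hD0
    linarith
  exact h1 (H6_le_TN 𝒜 f deg hdeg hf hgen n.toNat n (Int.self_le_toNat n) hr)

theorem H6_gam_tfae (hdeg : ∀ i, 0 < deg i) (hf : ∀ i, f i ∈ 𝒜 (deg i))
    (hgen : Ideal.span {a : A | ∃ n : ℤ, 0 < n ∧ a ∈ 𝒜 n} = Ideal.span (Set.range f))
    (d : ℤ) (hd : 0 < d) (hdvd : ∀ i, deg i ∣ d)
    {M : Type*} [AddCommGroup M] [Module A M] (x : M) :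
    [∃ n : ℕ, ∀ r ∈ (Ideal.span (Set.range f)) ^ n, r • x = 0,
     ∃ n₀ : ℕ, ∀ n : ℕ, n₀ ≤ n → ∀ r ∈ (𝒜 d) ^ n, r • x = 0,
     ∃ s : ℤ, ∀ n : ℤ, s ≤ n → ∀ r ∈ 𝒜 n, r • x = 0].TFAE := by
  tfae_have 1 → 3 := by
    rintro ⟨k, hk⟩
    exact ⟨k * (∑ i, deg i) + 1, fun n hn r hr =>
      hk r (H6_piece_le_pow 𝒜 f deg hdeg hf hgen k n hn hr)⟩
  tfae_have 3 → 2 := by
    rintro ⟨s, hs⟩
    refine ⟨s.toNat, fun n hn r hr => hs (n * d) ?_ r (H6_pow_le_piece 𝒜 d n hr)⟩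
    have h1 : s ≤ (n : ℤ) := (Int.self_le_toNat s).trans (by exact_mod_cast hn)
    have h2 : (0 : ℤ) ≤ n := by positivity
    nlinarith
  tfae_have 2 → 1 := by
    rintro ⟨n₀, hn₀⟩
    have hrad : Ideal.span (Set.range f) ≤ (Ideal.torsionOf A M x).radical := by
      refine Ideal.span_le.2 ?_
      rintro _ ⟨i, rfl⟩
      obtain ⟨e, he⟩ := hdvd i
      have h3 := hdeg i
      have hepos : 0 ≤ e := by
        by_contra hneg
        push Not at hneg
        have : d < 0 := by rw [he]; exact mul_neg_of_pos_of_neg h3 hneg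
        linarith
      lift e to ℕ using hepos
      refine ⟨e * n₀, ?_⟩
      rw [Ideal.mem_torsionOf_iff, pow_mul]
      refine hn₀ n₀ le_rfl _ (Submodule.pow_mem_pow _ ?_ _)
      have := SetLike.pow_mem_graded e (hf i)
      rwa [nsmul_eq_mul, mul_comm, ← he] at this
    obtain ⟨k, hk⟩ := Ideal.exists_pow_le_of_le_radical_of_fg hrad
      (Submodule.fg_span (Set.finite_range f))
    exact ⟨k, fun r hr => (Ideal.mem_torsionOf_iff _ _).1 (hk hr)⟩
  tfae_finish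

end

end Groth.Agent.Lib.helper6
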