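import Mathlib

set_option autoImplicit false
universe u v

namespace Groth.Agent.Lib.helper6.H6GradedQuot
open DirectSum

variable {ι : Type u} [DecidableEq ι] [AddMonoid ι] {A : Type v} [CommRing A]
  (𝒜 : ι → AddSubgroup A) [GradedRing 𝒜] (I : Ideal A)

/-- the comparison map on pieces -/
def g (ℬ : ι → AddSubgroup (A ⧸ I))
    (h : ∀ i, (𝒜 i).map (Ideal.Quotient.mk I : A →+ A ⧸ I) ≤ ℬ i) (i : ι) : 𝒜 i →+ ℬ i where
  toFun a := ⟨Ideal.Quotient.mk I a, h i ⟨a, a.2, rfl⟩⟩
  map_zero' := by ext; simp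
  map_add' := by intros; ext; simp

omit [AddMonoid ι] [GradedRing 𝒜] in
theorem coe_map (ℬ : ι → AddSubgroup (A ⧸ I))
    (h : ∀ i, (𝒜 i).map (Ideal.Quotient.mk I : A →+ A ⧸ I) ≤ ℬ i) (x : ⨁ i, 𝒜 i) :
    DirectSum.coeAddMonoidHom ℬ (DirectSum.map (g 𝒜 I ℬ h) x) =
      Ideal.Quotient.mk I (DirectSum.coeAddMonoidHom 𝒜 x) := by
  induction x using DirectSum.induction_on with
  | zero => simp
  | of i a => simp [DirectSum.map_of, DirectSum.coeAddMonoidHom_of]; rfl
  | add x y hx hy => simp [map_add, hx, hy]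

/-- backward direction -/
theorem homog_of_graded (ℬ : ι → AddSubgroup (A ⧸ I)) [GradedRing ℬ]
    (h : ∀ i, (𝒜 i).map (Ideal.Quotient.mk I : A →+ A ⧸ I) ≤ ℬ i) : I.IsHomogeneous 𝒜 := by
  intro i a ha
  have h1 : DirectSum.decompose ℬ (Ideal.Quotient.mk I a) =
      DirectSum.map (g 𝒜 I ℬ h) (DirectSum.decompose 𝒜 a) := by
    apply (DirectSum.decompose ℬ).symm.injective
    rw [Equiv.symm_apply_apply]
    change _ = DirectSum.coeAddMonoidHom ℬ _
    rw [coe_map]
    change _ = Ideal.Quotient.mk I ((DirectSum.decompose 𝒜).symm _)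
    rw [Equiv.symm_apply_apply]
  have h2 : Ideal.Quotient.mk I a = 0 := Ideal.Quotient.eq_zero_iff_mem.mpr ha
  rw [h2, DirectSum.decompose_zero] at h1
  have h3 := congrArg (fun x => ((x i : ℬ i) : A ⧸ I)) h1
  simp only [DirectSum.zero_apply, ZeroMemClass.coe_zero, DirectSum.map_apply] at h3
  exact Ideal.Quotient.eq_zero_iff_mem.mp h3.symm

/-- the graded pieces of the quotient -/
def B (i : ι) : AddSubgroup (A ⧸ I) := (𝒜 i).map (Ideal.Quotient.mk I : A →+ A ⧸ I)

instance gradedMonoid : SetLike.GradedMonoid (B 𝒜 I) where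
  one_mem := ⟨1, SetLike.GradedOne.one_mem, by simp⟩
  mul_mem := by
    rintro i j _ _ ⟨a, ha, rfl⟩ ⟨b, hb, rfl⟩
    exact ⟨a * b, SetLike.GradedMul.mul_mem ha hb, by simp⟩

/-- decomposition map -/
noncomputable def D (hI : I.IsHomogeneous 𝒜) : (A ⧸ I) →+ ⨁ i, B 𝒜 I i :=
  QuotientAddGroup.lift I.toAddSubgroup
    ((DirectSum.map (g 𝒜 I (B 𝒜 I) (fun _ => le_rfl))).comp
      (DirectSum.decomposeAddEquiv 𝒜).toAddMonoidHom)
    (by
      intro a ha
      ext i
      simp only [AddMonoidHom.coe_comp, Function.comp_apply, DirectSum.map_apply,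
        DirectSum.zero_apply, ZeroMemClass.coe_zero]
      exact Ideal.Quotient.eq_zero_iff_mem.mpr (hI i ha))

theorem D_mk (hI : I.IsHomogeneous 𝒜) (a : A) :
    D 𝒜 I hI (Ideal.Quotient.mk I a) =
      DirectSum.map (g 𝒜 I (B 𝒜 I) (fun _ => le_rfl)) (DirectSum.decompose 𝒜 a) := rfl

@[instance_reducible]
noncomputable def gradedRing (hI : I.IsHomogeneous 𝒜) : GradedRing (B 𝒜 I) :=
  { gradedMonoid 𝒜 I with
    toDecomposition := DirectSum.Decomposition.ofAddHom (B 𝒜 I) (D 𝒜 I hI)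
      (by
        ext q
        obtain ⟨a, rfl⟩ := Ideal.Quotient.mk_surjective q
        simp only [AddMonoidHom.coe_comp, Function.comp_apply, AddMonoidHom.id_apply]
        rw [D_mk, coe_map]
        change Ideal.Quotient.mk I ((DirectSum.decompose 𝒜).symm _) = _
        rw [Equiv.symm_apply_apply])
      (by
        ext i b
        obtain ⟨b, a, ha, rfl⟩ := b
        simp only [AddMonoidHom.coe_comp, Function.comp_apply, AddMonoidHom.id_apply,
          DirectSum.coeAddMonoidHom_of]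
        change ((D 𝒜 I hI (Ideal.Quotient.mk I a)) _ : A ⧸ I) = _
        rw [D_mk, DirectSum.decompose_of_mem 𝒜 ha, DirectSum.map_of]
        rfl) }

end Groth.Agent.Lib.helper6.H6GradedQuot
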