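import Mathlib
open MvPolynomial
namespace Groth.Agent.Lib.helper6
theorem H6_eval_smul_of_isHomogeneous {σ K : Type*} [CommSemiring K] (F : MvPolynomial σ K) (d : ℕ)
    (hF : F.IsHomogeneous d) (t : K) (x : σ → K) :
    eval (t • x) F = t ^ d * eval x F := by
  classical
  rw [eval_eq, eval_eq, Finset.mul_sum]
  apply Finset.sum_congr rfl
  intro m hm
  have hdeg : m.degree = d := by
    have := hF (mem_support_iff.mp hm)
    rw [← this, Finsupp.degree_eq_weight_one]
    rfl
  have : ∏ i ∈ m.support, (t • x) i ^ m i = t ^ d * ∏ i ∈ m.support, x i ^ m i := by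
    simp only [Pi.smul_apply, smul_eq_mul, mul_pow, Finset.prod_mul_distrib]
    congr 1
    rw [Finset.prod_pow_eq_pow_sum, ← hdeg]
    rfl
  rw [this]
  ring
end Groth.Agent.Lib.helper6
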