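import Mathlib
import Groth.Prelude.Def_GSzCSA
import Groth.Agent.Lib.helper6.Index

set_option autoImplicit false
set_option linter.style.haveILetI false
universe u v w w'

open scoped TensorProduct

namespace Groth.Agent.Lib.helper6

/-- Index reduction under a finite field extension (no separability needed). -/
theorem H6_index_baseChange (k : Type u) [Field k] (K : Type w') [Field K] [Algebra k K]
    [FiniteDimensional k K]
    (A : Type v) [Ring A] [Algebra k A] [Algebra.IsCentral k A] [IsSimpleRing A] [FiniteDimensional k A]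
    (D : Type v) [DivisionRing D] [Algebra k D] [FiniteDimensional k D]
    (m : ℕ) (iso : A ≃ₐ[k] Matrix (Fin m) (Fin m) D) (d : ℕ) (hd : Module.finrank k D = d ^ 2)
    (D' : Type w) [DivisionRing D'] [Algebra K D'] [FiniteDimensional K D']
    (m' : ℕ) (iso' : (K ⊗[k] A) ≃ₐ[K] Matrix (Fin m') (Fin m') D') (d' : ℕ)
    (hd' : Module.finrank K D' = d' ^ 2) : d' ∣ d ∧ d ∣ Module.finrank k K * d' := by
  classical
  haveI : IsSimpleRing (K ⊗[k] A) := H6_isSimpleRing_baseChange
  have hm : m ≠ 0 := by
    rintro rfl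
    exact not_subsingleton A iso.toEquiv.subsingleton
  have hm' : m' ≠ 0 := by
    rintro rfl
    exact not_subsingleton (K ⊗[k] A) iso'.toEquiv.subsingleton
  have hDpos : 0 < Module.finrank k D := Module.finrank_pos
  have hd0 : 0 < d := by
    rcases Nat.eq_zero_or_pos d with h | h
    · rw [hd, h] at hDpos
      simp at hDpos
    · exact h
  have hA : Module.finrank k A = m * m * d ^ 2 := by
    rw [iso.toLinearEquiv.finrank_eq, Module.finrank_matrix, Fintype.card_fin, hd]
  have hKA : Module.finrank K (K ⊗[k] A) = m' * m' * d' ^ 2 := by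
    rw [iso'.toLinearEquiv.finrank_eq, Module.finrank_matrix, Fintype.card_fin, hd']
  have hmd : m * d = m' * d' := by
    have h1 : (m * d) ^ 2 = (m' * d') ^ 2 := by
      have := hKA
      rw [Module.finrank_baseChange, hA] at this
      calc (m * d) ^ 2 = m * m * d ^ 2 := by ring
        _ = m' * m' * d' ^ 2 := this
        _ = (m' * d') ^ 2 := by ring
    exact Nat.pow_left_injective (by norm_num : 2 ≠ 0) h1
  have hmdpos : 0 < m * d := Nat.mul_pos (Nat.pos_of_ne_zero hm) hd0
  -- part 1
  obtain ⟨ρK, -⟩ : ∃ ρK : K ⊗[k] A →ₐ[K] Module.End K (K ⊗[k] (Fin m → D)), True :=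
    ⟨Algebra.TensorProduct.lift (Algebra.ofId K _)
      ((Module.End.baseChangeHom k K (Fin m → D)).comp ((H6_colRep k D m).comp iso.toAlgHom))
      (fun x y => Algebra.commute_algebraMap_left x _), trivial⟩
  have h1 := H6_matrix_rep_dvd (k := K) m' hm' iso' ρK
  rw [Module.finrank_baseChange, Module.finrank_pi_fintype, Finset.sum_const, Finset.card_univ,
    Fintype.card_fin, smul_eq_mul, hd, hd'] at h1
  -- part 2
  letI : Algebra k D' := Algebra.compHom D' (algebraMap k K)
  haveI : IsScalarTower k K D' := IsScalarTower.of_algebraMap_eq (fun x => rfl)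
  haveI : FiniteDimensional k D' := Module.Finite.trans K D'
  obtain ⟨ρ, -⟩ : ∃ ρ : A →ₐ[k] Module.End k (Fin m' → D'), True :=
    ⟨((H6_colRep k D' m').comp (iso'.toAlgHom.restrictScalars k)).comp
      (Algebra.TensorProduct.includeRight : A →ₐ[k] K ⊗[k] A), trivial⟩
  have h2 := H6_matrix_rep_dvd (k := k) m hm iso ρ
  rw [Module.finrank_pi_fintype, Finset.sum_const, Finset.card_univ, Fintype.card_fin, smul_eq_mul,
    ← Module.finrank_mul_finrank k K D', hd, hd'] at h2
  constructor
  · have h3 : m * d * d' ∣ m * d * d := by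
      have e1 : m * d * d' = m' * d' ^ 2 := by rw [hmd]; ring
      have e2 : m * d * d = m * d ^ 2 := by ring
      rw [e1, e2]
      exact h1
    exact Nat.dvd_of_mul_dvd_mul_left hmdpos h3
  · have h3 : m * d * d ∣ m * d * (Module.finrank k K * d') := by
      have e1 : m * d * (Module.finrank k K * d') = m' * (Module.finrank k K * d' ^ 2) := by
        rw [hmd]; ring
      have e2 : m * d * d = m * d ^ 2 := by ring
      rw [e1, e2]
      exact h2
    exact Nat.dvd_of_mul_dvd_mul_left hmdpos h3

/-- Index reduction, in terms of `IsIndex`. -/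
theorem H6_isIndex_baseChange {k : Type u} [Field k] (K : Type w') [Field K] [Algebra k K]
    [FiniteDimensional k K]
    {A : Type v} [Ring A] [Algebra k A] [Algebra.IsCentral k A] [IsSimpleRing A] [FiniteDimensional k A]
    {d d' : ℕ} (h : CSAGal.IsIndex k A d) (h' : CSAGal.IsIndex K (K ⊗[k] A) d') :
    d' ∣ d ∧ d ∣ Module.finrank k K * d' := by
  obtain ⟨hd0, m, D, _, _, hm, hd, ⟨e⟩⟩ := h
  obtain ⟨hd0', m', D', _, _, hm', hd', ⟨e'⟩⟩ := h'
  haveI : FiniteDimensional k D := Module.finite_of_finrank_pos (by rw [hd]; positivity)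
  haveI : FiniteDimensional K D' := Module.finite_of_finrank_pos (by rw [hd']; positivity)
  exact H6_index_baseChange k K A D m e d hd D' m' e' d' hd'

end Groth.Agent.Lib.helper6
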