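import Mathlib

/-!
Helper: if a finite group `G` acts on a commutative ring `A`, `f : A` has `G`-invariant class
modulo an ideal `I`, and `choose |G| q` is a unit of `A`, then `f ^ q` is congruent modulo `I`
to a `G`-invariant element.
-/

namespace Groth.Agent.Lib.helper6

theorem H6_exists_invariant_pow {A : Type*} [CommRing A] {G : Type*} [Group G] [Fintype G]
    [MulSemiringAction G A] (I : Ideal A) (f : A) (hf : ∀ g : G, g • f - f ∈ I)
    (q : ℕ) (hqN : q ≤ Fintype.card G) (hu : IsUnit (((Fintype.card G).choose q : ℕ) : A)) :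
    ∃ a : A, (∀ g : G, g • a = a) ∧ a - f ^ q ∈ I := by
  classical
  set N := Fintype.card G with hN
  let P : Polynomial A := ∏ h : G, (Polynomial.X + Polynomial.C (h • f))
  have hPinv : ∀ g : G, P.map (MulSemiringAction.toRingHom G A g) = P := by
    intro g
    simp only [P, Polynomial.map_prod, Polynomial.map_add, Polynomial.map_X, Polynomial.map_C,
      MulSemiringAction.toRingHom_apply, smul_smul]
    exact Fintype.prod_equiv (Equiv.mulLeft g) _ _ (fun h => rfl)
  have hPmod : P.map (Ideal.Quotient.mk I) =
      (Polynomial.X + Polynomial.C (Ideal.Quotient.mk I f)) ^ N := by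
    simp only [P, Polynomial.map_prod, Polynomial.map_add, Polynomial.map_X, Polynomial.map_C]
    have : ∀ h : G, Ideal.Quotient.mk I (h • f) = Ideal.Quotient.mk I f :=
      fun h => Ideal.Quotient.eq.mpr (hf h)
    simp only [this, Finset.prod_const, Finset.card_univ, hN]
  let c := P.coeff (N - q)
  have hcinv : ∀ g : G, g • c = c := by
    intro g
    have := congrArg (fun Q => Polynomial.coeff Q (N - q)) (hPinv g)
    simpa [Polynomial.coeff_map] using this
  have hcmod : Ideal.Quotient.mk I c = (Ideal.Quotient.mk I f) ^ q * ((N.choose q : ℕ) : A ⧸ I) := by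
    have := congrArg (fun Q => Polynomial.coeff Q (N - q)) hPmod
    simp only [Polynomial.coeff_map, Polynomial.coeff_X_add_C_pow] at this
    rw [this, Nat.sub_sub_self hqN, Nat.choose_symm hqN]
  obtain ⟨w, hw⟩ := hu
  refine ⟨↑w⁻¹ * c, ?_, ?_⟩
  · intro g
    rw [smul_mul', hcinv]
    congr 1
    have h1 : g • (w : A) = w := by
      rw [hw]; exact map_natCast (MulSemiringAction.toRingHom G A g) _
    have h2 : (g • (↑w⁻¹ : A)) * w = 1 := by
      conv_lhs => rw [← h1]
      rw [← smul_mul', Units.inv_mul, smul_one]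
    exact Units.eq_inv_of_mul_eq_one_left (by rw [mul_comm]; exact h2)
  · rw [← Ideal.Quotient.eq, map_mul, hcmod, map_pow]
    have h3 : ((N.choose q : ℕ) : A ⧸ I) = Ideal.Quotient.mk I (w : A) := by
      rw [hw, map_natCast]
    rw [h3, mul_comm, mul_assoc, ← map_mul, Units.mul_inv, map_one, mul_one]

end Groth.Agent.Lib.helper6
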