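import Mathlib
import Groth.Prelude.Def_LambdaSp

set_option autoImplicit false
set_option linter.style.haveILetI false

universe u

open PowerSeries Finset LambdaRing

namespace Groth.Agent.Lib.helper6

variable {K : Type u} [CommRing K] [LambdaRing.LambdaOps K]

theorem H6_constCoeff_lamSeries (x : K) : constantCoeff (lamSeries x) = ((1 : Kˣ) : K) := by
  rw [← coeff_zero_eq_constantCoeff_apply, lamSeries, coeff_mk, LambdaOps.lam_zero]; simp

theorem H6_coeff_lamSeries (x : K) (n : ℕ) : coeff n (lamSeries x) = LambdaOps.lam n x := by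
  rw [lamSeries, coeff_mk]

theorem H6_logDeriv_mul (x : K) :
    logDerivSeries x * lamSeries x = PowerSeries.derivative K (lamSeries x) := by
  rw [logDerivSeries, mul_assoc, invOfUnit_mul _ _ (H6_constCoeff_lamSeries x), mul_one]

/-- Newton's recursion. -/
theorem H6_newton (x : K) (n : ℕ) :
    LambdaOps.lam (n + 1) x * ((n : K) + 1) =
      ∑ p ∈ antidiagonal n, coeff p.1 (logDerivSeries x) * LambdaOps.lam p.2 x := by
  have h := congrArg (coeff n) (H6_logDeriv_mul x)
  rw [coeff_derivative, coeff_mul, H6_coeff_lamSeries] at h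
  rw [← h]
  refine Finset.sum_congr rfl fun p _ => ?_
  rw [H6_coeff_lamSeries]

theorem H6_coeff_logDeriv (x : K) (k : ℕ) :
    coeff k (logDerivSeries x) = (-1) ^ k * adamsOp (k + 1) x := by
  rw [adamsOp, ← mul_assoc, ← mul_pow]; simp

theorem H6_adamsOp_succ (x : K) (k : ℕ) :
    adamsOp (k + 1) x = (-1) ^ k * coeff k (logDerivSeries x) := rfl

end Groth.Agent.Lib.helper6
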