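import Mathlib
import Groth.Agent.Lib.helper6.LambdaAdams

set_option autoImplicit false
set_option linter.style.haveILetI false

universe u v

open PowerSeries Finset LambdaRing

namespace Groth.Agent.Lib.helper6

variable {K : Type u} [CommRing K] [LambdaRing.LambdaOps K]
variable {K' : Type v} [CommRing K'] [LambdaRing.LambdaOps K']

theorem H6_map_derivative (f : K →+* K') (p : PowerSeries K) :
    PowerSeries.map f (PowerSeries.derivative K p) = PowerSeries.derivative K' (PowerSeries.map f p) := by
  ext n
  rw [coeff_map, coeff_derivative, coeff_derivative, coeff_map, map_mul, map_add, map_natCast,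
    map_one]

theorem H6_map_logDeriv (f : K →+* K')
    (hf : ∀ (i : ℕ) (x : K), f (LambdaOps.lam i x) = LambdaOps.lam i (f x)) (x : K) :
    PowerSeries.map f (logDerivSeries x) = logDerivSeries (f x) := by
  have hL : PowerSeries.map f (lamSeries x) = lamSeries (f x) := by
    ext n
    rw [coeff_map, H6_coeff_lamSeries, H6_coeff_lamSeries, hf]
  have h1 : PowerSeries.map f (logDerivSeries x) * lamSeries (f x) =
      logDerivSeries (f x) * lamSeries (f x) := by
    rw [H6_logDeriv_mul, ← hL, ← map_mul, H6_logDeriv_mul, H6_map_derivative]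
  have h2 := congrArg (· * (lamSeries (f x)).invOfUnit 1) h1
  simpa only [mul_assoc, mul_invOfUnit _ _ (H6_constCoeff_lamSeries (f x)), mul_one] using h2

theorem H6_map_adamsOp (f : K →+* K')
    (hf : ∀ (i : ℕ) (x : K), f (LambdaOps.lam i x) = LambdaOps.lam i (f x)) (k : ℕ) (x : K) :
    f (adamsOp k x) = adamsOp k (f x) := by
  cases k with
  | zero => simp [adamsOp]
  | succ k =>
    rw [H6_adamsOp_succ, H6_adamsOp_succ, ← H6_map_logDeriv f hf, coeff_map, map_mul, map_pow,
      map_neg, map_one]

theorem H6_map_lam_of_adams [Algebra ℚ K'] (f : K →+* K')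
    (hf : ∀ k : ℕ, 1 ≤ k → ∀ x : K, f (adamsOp k x) = adamsOp k (f x)) (n : ℕ) (x : K) :
    f (LambdaOps.lam n x) = LambdaOps.lam n (f x) := by
  induction n using Nat.strong_induction_on with
  | _ n ih =>
    cases n with
    | zero => rw [LambdaOps.lam_zero, LambdaOps.lam_zero, map_one]
    | succ n =>
      have hu : IsUnit ((n : K') + 1) := by
        have : IsUnit ((n : ℚ) + 1) := by
          apply IsUnit.mk0
          positivity
        have := this.map (algebraMap ℚ K')
        simpa using this
      have h1 := congrArg f (H6_newton x n)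
      rw [map_mul, map_add, map_natCast, map_one, map_sum] at h1
      have h2 := H6_newton (f x) n
      have : ∑ p ∈ antidiagonal n, f (coeff p.1 (logDerivSeries x) * LambdaOps.lam p.2 x) =
          ∑ p ∈ antidiagonal n, coeff p.1 (logDerivSeries (f x)) * LambdaOps.lam p.2 (f x) := by
        refine Finset.sum_congr rfl fun p hp => ?_
        have hp2 : p.2 < n + 1 := by
          have := Finset.HasAntidiagonal.mem_antidiagonal.mp hp
          omega
        rw [map_mul, ih p.2 hp2, H6_coeff_logDeriv, H6_coeff_logDeriv, map_mul, map_pow, map_neg,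
          map_one, hf _ (by omega)]
      rw [this, ← h2] at h1
      exact hu.mul_left_injective h1

end Groth.Agent.Lib.helper6
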