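import Mathlib

set_option autoImplicit false
set_option linter.style.haveILetI false

open MvPolynomial Finset

namespace Groth.Agent.Lib.helper6

variable {σ τ R M : Type*} [CommSemiring R] [AddCommMonoid M]

theorem H6_aeval_isWeightedHomogeneous (w : σ → M) (w' : τ → M) (φ : σ → MvPolynomial τ R)
    (hφ : ∀ i, IsWeightedHomogeneous w' (φ i) (w i)) {P : MvPolynomial σ R} {m : M}
    (hP : IsWeightedHomogeneous w P m) : IsWeightedHomogeneous w' (aeval φ P) m := by
  classical
  rw [P.as_sum, map_sum]
  refine IsWeightedHomogeneous.sum _ _ _ fun d hd => ?_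
  have hd' : Finsupp.weight w d = m := hP (mem_support_iff.mp hd)
  rw [aeval_monomial]
  have h1 : IsWeightedHomogeneous w' (d.prod fun i k => φ i ^ k) (∑ i ∈ d.support, d i • w i) := by
    rw [Finsupp.prod]
    exact IsWeightedHomogeneous.prod _ _ _ fun i _ => (hφ i).pow (d i)
  have h2 := (isWeightedHomogeneous_C w' (coeff d P)).mul h1
  rw [zero_add] at h2
  have h3 : ∑ i ∈ d.support, d i • w i = m := by
    rw [← hd', Finsupp.weight_apply, Finsupp.sum]
  rw [h3] at h2
  exact h2

theorem H6_weightedComponent_aeval [DecidableEq M] (w : σ → M) (w' : τ → M)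
    (φ : σ → MvPolynomial τ R) (hφ : ∀ i, IsWeightedHomogeneous w' (φ i) (w i))
    (P : MvPolynomial σ R) (n : M) :
    weightedHomogeneousComponent w' n (aeval φ P) =
      aeval φ (weightedHomogeneousComponent w n P) := by
  induction P using MvPolynomial.induction_on' with
  | monomial d c =>
    have h1 : IsWeightedHomogeneous w (monomial d c) (Finsupp.weight w d) :=
      isWeightedHomogeneous_monomial w d c rfl
    have h2 := H6_aeval_isWeightedHomogeneous w w' φ hφ h1
    rw [weightedHomogeneousComponent_of_mem h1, weightedHomogeneousComponent_of_mem h2]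
    split_ifs
    · rfl
    · rw [map_zero]
  | add p q hp hq =>
    rw [map_add, map_add, map_add, map_add, hp, hq]

theorem H6_esymm_isHomogeneous [Fintype σ] (n : ℕ) : (esymm σ R n).IsHomogeneous n := by
  rw [esymm]
  refine IsHomogeneous.sum _ _ _ fun t ht => ?_
  have h := IsHomogeneous.prod t (fun i => (X i : MvPolynomial σ R)) (fun _ => 1)
    (fun i _ => isHomogeneous_X R i)
  simpa [(Finset.mem_powersetCard.mp ht).2] using h

end Groth.Agent.Lib.helper6
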