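import Mathlib
import Groth.Prelude.Def_LambdaSp
import Groth.Agent.Lib.helper6.WeightedAeval

set_option autoImplicit false
set_option linter.style.haveILetI false

open MvPolynomial Finset LambdaRing

namespace Groth.Agent.Lib.helper6

theorem H6_map_multiset_esymm {R S : Type*} [CommSemiring R] [CommSemiring S] (g : R →+* S)
    (s : Multiset R) (n : ℕ) : g (s.esymm n) = (s.map g).esymm n := by
  simp only [Multiset.esymm, Multiset.powersetCard_map, map_multiset_sum, Multiset.map_map]
  congr 1
  refine Multiset.map_congr rfl fun t _ => ?_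
  simp [map_multiset_prod]

theorem H6_compGen_isSymmetric (N i j : ℕ) : (compGen N i j).IsSymmetric := by
  intro ρ
  rw [compGen]
  have h1 := H6_map_multiset_esymm (rename ρ : MvPolynomial (Fin N) ℤ →ₐ[ℤ] _).toRingHom
    (((Finset.univ : Finset (Fin N)).powersetCard i).val.map
      fun s => (∏ a ∈ s, X a : MvPolynomial (Fin N) ℤ)) j
  simp only [AlgHom.toRingHom_eq_coe, RingHom.coe_coe] at h1
  rw [h1, Multiset.map_map]
  have h2 : ((Finset.univ : Finset (Fin N)).powersetCard i) =
      ((Finset.univ : Finset (Fin N)).powersetCard i).map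
        (Finset.mapEmbedding ρ.toEmbedding).toEmbedding := by
    rw [← Finset.powersetCard_map, Finset.map_univ_equiv]
  conv_rhs => rw [h2, Finset.map_val, Multiset.map_map]
  congr 1
  refine Multiset.map_congr rfl fun s _ => ?_
  simp only [Function.comp_apply, map_prod, rename_X, Finset.mapEmbedding_apply,
    RelEmbedding.coe_toEmbedding, Finset.prod_map, Equiv.coe_toEmbedding]

theorem H6_compGen_isHomogeneous (N i j : ℕ) : (compGen N i j).IsHomogeneous (i * j) := by
  rw [compGen, Finset.esymm_map_val]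
  refine IsHomogeneous.sum _ _ _ fun t ht => ?_
  have h := IsHomogeneous.prod t
    (fun s : Finset (Fin N) => (∏ a ∈ s, X a : MvPolynomial (Fin N) ℤ)) (fun _ => i) ?_
  · have hc := (Finset.mem_powersetCard.mp ht).2
    simp only [Finset.sum_const, hc, smul_eq_mul] at h
    rwa [mul_comm]
  · intro s hs
    have hs' := (Finset.mem_powersetCard.mp ((Finset.mem_powersetCard.mp ht).1 hs)).2
    have h := IsHomogeneous.prod s (fun a => (X a : MvPolynomial (Fin N) ℤ)) (fun _ => 1)
      (fun a _ => isHomogeneous_X ℤ a)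
    simpa [hs'] using h

theorem H6_exists_isCompPoly (i j : ℕ) :
    ∃ Q : MvPolynomial (Fin (i * j)) ℤ, IsCompPoly i j Q := by
  classical
  obtain ⟨Q₀, hQ₀⟩ := esymmAlgHom_surjective (σ := Fin (i * j)) (n := i * j) ℤ (by simp)
    ⟨compGen (i * j) i j, H6_compGen_isSymmetric _ _ _⟩
  have hQ₀' : aeval (fun k : Fin (i * j) => esymm (Fin (i * j)) ℤ ((k : ℕ) + 1)) Q₀ =
      compGen (i * j) i j := by
    rw [← esymmAlgHom_apply, hQ₀]
  have hφ : ∀ k : Fin (i * j), IsWeightedHomogeneous (1 : Fin (i * j) → ℕ)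
      (esymm (Fin (i * j)) ℤ ((k : ℕ) + 1)) ((k : ℕ) + 1) :=
    fun k => H6_esymm_isHomogeneous _
  refine ⟨weightedHomogeneousComponent (fun k : Fin (i * j) => (k : ℕ) + 1) (i * j) Q₀, ?_,
    weightedHomogeneousComponent_isWeightedHomogeneous _ _⟩
  rw [← H6_weightedComponent_aeval (fun k : Fin (i * j) => (k : ℕ) + 1) (1 : Fin (i * j) → ℕ)
    _ hφ Q₀ (i * j), hQ₀']
  exact weightedHomogeneousComponent_eq_self (H6_compGen_isHomogeneous _ _ _)

end Groth.Agent.Lib.helper6
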