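import Mathlib
import Groth.Prelude.Def_LambdaSp
import Groth.Agent.Lib.helper6.WeightedAeval
import Groth.Agent.Lib.helper6.LambdaUniv
import Groth.Agent.Lib.helper6.BiSymm

set_option autoImplicit false
set_option linter.style.haveILetI false

open MvPolynomial Finset LambdaRing

namespace Groth.Agent.Lib.helper6

theorem H6_mulGen_rename (N k : ℕ) (ρ τ : Equiv.Perm (Fin N)) :
    rename (Equiv.sumCongr ρ τ) (mulGen N k) = mulGen N k := by
  rw [mulGen]
  have h1 := H6_map_multiset_esymm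
    (rename (Equiv.sumCongr ρ τ) : MvPolynomial (Fin N ⊕ Fin N) ℤ →ₐ[ℤ] _).toRingHom
    ((Finset.univ : Finset (Fin N × Fin N)).val.map
      fun ab => (X (Sum.inl ab.1) * X (Sum.inr ab.2) : MvPolynomial (Fin N ⊕ Fin N) ℤ)) k
  simp only [AlgHom.toRingHom_eq_coe, RingHom.coe_coe] at h1
  rw [h1, Multiset.map_map]
  have h2 : (Finset.univ : Finset (Fin N × Fin N)) =
      (Finset.univ : Finset (Fin N × Fin N)).map (Equiv.prodCongr ρ τ).toEmbedding := by
    rw [Finset.map_univ_equiv]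
  conv_rhs => rw [h2, Finset.map_val, Multiset.map_map]
  congr 1
  refine Multiset.map_congr rfl fun s _ => ?_
  simp

theorem H6_esymm_isWeightedHomogeneous_const {σ R M : Type*} [CommSemiring R] [AddCommMonoid M]
    [Fintype σ] (c : M) (n : ℕ) :
    IsWeightedHomogeneous (fun _ : σ => c) (esymm σ R n) (n • c) := by
  rw [esymm]
  refine IsWeightedHomogeneous.sum _ _ _ fun t ht => ?_
  have h := IsWeightedHomogeneous.prod t (fun i => (X i : MvPolynomial σ R)) (fun _ => c)
    (w := fun _ : σ => c) (fun i _ => isWeightedHomogeneous_X R _ i)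
  simpa [(Finset.mem_powersetCard.mp ht).2] using h

theorem H6_rename_eq_aeval {σ τ R : Type*} [CommSemiring R] (f : σ → τ) (p : MvPolynomial σ R) :
    rename f p = aeval (fun i => (X (f i) : MvPolynomial τ R)) p := by
  have : (rename f : MvPolynomial σ R →ₐ[R] MvPolynomial τ R) =
      aeval (fun i => (X (f i) : MvPolynomial τ R)) := by
    apply MvPolynomial.algHom_ext
    intro i
    simp
  rw [this]

/-- bidegree weights on `Fin n ⊕ Fin n` -/
def H6_bw (n : ℕ) : Fin n ⊕ Fin n → ℕ × ℕ := Sum.elim (fun _ => (1, 0)) (fun _ => (0, 1))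

theorem H6_mulGen_bihom (N k : ℕ) : IsWeightedHomogeneous (H6_bw N) (mulGen N k) (k, k) := by
  rw [mulGen, Finset.esymm_map_val]
  refine IsWeightedHomogeneous.sum _ _ _ fun t ht => ?_
  have h := IsWeightedHomogeneous.prod t
    (fun ab : Fin N × Fin N =>
      (X (Sum.inl ab.1) * X (Sum.inr ab.2) : MvPolynomial (Fin N ⊕ Fin N) ℤ))
    (fun _ => ((1, 1) : ℕ × ℕ)) (w := H6_bw N) ?_
  · have hc := (Finset.mem_powersetCard.mp ht).2
    simpa [hc] using h
  · intro ab _
    have h1 := isWeightedHomogeneous_X ℤ (H6_bw N) (Sum.inl ab.1)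
    have h2 := isWeightedHomogeneous_X ℤ (H6_bw N) (Sum.inr ab.2)
    have := h1.mul h2
    simpa [H6_bw] using this

theorem H6_exists_isMulPoly (n : ℕ) :
    ∃ P : MvPolynomial (Fin n ⊕ Fin n) ℤ, IsMulPoly n P := by
  classical
  obtain ⟨P₀, hP₀⟩ := H6_bisymm n (mulGen n n) (fun ρ => H6_mulGen_rename n n ρ (Equiv.refl _))
    (fun ρ => H6_mulGen_rename n n (Equiv.refl _) ρ)
  obtain ⟨w, hw⟩ : ∃ w : Fin n ⊕ Fin n → ℕ × ℕ, w =
      (Sum.elim (fun k : Fin n => (((k : ℕ) + 1, 0) : ℕ × ℕ))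
        (fun k : Fin n => ((0, (k : ℕ) + 1) : ℕ × ℕ))) := ⟨_, rfl⟩
  have hφ : ∀ i : Fin n ⊕ Fin n, IsWeightedHomogeneous (H6_bw n)
      ((Sum.elim (fun k : Fin n => rename Sum.inl (esymm (Fin n) ℤ ((k : ℕ) + 1)))
        (fun k : Fin n => rename Sum.inr (esymm (Fin n) ℤ ((k : ℕ) + 1)))) i) (w i) := by
    intro i
    cases i with
    | inl k =>
      have h0 := H6_esymm_isWeightedHomogeneous_const (σ := Fin n) (R := ℤ) ((1, 0) : ℕ × ℕ)
        ((k : ℕ) + 1)
      have := H6_aeval_isWeightedHomogeneous (fun _ : Fin n => ((1, 0) : ℕ × ℕ)) (H6_bw n)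
        (fun i => (X (Sum.inl i) : MvPolynomial (Fin n ⊕ Fin n) ℤ))
        (fun i => isWeightedHomogeneous_X ℤ (H6_bw n) (Sum.inl i)) h0
      rw [Sum.elim_inl, H6_rename_eq_aeval]
      simpa [hw] using this
    | inr k =>
      have h0 := H6_esymm_isWeightedHomogeneous_const (σ := Fin n) (R := ℤ) ((0, 1) : ℕ × ℕ)
        ((k : ℕ) + 1)
      have := H6_aeval_isWeightedHomogeneous (fun _ : Fin n => ((0, 1) : ℕ × ℕ)) (H6_bw n)
        (fun i => (X (Sum.inr i) : MvPolynomial (Fin n ⊕ Fin n) ℤ))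
        (fun i => isWeightedHomogeneous_X ℤ (H6_bw n) (Sum.inr i)) h0
      rw [Sum.elim_inr, H6_rename_eq_aeval]
      simpa [hw] using this
  refine ⟨weightedHomogeneousComponent w (n, n) P₀, ?_, ?_⟩
  · have := H6_weightedComponent_aeval w (H6_bw n) _ hφ P₀ (n, n)
    rw [← this]
    change weightedHomogeneousComponent (H6_bw n) (n, n) (H6_Phi n P₀) = _
    rw [hP₀]
    exact weightedHomogeneousComponent_eq_self (H6_mulGen_bihom n n)
  · rw [← hw]
    exact weightedHomogeneousComponent_isWeightedHomogeneous _ _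

end Groth.Agent.Lib.helper6
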