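import Mathlib
import Groth.Prelude.Def_LambdaSp
import Groth.Agent.Lib.helper6.LambdaUniv2

set_option autoImplicit false
set_option linter.style.haveILetI false

open MvPolynomial Finset LambdaRing

namespace Groth.Agent.Lib.helper6

theorem H6_esymm_zeroExt {α β R : Type*} [Fintype α] [Fintype β] [DecidableEq α] [CommSemiring R]
    (ι : β ↪ α) (g : α → R) (hg : ∀ a, a ∉ Set.range ι → g a = 0) (j : ℕ) :
    ((Finset.univ : Finset α).val.map g).esymm j =
      ((Finset.univ : Finset β).val.map (g ∘ ι)).esymm j := by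
  rw [Finset.esymm_map_val, Finset.esymm_map_val]
  have h1 : ∑ t ∈ powersetCard j (univ : Finset β), ∏ i ∈ t, (g ∘ ι) i =
      ∑ t ∈ powersetCard j ((univ : Finset β).map ι), ∏ i ∈ t, g i := by
    rw [Finset.powersetCard_map, Finset.sum_map]
    refine Finset.sum_congr rfl fun t _ => ?_
    simp [Finset.prod_map]
  rw [h1]
  symm
  apply Finset.sum_subset
  · apply Finset.powersetCard_mono; exact Finset.subset_univ _
  · intro t ht hnt
    rw [Finset.mem_powersetCard] at ht hnt
    have : ¬ t ⊆ (univ : Finset β).map ι := fun h => hnt ⟨h, ht.2⟩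
    rw [Finset.not_subset] at this
    obtain ⟨i, hit, hi⟩ := this
    apply Finset.prod_eq_zero hit
    apply hg
    rintro ⟨b, rfl⟩
    exact hi (Finset.mem_map_of_mem _ (Finset.mem_univ b))

/-- kill the variables of index `≥ m`. -/
noncomputable def H6_kill (m k : ℕ) :
    MvPolynomial (Fin k ⊕ Fin k) ℤ →ₐ[ℤ] MvPolynomial (Fin m ⊕ Fin m) ℤ :=
  aeval (Sum.elim (fun a : Fin k => if h : (a : ℕ) < m then X (Sum.inl ⟨a, h⟩) else 0)
    (fun a : Fin k => if h : (a : ℕ) < m then X (Sum.inr ⟨a, h⟩) else 0))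

theorem H6_kill_inl (m k : ℕ) (a : Fin k) :
    H6_kill m k (X (Sum.inl a)) = if h : (a : ℕ) < m then X (Sum.inl ⟨a, h⟩) else 0 := by
  simp [H6_kill]

theorem H6_kill_inr (m k : ℕ) (a : Fin k) :
    H6_kill m k (X (Sum.inr a)) = if h : (a : ℕ) < m then X (Sum.inr ⟨a, h⟩) else 0 := by
  simp [H6_kill]

theorem H6_kill_esymm_inl {m k : ℕ} (hmk : m ≤ k) (j : ℕ) :
    H6_kill m k (rename Sum.inl (esymm (Fin k) ℤ j)) = rename Sum.inl (esymm (Fin m) ℤ j) := by
  rw [H6_kill, aeval_rename, Sum.elim_comp_inl, aeval_esymm_eq_multiset_esymm,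
    H6_rename_eq_aeval, aeval_esymm_eq_multiset_esymm]
  rw [H6_esymm_zeroExt (Fin.castLEEmb hmk)]
  · congr 2
    funext b
    simp
  · intro a ha
    have : ¬ (a : ℕ) < m := by
      intro h
      exact ha ⟨⟨a, h⟩, by ext; simp⟩
    simp [this]

theorem H6_kill_esymm_inr {m k : ℕ} (hmk : m ≤ k) (j : ℕ) :
    H6_kill m k (rename Sum.inr (esymm (Fin k) ℤ j)) = rename Sum.inr (esymm (Fin m) ℤ j) := by
  rw [H6_kill, aeval_rename, Sum.elim_comp_inr, aeval_esymm_eq_multiset_esymm,
    H6_rename_eq_aeval, aeval_esymm_eq_multiset_esymm]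
  rw [H6_esymm_zeroExt (Fin.castLEEmb hmk)]
  · congr 2
    funext b
    simp
  · intro a ha
    have : ¬ (a : ℕ) < m := by
      intro h
      exact ha ⟨⟨a, h⟩, by ext; simp⟩
    simp [this]

theorem H6_kill_mulGen {m k : ℕ} (hmk : m ≤ k) (j : ℕ) :
    H6_kill m k (mulGen k j) = mulGen m j := by
  rw [mulGen, mulGen]
  have h1 := H6_map_multiset_esymm (H6_kill m k).toRingHom
    ((Finset.univ : Finset (Fin k × Fin k)).val.map
      fun ab => (X (Sum.inl ab.1) * X (Sum.inr ab.2) : MvPolynomial (Fin k ⊕ Fin k) ℤ)) j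
  simp only [AlgHom.toRingHom_eq_coe, RingHom.coe_coe] at h1
  rw [h1, Multiset.map_map]
  rw [H6_esymm_zeroExt ((Fin.castLEEmb hmk).prodMap (Fin.castLEEmb hmk))]
  · congr 2
    funext b
    simp [H6_kill_inl, H6_kill_inr]
  · rintro ⟨a, b⟩ hab
    simp only [Function.comp_apply, map_mul, H6_kill_inl, H6_kill_inr]
    by_cases ha : (a : ℕ) < m
    · by_cases hb : (b : ℕ) < m
      · exfalso
        apply hab
        refine ⟨(⟨a, ha⟩, ⟨b, hb⟩), ?_⟩
        ext <;> simp
      · simp [hb]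
    · simp [ha]

theorem H6_Phi_injective (n : ℕ) : Function.Injective (H6_Phi n) := by
  intro P Q h
  have h1 := congrArg (sumAlgEquiv ℤ (Fin n) (Fin n)) h
  rw [H6_L1, H6_L1] at h1
  have hET : Function.Injective (H6_ET n) := by
    intro p q hpq
    apply esymmAlgHom_injective (σ := Fin n) (n := n) (MvPolynomial (Fin n) ℤ) (by simp)
    apply Subtype.ext
    rw [esymmAlgHom_apply, esymmAlgHom_apply]
    exact hpq
  have hEU : Function.Injective (H6_EU n) := by
    intro p q hpq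
    apply esymmAlgHom_injective (σ := Fin n) (n := n) ℤ (by simp)
    apply Subtype.ext
    rw [esymmAlgHom_apply, esymmAlgHom_apply]
    exact hpq
  have h2 := hET h1
  have h3 := MvPolynomial.map_injective
    (H6_EU n : MvPolynomial (Fin n) ℤ →+* MvPolynomial (Fin n) ℤ) hEU h2
  exact (sumAlgEquiv ℤ (Fin n) (Fin n)).injective h3

end Groth.Agent.Lib.helper6
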