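import Mathlib
import Groth.Prelude.Def_LambdaSp
import Groth.Agent.Lib.helper6.LambdaExt

set_option autoImplicit false
set_option linter.style.haveILetI false

open MvPolynomial Finset LambdaRing

namespace Groth.Agent.Lib.helper6

/-- the isobaric weights -/
def H6_iw (n : ℕ) : Fin n ⊕ Fin n → ℕ × ℕ :=
  Sum.elim (fun k : Fin n => (((k : ℕ) + 1, 0) : ℕ × ℕ)) (fun k : Fin n => ((0, (k : ℕ) + 1) : ℕ × ℕ))

theorem H6_Phi_gen_homog (n : ℕ) (i : Fin n ⊕ Fin n) : IsWeightedHomogeneous (H6_bw n)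
    ((Sum.elim (fun k : Fin n => rename Sum.inl (esymm (Fin n) ℤ ((k : ℕ) + 1)))
      (fun k : Fin n => rename Sum.inr (esymm (Fin n) ℤ ((k : ℕ) + 1)))) i) (H6_iw n i) := by
  cases i with
  | inl k =>
    have h0 := H6_esymm_isWeightedHomogeneous_const (σ := Fin n) (R := ℤ) ((1, 0) : ℕ × ℕ)
      ((k : ℕ) + 1)
    have := H6_aeval_isWeightedHomogeneous (fun _ : Fin n => ((1, 0) : ℕ × ℕ)) (H6_bw n)
      (fun i => (X (Sum.inl i) : MvPolynomial (Fin n ⊕ Fin n) ℤ))
      (fun i => isWeightedHomogeneous_X ℤ (H6_bw n) (Sum.inl i)) h0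
    rw [Sum.elim_inl, H6_rename_eq_aeval]
    simpa [H6_iw] using this
  | inr k =>
    have h0 := H6_esymm_isWeightedHomogeneous_const (σ := Fin n) (R := ℤ) ((0, 1) : ℕ × ℕ)
      ((k : ℕ) + 1)
    have := H6_aeval_isWeightedHomogeneous (fun _ : Fin n => ((0, 1) : ℕ × ℕ)) (H6_bw n)
      (fun i => (X (Sum.inr i) : MvPolynomial (Fin n ⊕ Fin n) ℤ))
      (fun i => isWeightedHomogeneous_X ℤ (H6_bw n) (Sum.inr i)) h0
    rw [Sum.elim_inr, H6_rename_eq_aeval]
    simpa [H6_iw] using this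

/-- any preimage of `mulGen k m` under `Φ` is isobaric of weight `(m, m)`. -/
theorem H6_isobaric_of_Phi_eq (k m : ℕ) (Z : MvPolynomial (Fin k ⊕ Fin k) ℤ)
    (hZ : H6_Phi k Z = mulGen k m) : IsWeightedHomogeneous (H6_iw k) Z (m, m) := by
  classical
  have h := H6_weightedComponent_aeval (H6_iw k) (H6_bw k) _ (H6_Phi_gen_homog k) Z (m, m)
  have h2 : H6_Phi k (weightedHomogeneousComponent (H6_iw k) (m, m) Z) = H6_Phi k Z := by
    change aeval _ _ = _
    rw [← h]
    change weightedHomogeneousComponent (H6_bw k) (m, m) (H6_Phi k Z) = _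
    rw [hZ]
    exact weightedHomogeneousComponent_eq_self (H6_mulGen_bihom k m)
  have h3 := H6_Phi_injective k h2
  rw [← h3]
  exact weightedHomogeneousComponent_isWeightedHomogeneous _ _

theorem H6_Phi_rename_of_isMulPoly {m k : ℕ} (hmk : m ≤ k) (P : MvPolynomial (Fin m ⊕ Fin m) ℤ)
    (hP : IsMulPoly m P) :
    H6_Phi k (rename (Sum.map (Fin.castLE hmk) (Fin.castLE hmk)) P) = mulGen k m := by
  classical
  obtain ⟨Z, hZ⟩ := H6_bisymm k (mulGen k m) (fun ρ => H6_mulGen_rename k m ρ (Equiv.refl _))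
    (fun ρ => H6_mulGen_rename k m (Equiv.refl _) ρ)
  have hiso := H6_isobaric_of_Phi_eq k m Z hZ
  have hinj : Function.Injective (Sum.map (Fin.castLE hmk) (Fin.castLE hmk)) :=
    Function.Injective.sumMap (Fin.castLE_injective hmk) (Fin.castLE_injective hmk)
  have hvars : (Z.vars : Set (Fin k ⊕ Fin k)) ⊆
      Set.range (Sum.map (Fin.castLE hmk) (Fin.castLE hmk)) := by
    intro v hv
    rw [Finset.mem_coe, MvPolynomial.mem_vars] at hv
    obtain ⟨d, hd, hdv⟩ := hv
    rw [MvPolynomial.mem_support_iff] at hd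
    have hw := hiso hd
    have hdv' : d v ≠ 0 := by
      rw [Finsupp.mem_support_iff] at hdv; exact hdv
    have hle := Finsupp.le_weight_of_ne_zero' (H6_iw k) hdv'
    rw [hw] at hle
    cases v with
    | inl i =>
      have : (i : ℕ) + 1 ≤ m := (Prod.le_def.mp hle).1
      exact ⟨Sum.inl ⟨i, by omega⟩, by simp⟩
    | inr i =>
      have : (i : ℕ) + 1 ≤ m := (Prod.le_def.mp hle).2
      exact ⟨Sum.inr ⟨i, by omega⟩, by simp⟩
  obtain ⟨R₀, hR₀⟩ := exists_rename_eq_of_vars_subset_range Z _ hinj hvars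
  have hcomp : ∀ Q : MvPolynomial (Fin m ⊕ Fin m) ℤ,
      H6_kill m k (H6_Phi k (rename (Sum.map (Fin.castLE hmk) (Fin.castLE hmk)) Q)) =
        H6_Phi m Q := by
    intro Q
    have : ((H6_kill m k).comp ((H6_Phi k).comp
        (rename (Sum.map (Fin.castLE hmk) (Fin.castLE hmk))))) = H6_Phi m := by
      apply MvPolynomial.algHom_ext
      intro v
      cases v with
      | inl i =>
        simp only [AlgHom.comp_apply, rename_X, Sum.map_inl, H6_Phi, aeval_X, Sum.elim_inl,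
          Fin.val_castLE]
        exact H6_kill_esymm_inl hmk _
      | inr i =>
        simp only [AlgHom.comp_apply, rename_X, Sum.map_inr, H6_Phi, aeval_X, Sum.elim_inr,
          Fin.val_castLE]
        exact H6_kill_esymm_inr hmk _
    exact DFunLike.congr_fun this Q
  have h1 : H6_Phi m R₀ = H6_Phi m P := by
    rw [← hcomp R₀, hR₀, hZ, H6_kill_mulGen hmk]
    exact hP.1.symm
  have h2 := H6_Phi_injective m h1
  rw [← h2, hR₀, hZ]

end Groth.Agent.Lib.helper6
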