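import Mathlib

set_option autoImplicit false
set_option linter.style.haveILetI false

open PowerSeries Finset

namespace Groth.Agent.Lib.helper6

section
variable {R : Type*} [CommRing R] {S : Type*} [CommRing S]

/-- logarithmic derivative of a power series with constant coefficient one -/
noncomputable def H6_ld (L : PowerSeries R) : PowerSeries R :=
  PowerSeries.derivative R L * L.invOfUnit 1

theorem H6_cc {L : PowerSeries R} (hL : constantCoeff L = 1) :
    constantCoeff L = ((1 : Rˣ) : R) := by rw [hL]; simp

theorem H6_ld_mul_self (L : PowerSeries R) (hL : constantCoeff L = 1) :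
    H6_ld L * L = PowerSeries.derivative R L := by
  rw [H6_ld, mul_assoc, invOfUnit_mul _ _ (H6_cc hL), mul_one]

theorem H6_map_derivative' (f : R →+* S) (p : PowerSeries R) :
    PowerSeries.map f (PowerSeries.derivative R p) =
      PowerSeries.derivative S (PowerSeries.map f p) := by
  ext n
  rw [coeff_map, coeff_derivative, coeff_derivative, coeff_map, map_mul, map_add, map_natCast,
    map_one]

theorem H6_cc_map (f : R →+* S) {L : PowerSeries R} (hL : constantCoeff L = 1) :
    constantCoeff (PowerSeries.map f L) = 1 := by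
  rw [← coeff_zero_eq_constantCoeff_apply, coeff_map, coeff_zero_eq_constantCoeff_apply, hL,
    map_one]

theorem H6_map_ld (f : R →+* S) (L : PowerSeries R) (hL : constantCoeff L = 1) :
    PowerSeries.map f (H6_ld L) = H6_ld (PowerSeries.map f L) := by
  have hL' := H6_cc_map f hL
  have h1 : PowerSeries.map f (H6_ld L) * PowerSeries.map f L =
      H6_ld (PowerSeries.map f L) * PowerSeries.map f L := by
    rw [H6_ld_mul_self _ hL', ← map_mul, H6_ld_mul_self _ hL, H6_map_derivative']
  have h2 := congrArg (· * (PowerSeries.map f L).invOfUnit 1) h1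
  simpa only [mul_assoc, mul_invOfUnit _ _ (H6_cc hL'), mul_one] using h2

theorem H6_cc_mul {L M : PowerSeries R} (hL : constantCoeff L = 1) (hM : constantCoeff M = 1) :
    constantCoeff (L * M) = 1 := by
  rw [map_mul, hL, hM, one_mul]

theorem H6_ld_mul (L M : PowerSeries R) (hL : constantCoeff L = 1) (hM : constantCoeff M = 1) :
    H6_ld (L * M) = H6_ld L + H6_ld M := by
  have hLM := H6_cc_mul hL hM
  have h1 : H6_ld (L * M) * (L * M) = (H6_ld L + H6_ld M) * (L * M) := by
    rw [H6_ld_mul_self _ hLM, Derivation.leibniz, add_mul]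
    have e1 : H6_ld L * (L * M) = (H6_ld L * L) * M := by ring
    have e2 : H6_ld M * (L * M) = L * (H6_ld M * M) := by ring
    rw [e1, e2, H6_ld_mul_self _ hL, H6_ld_mul_self _ hM]
    simp only [smul_eq_mul]
    ring
  have h2 := congrArg (· * (L * M).invOfUnit 1) h1
  simpa only [mul_assoc, mul_invOfUnit _ _ (H6_cc hLM), mul_one] using h2

theorem H6_ld_one : H6_ld (1 : PowerSeries R) = 0 := by
  rw [H6_ld]
  have : PowerSeries.derivative R (1 : PowerSeries R) = 0 := by
    have := (PowerSeries.derivative R).map_one_eq_zero
    exact this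
  rw [this, zero_mul]

theorem H6_cc_prod (s : Multiset (PowerSeries R)) (h : ∀ L ∈ s, constantCoeff L = 1) :
    constantCoeff s.prod = 1 := by
  induction s using Multiset.induction_on with
  | empty => simp
  | cons a s ih =>
    rw [Multiset.prod_cons]
    exact H6_cc_mul (h a (Multiset.mem_cons_self a s))
      (ih fun L hL => h L (Multiset.mem_cons_of_mem hL))

theorem H6_ld_prod (s : Multiset (PowerSeries R)) (h : ∀ L ∈ s, constantCoeff L = 1) :
    H6_ld s.prod = (s.map H6_ld).sum := by
  induction s using Multiset.induction_on with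
  | empty => simp [H6_ld_one]
  | cons a s ih =>
    have hs : ∀ L ∈ s, constantCoeff L = 1 := fun L hL => h L (Multiset.mem_cons_of_mem hL)
    rw [Multiset.prod_cons, Multiset.map_cons, Multiset.sum_cons,
      H6_ld_mul _ _ (h a (Multiset.mem_cons_self a s)) (H6_cc_prod s hs), ih hs]

theorem H6_cc_linear (v : R) : constantCoeff (1 + C v * X : PowerSeries R) = 1 := by
  simp

theorem H6_ld_linear (v : R) (j : ℕ) :
    coeff j (H6_ld (1 + C v * X : PowerSeries R)) = (-1) ^ j * v ^ (j + 1) := by
  have h := H6_ld_mul_self (1 + C v * X : PowerSeries R) (H6_cc_linear v)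
  have hd : PowerSeries.derivative R (1 + C v * X : PowerSeries R) = C v := by
    rw [map_add, Derivation.leibniz]
    have : PowerSeries.derivative R (1 : PowerSeries R) = 0 :=
      (PowerSeries.derivative R).map_one_eq_zero
    rw [this]
    have h2 : PowerSeries.derivative R (C v : PowerSeries R) = 0 := by
      ext n
      rw [coeff_derivative, coeff_C]
      simp
    rw [h2]
    simp [PowerSeries.derivative_X]
  rw [hd] at h
  have e : H6_ld (1 + C v * X : PowerSeries R) * (1 + C v * X) =
      H6_ld (1 + C v * X : PowerSeries R) + C v * (H6_ld (1 + C v * X : PowerSeries R) * X) := by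
    ring
  rw [e] at h
  induction j with
  | zero =>
    have h0 := congrArg (coeff 0) h
    rw [map_add, coeff_C_mul, coeff_zero_mul_X, mul_zero, add_zero, coeff_C] at h0
    simpa using h0
  | succ j ih =>
    have h1 := congrArg (coeff (j + 1)) h
    rw [map_add, coeff_C_mul, coeff_succ_mul_X, coeff_C, ih] at h1
    simp only [Nat.succ_ne_zero, if_false] at h1
    have : coeff (j + 1) (H6_ld (1 + C v * X : PowerSeries R)) = -(v * ((-1) ^ j * v ^ (j + 1))) :=
      eq_neg_of_add_eq_zero_left h1
    rw [this]
    ring

/-- agreement of coefficients up to degree `k` -/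
def H6_agree (k : ℕ) (P Q : PowerSeries R) : Prop := ∀ j ≤ k, coeff j P = coeff j Q

theorem H6_agree_mul {k : ℕ} {P P' Q Q' : PowerSeries R} (h1 : H6_agree k P P')
    (h2 : H6_agree k Q Q') : H6_agree k (P * Q) (P' * Q') := by
  intro j hj
  rw [coeff_mul, coeff_mul]
  refine Finset.sum_congr rfl fun p hp => ?_
  have := Finset.HasAntidiagonal.mem_antidiagonal.mp hp
  rw [h1 p.1 (by omega), h2 p.2 (by omega)]

theorem H6_agree_refl (k : ℕ) (P : PowerSeries R) : H6_agree k P P := fun _ _ => rfl

theorem H6_agree_inv {k : ℕ} {L L' : PowerSeries R} (hL : constantCoeff L = 1)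
    (hL' : constantCoeff L' = 1) (h : H6_agree k L L') :
    H6_agree k (L.invOfUnit 1) (L'.invOfUnit 1) := by
  have e : L.invOfUnit 1 - L'.invOfUnit 1 = (L.invOfUnit 1 * L'.invOfUnit 1) * (L' - L) := by
    have a1 := invOfUnit_mul L 1 (H6_cc hL)
    have a2 := mul_invOfUnit L' 1 (H6_cc hL')
    calc L.invOfUnit 1 - L'.invOfUnit 1
        = L.invOfUnit 1 * (L' * L'.invOfUnit 1) - (L.invOfUnit 1 * L) * L'.invOfUnit 1 := by
          rw [a1, a2, mul_one, one_mul]
      _ = (L.invOfUnit 1 * L'.invOfUnit 1) * (L' - L) := by ring
  have h0 : H6_agree k (L' - L) 0 := by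
    intro j hj
    rw [map_sub, h j hj, sub_self, map_zero]
  have h1 := H6_agree_mul (H6_agree_refl k (L.invOfUnit 1 * L'.invOfUnit 1)) h0
  rw [← e, mul_zero] at h1
  intro j hj
  have := h1 j hj
  rw [map_sub, map_zero, sub_eq_zero] at this
  exact this

theorem H6_ld_congr {k : ℕ} {L L' : PowerSeries R} (hL : constantCoeff L = 1)
    (hL' : constantCoeff L' = 1) (h : H6_agree (k + 1) L L') :
    H6_agree k (H6_ld L) (H6_ld L') := by
  have hd : H6_agree k (PowerSeries.derivative R L) (PowerSeries.derivative R L') := by
    intro j hj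
    rw [coeff_derivative, coeff_derivative, h (j + 1) (by omega)]
  have hi : H6_agree k (L.invOfUnit 1) (L'.invOfUnit 1) := by
    have := H6_agree_inv hL hL' h
    intro j hj
    exact this j (by omega)
  exact H6_agree_mul hd hi

/-- coefficients of `∏ (1 + v t)` are the elementary symmetric functions. -/
theorem H6_coeff_prod_linear (s : Multiset R) (n : ℕ) :
    coeff n ((s.map fun v => (1 + C v * X : PowerSeries R)).prod) = s.esymm n := by
  induction s using Multiset.induction_on generalizing n with
  | empty =>
    cases n with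
    | zero => simp [Multiset.esymm]
    | succ n => simp [Multiset.esymm, coeff_one]
  | cons a s ih =>
    rw [Multiset.map_cons, Multiset.prod_cons]
    have e : (1 + C a * X : PowerSeries R) * (s.map fun v => (1 + C v * X : PowerSeries R)).prod =
        (s.map fun v => (1 + C v * X : PowerSeries R)).prod +
          C a * ((s.map fun v => (1 + C v * X : PowerSeries R)).prod * X) := by ring
    rw [e, map_add, coeff_C_mul]
    cases n with
    | zero =>
      rw [coeff_zero_mul_X, mul_zero, add_zero, ih]
      simp [Multiset.esymm]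
    | succ n =>
      rw [coeff_succ_mul_X, ih, ih]
      simp only [Multiset.esymm, Multiset.powersetCard_cons, Multiset.map_add, Multiset.sum_add,
        Multiset.map_map, Function.comp_def, Multiset.prod_cons]
      rw [Multiset.sum_map_mul_left]

end

end Groth.Agent.Lib.helper6
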