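import Mathlib
import Groth.Prelude.Def_LambdaSp
import Groth.Agent.Lib.helper6.LambdaExt2
import Groth.Agent.Lib.helper6.LogDeriv
import Groth.Agent.Lib.helper6.LambdaAdams

set_option autoImplicit false
set_option linter.style.haveILetI false

open MvPolynomial Finset LambdaRing

namespace Groth.Agent.Lib.helper6

section General
variable {R : Type*} [CommRing R]

/-- the log-derivative of `∏ (1 + v t)` has the power sums as coefficients. -/
theorem H6_ld_prod_linear (s : Multiset R) (j : ℕ) :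
    PowerSeries.coeff j (H6_ld ((s.map fun v =>
      (1 + PowerSeries.C v * PowerSeries.X : PowerSeries R)).prod)) =
      (-1) ^ j * (s.map fun v => v ^ (j + 1)).sum := by
  rw [H6_ld_prod]
  · rw [map_multiset_sum, Multiset.map_map, Multiset.map_map]
    simp only [Function.comp_def, H6_ld_linear]
    rw [Multiset.sum_map_mul_left]
  · intro L hL
    rw [Multiset.mem_map] at hL
    obtain ⟨v, -, rfl⟩ := hL
    exact H6_cc_linear v

theorem H6_esymm_card_lt (n k : ℕ) (hk : n < k) {S : Type*} [CommSemiring S] :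
    esymm (Fin n) S k = 0 := by
  rw [esymm]
  apply Finset.sum_eq_zero
  intro t ht
  exfalso
  rw [Finset.mem_powersetCard] at ht
  have := Finset.card_le_univ t
  simp at this
  omega

end General

section Series
variable (k : ℕ)

/-- `Φ` as a ring hom -/
noncomputable def H6_PhiR : MvPolynomial (Fin k ⊕ Fin k) ℤ →+* MvPolynomial (Fin k ⊕ Fin k) ℤ :=
  (H6_Phi k).toRingHom

theorem H6_PhiR_apply (p : MvPolynomial (Fin k ⊕ Fin k) ℤ) : H6_PhiR k p = H6_Phi k p := rfl

/-- the generic `λ`-series in the `X`-variables -/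
noncomputable def H6_LX : PowerSeries (MvPolynomial (Fin k ⊕ Fin k) ℤ) :=
  PowerSeries.mk fun n => if h0 : n = 0 then 1 else if h : n ≤ k then X (Sum.inl ⟨n - 1, by omega⟩) else 0

noncomputable def H6_LY : PowerSeries (MvPolynomial (Fin k ⊕ Fin k) ℤ) :=
  PowerSeries.mk fun n => if h0 : n = 0 then 1 else if h : n ≤ k then X (Sum.inr ⟨n - 1, by omega⟩) else 0

theorem H6_exists_Z (n : ℕ) : ∃ Z : MvPolynomial (Fin k ⊕ Fin k) ℤ, H6_Phi k Z = mulGen k n :=
  H6_bisymm k (mulGen k n) (fun ρ => H6_mulGen_rename k n ρ (Equiv.refl _))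
    (fun ρ => H6_mulGen_rename k n (Equiv.refl _) ρ)

noncomputable def H6_Z (n : ℕ) : MvPolynomial (Fin k ⊕ Fin k) ℤ := (H6_exists_Z k n).choose

theorem H6_Z_spec (n : ℕ) : H6_Phi k (H6_Z k n) = mulGen k n := (H6_exists_Z k n).choose_spec

noncomputable def H6_LZ : PowerSeries (MvPolynomial (Fin k ⊕ Fin k) ℤ) :=
  PowerSeries.mk fun n => H6_Z k n

theorem H6_mulGen_zero : mulGen k 0 = 1 := by
  simp [mulGen, Multiset.esymm]

theorem H6_Z_zero : H6_Z k 0 = 1 := by
  apply H6_Phi_injective k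
  rw [H6_Z_spec, H6_mulGen_zero, map_one]

theorem H6_cc_LX : PowerSeries.constantCoeff (H6_LX k) = 1 := by
  rw [← PowerSeries.coeff_zero_eq_constantCoeff_apply, H6_LX, PowerSeries.coeff_mk]
  simp

theorem H6_cc_LY : PowerSeries.constantCoeff (H6_LY k) = 1 := by
  rw [← PowerSeries.coeff_zero_eq_constantCoeff_apply, H6_LY, PowerSeries.coeff_mk]
  simp

theorem H6_cc_LZ : PowerSeries.constantCoeff (H6_LZ k) = 1 := by
  rw [← PowerSeries.coeff_zero_eq_constantCoeff_apply, H6_LZ, PowerSeries.coeff_mk, H6_Z_zero]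

/-- the three multisets of "roots" -/
noncomputable def H6_sT : Multiset (MvPolynomial (Fin k ⊕ Fin k) ℤ) :=
  (Finset.univ : Finset (Fin k)).val.map fun a => X (Sum.inl a)

noncomputable def H6_sU : Multiset (MvPolynomial (Fin k ⊕ Fin k) ℤ) :=
  (Finset.univ : Finset (Fin k)).val.map fun a => X (Sum.inr a)

noncomputable def H6_sTU : Multiset (MvPolynomial (Fin k ⊕ Fin k) ℤ) :=
  (Finset.univ : Finset (Fin k × Fin k)).val.map fun ab => X (Sum.inl ab.1) * X (Sum.inr ab.2)

theorem H6_esymm_sT (n : ℕ) : (H6_sT k).esymm n = rename Sum.inl (esymm (Fin k) ℤ n) := by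
  rw [H6_rename_eq_aeval, aeval_esymm_eq_multiset_esymm]; rfl

theorem H6_esymm_sU (n : ℕ) : (H6_sU k).esymm n = rename Sum.inr (esymm (Fin k) ℤ n) := by
  rw [H6_rename_eq_aeval, aeval_esymm_eq_multiset_esymm]; rfl

theorem H6_map_LX : PowerSeries.map (H6_PhiR k) (H6_LX k) =
    ((H6_sT k).map fun v => (1 + PowerSeries.C v * PowerSeries.X : PowerSeries _)).prod := by
  refine PowerSeries.ext fun n => ?_
  rw [H6_coeff_prod_linear, PowerSeries.coeff_map, H6_LX, PowerSeries.coeff_mk, H6_esymm_sT]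
  by_cases h0 : n = 0
  · subst h0
    simp [esymm_zero]
  · rw [dif_neg h0]
    by_cases h : n ≤ k
    · rw [dif_pos h]
      simp only [H6_PhiR_apply, H6_Phi, aeval_X, Sum.elim_inl]
      congr 2
      omega
    · rw [dif_neg h, map_zero, H6_esymm_card_lt k n (by omega), map_zero]

theorem H6_map_LY : PowerSeries.map (H6_PhiR k) (H6_LY k) =
    ((H6_sU k).map fun v => (1 + PowerSeries.C v * PowerSeries.X : PowerSeries _)).prod := by
  refine PowerSeries.ext fun n => ?_
  rw [H6_coeff_prod_linear, PowerSeries.coeff_map, H6_LY, PowerSeries.coeff_mk, H6_esymm_sU]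
  by_cases h0 : n = 0
  · subst h0
    simp [esymm_zero]
  · rw [dif_neg h0]
    by_cases h : n ≤ k
    · rw [dif_pos h]
      simp only [H6_PhiR_apply, H6_Phi, aeval_X, Sum.elim_inr]
      congr 2
      omega
    · rw [dif_neg h, map_zero, H6_esymm_card_lt k n (by omega), map_zero]

theorem H6_map_LZ : PowerSeries.map (H6_PhiR k) (H6_LZ k) =
    ((H6_sTU k).map fun v => (1 + PowerSeries.C v * PowerSeries.X : PowerSeries _)).prod := by
  refine PowerSeries.ext fun n => ?_
  rw [H6_coeff_prod_linear, PowerSeries.coeff_map, H6_LZ, PowerSeries.coeff_mk]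
  rw [H6_PhiR_apply, H6_Z_spec]
  rfl

/-- the key identity in the generic ring. -/
theorem H6_generic_adams_mul (j : ℕ) :
    PowerSeries.coeff j (H6_ld (H6_LZ k)) =
      (-1) ^ j * (PowerSeries.coeff j (H6_ld (H6_LX k)) * PowerSeries.coeff j (H6_ld (H6_LY k))) := by
  apply H6_Phi_injective k
  have hX := congrArg (PowerSeries.coeff j) (H6_map_ld
    (H6_PhiR k) (H6_LX k) (H6_cc_LX k))
  have hY := congrArg (PowerSeries.coeff j) (H6_map_ld
    (H6_PhiR k) (H6_LY k) (H6_cc_LY k))
  have hZ := congrArg (PowerSeries.coeff j) (H6_map_ld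
    (H6_PhiR k) (H6_LZ k) (H6_cc_LZ k))
  rw [PowerSeries.coeff_map, H6_map_LX, H6_ld_prod_linear] at hX
  rw [PowerSeries.coeff_map, H6_map_LY, H6_ld_prod_linear] at hY
  rw [PowerSeries.coeff_map, H6_map_LZ, H6_ld_prod_linear] at hZ
  simp only [H6_PhiR_apply] at hX hY hZ
  rw [map_mul, map_mul, map_pow, map_neg, map_one, hX, hY, hZ]
  have hsum : ((H6_sTU k).map fun v => v ^ (j + 1)).sum =
      ((H6_sT k).map fun v => v ^ (j + 1)).sum * ((H6_sU k).map fun v => v ^ (j + 1)).sum := by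
    rw [H6_sTU, H6_sT, H6_sU, Multiset.map_map, Multiset.map_map, Multiset.map_map]
    change (∑ ab : Fin k × Fin k, _) = (∑ a : Fin k, _) * (∑ b : Fin k, _)
    rw [Finset.sum_mul_sum, ← Finset.sum_product']
    refine Finset.sum_congr rfl fun ab _ => ?_
    simp [mul_pow]
  rw [hsum]
  have h1 : ((-1 : MvPolynomial (Fin k ⊕ Fin k) ℤ) ^ j) * (-1) ^ j = 1 := by
    rw [← mul_pow]; simp
  linear_combination (-((H6_sT k).map fun v => v ^ (j + 1)).sum *
    ((H6_sU k).map fun v => v ^ (j + 1)).sum * (-1 : MvPolynomial (Fin k ⊕ Fin k) ℤ) ^ j) * h1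

end Series

end Groth.Agent.Lib.helper6
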