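import Mathlib
import Groth.Prelude.Def_LambdaSp
import Groth.Agent.Lib.helper6.LambdaExt2

set_option autoImplicit false
set_option linter.style.haveILetI false

open MvPolynomial Finset LambdaRing

namespace Groth.Agent.Lib.helper6

theorem H6_esymm_zeroExt' {α β R : Type*} [DecidableEq α] [CommSemiring R]
    (s : Finset α) (t : Finset β)
    (ι : β ↪ α) (hts : t.map ι ⊆ s) (g : α → R) (hg : ∀ a ∈ s, a ∉ t.map ι → g a = 0) (j : ℕ) :
    (s.val.map g).esymm j = (t.val.map (g ∘ ι)).esymm j := by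
  rw [Finset.esymm_map_val, Finset.esymm_map_val]
  have h1 : ∑ u ∈ powersetCard j t, ∏ i ∈ u, (g ∘ ι) i =
      ∑ u ∈ powersetCard j (t.map ι), ∏ i ∈ u, g i := by
    rw [Finset.powersetCard_map, Finset.sum_map]
    refine Finset.sum_congr rfl fun u _ => ?_
    simp [Finset.prod_map]
  rw [h1]
  symm
  apply Finset.sum_subset
  · apply Finset.powersetCard_mono; exact hts
  · intro u hu hnu
    rw [Finset.mem_powersetCard] at hu hnu
    have : ¬ u ⊆ t.map ι := fun h => hnu ⟨h, hu.2⟩
    rw [Finset.not_subset] at this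
    obtain ⟨i, hiu, hi⟩ := this
    apply Finset.prod_eq_zero hiu
    exact hg i (hu.1 hiu) hi

/-- kill the variables of index `≥ m` (one group of variables). -/
noncomputable def H6_kill1 (m N : ℕ) : MvPolynomial (Fin N) ℤ →ₐ[ℤ] MvPolynomial (Fin m) ℤ :=
  aeval (fun a : Fin N => if h : (a : ℕ) < m then X ⟨a, h⟩ else 0)

theorem H6_kill1_X (m N : ℕ) (a : Fin N) :
    H6_kill1 m N (X a) = if h : (a : ℕ) < m then X ⟨a, h⟩ else 0 := by
  simp [H6_kill1]

theorem H6_kill1_esymm {m N : ℕ} (hmN : m ≤ N) (j : ℕ) :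
    H6_kill1 m N (esymm (Fin N) ℤ j) = esymm (Fin m) ℤ j := by
  rw [H6_kill1, aeval_esymm_eq_multiset_esymm, esymm_eq_multiset_esymm]
  rw [H6_esymm_zeroExt (Fin.castLEEmb hmN)]
  · congr 2
    funext b
    simp
  · intro a ha
    have : ¬ (a : ℕ) < m := by
      intro h
      exact ha ⟨⟨a, h⟩, by ext; simp⟩
    simp [this]

theorem H6_kill1_compGen {m N : ℕ} (hmN : m ≤ N) (i j : ℕ) :
    H6_kill1 m N (compGen N i j) = compGen m i j := by
  classical
  rw [compGen, compGen]
  have h1 := H6_map_multiset_esymm (H6_kill1 m N).toRingHom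
    (((Finset.univ : Finset (Fin N)).powersetCard i).val.map
      fun s => (∏ a ∈ s, X a : MvPolynomial (Fin N) ℤ)) j
  simp only [AlgHom.toRingHom_eq_coe, RingHom.coe_coe] at h1
  rw [h1, Multiset.map_map]
  rw [H6_esymm_zeroExt' ((Finset.univ : Finset (Fin N)).powersetCard i)
    ((Finset.univ : Finset (Fin m)).powersetCard i)
    (Finset.mapEmbedding (Fin.castLEEmb hmN)).toEmbedding]
  · congr 2
    funext S
    simp [Finset.prod_map, H6_kill1_X]
  · intro S hS
    rw [Finset.mem_map] at hS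
    obtain ⟨S', hS', rfl⟩ := hS
    rw [Finset.mem_powersetCard] at hS' ⊢
    refine ⟨Finset.subset_univ _, ?_⟩
    simpa using hS'.2
  · intro S hS hS2
    rw [Finset.mem_powersetCard] at hS
    simp only [Function.comp_apply, map_prod, H6_kill1_X]
    by_contra hne
    apply hS2
    have hall : ∀ a ∈ S, (a : ℕ) < m := by
      intro a ha
      by_contra hlt
      apply hne
      apply Finset.prod_eq_zero ha
      simp [hlt]
    rw [Finset.mem_map]
    refine ⟨Finset.univ.filter (fun b : Fin m => Fin.castLE hmN b ∈ S), ?_, ?_⟩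
    · rw [Finset.mem_powersetCard]
      refine ⟨Finset.subset_univ _, ?_⟩
      rw [← hS.2, ← Finset.card_map (Fin.castLEEmb hmN)]
      congr 1
      ext a
      simp only [Finset.mem_map, Finset.mem_filter, Finset.mem_univ, true_and, Fin.castLEEmb_apply]
      constructor
      · rintro ⟨b, hb, rfl⟩; exact hb
      · intro ha
        exact ⟨⟨a, hall a ha⟩, by simpa using ha, by ext; simp⟩
    · ext a
      simp only [Finset.mapEmbedding_apply, RelEmbedding.coe_toEmbedding, Finset.mem_map,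
        Finset.mem_filter, Finset.mem_univ, true_and, Fin.castLEEmb_apply]
      constructor
      · rintro ⟨b, hb, rfl⟩; exact hb
      · intro ha
        exact ⟨⟨a, hall a ha⟩, by simpa using ha, by ext; simp⟩

/-- substitution of the elementary symmetric polynomials -/
noncomputable def H6_E (N : ℕ) : MvPolynomial (Fin N) ℤ →ₐ[ℤ] MvPolynomial (Fin N) ℤ :=
  aeval (fun a : Fin N => esymm (Fin N) ℤ ((a : ℕ) + 1))

theorem H6_E_injective (N : ℕ) : Function.Injective (H6_E N) := by
  intro p q hpq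
  apply esymmAlgHom_injective (σ := Fin N) (n := N) ℤ (by simp)
  apply Subtype.ext
  rw [esymmAlgHom_apply, esymmAlgHom_apply]
  exact hpq

theorem H6_E_surj (N : ℕ) (p : MvPolynomial (Fin N) ℤ) (hp : p.IsSymmetric) :
    ∃ Z, H6_E N Z = p := by
  obtain ⟨Q₀, hQ₀⟩ := esymmAlgHom_surjective (σ := Fin N) (n := N) ℤ (by simp) ⟨p, hp⟩
  refine ⟨Q₀, ?_⟩
  rw [H6_E, ← esymmAlgHom_apply, hQ₀]

theorem H6_isobaric_of_E_eq (N i j : ℕ) (Z : MvPolynomial (Fin N) ℤ)
    (hZ : H6_E N Z = compGen N i j) :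
    IsWeightedHomogeneous (fun a : Fin N => (a : ℕ) + 1) Z (i * j) := by
  classical
  have hφ : ∀ a : Fin N, IsWeightedHomogeneous (1 : Fin N → ℕ)
      (esymm (Fin N) ℤ ((a : ℕ) + 1)) ((a : ℕ) + 1) :=
    fun a => H6_esymm_isHomogeneous _
  have h := H6_weightedComponent_aeval (fun a : Fin N => (a : ℕ) + 1) (1 : Fin N → ℕ)
    _ hφ Z (i * j)
  have h2 : H6_E N (weightedHomogeneousComponent (fun a : Fin N => (a : ℕ) + 1) (i * j) Z) =
      H6_E N Z := by
    change aeval _ _ = _
    rw [← h]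
    change weightedHomogeneousComponent (1 : Fin N → ℕ) (i * j) (H6_E N Z) = _
    rw [hZ]
    exact weightedHomogeneousComponent_eq_self (H6_compGen_isHomogeneous _ _ _)
  have h3 := H6_E_injective N h2
  rw [← h3]
  exact weightedHomogeneousComponent_isWeightedHomogeneous _ _

theorem H6_E_rename_of_isCompPoly {N i j : ℕ} (hN : i * j ≤ N) (Q : MvPolynomial (Fin (i * j)) ℤ)
    (hQ : IsCompPoly i j Q) :
    H6_E N (rename (Fin.castLE hN) Q) = compGen N i j := by
  classical
  obtain ⟨Z, hZ⟩ := H6_E_surj N (compGen N i j) (H6_compGen_isSymmetric N i j)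
  have hiso := H6_isobaric_of_E_eq N i j Z hZ
  have hvars : (Z.vars : Set (Fin N)) ⊆ Set.range (Fin.castLE hN) := by
    intro v hv
    rw [Finset.mem_coe, MvPolynomial.mem_vars] at hv
    obtain ⟨d, hd, hdv⟩ := hv
    rw [MvPolynomial.mem_support_iff] at hd
    have hw := hiso hd
    have hdv' : d v ≠ 0 := by
      rw [Finsupp.mem_support_iff] at hdv; exact hdv
    have hle := Finsupp.le_weight_of_ne_zero' (fun a : Fin N => (a : ℕ) + 1) hdv'
    rw [hw] at hle
    exact ⟨⟨v, by omega⟩, by ext; simp⟩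
  obtain ⟨R₀, hR₀⟩ := exists_rename_eq_of_vars_subset_range Z _ (Fin.castLE_injective hN) hvars
  have hcomp : ∀ P : MvPolynomial (Fin (i * j)) ℤ,
      H6_kill1 (i * j) N (H6_E N (rename (Fin.castLE hN) P)) = H6_E (i * j) P := by
    intro P
    have : ((H6_kill1 (i * j) N).comp ((H6_E N).comp (rename (Fin.castLE hN)))) =
        H6_E (i * j) := by
      apply MvPolynomial.algHom_ext
      intro v
      simp only [AlgHom.comp_apply, rename_X, H6_E, aeval_X, Fin.val_castLE]
      exact H6_kill1_esymm hN _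
    exact DFunLike.congr_fun this P
  have h1 : H6_E (i * j) R₀ = H6_E (i * j) Q := by
    rw [← hcomp R₀, hR₀, hZ, H6_kill1_compGen hN]
    exact hQ.1.symm
  have h2 := H6_E_injective (i * j) h1
  rw [← h2, hR₀, hZ]

end Groth.Agent.Lib.helper6
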