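import Mathlib
import Groth.Prelude.Def_LambdaSp
import Groth.Agent.Lib.helper6.LambdaExtComp
import Groth.Agent.Lib.helper6.LambdaAdamsMul

set_option autoImplicit false
set_option linter.style.haveILetI false

open MvPolynomial Finset LambdaRing

namespace Groth.Agent.Lib.helper6

section Series
variable (N : ℕ)

/-- `E` as a ring hom -/
noncomputable def H6_ER : MvPolynomial (Fin N) ℤ →+* MvPolynomial (Fin N) ℤ :=
  (H6_E N).toRingHom

theorem H6_ER_apply (p : MvPolynomial (Fin N) ℤ) : H6_ER N p = H6_E N p := rfl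

/-- the generic `λ`-series -/
noncomputable def H6_LG : PowerSeries (MvPolynomial (Fin N) ℤ) :=
  PowerSeries.mk fun n => if h0 : n = 0 then 1 else if h : n ≤ N then X ⟨n - 1, by omega⟩ else 0

theorem H6_exists_W (i n : ℕ) : ∃ W : MvPolynomial (Fin N) ℤ, H6_E N W = compGen N i n :=
  H6_E_surj N (compGen N i n) (H6_compGen_isSymmetric N i n)

noncomputable def H6_W (i n : ℕ) : MvPolynomial (Fin N) ℤ := (H6_exists_W N i n).choose

theorem H6_W_spec (i n : ℕ) : H6_E N (H6_W N i n) = compGen N i n :=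
  (H6_exists_W N i n).choose_spec

noncomputable def H6_LW (i : ℕ) : PowerSeries (MvPolynomial (Fin N) ℤ) :=
  PowerSeries.mk fun n => H6_W N i n

noncomputable def H6_sT1 : Multiset (MvPolynomial (Fin N) ℤ) :=
  (Finset.univ : Finset (Fin N)).val.map fun a => X a

noncomputable def H6_sS (i : ℕ) : Multiset (MvPolynomial (Fin N) ℤ) :=
  ((Finset.univ : Finset (Fin N)).powersetCard i).val.map fun S => ∏ a ∈ S, X a

theorem H6_compGen_zero (i : ℕ) : compGen N i 0 = 1 := by
  simp [compGen, Multiset.esymm]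

theorem H6_W_zero (i : ℕ) : H6_W N i 0 = 1 := by
  apply H6_E_injective N
  rw [H6_W_spec, H6_compGen_zero, map_one]

theorem H6_cc_LG : PowerSeries.constantCoeff (H6_LG N) = 1 := by
  rw [← PowerSeries.coeff_zero_eq_constantCoeff_apply, H6_LG, PowerSeries.coeff_mk]
  simp

theorem H6_cc_LW (i : ℕ) : PowerSeries.constantCoeff (H6_LW N i) = 1 := by
  rw [← PowerSeries.coeff_zero_eq_constantCoeff_apply, H6_LW, PowerSeries.coeff_mk, H6_W_zero]

theorem H6_map_LG : PowerSeries.map (H6_ER N) (H6_LG N) =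
    ((H6_sT1 N).map fun v => (1 + PowerSeries.C v * PowerSeries.X : PowerSeries _)).prod := by
  refine PowerSeries.ext fun n => ?_
  rw [H6_coeff_prod_linear, PowerSeries.coeff_map, H6_LG, PowerSeries.coeff_mk, H6_sT1,
    ← esymm_eq_multiset_esymm]
  by_cases h0 : n = 0
  · subst h0
    simp [esymm_zero]
  · rw [dif_neg h0]
    by_cases h : n ≤ N
    · rw [dif_pos h]
      simp only [H6_ER_apply, H6_E, aeval_X]
      congr 1
      omega
    · rw [dif_neg h, map_zero, H6_esymm_card_lt N n (by omega)]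

theorem H6_map_LW (i : ℕ) : PowerSeries.map (H6_ER N) (H6_LW N i) =
    ((H6_sS N i).map fun v => (1 + PowerSeries.C v * PowerSeries.X : PowerSeries _)).prod := by
  refine PowerSeries.ext fun n => ?_
  rw [H6_coeff_prod_linear, PowerSeries.coeff_map, H6_LW, PowerSeries.coeff_mk, H6_ER_apply,
    H6_W_spec]
  rfl

/-- generic value of `ψ^{j+1}(λ^i x)` -/
noncomputable def H6_d (j i : ℕ) : MvPolynomial (Fin N) ℤ :=
  (-1) ^ j * PowerSeries.coeff j (H6_ld (H6_LW N i))

theorem H6_E_d (j i : ℕ) :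
    H6_E N (H6_d N j i) =
      ((Finset.univ : Finset (Fin N)).val.map fun a => (X a : MvPolynomial (Fin N) ℤ) ^ (j + 1)).esymm i := by
  have h := congrArg (PowerSeries.coeff j) (H6_map_ld (H6_ER N) (H6_LW N i) (H6_cc_LW N i))
  rw [PowerSeries.coeff_map, H6_map_LW, H6_ld_prod_linear, H6_ER_apply] at h
  rw [H6_d, map_mul, map_pow, map_neg, map_one, h, ← mul_assoc, ← mul_pow]
  simp only [mul_neg, mul_one, neg_neg, one_pow, one_mul]
  rw [H6_sS, Multiset.map_map, Finset.esymm_map_val]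
  change (∑ S ∈ (Finset.univ : Finset (Fin N)).powersetCard i, _) = _
  refine Finset.sum_congr rfl fun S _ => ?_
  simp [Finset.prod_pow]

noncomputable def H6_LD (j : ℕ) : PowerSeries (MvPolynomial (Fin N) ℤ) :=
  PowerSeries.mk fun n => if n = 0 then 1 else H6_d N j n

theorem H6_cc_LD (j : ℕ) : PowerSeries.constantCoeff (H6_LD N j) = 1 := by
  rw [← PowerSeries.coeff_zero_eq_constantCoeff_apply, H6_LD, PowerSeries.coeff_mk]
  simp

theorem H6_map_LD (j : ℕ) : PowerSeries.map (H6_ER N) (H6_LD N j) =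
    (((H6_sT1 N).map fun v => v ^ (j + 1)).map
      fun v => (1 + PowerSeries.C v * PowerSeries.X : PowerSeries _)).prod := by
  refine PowerSeries.ext fun n => ?_
  rw [H6_coeff_prod_linear, PowerSeries.coeff_map, H6_LD, PowerSeries.coeff_mk, H6_sT1,
    Multiset.map_map]
  by_cases h0 : n = 0
  · subst h0
    simp [Multiset.esymm]
  · rw [if_neg h0, H6_ER_apply, H6_E_d]
    rfl

theorem H6_generic_adams_comp (j j' : ℕ) (hN : N = (j + 1) * (j' + 1)) :
    (-1) ^ j' * PowerSeries.coeff j' (H6_ld (H6_LD N j)) =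
      (-1) ^ (N - 1) * PowerSeries.coeff (N - 1) (H6_ld (H6_LG N)) := by
  apply H6_E_injective N
  have h1 := congrArg (PowerSeries.coeff j') (H6_map_ld (H6_ER N) (H6_LD N j) (H6_cc_LD N j))
  have h2 := congrArg (PowerSeries.coeff (N - 1)) (H6_map_ld (H6_ER N) (H6_LG N) (H6_cc_LG N))
  rw [PowerSeries.coeff_map, H6_map_LD, H6_ld_prod_linear, H6_ER_apply] at h1
  rw [PowerSeries.coeff_map, H6_map_LG, H6_ld_prod_linear, H6_ER_apply] at h2
  rw [map_mul, map_mul, map_pow, map_pow, map_neg, map_one, h1, h2, ← mul_assoc, ← mul_assoc,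
    ← mul_pow, ← mul_pow]
  simp only [mul_neg, mul_one, neg_neg, one_pow, one_mul]
  rw [Multiset.map_map]
  refine congrArg Multiset.sum (Multiset.map_congr rfl fun v _ => ?_)
  have hN1 : N - 1 + 1 = (j + 1) * (j' + 1) := by
    have : 1 ≤ (j + 1) * (j' + 1) := Nat.mul_pos (Nat.succ_pos _) (Nat.succ_pos _)
    omega
  simp only [Function.comp_apply]
  rw [hN1, pow_mul]

end Series

end Groth.Agent.Lib.helper6
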