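import Mathlib
import Groth.Prelude.Def_LambdaSp
import Groth.Agent.Lib.helper6.LogDeriv
import Groth.Agent.Lib.helper6.LambdaAdams

set_option autoImplicit false
set_option linter.style.haveILetI false

universe u

open Finset LambdaRing

namespace Groth.Agent.Lib.helper6

variable {K : Type u} [CommRing K] [LambdaRing.LambdaOps K]

theorem H6_cc_lamSeries (z : K) : PowerSeries.constantCoeff (lamSeries z) = 1 := by
  rw [H6_constCoeff_lamSeries]; simp

theorem H6_lamSeries_add (x y : K) : lamSeries (x + y) = lamSeries x * lamSeries y := by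
  ext n
  rw [H6_coeff_lamSeries, LambdaOps.lam_add, PowerSeries.coeff_mul,
    Finset.Nat.sum_antidiagonal_eq_sum_range_succ_mk]
  simp [H6_coeff_lamSeries]

theorem H6_adamsOp_eq (j : ℕ) (z : K) :
    adamsOp (j + 1) z = (-1) ^ j * PowerSeries.coeff j (H6_ld (lamSeries z)) := rfl

theorem H6_adamsOp_add (k : ℕ) (x y : K) :
    adamsOp k (x + y) = adamsOp k x + adamsOp k y := by
  cases k with
  | zero => simp [adamsOp]
  | succ j =>
    rw [H6_adamsOp_eq, H6_adamsOp_eq, H6_adamsOp_eq, H6_lamSeries_add,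
      H6_ld_mul _ _ (H6_cc_lamSeries x) (H6_cc_lamSeries y), map_add, mul_add]

theorem H6_adamsOp_one (h1 : ∀ n : ℕ, 2 ≤ n → LambdaOps.lam n (1 : K) = 0) (j : ℕ) :
    adamsOp (j + 1) (1 : K) = 1 := by
  have hL : lamSeries (1 : K) = 1 + PowerSeries.C (1 : K) * PowerSeries.X := by
    ext n
    rw [H6_coeff_lamSeries]
    match n with
    | 0 => simp [LambdaOps.lam_zero]
    | 1 => simp [LambdaOps.lam_one]
    | (n + 2) =>
      rw [h1 (n + 2) (by omega)]
      simp [PowerSeries.coeff_one, PowerSeries.coeff_X]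
  rw [H6_adamsOp_eq, hL, H6_ld_linear, one_pow, mul_one, ← mul_pow]
  simp

/-- the Adams operation as a ring endomorphism, given multiplicativity. -/
noncomputable def H6_adamsHom (j : ℕ) (h1 : ∀ n : ℕ, 2 ≤ n → LambdaOps.lam n (1 : K) = 0)
    (hmul : ∀ x y : K, adamsOp (j + 1) (x * y) = adamsOp (j + 1) x * adamsOp (j + 1) y) :
    K →+* K where
  toFun := adamsOp (j + 1)
  map_one' := H6_adamsOp_one h1 j
  map_mul' := hmul
  map_zero' := by
    have := H6_adamsOp_add (j + 1) (0 : K) 0
    simpa using this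
  map_add' := H6_adamsOp_add (j + 1)

theorem H6_agree_mono {R : Type*} [CommRing R] {k k' : ℕ} (h : k ≤ k') {P Q : PowerSeries R}
    (hPQ : H6_agree k' P Q) : H6_agree k P Q := fun j hj => hPQ j (by omega)

end Groth.Agent.Lib.helper6
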