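import Mathlib
import Groth.Prelude.Def_LambdaSp
import Groth.Agent.Lib.helper6.LambdaAdamsComp
import Groth.Agent.Lib.helper6.LambdaAdamsHom

set_option autoImplicit false
set_option linter.style.haveILetI false

universe u

open MvPolynomial Finset LambdaRing

namespace Groth.Agent.Lib.helper6

section LdDet
variable {R : Type*} [CommRing R] [Algebra ℚ R]

/-- over a `ℚ`-algebra, a series with constant coefficient one is determined by its logarithmic
derivative. -/
theorem H6_agree_of_ld_agree {k : ℕ} {L L' : PowerSeries R}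
    (hL : PowerSeries.constantCoeff L = 1) (hL' : PowerSeries.constantCoeff L' = 1)
    (h : H6_agree k (H6_ld L) (H6_ld L')) : H6_agree (k + 1) L L' := by
  intro n
  induction n using Nat.strong_induction_on with
  | _ n ih =>
    intro hn
    cases n with
    | zero =>
      rw [PowerSeries.coeff_zero_eq_constantCoeff_apply, PowerSeries.coeff_zero_eq_constantCoeff_apply,
        hL, hL']
    | succ m =>
      have hu : IsUnit ((m : R) + 1) := by
        have : IsUnit ((m : ℚ) + 1) := by
          apply IsUnit.mk0
          positivity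
        have := this.map (algebraMap ℚ R)
        simpa using this
      have e1 := congrArg (PowerSeries.coeff m) (H6_ld_mul_self L hL)
      have e2 := congrArg (PowerSeries.coeff m) (H6_ld_mul_self L' hL')
      rw [PowerSeries.coeff_derivative, PowerSeries.coeff_mul] at e1 e2
      have : ∑ p ∈ antidiagonal m, PowerSeries.coeff p.1 (H6_ld L) * PowerSeries.coeff p.2 L =
          ∑ p ∈ antidiagonal m, PowerSeries.coeff p.1 (H6_ld L') * PowerSeries.coeff p.2 L' := by
        refine Finset.sum_congr rfl fun p hp => ?_
        have hp' := Finset.HasAntidiagonal.mem_antidiagonal.mp hp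
        rw [h p.1 (by omega), ih p.2 (by omega) (by omega)]
      rw [e1, e2] at this
      exact hu.mul_left_injective this

end LdDet

section Generic
variable (N : ℕ)

theorem H6_generic_adams_comp' (j j' M : ℕ) (hM : M + 1 = (j + 1) * (j' + 1)) :
    (-1) ^ j' * PowerSeries.coeff j' (H6_ld (H6_LD N j)) =
      (-1) ^ M * PowerSeries.coeff M (H6_ld (H6_LG N)) := by
  apply H6_E_injective N
  have h1 := congrArg (PowerSeries.coeff j') (H6_map_ld (H6_ER N) (H6_LD N j) (H6_cc_LD N j))
  have h2 := congrArg (PowerSeries.coeff M) (H6_map_ld (H6_ER N) (H6_LG N) (H6_cc_LG N))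
  rw [PowerSeries.coeff_map, H6_map_LD, H6_ld_prod_linear, H6_ER_apply] at h1
  rw [PowerSeries.coeff_map, H6_map_LG, H6_ld_prod_linear, H6_ER_apply] at h2
  rw [map_mul, map_mul, map_pow, map_pow, map_neg, map_one, h1, h2, ← mul_assoc, ← mul_assoc,
    ← mul_pow, ← mul_pow]
  simp only [mul_neg, mul_one, neg_neg, one_pow, one_mul]
  rw [Multiset.map_map]
  refine congrArg Multiset.sum (Multiset.map_congr rfl fun v _ => ?_)
  simp only [Function.comp_apply]
  rw [hM, pow_mul]

theorem H6_d_zero (j : ℕ) : H6_d N j 0 = 1 := by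
  apply H6_E_injective N
  rw [H6_E_d, map_one]
  simp [Multiset.esymm]

theorem H6_coeff_ld_LW (m i : ℕ) :
    PowerSeries.coeff m (H6_ld (H6_LW N i)) = (-1) ^ m * H6_d N m i := by
  rw [H6_d, ← mul_assoc, ← mul_pow]
  simp

end Generic

section Hom
variable {K : Type u} [CommRing K] [LambdaRing.LambdaOps K]

/-- the Adams operation as a ring endomorphism, given `ψ(1) = 1` and multiplicativity. -/
noncomputable def H6_adamsHom' (j : ℕ) (hone : adamsOp (j + 1) (1 : K) = 1)
    (hmul : ∀ x y : K, adamsOp (j + 1) (x * y) = adamsOp (j + 1) x * adamsOp (j + 1) y) :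
    K →+* K where
  toFun := adamsOp (j + 1)
  map_one' := hone
  map_mul' := hmul
  map_zero' := by
    have := H6_adamsOp_add (j + 1) (0 : K) 0
    simpa using this
  map_add' := H6_adamsOp_add (j + 1)

theorem H6_coeff_ld_lamSeries (z : K) (m : ℕ) :
    PowerSeries.coeff m (H6_ld (lamSeries z)) = (-1) ^ m * adamsOp (m + 1) z :=
  H6_coeff_logDeriv z m

end Hom

end Groth.Agent.Lib.helper6
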