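import Mathlib
import Groth.Prelude.Def_LambdaSp
import Groth.Agent.Lib.helper6.LambdaSpecAdams

set_option autoImplicit false
set_option linter.style.haveILetI false

universe u

open Finset LambdaRing

namespace Groth.Agent.Lib.helper6

variable {K : Type u} [CommRing K] [LambdaRing.LambdaOps K] [Algebra ℚ K]

theorem H6_neg_one_pow_sq (R : Type*) [CommRing R] (m : ℕ) : ((-1 : R) ^ m) * (-1) ^ m = 1 := by
  rw [← mul_pow]; simp

theorem H6_lam_one_of_adams (h1 : ∀ k : ℕ, 1 ≤ k → adamsOp k (1 : K) = 1) (n : ℕ) (hn : 2 ≤ n) :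
    LambdaOps.lam n (1 : K) = 0 := by
  have hag : H6_agree (n - 1 + 1) (lamSeries (1 : K))
      (1 + PowerSeries.C (1 : K) * PowerSeries.X) := by
    apply H6_agree_of_ld_agree (H6_cc_lamSeries 1) (H6_cc_linear 1)
    intro m _
    rw [H6_coeff_ld_lamSeries, H6_ld_linear, h1 (m + 1) (by omega), one_pow]
  have h := hag n (by omega)
  rw [H6_coeff_lamSeries] at h
  rw [h]
  obtain ⟨m, rfl⟩ : ∃ m, n = m + 2 := ⟨n - 2, by omega⟩
  simp [PowerSeries.coeff_one, PowerSeries.coeff_X]

theorem H6_lam_mul_of_adams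
    (hmul : ∀ k : ℕ, 1 ≤ k → ∀ x y : K, adamsOp k (x * y) = adamsOp k x * adamsOp k y)
    (n : ℕ) (P : MvPolynomial (Fin n ⊕ Fin n) ℤ) (hP : IsMulPoly n P) (x y : K) :
    LambdaOps.lam n (x * y) =
      MvPolynomial.aeval (Sum.elim (fun k : Fin n => LambdaOps.lam ((k : ℕ) + 1) x)
        (fun k : Fin n => LambdaOps.lam ((k : ℕ) + 1) y)) P := by
  obtain ⟨f, hf⟩ : ∃ f : MvPolynomial (Fin n ⊕ Fin n) ℤ →+* K, f =
      ((MvPolynomial.aeval (Sum.elim (fun i : Fin n => LambdaOps.lam ((i : ℕ) + 1) x)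
        (fun i : Fin n => LambdaOps.lam ((i : ℕ) + 1) y)) :
          MvPolynomial (Fin n ⊕ Fin n) ℤ →ₐ[ℤ] K) : _ →+* K) := ⟨_, rfl⟩
  have hfX : ∀ v, f (MvPolynomial.X v) = Sum.elim (fun i : Fin n => LambdaOps.lam ((i : ℕ) + 1) x)
        (fun i : Fin n => LambdaOps.lam ((i : ℕ) + 1) y) v := by
    intro v; rw [hf]; simp
  have aX : H6_agree n (PowerSeries.map f (H6_LX n)) (lamSeries x) := by
    intro m hm
    rw [PowerSeries.coeff_map, H6_LX, PowerSeries.coeff_mk, H6_coeff_lamSeries]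
    by_cases h0 : m = 0
    · subst h0
      rw [dif_pos rfl, map_one, LambdaOps.lam_zero]
    · rw [dif_neg h0, dif_pos hm, hfX, Sum.elim_inl]
      congr 1
      simp only []
      omega
  have aY : H6_agree n (PowerSeries.map f (H6_LY n)) (lamSeries y) := by
    intro m hm
    rw [PowerSeries.coeff_map, H6_LY, PowerSeries.coeff_mk, H6_coeff_lamSeries]
    by_cases h0 : m = 0
    · subst h0
      rw [dif_pos rfl, map_one, LambdaOps.lam_zero]
    · rw [dif_neg h0, dif_pos hm, hfX, Sum.elim_inr]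
      congr 1
      simp only []
      omega
  have hZn : H6_Z n n = P := by
    apply H6_Phi_injective
    rw [H6_Z_spec]
    exact hP.1.symm
  have aZ : H6_agree n (PowerSeries.map f (H6_LZ n)) (lamSeries (x * y)) := by
    cases n with
    | zero =>
      intro m hm
      obtain rfl : m = 0 := by omega
      rw [PowerSeries.coeff_zero_eq_constantCoeff_apply,
        PowerSeries.coeff_zero_eq_constantCoeff_apply, H6_cc_map f (H6_cc_LZ 0),
        H6_cc_lamSeries]
    | succ k =>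
      apply H6_agree_of_ld_agree (H6_cc_map f (H6_cc_LZ (k + 1))) (H6_cc_lamSeries _)
      intro m hm
      have cX := H6_ld_congr (H6_cc_map f (H6_cc_LX (k + 1))) (H6_cc_lamSeries x)
        (H6_agree_mono (by omega : m + 1 ≤ k + 1) aX) m le_rfl
      have cY := H6_ld_congr (H6_cc_map f (H6_cc_LY (k + 1))) (H6_cc_lamSeries y)
        (H6_agree_mono (by omega : m + 1 ≤ k + 1) aY) m le_rfl
      rw [← H6_map_ld f _ (H6_cc_LX (k + 1)), PowerSeries.coeff_map] at cX
      rw [← H6_map_ld f _ (H6_cc_LY (k + 1)), PowerSeries.coeff_map] at cY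
      rw [← H6_map_ld f _ (H6_cc_LZ (k + 1)), PowerSeries.coeff_map, H6_generic_adams_mul,
        map_mul, map_mul, map_pow, map_neg, map_one, cX, cY, H6_coeff_ld_lamSeries,
        H6_coeff_ld_lamSeries, H6_coeff_ld_lamSeries, hmul (m + 1) (by omega)]
      linear_combination ((-1 : K) ^ m * adamsOp (m + 1) x * adamsOp (m + 1) y) *
        H6_neg_one_pow_sq K m
  have h := aZ n le_rfl
  rw [PowerSeries.coeff_map, H6_LZ, PowerSeries.coeff_mk, hZn, H6_coeff_lamSeries] at h
  rw [← h, hf]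
  rfl

end Groth.Agent.Lib.helper6
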