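import Mathlib
import Groth.Prelude.Def_LambdaSp
import Groth.Agent.Lib.helper6.LambdaSpecAdams3

set_option autoImplicit false
set_option linter.style.haveILetI false

universe u

open MvPolynomial Finset LambdaRing

namespace Groth.Agent.Lib.helper6

/-- cancellation of positive integers -/
def H6_Cancel (R : Type*) [CommRing R] : Prop :=
  ∀ (m : ℕ) (a b : R), a * ((m : R) + 1) = b * ((m : R) + 1) → a = b

theorem H6_cancel_of_torsionFree (R : Type*) [CommRing R] [IsAddTorsionFree R] : H6_Cancel R := by
  intro m a b h
  have h' : (m + 1) • a = (m + 1) • b := by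
    rw [nsmul_eq_mul', nsmul_eq_mul']
    push_cast
    exact h
  exact nsmul_right_injective (Nat.succ_ne_zero m) h'

section LdDet
variable {R : Type*} [CommRing R]

theorem H6_agree_of_ld_agreeTF (hc : H6_Cancel R) {k : ℕ} {L L' : PowerSeries R}
    (hL : PowerSeries.constantCoeff L = 1) (hL' : PowerSeries.constantCoeff L' = 1)
    (h : H6_agree k (H6_ld L) (H6_ld L')) : H6_agree (k + 1) L L' := by
  intro n
  induction n using Nat.strong_induction_on with
  | _ n ih =>
    intro hn
    cases n with
    | zero =>
      rw [PowerSeries.coeff_zero_eq_constantCoeff_apply, PowerSeries.coeff_zero_eq_constantCoeff_apply,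
        hL, hL']
    | succ m =>
      have e1 := congrArg (PowerSeries.coeff m) (H6_ld_mul_self L hL)
      have e2 := congrArg (PowerSeries.coeff m) (H6_ld_mul_self L' hL')
      rw [PowerSeries.coeff_derivative, PowerSeries.coeff_mul] at e1 e2
      have : ∑ p ∈ antidiagonal m, PowerSeries.coeff p.1 (H6_ld L) * PowerSeries.coeff p.2 L =
          ∑ p ∈ antidiagonal m, PowerSeries.coeff p.1 (H6_ld L') * PowerSeries.coeff p.2 L' := by
        refine Finset.sum_congr rfl fun p hp => ?_
        have hp' := Finset.HasAntidiagonal.mem_antidiagonal.mp hp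
        rw [h p.1 (by omega), ih p.2 (by omega) (by omega)]
      rw [e1, e2] at this
      exact hc m _ _ this

end LdDet

end Groth.Agent.Lib.helper6
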