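import Mathlib
import Groth.Prelude.Def_LambdaSp
import Groth.Agent.Lib.helper6.LambdaSpecTF2

set_option autoImplicit false
set_option linter.style.haveILetI false

universe u

open Finset LambdaRing

namespace Groth.Agent.Lib.helper6

variable {K : Type u} [CommRing K] [LambdaRing.LambdaOps K]

theorem H6_lam_lam_of_adamsTF (hc : H6_Cancel K)
    (h1 : ∀ k : ℕ, 1 ≤ k → adamsOp k (1 : K) = 1)
    (hmul : ∀ k : ℕ, 1 ≤ k → ∀ x y : K, adamsOp k (x * y) = adamsOp k x * adamsOp k y)
    (hcomp : ∀ k k' : ℕ, 1 ≤ k → 1 ≤ k' → ∀ x : K,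
      adamsOp k (adamsOp k' x) = adamsOp (k * k') x)
    (i j : ℕ) (Q : MvPolynomial (Fin (i * j)) ℤ) (hQ : IsCompPoly i j Q) (x : K) :
    LambdaOps.lam j (LambdaOps.lam i x) =
      MvPolynomial.aeval (fun k : Fin (i * j) => LambdaOps.lam ((k : ℕ) + 1) x) Q := by
  obtain ⟨g, hg⟩ : ∃ g : MvPolynomial (Fin (i * j)) ℤ →+* K, g =
      ((MvPolynomial.aeval (fun a : Fin (i * j) => LambdaOps.lam ((a : ℕ) + 1) x) :
          MvPolynomial (Fin (i * j)) ℤ →ₐ[ℤ] K) : _ →+* K) := ⟨_, rfl⟩
  have hgX : ∀ a : Fin (i * j), g (MvPolynomial.X a) = LambdaOps.lam ((a : ℕ) + 1) x := by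
    intro a; rw [hg]; simp
  have aG : H6_agree (i * j) (PowerSeries.map g (H6_LG (i * j))) (lamSeries x) := by
    intro n hn
    rw [PowerSeries.coeff_map, H6_LG, PowerSeries.coeff_mk, H6_coeff_lamSeries]
    by_cases h0 : n = 0
    · subst h0
      rw [dif_pos rfl, map_one, LambdaOps.lam_zero]
    · rw [dif_neg h0, dif_pos hn, hgX]
      congr 1
      simp only []
      omega
  have hWQ : H6_W (i * j) i j = Q := by
    apply H6_E_injective
    rw [H6_W_spec]
    exact hQ.1.symm
  have c1 : ∀ m i' : ℕ, (m + 1) * i' ≤ i * j →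
      g (H6_d (i * j) m i') = adamsOp (m + 1) (LambdaOps.lam i' x) := by
    intro m i' hmi
    cases i' with
    | zero => rw [H6_d_zero, map_one, LambdaOps.lam_zero, h1 (m + 1) (by omega)]
    | succ r0 =>
      obtain ⟨Ψ, hΨ⟩ : ∃ Ψ : K →+* K, ∀ z, Ψ z = adamsOp (m + 1) z :=
        ⟨H6_adamsHom' m (h1 _ (by omega)) (hmul _ (by omega)), fun z => rfl⟩
      have hag : H6_agree (r0 + 1) (PowerSeries.map g (H6_LD (i * j) m))
          (PowerSeries.map Ψ (lamSeries x)) := by
        apply H6_agree_of_ld_agreeTF hc (H6_cc_map g (H6_cc_LD _ m))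
          (H6_cc_map Ψ (H6_cc_lamSeries x))
        intro r hr
        obtain ⟨M, hM⟩ : ∃ M, M + 1 = (m + 1) * (r + 1) := ⟨(m + 1) * (r + 1) - 1, by
          have : 1 ≤ (m + 1) * (r + 1) := Nat.mul_pos (Nat.succ_pos _) (Nat.succ_pos _)
          omega⟩
        have hMN : M + 1 ≤ i * j := by
          rw [hM]
          calc (m + 1) * (r + 1) ≤ (m + 1) * (r0 + 1) := Nat.mul_le_mul_left _ (by omega)
            _ ≤ i * j := hmi
        have cG := H6_ld_congr (H6_cc_map g (H6_cc_LG _)) (H6_cc_lamSeries x)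
          (H6_agree_mono hMN aG) M le_rfl
        rw [← H6_map_ld g _ (H6_cc_LG _), PowerSeries.coeff_map] at cG
        have gen := H6_generic_adams_comp' (i * j) m r M hM
        have gen' : PowerSeries.coeff r (H6_ld (H6_LD (i * j) m)) =
            (-1) ^ r * ((-1) ^ M * PowerSeries.coeff M (H6_ld (H6_LG (i * j)))) := by
          rw [← gen, ← mul_assoc, H6_neg_one_pow_sq, one_mul]
        rw [← H6_map_ld g _ (H6_cc_LD _ m), PowerSeries.coeff_map, gen', map_mul, map_mul, map_pow,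
          map_pow, map_neg, map_one, cG, H6_coeff_ld_lamSeries,
          ← H6_map_ld Ψ _ (H6_cc_lamSeries x), PowerSeries.coeff_map, H6_coeff_ld_lamSeries,
          map_mul, map_pow, map_neg, map_one, hΨ, hcomp (m + 1) (r + 1) (by omega) (by omega),
          ← hM]
        linear_combination ((-1 : K) ^ r * adamsOp (M + 1) x) * H6_neg_one_pow_sq K M
      have h := hag (r0 + 1) le_rfl
      rw [PowerSeries.coeff_map, PowerSeries.coeff_map, H6_LD, PowerSeries.coeff_mk,
        if_neg (Nat.succ_ne_zero r0), H6_coeff_lamSeries, hΨ] at h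
      exact h
  cases j with
  | zero =>
    rw [LambdaOps.lam_zero, ← hWQ, H6_W_zero, map_one]
  | succ j0 =>
    have aW : H6_agree (j0 + 1) (PowerSeries.map g (H6_LW (i * (j0 + 1)) i))
        (lamSeries (LambdaOps.lam i x)) := by
      apply H6_agree_of_ld_agreeTF hc (H6_cc_map g (H6_cc_LW _ i)) (H6_cc_lamSeries _)
      intro m hm
      have hle : (m + 1) * i ≤ i * (j0 + 1) := by
        calc (m + 1) * i ≤ (j0 + 1) * i := Nat.mul_le_mul_right _ (by omega)
          _ = i * (j0 + 1) := mul_comm _ _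
      rw [← H6_map_ld g _ (H6_cc_LW _ i), PowerSeries.coeff_map, H6_coeff_ld_LW, map_mul, map_pow,
        map_neg, map_one, c1 m i hle, H6_coeff_ld_lamSeries]
    have h := aW (j0 + 1) le_rfl
    rw [PowerSeries.coeff_map, H6_LW, PowerSeries.coeff_mk, hWQ, H6_coeff_lamSeries] at h
    rw [← h, hg]
    rfl

end Groth.Agent.Lib.helper6
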