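import Mathlib
import Groth.Prelude.Def_LambdaSp
import Groth.Agent.Lib.helper6.LambdaSpecTF3

set_option autoImplicit false
set_option linter.style.haveILetI false

universe u

open Finset LambdaRing PowerSeries

namespace Groth.Agent.Lib.helper6

theorem H6_coeff_of_mul_one_add_X {R : Type*} [CommRing R] (G : PowerSeries R) (x : R)
    (h : G * (1 + X) = C x) (j : ℕ) : coeff j G = (-1) ^ j * x := by
  have e : G * (1 + X) = G + G * X := by ring
  rw [e] at h
  induction j with
  | zero =>
    have h0 := congrArg (coeff 0) h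
    rw [map_add, coeff_zero_mul_X, add_zero, coeff_C] at h0
    simpa using h0
  | succ j ih =>
    have h1 := congrArg (coeff (j + 1)) h
    rw [map_add, coeff_succ_mul_X, coeff_C, ih] at h1
    simp only [Nat.succ_ne_zero, if_false] at h1
    have : coeff (j + 1) G = -((-1) ^ j * x) := eq_neg_of_add_eq_zero_left h1
    rw [this]
    ring

variable {K : Type u} [CommRing K] [LambdaRing.LambdaOps K] [BinomialRing K]

theorem H6_choose_succ_mul (x : K) (m : ℕ) :
    Ring.choose x (m + 1) * ((m : K) + 1) = Ring.choose x m * (x - m) := by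
  have h := Ring.choose_smul_choose x (Nat.le_succ m)
  rw [Nat.choose_succ_self_right, Nat.succ_sub (le_refl m), Nat.sub_self, Ring.choose_one_right,
    nsmul_eq_mul] at h
  rw [← h]
  push_cast
  ring

theorem H6_adamsOp_binomial (hKb : IsBinomial K) (j : ℕ) (x : K) : adamsOp (j + 1) x = x := by
  have hL : PowerSeries.derivative K (lamSeries x) * (1 + X) = C x * lamSeries x := by
    ext m
    rw [mul_add, mul_one, map_add, coeff_derivative, coeff_C_mul, H6_coeff_lamSeries,
      H6_coeff_lamSeries, hKb, hKb]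
    cases m with
    | zero =>
      rw [coeff_zero_mul_X, add_zero, Ring.choose_one_right, Ring.choose_zero_right]
      simp
    | succ m =>
      rw [coeff_succ_mul_X, coeff_derivative, H6_coeff_lamSeries, hKb, H6_choose_succ_mul,
        H6_choose_succ_mul]
      have h2 := H6_choose_succ_mul x m
      push_cast
      linear_combination (-1 : K) * h2
  have hG : H6_ld (lamSeries x) * (1 + X) = C x := by
    have : H6_ld (lamSeries x) * (1 + X) =
        (PowerSeries.derivative K (lamSeries x) * (1 + X)) * (lamSeries x).invOfUnit 1 := by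
      rw [H6_ld]; ring
    rw [this, hL, mul_assoc, mul_invOfUnit _ _ (H6_cc (H6_cc_lamSeries x)), mul_one]
  rw [H6_adamsOp_eq, H6_coeff_of_mul_one_add_X _ x hG, ← mul_assoc, H6_neg_one_pow_sq, one_mul]

theorem H6_isSpecial_of_isBinomial (hKb : IsBinomial K) : IsSpecial K := by
  haveI := BinomialRing.toIsAddTorsionFree (R := K)
  have hc := H6_cancel_of_torsionFree K
  have had : ∀ k : ℕ, 1 ≤ k → ∀ x : K, adamsOp k x = x := by
    intro k hk x
    obtain ⟨j, rfl⟩ : ∃ j, k = j + 1 := ⟨k - 1, by omega⟩
    exact H6_adamsOp_binomial hKb j x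
  have h1 : ∀ k : ℕ, 1 ≤ k → adamsOp k (1 : K) = 1 := fun k hk => had k hk 1
  have hmul : ∀ k : ℕ, 1 ≤ k → ∀ x y : K, adamsOp k (x * y) = adamsOp k x * adamsOp k y := by
    intro k hk x y
    rw [had k hk, had k hk, had k hk]
  have hcomp : ∀ k k' : ℕ, 1 ≤ k → 1 ≤ k' → ∀ x : K,
      adamsOp k (adamsOp k' x) = adamsOp (k * k') x := by
    intro k k' hk hk' x
    rw [had k' hk', had k hk, had (k * k') (Nat.mul_pos hk hk')]
  exact ⟨H6_lam_one_of_adamsTF hc h1, fun n P hP x y => H6_lam_mul_of_adamsTF hc hmul n P hP x y,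
    fun i j Q hQ x => H6_lam_lam_of_adamsTF hc h1 hmul hcomp i j Q hQ x⟩

end Groth.Agent.Lib.helper6
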