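import Mathlib
import Groth.Prelude.Def_LambdaSp
import Groth.Agent.Lib.helper6.LambdaAdamsHom

set_option autoImplicit false
set_option linter.style.haveILetI false

universe u

open Finset LambdaRing PowerSeries

namespace Groth.Agent.Lib.helper6

/-- the series `t/(1-t)` -/
noncomputable def H6_B (K : Type*) [CommRing K] : PowerSeries K := X * (mk 1 : PowerSeries K)

theorem H6_coeff_B_pow (K : Type*) [CommRing K] (j m : ℕ) :
    coeff m ((H6_B K) ^ (j + 1)) = if j + 1 ≤ m then ((m - 1).choose j : K) else 0 := by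
  rw [H6_B, mul_pow, mk_one_pow_eq_mk_choose_add, coeff_X_pow_mul']
  split_ifs with h
  · rw [coeff_mk]
    congr 2
    omega
  · rfl

theorem H6_coeff_B_pow_of_lt (K : Type*) [CommRing K] (i m : ℕ) (h : m < i) :
    coeff m ((H6_B K) ^ i) = 0 := by
  obtain ⟨j, rfl⟩ : ∃ j, i = j + 1 := ⟨i - 1, by omega⟩
  rw [H6_coeff_B_pow, if_neg (by omega)]

variable {K : Type u} [CommRing K] [LambdaRing.LambdaOps K]

theorem H6_gamma_eq (x : K) (m n : ℕ) (hmn : m < n) :
    coeff m (Polynomial.aeval (H6_B K) (trunc n (lamSeries x))) = gamma m x := by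
  obtain ⟨n', rfl⟩ : ∃ n', n = n' + 1 := ⟨n - 1, by omega⟩
  rw [Polynomial.aeval_eq_sum_range' (natDegree_trunc_lt _ n'), map_sum]
  have hterm : ∀ i ∈ range (n' + 1),
      coeff m ((trunc (n' + 1) (lamSeries x)).coeff i • (H6_B K) ^ i) =
        LambdaOps.lam i x * coeff m ((H6_B K) ^ i) := by
    intro i hi
    rw [coeff_smul, coeff_trunc, if_pos (Finset.mem_range.mp hi), H6_coeff_lamSeries, smul_eq_mul]
  rw [Finset.sum_congr rfl hterm]
  by_cases hm : m = 0
  · subst hm
    rw [gamma, if_pos rfl, Finset.sum_eq_single 0]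
    · simp [LambdaOps.lam_zero]
    · intro i _ hi
      rw [H6_coeff_B_pow_of_lt K i 0 (by omega), mul_zero]
    · intro h
      exfalso; exact h (Finset.mem_range.mpr (by omega))
  · rw [gamma, if_neg hm]
    have hsub : range (m + 1) ⊆ range (n' + 1) := Finset.range_subset_range.2 (by omega)
    rw [← Finset.sum_subset hsub]
    · refine Finset.sum_congr rfl fun i _ => ?_
      cases i with
      | zero =>
        rw [pow_zero, coeff_one, if_neg hm]
        simp
      | succ j =>
        rw [H6_coeff_B_pow, if_neg (Nat.succ_ne_zero j), Nat.add_sub_cancel]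
        split_ifs with h
        · ring
        · rw [Nat.choose_eq_zero_of_lt (by omega)]
          simp
    · intro i _ hi
      rw [Finset.mem_range] at hi
      rw [H6_coeff_B_pow_of_lt K i m (by omega), mul_zero]

theorem H6_gamma_add (k : ℕ) (x y : K) :
    gamma k (x + y) = ∑ i ∈ range (k + 1), gamma i x * gamma (k - i) y := by
  obtain ⟨p, hp⟩ : ∃ p, p = trunc (k + 1) (lamSeries (x + y)) := ⟨_, rfl⟩
  obtain ⟨q, hq⟩ : ∃ q, q = trunc (k + 1) (lamSeries x) * trunc (k + 1) (lamSeries y) := ⟨_, rfl⟩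
  have hdvd : (Polynomial.X : Polynomial K) ^ (k + 1) ∣ q - p := by
    rw [Polynomial.X_pow_dvd_iff]
    intro d hd
    have h1 : p.coeff d = coeff d (lamSeries x * lamSeries y) := by
      rw [hp, coeff_trunc, if_pos hd, H6_lamSeries_add]
    have h2 : q.coeff d = coeff d (lamSeries x * lamSeries y) := by
      have := congrArg (fun r : Polynomial K => r.coeff d)
        (trunc_trunc_mul_trunc (n := k + 1) (lamSeries x) (lamSeries y))
      simp only [coeff_trunc, if_pos hd] at this
      rw [← this, hq, ← Polynomial.coeff_coe, Polynomial.coe_mul]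
    rw [Polynomial.coeff_sub, h1, h2, sub_self]
  obtain ⟨Q, hQ⟩ := hdvd
  have h0 : coeff k (Polynomial.aeval (H6_B K) (q - p)) = 0 := by
    rw [hQ, map_mul, map_pow, Polynomial.aeval_X, H6_B, mul_pow, mul_assoc, coeff_X_pow_mul',
      if_neg (by omega)]
  rw [map_sub, map_sub, sub_eq_zero] at h0
  rw [← H6_gamma_eq (x + y) k (k + 1) (by omega), ← hp, ← h0, hq, map_mul, coeff_mul,
    Finset.Nat.sum_antidiagonal_eq_sum_range_succ_mk]
  refine Finset.sum_congr rfl fun i hi => ?_
  rw [Finset.mem_range] at hi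
  rw [H6_gamma_eq x i (k + 1) hi, H6_gamma_eq y (k - i) (k + 1) (by omega)]

end Groth.Agent.Lib.helper6
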