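import Mathlib
import Groth.Prelude.Def_LambdaSp
import Groth.Agent.Lib.helper6.LambdaAdamsHom
import Groth.Agent.Lib.helper6.LambdaAdams2

set_option autoImplicit false
set_option linter.style.haveILetI false

universe u

open Finset LambdaRing PowerSeries

namespace Groth.Agent.Lib.helper6

variable {K : Type u} [CommRing K] [LambdaRing.LambdaOps K]

theorem H6_cc_rescale (a : K) (L : PowerSeries K) (hL : constantCoeff L = 1) :
    constantCoeff (rescale a L) = 1 := by
  rw [← coeff_zero_eq_constantCoeff_apply, coeff_rescale, pow_zero, one_mul,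
    coeff_zero_eq_constantCoeff_apply, hL]

theorem H6_derivative_rescale_neg (L : PowerSeries K) :
    PowerSeries.derivative K (rescale (-1 : K) L) =
      -rescale (-1 : K) (PowerSeries.derivative K L) := by
  ext n
  rw [coeff_derivative, coeff_rescale, map_neg, coeff_rescale, coeff_derivative, pow_succ]
  ring

theorem H6_ld_rescale_neg (L : PowerSeries K) (hL : constantCoeff L = 1) :
    H6_ld (rescale (-1 : K) L) = -rescale (-1 : K) (H6_ld L) := by
  have hM := H6_cc_rescale (-1 : K) L hL
  have h1 : (-rescale (-1 : K) (H6_ld L)) * rescale (-1 : K) L =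
      PowerSeries.derivative K (rescale (-1 : K) L) := by
    rw [neg_mul, ← map_mul, H6_ld_mul_self L hL, H6_derivative_rescale_neg]
  rw [H6_ld, ← h1, mul_assoc, mul_invOfUnit _ _ (H6_cc hM), mul_one]

theorem H6_adamsSeries_eq (P : PosStructure K) (x : K) :
    adamsSeries P x = C ((P.aug x : ℤ) : K) + X * rescale (-1 : K) (H6_ld (lamSeries x)) := by
  rw [adamsSeries, mul_assoc]
  change C ((P.aug x : ℤ) : K) - X * H6_ld (rescale (-1 : K) (lamSeries x)) = _
  rw [H6_ld_rescale_neg _ (H6_cc_lamSeries x)]
  ring

theorem H6_adams_zero (P : PosStructure K) (x : K) : adams P 0 x = ((P.aug x : ℤ) : K) := by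
  rw [adams, H6_adamsSeries_eq, map_add, coeff_zero_X_mul, add_zero, coeff_zero_C]

theorem H6_adams_succ (P : PosStructure K) (j : ℕ) (x : K) :
    adams P (j + 1) x = adamsOp (j + 1) x := by
  rw [adams, H6_adamsSeries_eq, map_add, coeff_succ_X_mul, coeff_rescale, coeff_C,
    if_neg (Nat.succ_ne_zero j), zero_add, H6_adamsOp_eq]

theorem H6_adams_add (P : PosStructure K) (j : ℕ) (x y : K) :
    adams P j (x + y) = adams P j x + adams P j y := by
  cases j with
  | zero => simp [H6_adams_zero]
  | succ j => rw [H6_adams_succ, H6_adams_succ, H6_adams_succ, H6_adamsOp_add]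

theorem H6_adams_zero_arg (P : PosStructure K) (j : ℕ) : adams P j (0 : K) = 0 := by
  have := H6_adams_add P j (0 : K) 0
  simpa using this

theorem H6_adams_neg (P : PosStructure K) (j : ℕ) (x : K) : adams P j (-x) = -adams P j x := by
  have := H6_adams_add P j x (-x)
  rw [add_neg_cancel, H6_adams_zero_arg] at this
  exact (neg_eq_of_add_eq_zero_right this.symm).symm

theorem H6_adams_sub (P : PosStructure K) (j : ℕ) (x y : K) :
    adams P j (x - y) = adams P j x - adams P j y := by
  rw [sub_eq_add_neg, H6_adams_add, H6_adams_neg, sub_eq_add_neg]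

theorem H6_adams_multiset_sum (P : PosStructure K) (j : ℕ) (s : Multiset K) :
    adams P j s.sum = (s.map (adams P j)).sum := by
  induction s using Multiset.induction_on with
  | empty => simp [H6_adams_zero_arg]
  | cons a s ih => rw [Multiset.sum_cons, H6_adams_add, ih, Multiset.map_cons, Multiset.sum_cons]

/-- `λ`-series of a line element -/
theorem H6_lamSeries_line (P : PosStructure K) (u : K) (hu : P.IsLine u) :
    lamSeries u = 1 + C u * X := by
  ext n
  rw [H6_coeff_lamSeries]
  match n with
  | 0 => simp [LambdaOps.lam_zero]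
  | 1 => simp [LambdaOps.lam_one]
  | (n + 2) =>
    rw [P.lam_eq_zero u hu.1 (n + 2) (by rw [hu.2]; omega)]
    simp [PowerSeries.coeff_one, PowerSeries.coeff_X]

theorem H6_adams_line (P : PosStructure K) (u : K) (hu : P.IsLine u) (j : ℕ) :
    adams P j u = u ^ j := by
  cases j with
  | zero => rw [H6_adams_zero, hu.2]; simp
  | succ j =>
    rw [H6_adams_succ, H6_adamsOp_eq, H6_lamSeries_line P u hu, H6_ld_linear, ← mul_assoc,
      ← mul_pow]
    simp

theorem H6_isLine_one (P : PosStructure K) : P.IsLine (1 : K) := by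
  refine ⟨?_, map_one _⟩
  have := P.natCast_mem 1 (by norm_num)
  simpa using this

theorem H6_isLine_mul (P : PosStructure K) {u v : K} (hu : P.IsLine u) (hv : P.IsLine v) :
    P.IsLine (u * v) :=
  ⟨P.mul_mem u v hu.1 hv.1, by rw [map_mul, hu.2, hv.2, mul_one]⟩

theorem H6_isLine_pow (P : PosStructure K) {u : K} (hu : P.IsLine u) (n : ℕ) :
    P.IsLine (u ^ n) := by
  induction n with
  | zero => rw [pow_zero]; exact H6_isLine_one P
  | succ n ih => rw [pow_succ]; exact H6_isLine_mul P ih hu

end Groth.Agent.Lib.helper6
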