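import Mathlib
import Groth.Prelude.Def_LambdaSp
import Groth.Agent.Lib.helper6.LambdaPos
import Groth.Agent.Lib.helper6.LambdaUniv

set_option autoImplicit false
set_option linter.style.haveILetI false

universe u

open Finset LambdaRing PowerSeries

namespace Groth.Agent.Lib.helper6

section Ext
variable {K : Type u} [CommRing K] [LambdaRing.LambdaOps K]
variable {K' : Type u} [CommRing K'] [LambdaRing.LambdaOps K']
variable {K'' : Type u} [CommRing K''] [LambdaRing.LambdaOps K'']

theorem H6_isExtension_comp {P : PosStructure K} {P' : PosStructure K'} {P'' : PosStructure K''}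
    {f : K →+* K'} {g : K' →+* K''} (hf : IsExtension P P' f) (hg : IsExtension P' P'' g) :
    IsExtension P P'' (g.comp f) where
  isLambdaHom := by
    intro i x
    rw [RingHom.comp_apply, hf.isLambdaHom, hg.isLambdaHom]; rfl
  injective := hg.injective.comp hf.injective
  aug_comp := by
    intro x
    rw [RingHom.comp_apply, hg.aug_comp, hf.aug_comp]
  pos_subset := by
    intro e he
    exact hg.pos_subset _ (hf.pos_subset e he)

theorem H6_isLine_map {P : PosStructure K} {P' : PosStructure K'} {f : K →+* K'}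
    (hf : IsExtension P P' f) {u : K} (hu : P.IsLine u) : P'.IsLine (f u) :=
  ⟨hf.pos_subset u hu.1, by rw [hf.aug_comp, hu.2]⟩

theorem H6_ext_adams {P : PosStructure K} {P' : PosStructure K'} {f : K →+* K'}
    (hf : IsExtension P P' f) (j : ℕ) (x : K) : f (adams P j x) = adams P' j (f x) := by
  cases j with
  | zero => rw [H6_adams_zero, H6_adams_zero, map_intCast, hf.aug_comp]
  | succ j => rw [H6_adams_succ, H6_adams_succ, H6_map_adamsOp f hf.isLambdaHom]

end Ext

section Split
variable {K : Type u} [CommRing K] [LambdaRing.LambdaOps K]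

theorem H6_split_one {P : PosStructure K} (hK : HasSplitting K P) (e : K) (he : e ∈ P.pos) :
    ∃ (L : PosLambdaRing.{u}) (F : K →+* L.carrier), IsExtension P L.posStr F ∧
      ∃ s : Multiset L.carrier, (∀ u ∈ s, L.posStr.IsLine u) ∧ s.sum = F e := by
  obtain ⟨C, hKC, hC⟩ := hK
  obtain ⟨L1, -, f1, hf1, s1, hs1, hsum1⟩ := hC ⟨K, P⟩ hKC e he
  exact ⟨L1, f1, hf1, s1, hs1, hsum1⟩

theorem H6_split_two {P : PosStructure K} (hK : HasSplitting K P) (e e' : K) (he : e ∈ P.pos)
    (he' : e' ∈ P.pos) :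
    ∃ (L : PosLambdaRing.{u}) (F : K →+* L.carrier), IsExtension P L.posStr F ∧
      ∃ s s' : Multiset L.carrier, (∀ u ∈ s, L.posStr.IsLine u) ∧
        (∀ u ∈ s', L.posStr.IsLine u) ∧ s.sum = F e ∧ s'.sum = F e' := by
  obtain ⟨C, hKC, hC⟩ := hK
  obtain ⟨L1, hL1, f1, hf1, s1, hs1, hsum1⟩ := hC ⟨K, P⟩ hKC e he
  obtain ⟨L2, -, f2, hf2, s2, hs2, hsum2⟩ := hC L1 hL1 (f1 e') (hf1.pos_subset e' he')
  refine ⟨L2, f2.comp f1, H6_isExtension_comp hf1 hf2, s1.map f2, s2, ?_, hs2, ?_, hsum2⟩
  · intro u hu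
    rw [Multiset.mem_map] at hu
    obtain ⟨v, hv, rfl⟩ := hu
    exact H6_isLine_map hf2 (hs1 v hv)
  · rw [← map_multiset_sum, hsum1]; rfl

/-- Adams operations on sums of line elements. -/
theorem H6_adams_lines (P : PosStructure K) (j : ℕ) (s : Multiset K)
    (hs : ∀ u ∈ s, P.IsLine u) : adams P j s.sum = (s.map fun u => u ^ j).sum := by
  rw [H6_adams_multiset_sum]
  congr 1
  exact Multiset.map_congr rfl fun u hu => H6_adams_line P u (hs u hu) j

theorem H6_adams_line_mul_lines (P : PosStructure K) (j : ℕ) (u : K) (hu : P.IsLine u)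
    (s : Multiset K) (hs : ∀ v ∈ s, P.IsLine v) :
    adams P j (u * s.sum) = u ^ j * adams P j s.sum := by
  have e : u * s.sum = (s.map fun v => u * v).sum := by
    rw [Multiset.sum_map_mul_left]; simp
  have hl : ∀ w ∈ s.map fun v => u * v, P.IsLine w := by
    intro w hw
    rw [Multiset.mem_map] at hw
    obtain ⟨v, hv, rfl⟩ := hw
    exact H6_isLine_mul P hu (hs v hv)
  rw [e, H6_adams_lines P j _ hl, H6_adams_lines P j s hs, Multiset.map_map,
    ← Multiset.sum_map_mul_left]
  congr 1
  exact Multiset.map_congr rfl fun v _ => by simp [mul_pow]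

theorem H6_adams_lines_mul_lines (P : PosStructure K) (j : ℕ) (s s' : Multiset K)
    (hs : ∀ u ∈ s, P.IsLine u) (hs' : ∀ v ∈ s', P.IsLine v) :
    adams P j (s.sum * s'.sum) = adams P j s.sum * adams P j s'.sum := by
  induction s using Multiset.induction_on with
  | empty => simp [H6_adams_zero_arg]
  | cons u s ih =>
    have hu := hs u (Multiset.mem_cons_self u s)
    have hs2 : ∀ v ∈ s, P.IsLine v := fun v hv => hs v (Multiset.mem_cons_of_mem hv)
    rw [Multiset.sum_cons, add_mul, H6_adams_add, H6_adams_add, ih hs2,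
      H6_adams_line_mul_lines P j u hu s' hs', H6_adams_line P u hu, add_mul]

theorem H6_adams_mul_pos {P : PosStructure K} (hK : HasSplitting K P) (j : ℕ) (e e' : K)
    (he : e ∈ P.pos) (he' : e' ∈ P.pos) :
    adams P j (e * e') = adams P j e * adams P j e' := by
  obtain ⟨L, F, hF, s, s', hs, hs', hsum, hsum'⟩ := H6_split_two hK e e' he he'
  apply hF.injective
  rw [H6_ext_adams hF, map_mul, map_mul, H6_ext_adams hF, H6_ext_adams hF, ← hsum, ← hsum',
    H6_adams_lines_mul_lines _ j s s' hs hs']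

theorem H6_adams_mul {P : PosStructure K} (hK : HasSplitting K P) (j : ℕ) (a b : K) :
    adams P j (a * b) = adams P j a * adams P j b := by
  obtain ⟨e1, e2, he1, he2, rfl⟩ := P.exists_sub a
  obtain ⟨e3, e4, he3, he4, rfl⟩ := P.exists_sub b
  have e : (e1 - e2) * (e3 - e4) = e1 * e3 - e1 * e4 - e2 * e3 + e2 * e4 := by ring
  rw [e, H6_adams_add, H6_adams_sub, H6_adams_sub, H6_adams_sub, H6_adams_sub,
    H6_adams_mul_pos hK j _ _ he1 he3, H6_adams_mul_pos hK j _ _ he1 he4,
    H6_adams_mul_pos hK j _ _ he2 he3, H6_adams_mul_pos hK j _ _ he2 he4]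
  ring

theorem H6_adams_adams {P : PosStructure K} (hK : HasSplitting K P) (i j : ℕ) (x : K) :
    adams P i (adams P j x) = adams P (i * j) x := by
  have hpos : ∀ e ∈ P.pos, adams P i (adams P j e) = adams P (i * j) e := by
    intro e he
    obtain ⟨L, F, hF, s, hs, hsum⟩ := H6_split_one hK e he
    apply hF.injective
    rw [H6_ext_adams hF, H6_ext_adams hF, H6_ext_adams hF, ← hsum, H6_adams_lines _ j s hs,
      H6_adams_lines _ i _ ?_, H6_adams_lines _ (i * j) s hs, Multiset.map_map]
    · congr 1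
      exact Multiset.map_congr rfl fun v _ => by simp [pow_mul, mul_comm i j]
    · intro w hw
      rw [Multiset.mem_map] at hw
      obtain ⟨v, hv, rfl⟩ := hw
      exact H6_isLine_pow _ (hs v hv) j
  obtain ⟨e1, e2, he1, he2, rfl⟩ := P.exists_sub x
  rw [H6_adams_sub, H6_adams_sub, H6_adams_sub, hpos e1 he1, hpos e2 he2]

end Split

end Groth.Agent.Lib.helper6
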