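import Mathlib
import Groth.Prelude.Def_LambdaSp
import Groth.Agent.Lib.helper6.LambdaPos2

set_option autoImplicit false
set_option linter.style.haveILetI false

universe u

open Finset LambdaRing PowerSeries

namespace Groth.Agent.Lib.helper6

theorem H6_esymm_replicate_one (R : Type*) [CommRing R] (n i : ℕ) :
    (Multiset.replicate n (1 : R)).esymm i = (n.choose i : R) := by
  have h := H6_coeff_prod_linear (Multiset.replicate n (1 : R)) i
  rw [Multiset.map_replicate, Multiset.prod_replicate] at h
  rw [← h]
  have e : (1 + C (1 : R) * X : PowerSeries R) ^ n =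
      (((1 + Polynomial.X : Polynomial R) ^ n : Polynomial R) : PowerSeries R) := by
    simp
  rw [e, Polynomial.coeff_coe, Polynomial.coeff_one_add_X_pow]

variable {K : Type u} [CommRing K] [LambdaRing.LambdaOps K]

theorem H6_lamSeries_zero : lamSeries (0 : K) = 1 := by
  have h := H6_lamSeries_add (0 : K) 0
  rw [add_zero] at h
  have hc := H6_cc (H6_cc_lamSeries (0 : K))
  have h2 := congrArg (· * (lamSeries (0 : K)).invOfUnit 1) h
  simp only [mul_assoc, mul_invOfUnit _ _ hc, mul_one] at h2
  exact h2.symm

theorem H6_lamSeries_multiset_sum (s : Multiset K) :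
    lamSeries s.sum = (s.map lamSeries).prod := by
  induction s using Multiset.induction_on with
  | empty => simp [H6_lamSeries_zero]
  | cons a s ih =>
    rw [Multiset.sum_cons, H6_lamSeries_add, ih, Multiset.map_cons, Multiset.prod_cons]

theorem H6_lam_lines (P : PosStructure K) (s : Multiset K) (hs : ∀ u ∈ s, P.IsLine u) (i : ℕ) :
    LambdaOps.lam i s.sum = s.esymm i := by
  rw [← H6_coeff_lamSeries, H6_lamSeries_multiset_sum, ← H6_coeff_prod_linear]
  congr 2
  exact Multiset.map_congr rfl fun u hu => H6_lamSeries_line P u (hs u hu)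

theorem H6_aug_lam_pos {P : PosStructure K} (hK : HasSplitting K P) (e : K) (he : e ∈ P.pos)
    (i : ℕ) : P.aug (LambdaOps.lam i e) = ((P.aug e).toNat.choose i : ℤ) := by
  obtain ⟨L, F, hF, s, hs, hsum⟩ := H6_split_one hK e he
  have hmap : s.map L.posStr.aug = Multiset.replicate (Multiset.card s) (1 : ℤ) := by
    rw [Multiset.eq_replicate]
    refine ⟨by simp, ?_⟩
    intro b hb
    rw [Multiset.mem_map] at hb
    obtain ⟨u, hu, rfl⟩ := hb
    exact (hs u hu).2
  have haug : P.aug e = (Multiset.card s : ℤ) := by
    rw [← hF.aug_comp, ← hsum, map_multiset_sum, hmap, Multiset.sum_replicate]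
    simp
  rw [← hF.aug_comp, hF.isLambdaHom, ← hsum, H6_lam_lines _ s hs, H6_map_multiset_esymm, hmap,
    H6_esymm_replicate_one, haug]
  simp

end Groth.Agent.Lib.helper6
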