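import Mathlib
import Groth.Prelude.Def_LambdaSp
import Groth.Agent.Lib.helper6.LambdaGamma
import Groth.Agent.Lib.helper6.LambdaPos3

set_option autoImplicit false
set_option linter.style.haveILetI false

universe u

open Finset LambdaRing PowerSeries

namespace Groth.Agent.Lib.helper6

variable {K : Type u} [CommRing K] [LambdaRing.LambdaOps K]

/-- the γ-series -/
noncomputable def H6_Gam (z : K) : PowerSeries K := PowerSeries.mk fun k => gamma k z

theorem H6_coeff_Gam (z : K) (k : ℕ) : coeff k (H6_Gam z) = gamma k z := by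
  rw [H6_Gam, coeff_mk]

theorem H6_gamma_zero (z : K) : gamma 0 z = 1 := by
  rw [gamma, if_pos rfl]

theorem H6_cc_Gam (z : K) : constantCoeff (H6_Gam z) = 1 := by
  rw [← coeff_zero_eq_constantCoeff_apply, H6_coeff_Gam, H6_gamma_zero]

theorem H6_Gam_add (x y : K) : H6_Gam (x + y) = H6_Gam x * H6_Gam y := by
  ext k
  rw [H6_coeff_Gam, H6_gamma_add, coeff_mul, Finset.Nat.sum_antidiagonal_eq_sum_range_succ_mk]
  simp [H6_coeff_Gam]

theorem H6_Gam_zero : H6_Gam (0 : K) = 1 := by
  have h := H6_Gam_add (0 : K) 0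
  rw [add_zero] at h
  have hc := H6_cc (H6_cc_Gam (0 : K))
  have h2 := congrArg (· * (H6_Gam (0 : K)).invOfUnit 1) h
  simp only [mul_assoc, mul_invOfUnit _ _ hc, mul_one] at h2
  exact h2.symm

theorem H6_B_mul : H6_B K * (1 - X) = X := by
  have h : (mk 1 : PowerSeries K) * (1 - X) = 1 := by
    have := PowerSeries.mk_one_mul_one_sub_eq_one K
    exact this
  rw [H6_B, mul_assoc, h, mul_one]

/-- the γ-series when the λ-series is a polynomial of degree `≤ m`. -/
theorem H6_Gam_of_lam_eq_zero (z : K) (m : ℕ) (hz : ∀ i, m < i → LambdaOps.lam i z = 0) :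
    H6_Gam z = ∑ i ∈ range (m + 1), C (LambdaOps.lam i z) * (H6_B K) ^ i := by
  have hsum : Polynomial.aeval (H6_B K) (trunc (m + 1) (lamSeries z)) =
      ∑ i ∈ range (m + 1), C (LambdaOps.lam i z) * (H6_B K) ^ i := by
    rw [Polynomial.aeval_eq_sum_range' (natDegree_trunc_lt _ m)]
    refine Finset.sum_congr rfl fun i hi => ?_
    rw [coeff_trunc, if_pos (Finset.mem_range.mp hi), H6_coeff_lamSeries, PowerSeries.smul_eq_C_mul]
  rw [← hsum]
  ext k
  rw [H6_coeff_Gam]
  by_cases hk : k < m + 1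
  · rw [H6_gamma_eq z k (m + 1) hk]
  · have ht : trunc (k + 1) (lamSeries z) = trunc (m + 1) (lamSeries z) := by
      ext i
      rw [coeff_trunc, coeff_trunc]
      by_cases h1 : i < m + 1
      · rw [if_pos h1, if_pos (by omega)]
      · rw [if_neg h1]
        split_ifs
        · rw [H6_coeff_lamSeries, hz i (by omega)]
        · rfl
    rw [← ht, H6_gamma_eq z k (k + 1) (by omega)]

theorem H6_Gam_line (P : PosStructure K) (u : K) (hu : P.IsLine u) :
    H6_Gam u = 1 + C u * H6_B K := by
  rw [H6_Gam_of_lam_eq_zero u 1 (fun i hi => P.lam_eq_zero u hu.1 i (by rw [hu.2]; omega))]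
  simp [Finset.sum_range_succ, LambdaOps.lam_zero, LambdaOps.lam_one]

theorem H6_Gam_one (P : PosStructure K) : H6_Gam (1 : K) = (mk 1 : PowerSeries K) := by
  rw [H6_Gam_line P 1 (H6_isLine_one P), H6_B]
  ext n
  cases n with
  | zero => simp
  | succ n => simp [coeff_succ_X_mul]

theorem H6_Gam_neg_one (P : PosStructure K) : H6_Gam (-1 : K) = 1 - X := by
  have h1 : H6_Gam (-1 : K) * H6_Gam (1 : K) = 1 := by
    rw [← H6_Gam_add, neg_add_cancel, H6_Gam_zero]
  have h2 : (mk 1 : PowerSeries K) * (1 - X) = 1 := PowerSeries.mk_one_mul_one_sub_eq_one K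
  rw [H6_Gam_one P] at h1
  calc H6_Gam (-1 : K) = H6_Gam (-1 : K) * ((mk 1 : PowerSeries K) * (1 - X)) := by
        rw [h2, mul_one]
    _ = (H6_Gam (-1 : K) * (mk 1 : PowerSeries K)) * (1 - X) := by ring
    _ = 1 - X := by rw [h1, one_mul]

theorem H6_Gam_neg_natCast (P : PosStructure K) (m : ℕ) :
    H6_Gam (-(m : K)) = (1 - X) ^ m := by
  induction m with
  | zero => simp [H6_Gam_zero]
  | succ m ih =>
    have : (-((m + 1 : ℕ) : K)) = -(m : K) + (-1) := by push_cast; ring
    rw [this, H6_Gam_add, ih, H6_Gam_neg_one P, pow_succ]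

theorem H6_Gam_line_sub_one (P : PosStructure K) (u : K) (hu : P.IsLine u) :
    H6_Gam (u - 1) = 1 + C (u - 1) * X := by
  rw [sub_eq_add_neg, H6_Gam_add, H6_Gam_line P u hu, H6_Gam_neg_one P]
  have := H6_B_mul (K := K)
  rw [map_add, map_neg, map_one]
  linear_combination (C u) * this

theorem H6_Gam_lines (P : PosStructure K) (s : Multiset K) (hs : ∀ u ∈ s, P.IsLine u) :
    H6_Gam (s.sum - (Multiset.card s : K)) =
      ((s.map fun u => u - 1).map fun v => (1 + C v * X : PowerSeries K)).prod := by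
  induction s using Multiset.induction_on with
  | empty => simp [H6_Gam_zero]
  | cons a s ih =>
    have ha := hs a (Multiset.mem_cons_self a s)
    have hs2 : ∀ v ∈ s, P.IsLine v := fun v hv => hs v (Multiset.mem_cons_of_mem hv)
    have e : (a ::ₘ s).sum - (Multiset.card (a ::ₘ s) : K) =
        (a - 1) + (s.sum - (Multiset.card s : K)) := by
      rw [Multiset.sum_cons, Multiset.card_cons]; push_cast; ring
    rw [e, H6_Gam_add, ih hs2, H6_Gam_line_sub_one P a ha]
    simp

theorem H6_gamma_lines (P : PosStructure K) (s : Multiset K) (hs : ∀ u ∈ s, P.IsLine u) (k : ℕ) :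
    gamma k (s.sum - (Multiset.card s : K)) = (s.map fun u => u - 1).esymm k := by
  rw [← H6_coeff_Gam, H6_Gam_lines P s hs, H6_coeff_prod_linear]

end Groth.Agent.Lib.helper6
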