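import Mathlib
import Groth.Prelude.Def_LambdaSp
import Groth.Agent.Lib.helper6.LambdaGamma2

set_option autoImplicit false
set_option linter.style.haveILetI false

universe u

open Finset LambdaRing

namespace Groth.Agent.Lib.helper6

section Poly
variable {R : Type*} [CommRing R]

open Polynomial in
theorem H6_sum_coeff_eq_reflect (m : ℕ) (f : R[X]) (hf : f.natDegree ≤ m) :
    ∑ i ∈ range (m + 1), C (f.coeff i) * X ^ (m - i) = reflect m f := by
  ext j
  rw [finset_sum_coeff, coeff_reflect]
  simp only [coeff_C_mul, coeff_X_pow]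
  by_cases hj : j ≤ m
  · rw [revAt_le hj, Finset.sum_eq_single (m - j)]
    · rw [if_pos (by omega), mul_one]
    · intro i hi hne
      rw [Finset.mem_range] at hi
      rw [if_neg (by omega), mul_zero]
    · intro h
      exfalso; exact h (Finset.mem_range.mpr (by omega))
  · rw [revAt_eq_self_of_lt (by omega), coeff_eq_zero_of_natDegree_lt (by omega)]
    apply Finset.sum_eq_zero
    intro i hi
    rw [if_neg (by omega), mul_zero]

open Polynomial in
theorem H6_reflect_sum {ι : Type*} (s : Finset ι) (f : ι → R[X]) (N : ℕ) :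
    reflect N (∑ i ∈ s, f i) = ∑ i ∈ s, reflect N (f i) := by
  classical
  induction s using Finset.induction_on with
  | empty => simp
  | insert a s ha ih => rw [Finset.sum_insert ha, Finset.sum_insert ha, reflect_add, ih]

open Polynomial in
theorem H6_natDegree_one_sub_X : (1 - X : R[X]).natDegree ≤ 1 := by
  refine (natDegree_sub_le _ _).trans ?_
  rw [natDegree_one]
  exact max_le (Nat.zero_le _) natDegree_X_le

open Polynomial in
theorem H6_natDegree_one_sub_X_pow_le (n : ℕ) : ((1 - X : R[X]) ^ n).natDegree ≤ n := by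
  refine (natDegree_pow_le).trans ?_
  have : (1 - X : R[X]).natDegree ≤ 1 := H6_natDegree_one_sub_X
  calc n * (1 - X : R[X]).natDegree ≤ n * 1 := Nat.mul_le_mul_left _ this
    _ = n := mul_one n

open Polynomial in
theorem H6_reflect_one_sub_X_pow (n : ℕ) : reflect n ((1 - X : R[X]) ^ n) = (X - 1) ^ n := by
  induction n with
  | zero => simp [reflect_one]
  | succ n ih =>
    have h1 : (1 - X : R[X]).natDegree ≤ 1 := H6_natDegree_one_sub_X
    rw [pow_succ, reflect_mul _ _ (H6_natDegree_one_sub_X_pow_le n) h1, ih, reflect_sub,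
      reflect_one, reflect_one_X]
    ring

open Polynomial in
theorem H6_reflect_term (m i : ℕ) (hi : i ≤ m) (a : R) :
    reflect m (C a * X ^ i * (1 - X) ^ (m - i)) = C a * (X - 1) ^ (m - i) := by
  rw [mul_assoc, reflect_C_mul]
  congr 1
  have h := reflect_mul (X ^ i : R[X]) ((1 - X) ^ (m - i)) (natDegree_X_pow_le i)
    (H6_natDegree_one_sub_X_pow_le (m - i))
  rw [Nat.add_sub_cancel' hi] at h
  rw [h, reflect_monomial, revAt_le le_rfl, Nat.sub_self, pow_zero, one_mul,
    H6_reflect_one_sub_X_pow]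

open Polynomial in
theorem H6_natDegree_term_le (m i : ℕ) (hi : i ≤ m) (a : R) :
    (C a * X ^ i * (1 - X) ^ (m - i)).natDegree ≤ m := by
  refine natDegree_mul_le.trans ?_
  have h1 : (C a * X ^ i : R[X]).natDegree ≤ i := natDegree_C_mul_X_pow_le a i
  have h2 := H6_natDegree_one_sub_X_pow_le (R := R) (m - i)
  omega

end Poly

variable {K : Type u} [CommRing K] [LambdaRing.LambdaOps K]

open Polynomial in
theorem H6_gamma_poly_identity (P : PosStructure K) (e : K) (he : e ∈ P.pos) :
    (∑ i ∈ range ((P.aug e).toNat + 1),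
        Polynomial.C (gamma i (e - ((P.aug e).toNat : K))) * Polynomial.X ^ ((P.aug e).toNat - i)) =
      ∑ i ∈ range ((P.aug e).toNat + 1),
        Polynomial.C (LambdaOps.lam i e) * (Polynomial.X - 1) ^ ((P.aug e).toNat - i) := by
  obtain ⟨m, hm⟩ : ∃ m, m = (P.aug e).toNat := ⟨_, rfl⟩
  rw [← hm]
  have hpos := P.aug_pos e he
  have hz : ∀ i, m < i → LambdaOps.lam i e = 0 := by
    intro i hi
    apply P.lam_eq_zero e he
    omega
  obtain ⟨Rp, hRp⟩ : ∃ Rp : K[X], Rp = ∑ i ∈ range (m + 1),
      C (LambdaOps.lam i e) * X ^ i * (1 - X) ^ (m - i) := ⟨_, rfl⟩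
  have hG : H6_Gam (e - (m : K)) = (Rp : PowerSeries K) := by
    rw [sub_eq_add_neg, H6_Gam_add, H6_Gam_neg_natCast P, H6_Gam_of_lam_eq_zero e m hz, hRp,
      Finset.sum_mul, ← Polynomial.coeToPowerSeries.ringHom_apply, map_sum]
    refine Finset.sum_congr rfl fun i hi => ?_
    rw [Polynomial.coeToPowerSeries.ringHom_apply]
    rw [Finset.mem_range] at hi
    have hmi : m = i + (m - i) := by omega
    have hB := H6_B_mul (K := K)
    conv_lhs => rw [hmi, pow_add]
    have e1 : PowerSeries.C (LambdaOps.lam i e) * H6_B K ^ i *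
        ((1 - PowerSeries.X) ^ i * (1 - PowerSeries.X) ^ (m - i)) =
        PowerSeries.C (LambdaOps.lam i e) * (H6_B K * (1 - PowerSeries.X)) ^ i *
          (1 - PowerSeries.X) ^ (m - i) := by
      rw [mul_pow]; ring
    rw [e1, hB]
    simp
  have hcoeff : ∀ k, gamma k (e - (m : K)) = Rp.coeff k := by
    intro k
    rw [← H6_coeff_Gam, hG, Polynomial.coeff_coe]
  have hdeg : Rp.natDegree ≤ m := by
    rw [hRp]
    apply natDegree_sum_le_of_forall_le
    intro i hi
    exact H6_natDegree_term_le m i (by rw [Finset.mem_range] at hi; omega) _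
  have h1 : ∑ i ∈ range (m + 1), C (gamma i (e - (m : K))) * X ^ (m - i) = reflect m Rp := by
    rw [← H6_sum_coeff_eq_reflect m Rp hdeg]
    refine Finset.sum_congr rfl fun i _ => ?_
    rw [hcoeff]
  rw [h1, hRp, H6_reflect_sum]
  refine Finset.sum_congr rfl fun i hi => ?_
  exact H6_reflect_term m i (by rw [Finset.mem_range] at hi; omega) _

end Groth.Agent.Lib.helper6
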