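import Mathlib
import Groth.Prelude.Def_LambdaSp

set_option autoImplicit false
set_option linter.style.haveILetI false

universe u

open Finset LambdaRing

namespace Groth.Agent.Lib.helper6

variable {K : Type u} [CommRing K] [LambdaRing.LambdaOps K]

theorem H6_gamma_one (x : K) : gamma 1 x = x := by
  rw [gamma, if_neg one_ne_zero]
  simp [Finset.sum_range_succ, LambdaOps.lam_one]

/-- the generating set of the γ-filtration -/
def H6_gens (P : PosStructure K) (n : ℕ) : Set K :=
  {y | ∃ (l : List (ℕ × K)), (∀ p ∈ l, P.aug p.2 = 0) ∧ n ≤ (l.map Prod.fst).sum ∧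
    y = (l.map fun p => gamma p.1 p.2).prod}

theorem H6_gammaFiltration_succ (P : PosStructure K) (n : ℕ) :
    gammaFiltration P (n + 1) = AddSubgroup.closure (H6_gens P (n + 1)) := by
  rw [gammaFiltration, if_neg (Nat.succ_ne_zero n)]
  rfl

theorem H6_gammaFiltration_zero (P : PosStructure K) : gammaFiltration P 0 = ⊤ := by
  rw [gammaFiltration, if_pos rfl]

theorem H6_mul_gen_mem (P : PosStructure K) (n : ℕ) (a y : K) (hy : y ∈ H6_gens P (n + 1)) :
    a * y ∈ gammaFiltration P (n + 1) := by
  rw [H6_gammaFiltration_succ]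
  have e : a * y = (P.aug a : ℤ) • y + (a - ((P.aug a : ℤ) : K)) * y := by
    rw [zsmul_eq_mul]; ring
  rw [e]
  apply AddSubgroup.add_mem
  · exact AddSubgroup.zsmul_mem _ (AddSubgroup.subset_closure hy) _
  · apply AddSubgroup.subset_closure
    obtain ⟨l, hl1, hl2, rfl⟩ := hy
    refine ⟨(1, a - ((P.aug a : ℤ) : K)) :: l, ?_, ?_, ?_⟩
    · intro p hp
      rw [List.mem_cons] at hp
      rcases hp with rfl | hp
      · simp
      · exact hl1 p hp
    · simp only [List.map_cons, List.sum_cons]
      omega
    · simp only [List.map_cons, List.prod_cons, H6_gamma_one]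

theorem H6_mul_mem_gammaFiltration (P : PosStructure K) (n : ℕ) (a x : K)
    (hx : x ∈ gammaFiltration P n) : a * x ∈ gammaFiltration P n := by
  cases n with
  | zero => rw [H6_gammaFiltration_zero]; trivial
  | succ n =>
    rw [H6_gammaFiltration_succ] at hx
    induction hx using AddSubgroup.closure_induction with
    | mem y hy => exact H6_mul_gen_mem P n a y hy
    | zero => rw [mul_zero]; exact AddSubgroup.zero_mem _
    | add y z _ _ hy hz => rw [mul_add]; exact AddSubgroup.add_mem _ hy hz
    | neg y _ hy => rw [mul_neg]; exact AddSubgroup.neg_mem _ hy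

theorem H6_gen_mul_gen (P : PosStructure K) (m n : ℕ) (x y : K) (hx : x ∈ H6_gens P m)
    (hy : y ∈ H6_gens P n) : x * y ∈ H6_gens P (m + n) := by
  obtain ⟨l, hl1, hl2, rfl⟩ := hx
  obtain ⟨l', hl1', hl2', rfl⟩ := hy
  refine ⟨l ++ l', ?_, ?_, ?_⟩
  · intro p hp
    rw [List.mem_append] at hp
    rcases hp with hp | hp
    · exact hl1 p hp
    · exact hl1' p hp
  · rw [List.map_append, List.sum_append]
    omega
  · rw [List.map_append, List.prod_append]

theorem H6_gammaFiltration_mul (P : PosStructure K) (m n : ℕ) (x y : K)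
    (hx : x ∈ gammaFiltration P m) (hy : y ∈ gammaFiltration P n) :
    x * y ∈ gammaFiltration P (m + n) := by
  cases m with
  | zero =>
    rw [zero_add]
    exact H6_mul_mem_gammaFiltration P n x y hy
  | succ m =>
    cases n with
    | zero =>
      rw [add_zero, mul_comm]
      exact H6_mul_mem_gammaFiltration P (m + 1) y x hx
    | succ n =>
      have hmn : m + 1 + (n + 1) = (m + n + 1) + 1 := by omega
      rw [H6_gammaFiltration_succ] at hx hy
      rw [hmn, H6_gammaFiltration_succ, ← hmn]
      induction hy using AddSubgroup.closure_induction with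
      | mem y hy =>
        induction hx using AddSubgroup.closure_induction with
        | mem x hx =>
          exact AddSubgroup.subset_closure (H6_gen_mul_gen P _ _ x y hx hy)
        | zero => rw [zero_mul]; exact AddSubgroup.zero_mem _
        | add a b _ _ ha hb => rw [add_mul]; exact AddSubgroup.add_mem _ ha hb
        | neg a _ ha => rw [neg_mul]; exact AddSubgroup.neg_mem _ ha
      | zero => rw [mul_zero]; exact AddSubgroup.zero_mem _
      | add a b _ _ ha hb => rw [mul_add]; exact AddSubgroup.add_mem _ ha hb
      | neg a _ ha => rw [mul_neg]; exact AddSubgroup.neg_mem _ ha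

end Groth.Agent.Lib.helper6
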