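import Mathlib
import Groth.Prelude.Def_LambdaSp
import Groth.Prelude.Def_W4bkmilneecrracsp2Inv
import Groth.Agent.Lib.helper6.LambdaGamma3
import Groth.Agent.Lib.helper6.LambdaGammaFil

set_option autoImplicit false
set_option linter.style.haveILetI false

universe u

open Finset LambdaRing

namespace Groth.Agent.Lib.helper6

section Multiset
variable {R : Type*} [CommRing R]

open Polynomial in
theorem H6_polyCoeff_prod_linear (t : Multiset R) (k : ℕ) :
    ((t.map fun v => (1 + C v * X : R[X])).prod).coeff k = t.esymm k := by
  rw [← Polynomial.coeff_coe, ← Polynomial.coeToPowerSeries.ringHom_apply, map_multiset_prod,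
    Multiset.map_map, ← H6_coeff_prod_linear]
  congr 2
  refine Multiset.map_congr rfl fun v _ => ?_
  simp

open Polynomial in
theorem H6_prod_X_add_C_eq (s : Multiset R) (ι : R → R) (hι : ∀ u ∈ s, ι u * u = 1) :
    (s.map fun u => (X + C u : R[X])).prod =
      C s.prod * ((s.map ι).map fun v => (1 + C v * X : R[X])).prod := by
  induction s using Multiset.induction_on with
  | empty => simp
  | cons a s ih =>
    have ha := hι a (Multiset.mem_cons_self a s)
    have hs : ∀ u ∈ s, ι u * u = 1 := fun u hu => hι u (Multiset.mem_cons_of_mem hu)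
    rw [Multiset.map_cons, Multiset.prod_cons, ih hs, Multiset.map_cons, Multiset.map_cons,
      Multiset.prod_cons, Multiset.prod_cons, map_mul]
    have e : (C a : R[X]) * (1 + C (ι a) * X) = X + C a := by
      have : (C a : R[X]) * C (ι a) = 1 := by rw [← map_mul, mul_comm, ha, map_one]
      linear_combination (X : R[X]) * this
    rw [← e]
    ring

theorem H6_esymm_inv (s : Multiset R) (ι : R → R) (hι : ∀ u ∈ s, ι u * u = 1) (i : ℕ)
    (hi : i ≤ Multiset.card s) :
    s.esymm i = (s.map ι).esymm (Multiset.card s - i) * s.prod := by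
  have h := Multiset.prod_X_add_C_coeff s (k := Multiset.card s - i) (by omega)
  rw [H6_prod_X_add_C_eq s ι hι, Polynomial.coeff_C_mul, H6_polyCoeff_prod_linear] at h
  have : Multiset.card s - (Multiset.card s - i) = i := by omega
  rw [this] at h
  rw [← h, mul_comm]

theorem H6_esymm_card (s : Multiset R) : s.esymm (Multiset.card s) = s.prod := by
  have h := Multiset.prod_X_add_C_coeff s (k := 0) (Nat.zero_le _)
  rw [Nat.sub_zero] at h
  rw [← h, Polynomial.coeff_zero_eq_eval_zero, Polynomial.eval_multiset_prod, Multiset.map_map]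
  have : Multiset.map (Polynomial.eval 0 ∘ fun r => Polynomial.X + Polynomial.C r) s = s := by
    conv_rhs => rw [← Multiset.map_id s]
    exact Multiset.map_congr rfl fun u _ => by simp
  rw [this]

theorem H6_sum_neg_one_pow_esymm (t : Multiset R) :
    ∑ i ∈ range (Multiset.card t + 1), (-1 : R) ^ i * t.esymm i = (t.map fun v => 1 - v).prod := by
  have h := congrArg (Polynomial.eval 1) (Multiset.prod_X_add_C_eq_sum_esymm (t.map Neg.neg))
  rw [Polynomial.eval_multiset_prod, Multiset.map_map, Multiset.map_map, Multiset.card_map,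
    Polynomial.eval_finsetSum] at h
  have h2 : (t.map fun v => 1 - v).prod =
      (Multiset.map ((Polynomial.eval 1 ∘ fun r => Polynomial.X + Polynomial.C r) ∘ Neg.neg)
        t).prod := by
    congr 1
    refine Multiset.map_congr rfl fun v _ => ?_
    simp [sub_eq_add_neg]
  rw [h2, h]
  refine Finset.sum_congr rfl fun i _ => ?_
  rw [Multiset.esymm_neg]
  simp

end Multiset

section Inv
variable {K : Type u} [CommRing K] [LambdaRing.LambdaOps K]
variable {K' : Type u} [CommRing K'] [LambdaRing.LambdaOps K']

theorem H6_map_gamma (f : K →+* K') (hf : IsLambdaHom f) (k : ℕ) (x : K) :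
    f (gamma k x) = gamma k (f x) := by
  rw [gamma, gamma]
  split_ifs with h
  · rw [map_one]
  · rw [map_sum]
    refine Finset.sum_congr rfl fun j _ => ?_
    rw [map_mul, map_natCast]
    split_ifs
    · rw [map_zero]
    · rw [hf]

theorem H6_inv_zero {P : PosStructure K} {inv : K → K} (hV : IsInvolution P inv) : inv 0 = 0 := by
  have := hV.map_add 0 0
  rw [add_zero] at this
  exact left_eq_add.mp this

theorem H6_inv_multiset_sum {P : PosStructure K} {inv : K → K} (hV : IsInvolution P inv)
    (s : Multiset K) : inv s.sum = (s.map inv).sum := by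
  induction s using Multiset.induction_on with
  | empty => simp [H6_inv_zero hV]
  | cons a s ih => rw [Multiset.sum_cons, hV.map_add, ih, Multiset.map_cons, Multiset.sum_cons]

theorem H6_card_of_lines (P : PosStructure K) (s : Multiset K) (hs : ∀ u ∈ s, P.IsLine u) :
    P.aug s.sum = (Multiset.card s : ℤ) := by
  have hmap : s.map P.aug = Multiset.replicate (Multiset.card s) (1 : ℤ) := by
    rw [Multiset.eq_replicate]
    refine ⟨by simp, ?_⟩
    intro b hb
    rw [Multiset.mem_map] at hb
    obtain ⟨u, hu, rfl⟩ := hb
    exact (hs u hu).2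
  rw [map_multiset_sum, hmap, Multiset.sum_replicate]
  simp

end Inv

end Groth.Agent.Lib.helper6
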