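import Mathlib
import Groth.Prelude.Def_LambdaSp
import Groth.Agent.Lib.helper6.LambdaGamma2
import Groth.Agent.Lib.helper6.LambdaGammaFil

set_option autoImplicit false
set_option linter.style.haveILetI false

universe u v

open Finset LambdaRing

namespace Groth.Agent.Lib.helper6

section
variable {K : Type u} [CommRing K] {A : Type v} [CommRing A] [LambdaRing.LambdaOps A] [Algebra K A]

/-- the monomial generators attached to `S` -/
def H6_T (ε : A →ₐ[K] K) (S : Set A) (n : ℕ) : Set A :=
  {y : A | ∃ l : List (ℕ × A), (∀ p ∈ l, p.2 ∈ S) ∧ n ≤ (l.map Prod.fst).sum ∧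
    y = (l.map fun p => gamma p.1 (p.2 - algebraMap K A (ε p.2))).prod}

def H6_M (ε : A →ₐ[K] K) (S : Set A) (n : ℕ) : Submodule K A := Submodule.span K (H6_T ε S n)

theorem H6_gamma_zero_arg (i : ℕ) : gamma (i + 1) (0 : A) = 0 := by
  rw [← H6_coeff_Gam, H6_Gam_zero, PowerSeries.coeff_one, if_neg (Nat.succ_ne_zero i)]

theorem H6_M_mono (ε : A →ₐ[K] K) (S : Set A) {a b : ℕ} (h : b ≤ a) :
    H6_M ε S a ≤ H6_M ε S b := by
  apply Submodule.span_mono
  rintro y ⟨l, h1, h2, rfl⟩
  exact ⟨l, h1, by omega, rfl⟩

theorem H6_M_mul (ε : A →ₐ[K] K) (S : Set A) {a b : ℕ} {x y : A} (hx : x ∈ H6_M ε S a)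
    (hy : y ∈ H6_M ε S b) : x * y ∈ H6_M ε S (a + b) := by
  have h := Submodule.mul_mem_mul hx hy
  rw [H6_M, H6_M, Submodule.span_mul_span] at h
  refine (Submodule.span_le.2 ?_) h
  rintro z ⟨x', ⟨l, h1, h2, rfl⟩, y', ⟨l', h1', h2', rfl⟩, rfl⟩
  apply Submodule.subset_span
  refine ⟨l ++ l', ?_, ?_, ?_⟩
  · intro p hp
    rw [List.mem_append] at hp
    rcases hp with hp | hp
    · exact h1 p hp
    · exact h1' p hp
  · rw [List.map_append, List.sum_append]; omega
  · simp only [List.map_append, List.prod_append]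

theorem H6_one_mem_M (ε : A →ₐ[K] K) (S : Set A) : (1 : A) ∈ H6_M ε S 0 :=
  Submodule.subset_span ⟨[], by simp, by simp, by simp⟩

/-- all `γ^i(x)` lie in `M_i` for `x` in the closure of the `s - ε(s)`. -/
theorem H6_gamma_mem_M (ε : A →ₐ[K] K) (S : Set A) (x : A)
    (hx : x ∈ AddSubgroup.closure ((fun s => s - algebraMap K A (ε s)) '' S)) :
    ∀ i, gamma i x ∈ H6_M ε S i := by
  induction hx using AddSubgroup.closure_induction with
  | mem y hy =>
    obtain ⟨s, hs, rfl⟩ := hy
    intro i
    apply Submodule.subset_span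
    exact ⟨[(i, s)], by simpa using hs, by simp, by simp⟩
  | zero =>
    intro i
    cases i with
    | zero => rw [H6_gamma_zero]; exact H6_one_mem_M ε S
    | succ i => rw [H6_gamma_zero_arg]; exact Submodule.zero_mem _
  | add a b _ _ ha hb =>
    intro i
    rw [H6_gamma_add]
    apply Submodule.sum_mem
    intro k hk
    rw [Finset.mem_range] at hk
    have := H6_M_mul ε S (ha k) (hb (i - k))
    rwa [Nat.add_sub_cancel' (by omega)] at this
  | neg a _ ha =>
    intro i
    induction i using Nat.strong_induction_on with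
    | _ i ih =>
      cases i with
      | zero => rw [H6_gamma_zero]; exact H6_one_mem_M ε S
      | succ i =>
        have h := H6_gamma_add (i + 1) (-a) a
        rw [neg_add_cancel, H6_gamma_zero_arg, Finset.sum_range_succ, Nat.sub_self,
          H6_gamma_zero, mul_one] at h
        have h2 : gamma (i + 1) (-a) = -∑ k ∈ range (i + 1), gamma k (-a) * gamma (i + 1 - k) a :=
          eq_neg_of_add_eq_zero_right h.symm
        rw [h2]
        apply Submodule.neg_mem
        apply Submodule.sum_mem
        intro k hk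
        rw [Finset.mem_range] at hk
        have := H6_M_mul ε S (ih k (by omega)) (ha (i + 1 - k))
        rwa [Nat.add_sub_cancel' (by omega)] at this

theorem H6_eps_delta (ε : A →ₐ[K] K) (a : A) : ε (a - algebraMap K A (ε a)) = 0 := by
  rw [map_sub, AlgHom.commutes]
  simp

theorem H6_mem_closure_delta (ε : A →ₐ[K] K) (S : Set A) (hS : AddSubgroup.closure S = ⊤) (x : A) :
    x - algebraMap K A (ε x) ∈ AddSubgroup.closure ((fun s => s - algebraMap K A (ε s)) '' S) := by
  have hx : x ∈ AddSubgroup.closure S := by rw [hS]; trivial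
  induction hx using AddSubgroup.closure_induction with
  | mem y hy => exact AddSubgroup.subset_closure ⟨y, hy, rfl⟩
  | zero => simp
  | add a b _ _ ha hb =>
    have : a + b - algebraMap K A (ε (a + b)) =
        (a - algebraMap K A (ε a)) + (b - algebraMap K A (ε b)) := by
      rw [map_add, map_add]; ring
    rw [this]; exact AddSubgroup.add_mem _ ha hb
  | neg a _ ha =>
    have : -a - algebraMap K A (ε (-a)) = -(a - algebraMap K A (ε a)) := by
      rw [map_neg, map_neg]; ring
    rw [this]; exact AddSubgroup.neg_mem _ ha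

theorem H6_gamma_mem_M_of_eps (ε : A →ₐ[K] K) (S : Set A) (hS : AddSubgroup.closure S = ⊤)
    (x : A) (hx : ε x = 0) (i : ℕ) : gamma i x ∈ H6_M ε S i := by
  have h := H6_mem_closure_delta ε S hS x
  rw [hx, map_zero, sub_zero] at h
  exact H6_gamma_mem_M ε S x h i

theorem H6_M_ideal (ε : A →ₐ[K] K) (S : Set A) (hS : AddSubgroup.closure S = ⊤) (n : ℕ)
    (a y : A) (hy : y ∈ H6_M ε S n) : a * y ∈ H6_M ε S n := by
  have ha : a ∈ AddSubgroup.closure S := by rw [hS]; trivial
  induction ha using AddSubgroup.closure_induction with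
  | mem s hs =>
    have e : s * y = (s - algebraMap K A (ε s)) * y + (ε s) • y := by
      rw [Algebra.smul_def]; ring
    rw [e]
    apply Submodule.add_mem
    · have h1 : (s - algebraMap K A (ε s)) ∈ H6_M ε S 1 := by
        have := H6_gamma_mem_M ε S _ (AddSubgroup.subset_closure ⟨s, hs, rfl⟩) 1
        rwa [H6_gamma_one] at this
      exact H6_M_mono ε S (by omega) (H6_M_mul ε S h1 hy)
    · exact Submodule.smul_mem _ _ hy
  | zero => rw [zero_mul]; exact Submodule.zero_mem _
  | add a b _ _ ha hb => rw [add_mul]; exact Submodule.add_mem _ ha hb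
  | neg a _ ha => rw [neg_mul]; exact Submodule.neg_mem _ ha

theorem H6_gammaFil_eq_M (ε : A →ₐ[K] K) (S : Set A) (hS : AddSubgroup.closure S = ⊤) (n : ℕ) :
    (gammaFil (ε : A →+* K) n).restrictScalars K = H6_M ε S n := by
  apply le_antisymm
  · intro z hz
    rw [Submodule.restrictScalars_mem, gammaFil] at hz
    induction hz using Submodule.span_induction with
    | mem y hy =>
      obtain ⟨l, h1, h2, rfl⟩ := hy
      have hl : ∀ l : List (ℕ × A), (∀ p ∈ l, (ε : A →+* K) p.2 = 0) →
          (l.map fun p => gamma p.1 p.2).prod ∈ H6_M ε S (l.map Prod.fst).sum := by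
        intro l
        induction l with
        | nil => intro _; simpa using H6_one_mem_M ε S
        | cons a l ih =>
          intro hl
          have h1 := ih (fun p hp => hl p (List.mem_cons_of_mem _ hp))
          have h2 := H6_gamma_mem_M_of_eps ε S hS a.2 (hl a List.mem_cons_self) a.1
          simpa using H6_M_mul ε S h2 h1
      exact H6_M_mono ε S h2 (hl l h1)
    | zero => exact Submodule.zero_mem _
    | add a b _ _ ha hb => exact Submodule.add_mem _ ha hb
    | smul a y _ hy => exact H6_M_ideal ε S hS n a y hy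
  · apply Submodule.span_le.2
    rintro y ⟨l, h1, h2, rfl⟩
    rw [SetLike.mem_coe, Submodule.restrictScalars_mem, gammaFil]
    apply Ideal.subset_span
    refine ⟨l.map fun p => (p.1, p.2 - algebraMap K A (ε p.2)), ?_, ?_, ?_⟩
    · intro p hp
      rw [List.mem_map] at hp
      obtain ⟨q, _, rfl⟩ := hp
      exact H6_eps_delta ε q.2
    · rw [List.map_map]
      exact h2
    · rw [List.map_map]
      rfl

end

end Groth.Agent.Lib.helper6
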