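import Mathlib
import Groth.Prelude.Def_LambdaSp
import Groth.Prelude.Def_W4bkmilneecrracsp2Inv
import Groth.Agent.Lib.helper6.LambdaInv

set_option autoImplicit false
set_option linter.style.haveILetI false

universe u

open Finset LambdaRing

namespace Groth.Agent.Lib.helper6

variable {K : Type u} [CommRing K] [LambdaRing.LambdaOps K]

/-- the data obtained from a splitting with involution -/
theorem H6_split_inv {P : PosStructure K} {inv : K → K} (hS : HasInvSplitting P inv) (e : K)
    (he : e ∈ P.pos) :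
    ∃ (L : PosLambdaRing.{u}) (inv' : L.carrier → L.carrier) (f : K →+* L.carrier),
      IsExtension P L.posStr f ∧ IsInvolution L.posStr inv' ∧ (∀ x : K, f (inv x) = inv' (f x)) ∧
      ∃ s : Multiset L.carrier, (∀ v ∈ s, L.posStr.IsLine v) ∧ s.sum = f e ∧
        (∀ v ∈ s.map inv', L.posStr.IsLine v) ∧ (s.map inv').sum = f (inv e) ∧
        Multiset.card s = (P.aug e).toNat := by
  obtain ⟨L, inv', f, hF, hV', hc, s, hs, hsum⟩ := hS e he
  refine ⟨L, inv', f, hF, hV', hc, s, hs, hsum, ?_, ?_, ?_⟩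
  · intro v hv
    rw [Multiset.mem_map] at hv
    obtain ⟨u, hu, rfl⟩ := hv
    exact hV'.inv_line u (hs u hu)
  · rw [hc, ← hsum, H6_inv_multiset_sum hV']
  · have h1 := H6_card_of_lines L.posStr s hs
    rw [hsum, hF.aug_comp] at h1
    rw [h1]
    simp

theorem H6_lam_eq_lam_inv_mul {P : PosStructure K} {inv : K → K} (hS : HasInvSplitting P inv)
    (e : K) (he : e ∈ P.pos) (i : ℕ) (hi : i ≤ (P.aug e).toNat) :
    LambdaOps.lam i e =
      LambdaOps.lam ((P.aug e).toNat - i) (inv e) * LambdaOps.lam (P.aug e).toNat e := by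
  obtain ⟨L, inv', f, hF, hV', hc, s, hs, hsum, hs', hsum', hcard⟩ := H6_split_inv hS e he
  apply hF.injective
  rw [map_mul, hF.isLambdaHom, hF.isLambdaHom, hF.isLambdaHom, ← hsum', ← hsum,
    H6_lam_lines _ s hs, H6_lam_lines _ _ hs', H6_lam_lines _ s hs, ← hcard, H6_esymm_card]
  exact H6_esymm_inv s inv' (fun u hu => hV'.inv_mul_self u (hs u hu)) i (by omega)

theorem H6_gamma_top_eq {P : PosStructure K} {inv : K → K} (hS : HasInvSplitting P inv)
    (e : K) (he : e ∈ P.pos) :
    gamma (P.aug e).toNat (e - ((P.aug e).toNat : K)) =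
      (∑ i ∈ range ((P.aug e).toNat + 1), (-1 : K) ^ i * LambdaOps.lam i (inv e)) *
        LambdaOps.lam (P.aug e).toNat e := by
  obtain ⟨L, inv', f, hF, hV', hc, s, hs, hsum, hs', hsum', hcard⟩ := H6_split_inv hS e he
  apply hF.injective
  rw [H6_map_gamma f hF.isLambdaHom, map_sub, map_natCast, map_mul, map_sum, hF.isLambdaHom,
    ← hsum, ← hcard, H6_gamma_lines _ s hs, H6_lam_lines _ s hs, H6_esymm_card]
  have h1 : ∀ i ∈ range (Multiset.card s + 1),
      f ((-1 : K) ^ i * LambdaOps.lam i (inv e)) = (-1) ^ i * (s.map inv').esymm i := by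
    intro i _
    rw [map_mul, map_pow, map_neg, map_one, hF.isLambdaHom, ← hsum', H6_lam_lines _ _ hs']
  rw [Finset.sum_congr rfl h1]
  have h2 := H6_sum_neg_one_pow_esymm (s.map inv')
  rw [Multiset.card_map] at h2
  rw [h2, Multiset.map_map]
  have h3 := H6_esymm_card (s.map fun u => u - 1)
  rw [Multiset.card_map] at h3
  have h4 : (s.map ((fun v => 1 - v) ∘ inv')).prod * s.prod =
      (s.map fun u => (1 - inv' u) * u).prod := by
    rw [Multiset.prod_map_mul]; simp [Function.comp_def]
  rw [h3, h4]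
  congr 1
  refine Multiset.map_congr rfl fun u hu => ?_
  have := hV'.inv_mul_self u (hs u hu)
  linear_combination this

theorem H6_gamma_inv_sub_mem {P : PosStructure K} {inv : K → K} (hS : HasInvSplitting P inv)
    (q : K) (hq : q ∈ P.pos) :
    gamma (P.aug q).toNat (inv q - ((P.aug q).toNat : K)) -
        (∑ i ∈ range ((P.aug q).toNat + 1), (-1 : K) ^ i * LambdaOps.lam i q) ∈
      gammaFiltration P ((P.aug q).toNat + 1) := by
  obtain ⟨L, inv', f, hF, hV', hc, s, hs, hsum, hs', hsum', hcard⟩ := H6_split_inv hS q hq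
  obtain ⟨d, hd⟩ : ∃ d, d = (P.aug q).toNat := ⟨_, rfl⟩
  rw [← hd]
  rw [← hd] at hcard
  have hpos := P.aug_pos q hq
  have hdq : (d : ℤ) = P.aug q := by omega
  have hd1 : 1 ≤ d := by omega
  obtain ⟨lm, hlm⟩ : ∃ lm, lm = ∑ i ∈ range (d + 1), (-1 : K) ^ i * LambdaOps.lam i q := ⟨_, rfl⟩
  rw [← hlm]
  have flm : f lm = (s.map fun u => 1 - u).prod := by
    rw [hlm, map_sum]
    have h1 : ∀ i ∈ range (d + 1),
        f ((-1 : K) ^ i * LambdaOps.lam i q) = (-1) ^ i * s.esymm i := by
      intro i _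
      rw [map_mul, map_pow, map_neg, map_one, hF.isLambdaHom, ← hsum, H6_lam_lines _ s hs]
    rw [Finset.sum_congr rfl h1, ← hcard, H6_sum_neg_one_pow_esymm]
  -- (A)
  have hA : gamma d (inv q - (d : K)) = LambdaOps.lam d (inv q) * lm := by
    apply hF.injective
    rw [H6_map_gamma f hF.isLambdaHom, map_sub, map_natCast, map_mul, flm, hF.isLambdaHom,
      ← hsum', ← hcard]
    have hc' : Multiset.card s = Multiset.card (s.map inv') := by rw [Multiset.card_map]
    conv_lhs => rw [hc']
    rw [H6_gamma_lines _ _ hs', H6_lam_lines _ _ hs']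
    conv_lhs => rw [← hc']
    conv_rhs => rw [hc']
    rw [H6_esymm_card]
    have h3 := H6_esymm_card ((s.map inv').map fun u => u - 1)
    rw [Multiset.card_map, Multiset.card_map] at h3
    rw [h3, Multiset.map_map, ← Multiset.prod_map_mul]
    congr 1
    refine Multiset.map_congr rfl fun u hu => ?_
    have := hV'.inv_mul_self u (hs u hu)
    simp only [Function.comp_apply]
    linear_combination this
  -- (B)
  have hB : lm = (-1) ^ d * gamma d (q - (d : K)) := by
    apply hF.injective
    rw [flm, map_mul, map_pow, map_neg, map_one, H6_map_gamma f hF.isLambdaHom, map_sub,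
      map_natCast, ← hsum, ← hcard, H6_gamma_lines _ s hs]
    have h3 := H6_esymm_card (s.map fun u => u - 1)
    rw [Multiset.card_map] at h3
    rw [h3]
    have h4 := Multiset.prod_map_neg (s.map fun u => u - 1)
    rw [Multiset.card_map, Multiset.map_map] at h4
    rw [← h4]
    congr 1
    refine Multiset.map_congr rfl fun u _ => ?_
    simp
  -- (C)
  have hC : P.aug (LambdaOps.lam d (inv q) - 1) = 0 := by
    rw [map_sub, map_one, ← hF.aug_comp, hF.isLambdaHom, ← hsum', ← hcard]
    have hc' : Multiset.card s = Multiset.card (s.map inv') := by rw [Multiset.card_map]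
    rw [hc', H6_lam_lines _ _ hs', H6_esymm_card, map_multiset_prod]
    rw [Multiset.prod_eq_one, sub_self]
    intro b hb
    rw [Multiset.mem_map] at hb
    obtain ⟨v, hv, rfl⟩ := hb
    exact (hs' v hv).2
  have e1 : gamma d (inv q - (d : K)) - lm =
      (-1) ^ d * ((LambdaOps.lam d (inv q) - 1) * gamma d (q - (d : K))) := by
    rw [hA]
    conv_lhs => rw [hB]
    ring
  rw [e1]
  apply H6_mul_mem_gammaFiltration
  rw [add_comm d 1]
  apply H6_gammaFiltration_mul
  · rw [H6_gammaFiltration_succ]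
    apply AddSubgroup.subset_closure
    refine ⟨[(1, LambdaOps.lam d (inv q) - 1)], ?_, ?_, ?_⟩
    · intro p hp
      rw [List.mem_singleton] at hp
      rw [hp]; exact hC
    · simp
    · simp [H6_gamma_one]
  · obtain ⟨d', rfl⟩ : ∃ d', d = d' + 1 := ⟨d - 1, by omega⟩
    rw [H6_gammaFiltration_succ]
    apply AddSubgroup.subset_closure
    refine ⟨[(d' + 1, q - ((d' + 1 : ℕ) : K))], ?_, ?_, ?_⟩
    · intro p hp
      rw [List.mem_singleton] at hp
      rw [hp]
      simp only [map_sub, map_natCast]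
      omega
    · simp
    · simp

end Groth.Agent.Lib.helper6
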