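import Mathlib
import Groth.Prelude.Def_LambdaSp
import Groth.Agent.Lib.helper6.LambdaExtComp

set_option autoImplicit false
set_option linter.style.haveILetI false

open MvPolynomial Finset

namespace Groth.Agent.Lib.helper6

section
variable (m j r : ℕ)

/-- `φ_i = (1 + X_i)^j - 1` -/
noncomputable def H6_phi (i : Fin m) : MvPolynomial (Fin m) ℤ := (1 + X i) ^ j - 1

/-- `D = e_r(φ) - j^r e_r` -/
noncomputable def H6_D : MvPolynomial (Fin m) ℤ :=
  aeval (H6_phi m j) (esymm (Fin m) ℤ r) - C ((j : ℤ) ^ r) * esymm (Fin m) ℤ r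

theorem H6_D_isSymmetric : (H6_D m j r).IsSymmetric := by
  intro ρ
  rw [H6_D, map_sub, map_mul, (esymm_isSymmetric (Fin m) ℤ r) ρ]
  congr 1
  · have h1 : (rename ρ : MvPolynomial (Fin m) ℤ →ₐ[ℤ] _).comp (aeval (H6_phi m j)) =
        aeval (fun i => rename ρ (H6_phi m j i)) := comp_aeval _ _
    have h2 := DFunLike.congr_fun h1 (esymm (Fin m) ℤ r)
    rw [AlgHom.comp_apply] at h2
    rw [h2]
    have h3 : (fun i => rename ρ (H6_phi m j i)) = (H6_phi m j) ∘ ρ := by
      funext i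
      simp [H6_phi]
    rw [h3, ← aeval_rename, (esymm_isSymmetric (Fin m) ℤ r) ρ]
  · simp

theorem H6_X_sq_dvd (i : Fin m) :
    (X i : MvPolynomial (Fin m) ℤ) ^ 2 ∣ H6_phi m j i - C (j : ℤ) * X i := by
  rw [H6_phi]
  induction j with
  | zero => simp
  | succ j ih =>
    obtain ⟨q, hq⟩ := ih
    refine ⟨(1 + X i) * q + C (j : ℤ), ?_⟩
    have : ((1 : MvPolynomial (Fin m) ℤ) + X i) ^ (j + 1) - 1 - C ((j + 1 : ℕ) : ℤ) * X i =
        (1 + X i) * ((1 + X i) ^ j - 1 - C (j : ℤ) * X i) + C (j : ℤ) * X i ^ 2 := by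
      push_cast
      rw [map_add, map_one]
      ring
    rw [this, hq]
    ring

theorem H6_prod_add_sub_mem {R : Type*} [CommRing R] (I : Ideal R) {ι : Type*} (S : Finset ι)
    (a b : ι → R) (ha : ∀ i ∈ S, a i ∈ I) (hb : ∀ i ∈ S, b i ∈ I ^ 2) :
    ∏ i ∈ S, (a i + b i) - ∏ i ∈ S, a i ∈ I ^ (S.card + 1) ∧ ∏ i ∈ S, (a i + b i) ∈ I ^ S.card := by
  classical
  induction S using Finset.induction_on with
  | empty => simp
  | insert k S hk ih =>
    have ha' : ∀ i ∈ S, a i ∈ I := fun i hi => ha i (Finset.mem_insert_of_mem hi)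
    have hb' : ∀ i ∈ S, b i ∈ I ^ 2 := fun i hi => hb i (Finset.mem_insert_of_mem hi)
    obtain ⟨h1, h2⟩ := ih ha' hb'
    have hak := ha k (Finset.mem_insert_self k S)
    have hbk := hb k (Finset.mem_insert_self k S)
    have hbk1 : b k ∈ I := Ideal.pow_le_self (by norm_num) hbk
    rw [Finset.prod_insert hk, Finset.prod_insert hk, Finset.card_insert_of_notMem hk]
    constructor
    · have e : (a k + b k) * ∏ i ∈ S, (a i + b i) - a k * ∏ i ∈ S, a i =
          a k * (∏ i ∈ S, (a i + b i) - ∏ i ∈ S, a i) + b k * ∏ i ∈ S, (a i + b i) := by ring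
      rw [e]
      apply Ideal.add_mem
      · have := Ideal.mul_mem_mul hak h1
        rwa [← pow_succ'] at this
      · have := Ideal.mul_mem_mul hbk h2
        rwa [← pow_add, add_comm 2] at this
    · have := Ideal.mul_mem_mul (I.add_mem hak hbk1) h2
      rwa [← pow_succ'] at this

theorem H6_D_mem : H6_D m j r ∈ idealOfVars (Fin m) ℤ ^ (r + 1) := by
  rw [H6_D, esymm, map_sum, Finset.mul_sum, ← Finset.sum_sub_distrib]
  apply Ideal.sum_mem
  intro S hS
  have hcard := (Finset.mem_powersetCard.mp hS).2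
  rw [map_prod]
  simp only [aeval_X]
  have e1 : C ((j : ℤ) ^ r) * ∏ i ∈ S, (X i : MvPolynomial (Fin m) ℤ) =
      ∏ i ∈ S, (C (j : ℤ) * X i) := by
    rw [Finset.prod_mul_distrib, Finset.prod_const, hcard, map_pow]
  have e2 : ∏ i ∈ S, H6_phi m j i =
      ∏ i ∈ S, (C (j : ℤ) * X i + (H6_phi m j i - C (j : ℤ) * X i)) := by
    refine Finset.prod_congr rfl fun i _ => ?_
    ring
  rw [e1, e2, ← hcard]
  refine (H6_prod_add_sub_mem (idealOfVars (Fin m) ℤ) S _ _ ?_ ?_).1
  · intro i _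
    exact Ideal.mul_mem_left _ _ (Ideal.subset_span (Set.mem_range_self i))
  · intro i _
    obtain ⟨q, hq⟩ := H6_X_sq_dvd m j i
    rw [hq]
    exact Ideal.mul_mem_right _ _ (Ideal.pow_mem_pow (Ideal.subset_span (Set.mem_range_self i)) 2)

/-- the universal polynomial `W` with `W(e_1, …, e_m) = D`, all of whose monomials have weight
at least `r + 1`. -/
theorem H6_exists_W_psi : ∃ W : MvPolynomial (Fin m) ℤ, H6_E m W = H6_D m j r ∧
    ∀ d ∈ W.support, r + 1 ≤ Finsupp.weight (fun a : Fin m => (a : ℕ) + 1) d := by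
  classical
  obtain ⟨W, hW⟩ := H6_E_surj m (H6_D m j r) (H6_D_isSymmetric m j r)
  refine ⟨W, hW, ?_⟩
  intro d hd
  by_contra hlt
  push Not at hlt
  obtain ⟨w, hw⟩ : ∃ w, w = Finsupp.weight (fun a : Fin m => (a : ℕ) + 1) d := ⟨_, rfl⟩
  have hφ : ∀ a : Fin m, IsWeightedHomogeneous (1 : Fin m → ℕ)
      (esymm (Fin m) ℤ ((a : ℕ) + 1)) ((a : ℕ) + 1) :=
    fun a => H6_esymm_isHomogeneous _
  have h := H6_weightedComponent_aeval (fun a : Fin m => (a : ℕ) + 1) (1 : Fin m → ℕ)
    _ hφ W w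
  have h0 : weightedHomogeneousComponent (1 : Fin m → ℕ) w (H6_D m j r) = 0 := by
    ext d'
    rw [coeff_weightedHomogeneousComponent, coeff_zero]
    split_ifs with h1
    · by_contra hne
      have hmem := (mem_pow_idealOfVars_iff (r + 1) (H6_D m j r)).1 (H6_D_mem m j r) d'
        (mem_support_iff.mpr hne)
      rw [Finsupp.degree_eq_weight_one] at hmem
      have : (Finsupp.weight (1 : Fin m → ℕ)) d' = w := h1
      rw [Pi.one_def] at this
      omega
    · rfl
  have h2 : H6_E m (weightedHomogeneousComponent (fun a : Fin m => (a : ℕ) + 1) w W) = 0 := by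
    change aeval _ _ = _
    rw [← h]
    change weightedHomogeneousComponent (1 : Fin m → ℕ) w (H6_E m W) = 0
    rw [hW, h0]
  have h3 : weightedHomogeneousComponent (fun a : Fin m => (a : ℕ) + 1) w W = 0 := by
    apply H6_E_injective m
    rw [h2, map_zero]
  have h4 := congrArg (coeff d) h3
  rw [coeff_weightedHomogeneousComponent, if_pos hw.symm, coeff_zero] at h4
  exact (mem_support_iff.mp hd) h4

end

end Groth.Agent.Lib.helper6
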