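import Mathlib
import Groth.Prelude.Def_LambdaSp
import Groth.Agent.Lib.helper6.LambdaGammaFil

set_option autoImplicit false
set_option linter.style.haveILetI false

universe u

open Finset LambdaRing

namespace Groth.Agent.Lib.helper6

variable {K : Type u} [CommRing K] [LambdaRing.LambdaOps K]

theorem H6_gammaFiltration_mono (P : PosStructure K) {a b : ℕ} (h : b ≤ a) :
    gammaFiltration P a ≤ gammaFiltration P b := by
  cases b with
  | zero => rw [H6_gammaFiltration_zero]; exact le_top
  | succ b =>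
    obtain ⟨a', rfl⟩ : ∃ a', a = a' + 1 := ⟨a - 1, by omega⟩
    rw [H6_gammaFiltration_succ, H6_gammaFiltration_succ]
    apply AddSubgroup.closure_mono
    rintro y ⟨l, h1, h2, rfl⟩
    exact ⟨l, h1, by omega, rfl⟩

theorem H6_gamma_mem (P : PosStructure K) (x : K) (hx : P.aug x = 0) (k : ℕ) :
    gamma k x ∈ gammaFiltration P k := by
  cases k with
  | zero => rw [H6_gammaFiltration_zero]; trivial
  | succ k =>
    rw [H6_gammaFiltration_succ]
    apply AddSubgroup.subset_closure
    exact ⟨[(k + 1, x)], by simpa using hx, by simp, by simp⟩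

theorem H6_one_mem_gammaFiltration (P : PosStructure K) : (1 : K) ∈ gammaFiltration P 0 := by
  rw [H6_gammaFiltration_zero]; trivial

theorem H6_pow_mem_gammaFiltration (P : PosStructure K) {a : ℕ} {x : K}
    (hx : x ∈ gammaFiltration P a) (n : ℕ) : x ^ n ∈ gammaFiltration P (n * a) := by
  induction n with
  | zero => rw [pow_zero, zero_mul]; exact H6_one_mem_gammaFiltration P
  | succ n ih =>
    rw [pow_succ, Nat.succ_mul]
    exact H6_gammaFiltration_mul P _ _ _ _ ih hx

theorem H6_prod_pow_mem (P : PosStructure K) {m : ℕ} (g : Fin m → K)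
    (hg : ∀ k : Fin m, g k ∈ gammaFiltration P ((k : ℕ) + 1)) (d : Fin m →₀ ℕ)
    (U : Finset (Fin m)) :
    ∏ i ∈ U, g i ^ d i ∈ gammaFiltration P (∑ i ∈ U, d i * ((i : ℕ) + 1)) := by
  classical
  induction U using Finset.induction_on with
  | empty => simpa using H6_one_mem_gammaFiltration P
  | insert k U hk ih =>
    rw [Finset.prod_insert hk, Finset.sum_insert hk]
    exact H6_gammaFiltration_mul P _ _ _ _ (H6_pow_mem_gammaFiltration P (hg k) (d k)) ih

theorem H6_aeval_mem_gammaFiltration (P : PosStructure K) {m : ℕ} (g : Fin m → K)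
    (hg : ∀ k : Fin m, g k ∈ gammaFiltration P ((k : ℕ) + 1)) (W : MvPolynomial (Fin m) ℤ) (N : ℕ)
    (hW : ∀ d ∈ W.support, N ≤ Finsupp.weight (fun a : Fin m => (a : ℕ) + 1) d) :
    MvPolynomial.aeval g W ∈ gammaFiltration P N := by
  rw [MvPolynomial.aeval_def, MvPolynomial.eval₂_eq']
  apply AddSubgroup.sum_mem
  intro d hd
  have h1 := H6_prod_pow_mem P g hg d Finset.univ
  have h2 : ∑ i : Fin m, d i * ((i : ℕ) + 1) = Finsupp.weight (fun a : Fin m => (a : ℕ) + 1) d := by
    rw [Finsupp.weight_apply, Finsupp.sum_fintype]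
    · simp
    · intro i; simp
  rw [h2] at h1
  have h3 := H6_gammaFiltration_mono P (hW d hd) h1
  have h4 : (algebraMap ℤ K) (MvPolynomial.coeff d W) * ∏ i : Fin m, g i ^ d i =
      (MvPolynomial.coeff d W) • ∏ i : Fin m, g i ^ d i := by
    rw [zsmul_eq_mul]; simp
  rw [h4]
  exact AddSubgroup.zsmul_mem _ h3 _

end Groth.Agent.Lib.helper6
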