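import Mathlib
import Groth.Prelude.Def_LambdaSp
import Groth.Agent.Lib.helper6.LambdaPsiGamma1
import Groth.Agent.Lib.helper6.LambdaPsiGamma2
import Groth.Agent.Lib.helper6.LambdaInv2

set_option autoImplicit false
set_option linter.style.haveILetI false

universe u

open Finset LambdaRing

namespace Groth.Agent.Lib.helper6

section Core
variable {L : Type u} [CommRing L] [LambdaRing.LambdaOps L]

theorem H6_adams_gamma_lines (P' : PosStructure L) (hL : HasSplitting L P') (j m r : ℕ)
    (v : Fin m → L) (hv : ∀ i, P'.IsLine (v i)) (W : MvPolynomial (Fin m) ℤ)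
    (hW : H6_E m W = H6_D m j r) (z : L) (hz : z = ((Finset.univ : Finset (Fin m)).val.map v).sum - (m : L)) :
    adams P' j (gamma r z) - (j : L) ^ r * gamma r z =
      MvPolynomial.aeval (fun k : Fin m => gamma ((k : ℕ) + 1) z) W := by
  obtain ⟨s, hs⟩ : ∃ s, s = (Finset.univ : Finset (Fin m)).val.map v := ⟨_, rfl⟩
  have hlines : ∀ u ∈ s, P'.IsLine u := by
    intro u hu
    rw [hs, Multiset.mem_map] at hu
    obtain ⟨i, _, rfl⟩ := hu
    exact hv i
  have hcard : Multiset.card s = m := by rw [hs]; simp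
  have hz' : z = s.sum - (Multiset.card s : L) := by rw [hz, hcard, hs]
  obtain ⟨a, ha⟩ : ∃ a : Fin m → L, a = fun i => v i - 1 := ⟨_, rfl⟩
  have hs' : s.map (fun u => u - 1) = (Finset.univ : Finset (Fin m)).val.map a := by
    rw [hs, Multiset.map_map, ha]; rfl
  have hgam : ∀ k, gamma k z = ((Finset.univ : Finset (Fin m)).val.map a).esymm k := by
    intro k
    rw [hz', H6_gamma_lines P' s hlines, hs']
  obtain ⟨Ψ, hΨ⟩ : ∃ Ψ : L →+* L, ∀ x, Ψ x = adams P' j x :=
    ⟨{ toFun := adams P' j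
       map_one' := by rw [H6_adams_line P' 1 (H6_isLine_one P') j, one_pow]
       map_mul' := H6_adams_mul hL j
       map_zero' := H6_adams_zero_arg P' j
       map_add' := H6_adams_add P' j }, fun x => rfl⟩
  have hΨa : ∀ i, Ψ (a i) = MvPolynomial.aeval a (H6_phi m j i) := by
    intro i
    rw [ha, map_sub, map_one, hΨ, H6_adams_line P' (v i) (hv i) j, H6_phi]
    simp
  have key := congrArg (MvPolynomial.aeval a) hW
  have hl : MvPolynomial.aeval a (H6_E m W) =
      MvPolynomial.aeval (fun k : Fin m => gamma ((k : ℕ) + 1) z) W := by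
    have h1 : (MvPolynomial.aeval a : MvPolynomial (Fin m) ℤ →ₐ[ℤ] L).comp
        (MvPolynomial.aeval (fun k : Fin m => MvPolynomial.esymm (Fin m) ℤ ((k : ℕ) + 1))) =
        MvPolynomial.aeval (fun k : Fin m => MvPolynomial.aeval a
          (MvPolynomial.esymm (Fin m) ℤ ((k : ℕ) + 1))) := MvPolynomial.comp_aeval _ _
    have h2 := DFunLike.congr_fun h1 W
    rw [AlgHom.comp_apply] at h2
    have hfun : (fun k : Fin m => MvPolynomial.aeval a
        (MvPolynomial.esymm (Fin m) ℤ ((k : ℕ) + 1))) =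
        (fun k : Fin m => gamma ((k : ℕ) + 1) z) := by
      funext k
      rw [MvPolynomial.aeval_esymm_eq_multiset_esymm, hgam]
    rw [H6_E, h2, hfun]
  have hr : MvPolynomial.aeval a (H6_D m j r) =
      adams P' j (gamma r z) - (j : L) ^ r * gamma r z := by
    rw [H6_D, map_sub, map_mul]
    have h1 : (MvPolynomial.aeval a : MvPolynomial (Fin m) ℤ →ₐ[ℤ] L).comp
        (MvPolynomial.aeval (H6_phi m j)) =
        MvPolynomial.aeval (fun i : Fin m => MvPolynomial.aeval a (H6_phi m j i)) :=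
      MvPolynomial.comp_aeval _ _
    have h2 := DFunLike.congr_fun h1 (MvPolynomial.esymm (Fin m) ℤ r)
    rw [AlgHom.comp_apply] at h2
    have hfun2 : (fun i : Fin m => MvPolynomial.aeval a (H6_phi m j i)) = Ψ ∘ a := by
      funext i
      rw [Function.comp_apply, hΨa]
    have e1 : MvPolynomial.aeval a (MvPolynomial.aeval (H6_phi m j)
        (MvPolynomial.esymm (Fin m) ℤ r)) =
        ((Finset.univ : Finset (Fin m)).val.map (Ψ ∘ a)).esymm r := by
      rw [h2, MvPolynomial.aeval_esymm_eq_multiset_esymm, hfun2]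
    have e2 : MvPolynomial.aeval a (MvPolynomial.C ((j : ℤ) ^ r) : MvPolynomial (Fin m) ℤ) =
        (j : L) ^ r := by simp
    have e3 : MvPolynomial.aeval a (MvPolynomial.esymm (Fin m) ℤ r) = gamma r z := by
      rw [MvPolynomial.aeval_esymm_eq_multiset_esymm, hgam]
    rw [e1, e2, e3, ← hΨ, hgam, H6_map_multiset_esymm, Multiset.map_map]
  rw [← hr, ← hl, key]

end Core

section Main
variable {K : Type u} [CommRing K] [LambdaRing.LambdaOps K]

theorem H6_split_one' {P : PosStructure K} (hK : HasSplitting K P) (e : K) (he : e ∈ P.pos) :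
    ∃ (L : PosLambdaRing.{u}) (F : K →+* L.carrier), IsExtension P L.posStr F ∧
      HasSplitting L.carrier L.posStr ∧
      ∃ s : Multiset L.carrier, (∀ u ∈ s, L.posStr.IsLine u) ∧ s.sum = F e := by
  obtain ⟨C, hKC, hC⟩ := hK
  obtain ⟨L1, hL1, f1, hf1, s1, hs1, hsum1⟩ := hC ⟨K, P⟩ hKC e he
  exact ⟨L1, f1, hf1, ⟨C, hL1, hC⟩, s1, hs1, hsum1⟩

theorem H6_adams_gamma_pos {P : PosStructure K} (hK : HasSplitting K P) (j : ℕ) (e : K)
    (he : e ∈ P.pos) (r : ℕ) :
    adams P j (gamma r (e - ((P.aug e).toNat : K))) -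
        (j : K) ^ r * gamma r (e - ((P.aug e).toNat : K)) ∈ gammaFiltration P (r + 1) := by
  obtain ⟨L, F, hF, hL, s, hs, hsum⟩ := H6_split_one' hK e he
  have hcard : Multiset.card s = (P.aug e).toNat := by
    have h1 := H6_card_of_lines L.posStr s hs
    rw [hsum, hF.aug_comp] at h1
    rw [h1]; simp
  obtain ⟨l, hl⟩ : ∃ l : List L.carrier, (l : Multiset L.carrier) = s := Quot.exists_rep s
  obtain ⟨m, hm⟩ : ∃ m, m = l.length := ⟨_, rfl⟩
  have hsv : s = (Finset.univ : Finset (Fin l.length)).val.map l.get := by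
    rw [Fin.univ_val_map, List.ofFn_get, hl]
  have hml : (P.aug e).toNat = l.length := by
    rw [← hcard, ← hl]; simp
  obtain ⟨W, hW, hWw⟩ := H6_exists_W_psi l.length j r
  obtain ⟨z, hz⟩ : ∃ z, z = e - ((P.aug e).toNat : K) := ⟨_, rfl⟩
  rw [← hz]
  have hFz : F z = ((Finset.univ : Finset (Fin l.length)).val.map l.get).sum -
      (l.length : L.carrier) := by
    rw [hz, map_sub, map_natCast, ← hsum, hsv, hml]
  have hlines : ∀ i : Fin l.length, L.posStr.IsLine (l.get i) := by
    intro i
    apply hs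
    rw [← hl]
    exact Multiset.mem_coe.2 (List.get_mem l i)
  have hcore := H6_adams_gamma_lines L.posStr hL j l.length r l.get hlines W hW (F z) hFz
  have hK' : adams P j (gamma r z) - (j : K) ^ r * gamma r z =
      MvPolynomial.aeval (fun k : Fin l.length => gamma ((k : ℕ) + 1) z) W := by
    apply hF.injective
    rw [map_sub, map_mul, map_pow, map_natCast, H6_ext_adams hF, H6_map_gamma F hF.isLambdaHom,
      hcore]
    have h1 : (F.toIntAlgHom : K →ₐ[ℤ] L.carrier).comp
        (MvPolynomial.aeval (fun k : Fin l.length => gamma ((k : ℕ) + 1) z)) =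
        MvPolynomial.aeval (fun k : Fin l.length => F.toIntAlgHom (gamma ((k : ℕ) + 1) z)) :=
      MvPolynomial.comp_aeval _ _
    have h2 := DFunLike.congr_fun h1 W
    rw [AlgHom.comp_apply] at h2
    have hfun3 : (fun k : Fin l.length => F.toIntAlgHom (gamma ((k : ℕ) + 1) z)) =
        (fun k : Fin l.length => gamma ((k : ℕ) + 1) (F z)) := by
      funext k
      exact H6_map_gamma F hF.isLambdaHom _ z
    change _ = F.toIntAlgHom _
    rw [h2, hfun3]
  rw [hK']
  apply H6_aeval_mem_gammaFiltration P _ _ W (r + 1) hWw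
  intro k
  apply H6_gamma_mem
  rw [hz, map_sub, map_natCast]
  have := P.aug_pos e he
  omega

end Main

end Groth.Agent.Lib.helper6
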