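import Mathlib
import Groth.Prelude.Def_LambdaSp
import Groth.Agent.Lib.helper6.LambdaPsiGamma3
import Groth.Agent.Lib.helper6.LambdaGammaGen

set_option autoImplicit false
set_option linter.style.haveILetI false

universe u

open Finset LambdaRing

namespace Groth.Agent.Lib.helper6

variable {K : Type u} [CommRing K] [LambdaRing.LambdaOps K]

theorem H6_closure_pos (P : PosStructure K) : AddSubgroup.closure P.pos = ⊤ := by
  rw [eq_top_iff]
  intro x _
  obtain ⟨e, f, he, hf, rfl⟩ := P.exists_sub x
  exact AddSubgroup.sub_mem _ (AddSubgroup.subset_closure he) (AddSubgroup.subset_closure hf)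

theorem H6_gammaFiltration_le_M (P : PosStructure K) (n : ℕ) (x : K)
    (hx : x ∈ gammaFiltration P n) : x ∈ H6_M (P.aug.toIntAlgHom) P.pos n := by
  rw [← H6_gammaFil_eq_M (P.aug.toIntAlgHom) P.pos (H6_closure_pos P) n,
    Submodule.restrictScalars_mem, gammaFil]
  cases n with
  | zero =>
    have : Ideal.span {y : K | ∃ l : List (ℕ × K),
        (∀ p ∈ l, ((P.aug.toIntAlgHom : K →ₐ[ℤ] ℤ) : K →+* ℤ) p.2 = 0) ∧
        0 ≤ (l.map Prod.fst).sum ∧ y = (l.map fun p => gamma p.1 p.2).prod} = ⊤ := by
      rw [Ideal.eq_top_iff_one]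
      apply Ideal.subset_span
      exact ⟨[], by simp, by simp, by simp⟩
    rw [this]; trivial
  | succ n =>
    rw [H6_gammaFiltration_succ] at hx
    induction hx using AddSubgroup.closure_induction with
    | mem y hy =>
      apply Ideal.subset_span
      obtain ⟨l, h1, h2, rfl⟩ := hy
      exact ⟨l, h1, h2, rfl⟩
    | zero => exact Ideal.zero_mem _
    | add a b _ _ ha hb => exact Ideal.add_mem _ ha hb
    | neg a _ ha => exact neg_mem ha

/-- the Adams operation as an additive map -/
noncomputable def H6_adamsAdd (P : PosStructure K) (j : ℕ) : K →+ K :=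
  AddMonoidHom.mk' (adams P j) (H6_adams_add P j)

theorem H6_adamsAdd_apply (P : PosStructure K) (j : ℕ) (x : K) :
    H6_adamsAdd P j x = adams P j x := rfl

theorem H6_adams_monomial {P : PosStructure K} (hK : HasSplitting K P) (j : ℕ)
    (l : List (ℕ × K)) (hl : ∀ p ∈ l, p.2 ∈ P.pos) :
    (l.map fun p => gamma p.1 (p.2 - algebraMap ℤ K (P.aug.toIntAlgHom p.2))).prod ∈
        gammaFiltration P (l.map Prod.fst).sum ∧
      adams P j (l.map fun p => gamma p.1 (p.2 - algebraMap ℤ K (P.aug.toIntAlgHom p.2))).prod -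
        (j : K) ^ (l.map Prod.fst).sum *
          (l.map fun p => gamma p.1 (p.2 - algebraMap ℤ K (P.aug.toIntAlgHom p.2))).prod ∈
        gammaFiltration P ((l.map Prod.fst).sum + 1) := by
  induction l with
  | nil =>
    constructor
    · simpa using H6_one_mem_gammaFiltration P
    · simp only [List.map_nil, List.prod_nil, List.sum_nil, pow_zero, one_mul]
      rw [H6_adams_line P 1 (H6_isLine_one P) j, one_pow, sub_self]
      exact AddSubgroup.zero_mem _
  | cons a l ih =>
    obtain ⟨h1, h2⟩ := ih (fun p hp => hl p (List.mem_cons_of_mem _ hp))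
    have ha := hl a List.mem_cons_self
    obtain ⟨y', hy'⟩ : ∃ y', y' =
        (l.map fun p => gamma p.1 (p.2 - algebraMap ℤ K (P.aug.toIntAlgHom p.2))).prod := ⟨_, rfl⟩
    obtain ⟨R', hR'⟩ : ∃ R', R' = (l.map Prod.fst).sum := ⟨_, rfl⟩
    rw [← hy', ← hR'] at h1 h2
    have hcast : algebraMap ℤ K (P.aug.toIntAlgHom a.2) = ((P.aug a.2).toNat : K) := by
      have hpos := P.aug_pos a.2 ha
      change ((P.aug a.2 : ℤ) : K) = _
      conv_lhs => rw [← Int.toNat_of_nonneg hpos.le]
      rw [Int.cast_natCast]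
    obtain ⟨g, hg⟩ : ∃ g, g = gamma a.1 (a.2 - algebraMap ℤ K (P.aug.toIntAlgHom a.2)) := ⟨_, rfl⟩
    have hgmem : g ∈ gammaFiltration P a.1 := by
      rw [hg]
      apply H6_gamma_mem
      rw [hcast, map_sub, map_natCast]
      have hpos := P.aug_pos a.2 ha
      omega
    have hgpsi : adams P j g - (j : K) ^ a.1 * g ∈ gammaFiltration P (a.1 + 1) := by
      rw [hg, hcast]
      exact H6_adams_gamma_pos hK j a.2 ha a.1
    simp only [List.map_cons, List.prod_cons, List.sum_cons]
    rw [← hy', ← hR', ← hg]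
    constructor
    · exact H6_gammaFiltration_mul P _ _ _ _ hgmem h1
    · have hpsiy' : adams P j y' ∈ gammaFiltration P R' := by
        have e : adams P j y' = (adams P j y' - (j : K) ^ R' * y') + (j : K) ^ R' * y' := by ring
        rw [e]
        apply AddSubgroup.add_mem
        · exact H6_gammaFiltration_mono P (Nat.le_succ _) h2
        · exact H6_mul_mem_gammaFiltration P _ _ _ h1
      have e : adams P j (g * y') - (j : K) ^ (a.1 + R') * (g * y') =
          (adams P j g - (j : K) ^ a.1 * g) * adams P j y' +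
            ((j : K) ^ a.1 * g) * (adams P j y' - (j : K) ^ R' * y') := by
        rw [H6_adams_mul hK, pow_add]; ring
      rw [e]
      apply AddSubgroup.add_mem
      · have := H6_gammaFiltration_mul P _ _ _ _ hgpsi hpsiy'
        have e2 : a.1 + 1 + R' = a.1 + R' + 1 := by omega
        rwa [e2] at this
      · have := H6_gammaFiltration_mul P _ _ _ _
          (H6_mul_mem_gammaFiltration P _ ((j : K) ^ a.1) g hgmem) h2
        rwa [← add_assoc] at this

theorem H6_adams_sub_pow_mem {P : PosStructure K} (hK : HasSplitting K P) (j n : ℕ) (x : K)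
    (hx : x ∈ gammaFiltration P n) :
    adams P j x - (j : K) ^ n * x ∈ gammaFiltration P (n + 1) := by
  have hxM := H6_gammaFiltration_le_M P n x hx
  rw [H6_M] at hxM
  clear hx
  induction hxM using Submodule.span_induction with
  | mem y hy =>
    obtain ⟨l, h1, h2, rfl⟩ := hy
    obtain ⟨hA, hB⟩ := H6_adams_monomial hK j l h1
    obtain ⟨y, hy⟩ : ∃ y, y =
        (l.map fun p => gamma p.1 (p.2 - algebraMap ℤ K (P.aug.toIntAlgHom p.2))).prod := ⟨_, rfl⟩
    obtain ⟨R, hR⟩ : ∃ R, R = (l.map Prod.fst).sum := ⟨_, rfl⟩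
    rw [← hy, ← hR] at hA hB
    rw [← hy]
    rw [← hR] at h2
    rcases Nat.eq_or_lt_of_le h2 with h | h
    · rw [h]; exact hB
    · have e : adams P j y - (j : K) ^ n * y =
          (adams P j y - (j : K) ^ R * y) + ((j : K) ^ R - (j : K) ^ n) * y := by ring
      rw [e]
      apply AddSubgroup.add_mem
      · exact H6_gammaFiltration_mono P (by omega) hB
      · exact H6_mul_mem_gammaFiltration P _ _ _ (H6_gammaFiltration_mono P (by omega) hA)
  | zero =>
    rw [H6_adams_zero_arg, mul_zero, sub_zero]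
    exact AddSubgroup.zero_mem _
  | add a b _ _ ha hb =>
    have e : adams P j (a + b) - (j : K) ^ n * (a + b) =
        (adams P j a - (j : K) ^ n * a) + (adams P j b - (j : K) ^ n * b) := by
      rw [H6_adams_add]; ring
    rw [e]
    exact AddSubgroup.add_mem _ ha hb
  | smul c a _ ha =>
    have e : adams P j (c • a) - (j : K) ^ n * (c • a) =
        c • (adams P j a - (j : K) ^ n * a) := by
      rw [← H6_adamsAdd_apply, map_zsmul, H6_adamsAdd_apply, smul_sub, mul_smul_comm]
    rw [e]
    exact AddSubgroup.zsmul_mem _ ha _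

end Groth.Agent.Lib.helper6
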