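import Mathlib
import Groth.Prelude.Def_KRR
import Groth.Agent.Lib.helper6.LambdaInv
import Groth.Agent.Lib.helper6.LambdaPsiGamma4

set_option autoImplicit false
set_option linter.style.haveILetI false

universe u

open Finset LambdaRing

namespace Groth.Agent.Lib.helper6

section Bott

variable {K : Type u} [CommRing K] [LambdaOps K]

theorem H6_isLine_multiset_prod (P : PosStructure K) (t : Multiset K) (ht : ∀ u ∈ t, P.IsLine u) :
    P.IsLine t.prod := by
  induction t using Multiset.induction_on with
  | empty => rw [Multiset.prod_zero]; exact H6_isLine_one P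
  | cons a t ih =>
    rw [Multiset.prod_cons]
    exact H6_isLine_mul P (ht a (Multiset.mem_cons_self a t))
      (ih fun u hu => ht u (Multiset.mem_cons_of_mem hu))

theorem H6_adams_esymm_lines (P : PosStructure K) (j : ℕ) (s : Multiset K)
    (hs : ∀ u ∈ s, P.IsLine u) (i : ℕ) :
    adams P j (s.esymm i) = (s.map fun u => u ^ j).esymm i := by
  rw [Multiset.esymm, Multiset.esymm, H6_adams_lines P j _ ?_, Multiset.powersetCard_map,
    Multiset.map_map, Multiset.map_map]
  · congr 1
    refine Multiset.map_congr rfl fun t _ => ?_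
    simp only [Function.comp_apply, Multiset.prod_map_pow, Multiset.map_id']
  · intro u hu
    rw [Multiset.mem_map] at hu
    obtain ⟨t, ht, rfl⟩ := hu
    rw [Multiset.mem_powersetCard] at ht
    exact H6_isLine_multiset_prod P t fun v hv => hs v (Multiset.mem_of_le ht.1 hv)

theorem H6_adams_neg_one_pow_mul (P : PosStructure K) (j i : ℕ) (x : K) :
    adams P j ((-1 : K) ^ i * x) = (-1 : K) ^ i * adams P j x := by
  rcases Nat.even_or_odd i with h | h
  · rw [h.neg_one_pow, one_mul, one_mul]
  · rw [h.neg_one_pow, neg_one_mul, neg_one_mul, H6_adams_neg]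

theorem H6_adams_alt_esymm (P : PosStructure K) (j : ℕ) (s : Multiset K)
    (hs : ∀ u ∈ s, P.IsLine u) :
    adams P j (∑ i ∈ range (Multiset.card s + 1), (-1 : K) ^ i * s.esymm i) =
      (s.map fun u => 1 - u ^ j).prod := by
  have h1 : adams P j (∑ i ∈ range (Multiset.card s + 1), (-1 : K) ^ i * s.esymm i) =
      ∑ i ∈ range (Multiset.card s + 1), adams P j ((-1 : K) ^ i * s.esymm i) :=
    map_sum (H6_adamsAdd P j) _ _
  rw [h1]
  have h2 := H6_sum_neg_one_pow_esymm (s.map fun u => u ^ j)
  rw [Multiset.card_map, Multiset.map_map] at h2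
  rw [show (s.map fun u => 1 - u ^ j) = Multiset.map ((fun v => 1 - v) ∘ fun u => u ^ j) s from rfl,
    ← h2]
  refine Finset.sum_congr rfl fun i _ => ?_
  rw [H6_adams_neg_one_pow_mul, H6_adams_esymm_lines P j s hs]

theorem H6_aeval_bottPoly {R : Type*} [CommRing R] (j m : ℕ) (U : Fin m → R) :
    MvPolynomial.aeval (fun i : Fin m => (Finset.univ.val.map U).esymm ((i : ℕ) + 1))
      (KRR.bottPoly j m) = ∏ i : Fin m, ∑ k ∈ range j, U i ^ k := by
  have h : MvPolynomial.esymmAlgHom (Fin m) ℤ m (KRR.bottPoly j m) =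
      ⟨KRR.bottSym j m, KRR.bottSym_isSymmetric j m⟩ := by
    rw [← MvPolynomial.esymmAlgEquiv_apply (Fin m) ℤ (Fintype.card_fin m)]
    unfold KRR.bottPoly
    exact AlgEquiv.apply_symm_apply _ _
  have h2 := congrArg Subtype.val h
  rw [MvPolynomial.esymmAlgHom_apply] at h2
  have h3 := congrArg (MvPolynomial.aeval U) h2
  rw [MvPolynomial.comp_aeval_apply] at h3
  simp only [MvPolynomial.aeval_esymm_eq_multiset_esymm] at h3
  rw [h3]
  simp [KRR.bottSym]

theorem H6_exists_fin_of_list {R : Type*} (n : ℕ) (l : List R) (h : l.length = n) :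
    ∃ U : Fin n → R, Finset.univ.val.map U = (l : Multiset R) := by
  subst h
  refine ⟨fun i => l.get i, ?_⟩
  rw [Fin.univ_val_map, List.ofFn_get]

theorem H6_exists_fin_of_multiset {R : Type*} (s : Multiset R) (n : ℕ) (h : Multiset.card s = n) :
    ∃ U : Fin n → R, Finset.univ.val.map U = s := by
  obtain ⟨U, hU⟩ := H6_exists_fin_of_list n s.toList (by rw [Multiset.length_toList, h])
  exact ⟨U, by rw [hU, Multiset.coe_toList]⟩

end Bott

end Groth.Agent.Lib.helper6
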