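import Mathlib
import Groth.Agent.Lib.helper6.LambdaBott
import Groth.Agent.Lib.helper6.LambdaPsiGamma3

set_option autoImplicit false
set_option linter.style.haveILetI false

universe u

open Finset LambdaRing

namespace Groth.Agent.Lib.helper6

section Det

variable {K : Type u} [CommRing K] [LambdaOps K]

/-- the determinant of a positive element -/
def H6_detp (P : PosStructure K) (e : K) : K := LambdaOps.lam (P.aug e).toNat e

theorem H6_detp_isUnit (P : PosStructure K) {e : K} (he : e ∈ P.pos) : IsUnit (H6_detp P e) :=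
  P.isUnit_lam e he

theorem H6_detp_add (P : PosStructure K) {e f : K} (he : e ∈ P.pos) (hf : f ∈ P.pos) :
    H6_detp P (e + f) = H6_detp P e * H6_detp P f := by
  have h1 := P.aug_pos e he
  have h2 := P.aug_pos f hf
  obtain ⟨m, hm⟩ : ∃ m, m = (P.aug e).toNat := ⟨_, rfl⟩
  obtain ⟨n, hn⟩ : ∃ n, n = (P.aug f).toNat := ⟨_, rfl⟩
  have hmn : (P.aug (e + f)).toNat = m + n := by rw [map_add]; omega
  rw [H6_detp, H6_detp, H6_detp, hmn, ← hm, ← hn, LambdaOps.lam_add]
  rw [Finset.sum_eq_single m]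
  · rw [Nat.add_sub_cancel_left]
  · intro i hi hne
    rw [Finset.mem_range] at hi
    rcases Nat.lt_or_gt_of_ne hne with h | h
    · rw [P.lam_eq_zero f hf (m + n - i) (by omega), mul_zero]
    · rw [P.lam_eq_zero e he i (by omega), zero_mul]
  · intro h
    exfalso
    apply h
    rw [Finset.mem_range]; omega

theorem H6_detp_line (P : PosStructure K) {u : K} (hu : P.IsLine u) : H6_detp P u = u := by
  rw [H6_detp, hu.2]
  exact LambdaOps.lam_one u

/-- `D(x) = 1`: some (equivalently any) representation `x = e - f` has `det e = det f`. -/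
def H6_Det1 (P : PosStructure K) (x : K) : Prop :=
  ∃ e f, e ∈ P.pos ∧ f ∈ P.pos ∧ x = e - f ∧ H6_detp P e = H6_detp P f

theorem H6_Det1_unique (P : PosStructure K) {x : K} (hx : H6_Det1 P x) {e' f' : K}
    (he' : e' ∈ P.pos) (hf' : f' ∈ P.pos) (hx' : x = e' - f') : H6_detp P e' = H6_detp P f' := by
  obtain ⟨e, f, he, hf, rfl, hdet⟩ := hx
  have h1 : e + f' = e' + f := by linear_combination hx'
  have h2 := congrArg (H6_detp P) h1
  rw [H6_detp_add P he hf', H6_detp_add P he' hf, hdet] at h2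
  have hu := H6_detp_isUnit P hf
  rw [mul_comm (H6_detp P e')] at h2
  exact (hu.mul_right_injective h2).symm

theorem H6_Det1_zero (P : PosStructure K) : H6_Det1 P 0 :=
  ⟨1, 1, (H6_isLine_one P).1, (H6_isLine_one P).1, by ring, rfl⟩

theorem H6_Det1_add (P : PosStructure K) {x y : K} (hx : H6_Det1 P x) (hy : H6_Det1 P y) :
    H6_Det1 P (x + y) := by
  obtain ⟨e, f, he, hf, rfl, hdet⟩ := hx
  obtain ⟨e', f', he', hf', rfl, hdet'⟩ := hy
  refine ⟨e + e', f + f', P.add_mem _ _ he he', P.add_mem _ _ hf hf', by ring, ?_⟩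
  rw [H6_detp_add P he he', H6_detp_add P hf hf', hdet, hdet']

theorem H6_Det1_neg (P : PosStructure K) {x : K} (hx : H6_Det1 P x) : H6_Det1 P (-x) := by
  obtain ⟨e, f, he, hf, rfl, hdet⟩ := hx
  exact ⟨f, e, hf, he, by ring, hdet.symm⟩

/-- the additive subgroup of elements of determinant one -/
def H6_Det1Sub (P : PosStructure K) : AddSubgroup K where
  carrier := {x | H6_Det1 P x}
  zero_mem' := H6_Det1_zero P
  add_mem' := fun hx hy => H6_Det1_add P hx hy
  neg_mem' := fun hx => H6_Det1_neg P hx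

theorem H6_mem_Det1Sub (P : PosStructure K) (x : K) : x ∈ H6_Det1Sub P ↔ H6_Det1 P x := Iff.rfl

theorem H6_detp_map {K' : Type u} [CommRing K'] [LambdaOps K'] {P : PosStructure K}
    {P' : PosStructure K'} {F : K →+* K'} (hF : IsExtension P P' F) (e : K) :
    F (H6_detp P e) = H6_detp P' (F e) := by
  rw [H6_detp, H6_detp, hF.isLambdaHom, hF.aug_comp]

theorem H6_Det1_of_ext {K' : Type u} [CommRing K'] [LambdaOps K'] {P : PosStructure K}
    {P' : PosStructure K'} {F : K →+* K'} (hF : IsExtension P P' F) {g : K}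
    (hg : H6_Det1 P' (F g)) : H6_Det1 P g := by
  obtain ⟨e, f, he, hf, rfl⟩ := P.exists_sub g
  refine ⟨e, f, he, hf, rfl, ?_⟩
  apply hF.injective
  rw [H6_detp_map hF, H6_detp_map hF]
  exact H6_Det1_unique P' hg (hF.pos_subset e he) (hF.pos_subset f hf) (map_sub F e f)

theorem H6_detp_line_mul {P : PosStructure K} (hK : HasSplitting K P) {u : K} (hu : P.IsLine u)
    {e : K} (he : e ∈ P.pos) :
    H6_detp P (u * e) = u ^ (P.aug e).toNat * H6_detp P e := by
  obtain ⟨L, F, hF, s, hs, hsum⟩ := H6_split_one hK e he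
  have hcard : Multiset.card s = (P.aug e).toNat := by
    have h1 := H6_card_of_lines L.posStr s hs
    rw [hsum, hF.aug_comp] at h1
    rw [h1]; simp
  apply hF.injective
  have haug : (P.aug (u * e)).toNat = (P.aug e).toNat := by rw [map_mul, hu.2, one_mul]
  rw [map_mul, map_pow, H6_detp, H6_detp, haug, hF.isLambdaHom, hF.isLambdaHom, map_mul, ← hsum,
    H6_lam_lines _ s hs, ← hcard, H6_esymm_card]
  have e1 : F u * s.sum = (s.map fun v => F u * v).sum := by
    rw [Multiset.sum_map_mul_left]; simp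
  have hl : ∀ w ∈ s.map fun v => F u * v, L.posStr.IsLine w := by
    intro w hw
    rw [Multiset.mem_map] at hw
    obtain ⟨v, hv, rfl⟩ := hw
    exact H6_isLine_mul _ (H6_isLine_map hF hu) (hs v hv)
  rw [e1, H6_lam_lines _ _ hl]
  have hc2 : Multiset.card (s.map fun v => F u * v) = Multiset.card s := Multiset.card_map _ _
  rw [← hc2, H6_esymm_card, Multiset.prod_map_mul, Multiset.map_const', Multiset.prod_replicate,
    Multiset.map_id']
  rw [hc2]

/-- `D((u - 1) y) = 1` for a line element `u` and `y` of augmentation zero. -/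
theorem H6_Det1_line_sub_one_mul {P : PosStructure K} (hK : HasSplitting K P) {u : K}
    (hu : P.IsLine u) (y : K) (hy : P.aug y = 0) : H6_Det1 P ((u - 1) * y) := by
  obtain ⟨e, f, he, hf, rfl⟩ := P.exists_sub y
  have hef : (P.aug e).toNat = (P.aug f).toNat := by
    rw [map_sub] at hy
    have : P.aug e = P.aug f := by linarith
    rw [this]
  refine ⟨u * e + f, u * f + e, P.add_mem _ _ (P.mul_mem _ _ hu.1 he) hf,
    P.add_mem _ _ (P.mul_mem _ _ hu.1 hf) he, by ring, ?_⟩
  rw [H6_detp_add P (P.mul_mem _ _ hu.1 he) hf, H6_detp_add P (P.mul_mem _ _ hu.1 hf) he,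
    H6_detp_line_mul hK hu he, H6_detp_line_mul hK hu hf, hef]
  ring

end Det

end Groth.Agent.Lib.helper6
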