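import Mathlib
import Groth.Prelude.Def_LambdaSp
import Groth.Agent.Lib.helper6.LambdaPsiGamma4

set_option autoImplicit false
set_option linter.style.haveILetI false

universe u

open Finset LambdaRing TensorProduct Polynomial

namespace Groth.Agent.Lib.helper6

section General
variable {V : Type*} [AddCommGroup V] [Module ℚ V]

theorem H6_aeval_eigen (Ψ : V →ₗ[ℚ] V) (μ : ℚ) (v : V) (hv : Ψ v = μ • v) (p : ℚ[X]) :
    aeval Ψ p v = p.eval μ • v := by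
  induction p using Polynomial.induction_on with
  | C c => simp [Module.algebraMap_end_apply]
  | add p q hp hq => rw [map_add, LinearMap.add_apply, hp, hq, eval_add, add_smul]
  | monomial n c ih =>
    rw [pow_succ, ← mul_assoc, map_mul, aeval_X, Module.End.mul_apply, hv, map_smul, ih,
      smul_smul]
    congr 1
    simp only [eval_mul, eval_X, eval_C, eval_pow]
    ring

theorem H6_aeval_preserves (Ψ : V →ₗ[ℚ] V) (W : Submodule ℚ V) (hW : ∀ v ∈ W, Ψ v ∈ W)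
    (p : ℚ[X]) (v : V) (hv : v ∈ W) : aeval Ψ p v ∈ W := by
  induction p using Polynomial.induction_on generalizing v with
  | C c => simpa [Module.algebraMap_end_apply] using W.smul_mem c hv
  | add p q hp hq => rw [map_add, LinearMap.add_apply]; exact W.add_mem (hp v hv) (hq v hv)
  | monomial n c ih =>
    rw [pow_succ, ← mul_assoc, map_mul, aeval_X, Module.End.mul_apply]
    exact ih (Ψ v) (hW v hv)

theorem H6_pow_cast_ne {j : ℕ} (hj : 2 ≤ j) {m n : ℕ} (h : m ≠ n) : (j : ℚ) ^ m - (j : ℚ) ^ n ≠ 0 := by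
  intro h0
  apply h
  have h1 : (j : ℚ) ^ m = (j : ℚ) ^ n := sub_eq_zero.mp h0
  have h2 : j ^ m = j ^ n := by exact_mod_cast h1
  exact Nat.pow_right_injective hj h2

theorem H6_eval_prod_ne {j : ℕ} (hj : 2 ≤ j) (s : Finset ℕ) (m : ℕ) (hm : m ∉ s) :
    (∏ n ∈ s, (X - C ((j : ℚ) ^ n))).eval ((j : ℚ) ^ m) ≠ 0 := by
  rw [eval_prod, Finset.prod_ne_zero_iff]
  intro n hn
  rw [eval_sub, eval_X, eval_C]
  exact H6_pow_cast_ne hj (fun h => hm (h ▸ hn))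

end General

section Lam
variable {K : Type u} [CommRing K] [LambdaRing.LambdaOps K]

/-- the rational γ-filtration -/
def H6_QF (P : PosStructure K) (n : ℕ) : Submodule ℚ (ℚ ⊗[ℤ] K) :=
  Submodule.span ℚ ((fun x : K => (1 : ℚ) ⊗ₜ[ℤ] x) '' (gammaFiltration P n : Set K))

theorem H6_QF_mono (P : PosStructure K) {a b : ℕ} (h : b ≤ a) : H6_QF P a ≤ H6_QF P b :=
  Submodule.span_mono (Set.image_mono (H6_gammaFiltration_mono P h))

theorem H6_QF_zero (P : PosStructure K) : H6_QF P 0 = ⊤ := by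
  rw [eq_top_iff]
  intro v hv
  clear hv
  induction v using TensorProduct.induction_on with
  | zero => exact Submodule.zero_mem _
  | tmul q x =>
    have : q ⊗ₜ[ℤ] x = q • ((1 : ℚ) ⊗ₜ[ℤ] x) := by
      rw [TensorProduct.smul_tmul', smul_eq_mul, mul_one]
    rw [this]
    apply Submodule.smul_mem
    apply Submodule.subset_span
    exact ⟨x, by rw [H6_gammaFiltration_zero]; trivial, rfl⟩
  | add a b ha hb => exact Submodule.add_mem _ ha hb

theorem H6_QF_bot (P : PosStructure K) (d : ℕ) (hd : gammaFiltration P (d + 1) = ⊥) {m : ℕ}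
    (hm : d + 1 ≤ m) : H6_QF P m = ⊥ := by
  rw [eq_bot_iff]
  refine (H6_QF_mono P hm).trans ?_
  rw [H6_QF, hd]
  apply Submodule.span_le.2
  rintro _ ⟨x, hx, rfl⟩
  have : x = 0 := hx
  simp [this]

theorem H6_natpow_smul_tmul (j n : ℕ) (x : K) :
    ((j : ℚ) ^ n) • ((1 : ℚ) ⊗ₜ[ℤ] x) = (1 : ℚ) ⊗ₜ[ℤ] ((j : K) ^ n * x) := by
  rw [TensorProduct.smul_tmul', smul_eq_mul, mul_one]
  have h1 : ((j : ℚ) ^ n) = ((j ^ n : ℕ) : ℤ) • (1 : ℚ) := by simp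
  have h2 : (j : K) ^ n * x = ((j ^ n : ℕ) : ℤ) • x := by simp
  rw [h1, h2, TensorProduct.smul_tmul]

theorem H6_Psi_sub_mem {P : PosStructure K} (hK : HasSplitting K P) (j : ℕ)
    (Ψ : ℚ ⊗[ℤ] K →ₗ[ℚ] ℚ ⊗[ℤ] K)
    (hΨ : ∀ x : K, Ψ (1 ⊗ₜ[ℤ] x) = 1 ⊗ₜ[ℤ] adams P j x) (n : ℕ) (v : ℚ ⊗[ℤ] K)
    (hv : v ∈ H6_QF P n) : Ψ v - ((j : ℚ) ^ n) • v ∈ H6_QF P (n + 1) := by
  rw [H6_QF] at hv
  induction hv using Submodule.span_induction with
  | mem y hy =>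
    obtain ⟨x, hx, rfl⟩ := hy
    simp only []
    rw [hΨ, H6_natpow_smul_tmul, ← TensorProduct.tmul_sub]
    apply Submodule.subset_span
    exact ⟨_, H6_adams_sub_pow_mem hK j n x hx, rfl⟩
  | zero => simp
  | add a b _ _ ha hb =>
    have : Ψ (a + b) - ((j : ℚ) ^ n) • (a + b) =
        (Ψ a - ((j : ℚ) ^ n) • a) + (Ψ b - ((j : ℚ) ^ n) • b) := by
      rw [map_add, smul_add]; abel
    rw [this]; exact Submodule.add_mem _ ha hb
  | smul c a _ ha =>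
    have : Ψ (c • a) - ((j : ℚ) ^ n) • (c • a) = c • (Ψ a - ((j : ℚ) ^ n) • a) := by
      rw [map_smul, smul_sub, smul_comm]
    rw [this]; exact Submodule.smul_mem _ _ ha

theorem H6_Psi_preserves {P : PosStructure K} (hK : HasSplitting K P) (j : ℕ)
    (Ψ : ℚ ⊗[ℤ] K →ₗ[ℚ] ℚ ⊗[ℤ] K)
    (hΨ : ∀ x : K, Ψ (1 ⊗ₜ[ℤ] x) = 1 ⊗ₜ[ℤ] adams P j x) (n : ℕ) (v : ℚ ⊗[ℤ] K)
    (hv : v ∈ H6_QF P n) : Ψ v ∈ H6_QF P n := by
  have h := H6_Psi_sub_mem hK j Ψ hΨ n v hv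
  have e : Ψ v = (Ψ v - ((j : ℚ) ^ n) • v) + ((j : ℚ) ^ n) • v := by abel
  rw [e]
  exact Submodule.add_mem _ (H6_QF_mono P (Nat.le_succ n) h) (Submodule.smul_mem _ _ hv)

theorem H6_prod_maps {P : PosStructure K} (hK : HasSplitting K P) (j : ℕ)
    (Ψ : ℚ ⊗[ℤ] K →ₗ[ℚ] ℚ ⊗[ℤ] K)
    (hΨ : ∀ x : K, Ψ (1 ⊗ₜ[ℤ] x) = 1 ⊗ₜ[ℤ] adams P j x) (a b : ℕ) (hab : a ≤ b)
    (v : ℚ ⊗[ℤ] K) (hv : v ∈ H6_QF P a) :
    aeval Ψ (∏ n ∈ Finset.Ico a b, (X - C ((j : ℚ) ^ n))) v ∈ H6_QF P b := by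
  induction b, hab using Nat.le_induction with
  | base => simpa using hv
  | succ b hab ih =>
    rw [Finset.prod_Ico_succ_top hab, mul_comm, map_mul, Module.End.mul_apply]
    have h := H6_Psi_sub_mem hK j Ψ hΨ b _ ih
    rw [map_sub, aeval_X, aeval_C, LinearMap.sub_apply, Module.algebraMap_end_apply]
    exact h

end Lam

end Groth.Agent.Lib.helper6
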