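import Mathlib
import Groth.Prelude.Def_LambdaSp
import Groth.Agent.Lib.helper6.LambdaEigen

set_option autoImplicit false
set_option linter.style.haveILetI false

universe u

open Finset LambdaRing TensorProduct Polynomial

namespace Groth.Agent.Lib.helper6

variable {K : Type u} [CommRing K] [LambdaRing.LambdaOps K]

theorem H6_eigen_le_QF {P : PosStructure K} (hK : HasSplitting K P) (j : ℕ) (hj : 2 ≤ j)
    (Ψ : ℚ ⊗[ℤ] K →ₗ[ℚ] ℚ ⊗[ℤ] K)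
    (hΨ : ∀ x : K, Ψ (1 ⊗ₜ[ℤ] x) = 1 ⊗ₜ[ℤ] adams P j x) (m : ℕ) :
    Module.End.eigenspace Ψ ((j : ℚ) ^ m) ≤ H6_QF P m := by
  intro v hv
  rw [Module.End.mem_eigenspace_iff] at hv
  have h1 := H6_prod_maps hK j Ψ hΨ 0 m (Nat.zero_le m) v (by rw [H6_QF_zero]; trivial)
  rw [H6_aeval_eigen Ψ _ v hv] at h1
  have hc := H6_eval_prod_ne hj (Finset.Ico 0 m) m (by simp)
  have := Submodule.smul_mem _ ((∏ n ∈ Finset.Ico 0 m, (X - C ((j : ℚ) ^ n))).eval ((j : ℚ) ^ m))⁻¹ h1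
  rwa [smul_smul, inv_mul_cancel₀ hc, one_smul] at this

theorem H6_eigen_decomp {P : PosStructure K} (hK : HasSplitting K P) (d : ℕ)
    (hd : gammaFiltration P (d + 1) = ⊥) (j : ℕ) (hj : 2 ≤ j)
    (Ψ : ℚ ⊗[ℤ] K →ₗ[ℚ] ℚ ⊗[ℤ] K)
    (hΨ : ∀ x : K, Ψ (1 ⊗ₜ[ℤ] x) = 1 ⊗ₜ[ℤ] adams P j x) (m : ℕ) :
    Module.End.eigenspace Ψ ((j : ℚ) ^ m) ⊔ H6_QF P (m + 1) = H6_QF P m ∧
      Module.End.eigenspace Ψ ((j : ℚ) ^ m) ⊓ H6_QF P (m + 1) = ⊥ := by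
  obtain ⟨b, hb⟩ : ∃ b, b = max (m + 1) (d + 1) := ⟨_, rfl⟩
  have hb1 : m + 1 ≤ b := by rw [hb]; exact le_max_left _ _
  have hb2 : d + 1 ≤ b := by rw [hb]; exact le_max_right _ _
  obtain ⟨p, hp⟩ : ∃ p : ℚ[X], p = ∏ n ∈ Finset.Ico (m + 1) b, (X - C ((j : ℚ) ^ n)) := ⟨_, rfl⟩
  have hc : p.eval ((j : ℚ) ^ m) ≠ 0 := by
    rw [hp]; exact H6_eval_prod_ne hj _ m (by simp)
  have hkill : ∀ w ∈ H6_QF P (m + 1), aeval Ψ p w = 0 := by
    intro w hw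
    have := H6_prod_maps hK j Ψ hΨ (m + 1) b hb1 w hw
    rw [H6_QF_bot P d hd hb2, Submodule.mem_bot, ← hp] at this
    exact this
  constructor
  · apply le_antisymm
    · exact sup_le (H6_eigen_le_QF hK j hj Ψ hΨ m) (H6_QF_mono P (Nat.le_succ m))
    · intro v hv
      have hsub := H6_Psi_sub_mem hK j Ψ hΨ m v hv
      obtain ⟨v0, hv0⟩ : ∃ v0, v0 = (p.eval ((j : ℚ) ^ m))⁻¹ • aeval Ψ p v := ⟨_, rfl⟩
      have hv0mem : v0 ∈ Module.End.eigenspace Ψ ((j : ℚ) ^ m) := by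
        rw [Module.End.mem_eigenspace_iff, hv0, map_smul, smul_comm]
        congr 1
        have h1 : Ψ (aeval Ψ p v) - ((j : ℚ) ^ m) • aeval Ψ p v =
            aeval Ψ p (Ψ v - ((j : ℚ) ^ m) • v) := by
          have e1 : Ψ (aeval Ψ p v) = aeval Ψ (p * X) v := by
            rw [mul_comm, map_mul, aeval_X, Module.End.mul_apply]
          have e2 : aeval Ψ p (Ψ v) = aeval Ψ (p * X) v := by
            rw [map_mul, aeval_X, Module.End.mul_apply]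
          rw [map_sub, map_smul, e1, e2]
        rw [hkill _ hsub] at h1
        exact sub_eq_zero.mp h1
      have hdiff : v - v0 ∈ H6_QF P (m + 1) := by
        have hroot : (C (p.eval ((j : ℚ) ^ m)) - p).IsRoot ((j : ℚ) ^ m) := by
          rw [IsRoot, eval_sub, eval_C, sub_self]
        obtain ⟨q, hq⟩ := Polynomial.dvd_iff_isRoot.mpr hroot
        have h2 : (p.eval ((j : ℚ) ^ m)) • v - aeval Ψ p v =
            aeval Ψ q (Ψ v - ((j : ℚ) ^ m) • v) := by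
          have e1 : (p.eval ((j : ℚ) ^ m)) • v - aeval Ψ p v =
              aeval Ψ (C (p.eval ((j : ℚ) ^ m)) - p) v := by
            rw [map_sub, aeval_C, LinearMap.sub_apply, Module.algebraMap_end_apply]
          have e2 : Ψ v - ((j : ℚ) ^ m) • v = aeval Ψ (X - C ((j : ℚ) ^ m)) v := by
            rw [map_sub, aeval_X, aeval_C, LinearMap.sub_apply, Module.algebraMap_end_apply]
          rw [e1, hq, e2, mul_comm, map_mul, Module.End.mul_apply]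
        have h3 : aeval Ψ q (Ψ v - ((j : ℚ) ^ m) • v) ∈ H6_QF P (m + 1) :=
          H6_aeval_preserves Ψ _ (fun w hw => H6_Psi_preserves hK j Ψ hΨ (m + 1) w hw) q _ hsub
        rw [← h2] at h3
        have e : v - v0 = (p.eval ((j : ℚ) ^ m))⁻¹ •
            ((p.eval ((j : ℚ) ^ m)) • v - aeval Ψ p v) := by
          rw [smul_sub, smul_smul, inv_mul_cancel₀ hc, one_smul, hv0]
        rw [e]
        exact Submodule.smul_mem _ _ h3
      have : v = v0 + (v - v0) := by abel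
      rw [this]
      exact Submodule.add_mem_sup hv0mem hdiff
  · rw [eq_bot_iff]
    rintro v ⟨hv1, hv2⟩
    rw [SetLike.mem_coe, Module.End.mem_eigenspace_iff] at hv1
    have h1 := hkill v hv2
    rw [H6_aeval_eigen Ψ _ v hv1] at h1
    rw [Submodule.mem_bot]
    exact (smul_eq_zero.mp h1).resolve_left hc

theorem H6_iSup_eigen {P : PosStructure K} (hK : HasSplitting K P) (d : ℕ)
    (hd : gammaFiltration P (d + 1) = ⊥) (j : ℕ) (hj : 2 ≤ j)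
    (Ψ : ℚ ⊗[ℤ] K →ₗ[ℚ] ℚ ⊗[ℤ] K)
    (hΨ : ∀ x : K, Ψ (1 ⊗ₜ[ℤ] x) = 1 ⊗ₜ[ℤ] adams P j x) :
    (⨆ m ∈ range (d + 1), Module.End.eigenspace Ψ ((j : ℚ) ^ m)) = ⊤ := by
  have key : ∀ k, k ≤ d + 1 → H6_QF P (d + 1 - k) ≤
      ⨆ m ∈ range (d + 1), Module.End.eigenspace Ψ ((j : ℚ) ^ m) := by
    intro k
    induction k with
    | zero =>
      intro _
      rw [Nat.sub_zero, H6_QF_bot P d hd le_rfl]
      exact bot_le
    | succ k ih =>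
      intro hk
      have h1 := (H6_eigen_decomp hK d hd j hj Ψ hΨ (d + 1 - (k + 1))).1
      rw [← h1]
      apply sup_le
      · exact le_iSup₂_of_le (d + 1 - (k + 1)) (Finset.mem_range.mpr (by omega)) le_rfl
      · have : d + 1 - (k + 1) + 1 = d + 1 - k := by omega
        rw [this]
        exact ih (by omega)
  have := key (d + 1) le_rfl
  rw [Nat.sub_self, H6_QF_zero] at this
  exact top_le_iff.mp this

theorem H6_Psi_comm {P : PosStructure K} (hK : HasSplitting K P) (j l : ℕ)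
    (Ψj Ψl : ℚ ⊗[ℤ] K →ₗ[ℚ] ℚ ⊗[ℤ] K)
    (hΨj : ∀ x : K, Ψj (1 ⊗ₜ[ℤ] x) = 1 ⊗ₜ[ℤ] adams P j x)
    (hΨl : ∀ x : K, Ψl (1 ⊗ₜ[ℤ] x) = 1 ⊗ₜ[ℤ] adams P l x) (v : ℚ ⊗[ℤ] K) :
    Ψj (Ψl v) = Ψl (Ψj v) := by
  have h : Ψj.comp Ψl = Ψl.comp Ψj := by
    apply LinearMap.ext_on (H6_QF_zero P)
    rintro _ ⟨x, -, rfl⟩
    simp only [LinearMap.comp_apply]
    rw [hΨl, hΨj, hΨj, hΨl, H6_adams_adams hK, H6_adams_adams hK, mul_comm]
  exact LinearMap.congr_fun h v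

theorem H6_eigen_le_eigen {P : PosStructure K} (hK : HasSplitting K P) (d : ℕ)
    (hd : gammaFiltration P (d + 1) = ⊥) (j l : ℕ) (hj : 2 ≤ j)
    (Ψj Ψl : ℚ ⊗[ℤ] K →ₗ[ℚ] ℚ ⊗[ℤ] K)
    (hΨj : ∀ x : K, Ψj (1 ⊗ₜ[ℤ] x) = 1 ⊗ₜ[ℤ] adams P j x)
    (hΨl : ∀ x : K, Ψl (1 ⊗ₜ[ℤ] x) = 1 ⊗ₜ[ℤ] adams P l x) (m : ℕ) :
    Module.End.eigenspace Ψj ((j : ℚ) ^ m) ≤ Module.End.eigenspace Ψl ((l : ℚ) ^ m) := by
  intro v hv
  have hv' := hv
  rw [Module.End.mem_eigenspace_iff] at hv' ⊢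
  have hvQ := H6_eigen_le_QF hK j hj Ψj hΨj m hv
  have h1 := H6_Psi_sub_mem hK l Ψl hΨl m v hvQ
  have h2 : Ψl v ∈ Module.End.eigenspace Ψj ((j : ℚ) ^ m) := by
    rw [Module.End.mem_eigenspace_iff, H6_Psi_comm hK j l Ψj Ψl hΨj hΨl, hv', map_smul]
  have h3 : Ψl v - ((l : ℚ) ^ m) • v ∈ Module.End.eigenspace Ψj ((j : ℚ) ^ m) :=
    Submodule.sub_mem _ h2 (Submodule.smul_mem _ _ hv)
  have h4 : Ψl v - ((l : ℚ) ^ m) • v ∈
      Module.End.eigenspace Ψj ((j : ℚ) ^ m) ⊓ H6_QF P (m + 1) := ⟨h3, h1⟩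
  rw [(H6_eigen_decomp hK d hd j hj Ψj hΨj m).2, Submodule.mem_bot] at h4
  exact sub_eq_zero.mp h4

end Groth.Agent.Lib.helper6
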