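import Mathlib
import Groth.Agent.Lib.helper6.LambdaEigen2

set_option autoImplicit false
set_option linter.style.haveILetI false

universe u

open Finset LambdaRing Polynomial
open scoped TensorProduct

namespace Groth.Agent.Lib.helper6

section LogPoly

/-- the truncated logarithm `log(1+X)` up to degree `d+1` -/
noncomputable def H6_logT (d : ℕ) : ℚ[X] :=
  ∑ n ∈ range (d + 1), C ((-1 : ℚ) ^ n / ((n : ℚ) + 1)) * X ^ (n + 1)

theorem H6_logT_derivative (d : ℕ) :
    derivative (H6_logT d) = ∑ n ∈ range (d + 1), (-X : ℚ[X]) ^ n := by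
  rw [H6_logT, derivative_sum]
  refine Finset.sum_congr rfl fun n _ => ?_
  have hneg : (-X : ℚ[X]) ^ n = C ((-1 : ℚ) ^ n) * X ^ n := by
    rw [neg_pow, C_pow, C_neg, C_1]
  rw [derivative_C_mul, derivative_X_pow, Nat.add_sub_cancel, ← mul_assoc, ← C_mul, hneg]
  congr 2
  have : ((n : ℚ) + 1) ≠ 0 := by positivity
  push_cast
  field_simp

theorem H6_logT_derivative_mul (d : ℕ) :
    derivative (H6_logT d) * (X + 1) = 1 - (-X : ℚ[X]) ^ (d + 1) := by
  rw [H6_logT_derivative, mul_comm, ← mul_neg_geom_sum]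
  ring

theorem H6_logT_eval_zero (d : ℕ) : (H6_logT d).eval 0 = 0 := by
  rw [H6_logT, eval_finsetSum]
  refine Finset.sum_eq_zero fun n _ => ?_
  simp

/-- `X^(d+1)` divides `logT((1+X)^j - 1) - j * logT(X)` -/
theorem H6_logT_comp (d j : ℕ) :
    (X : ℚ[X]) ^ (d + 1) ∣ (H6_logT d).comp ((X + 1) ^ j - 1) - C (j : ℚ) * H6_logT d := by
  obtain ⟨Z, hZ⟩ : ∃ Z : ℚ[X], Z = (X + 1) ^ j - 1 := ⟨_, rfl⟩
  obtain ⟨G, hG⟩ : ∃ G : ℚ[X], G = (H6_logT d).comp Z - C (j : ℚ) * H6_logT d := ⟨_, rfl⟩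
  rw [← hZ, ← hG]
  have hXZ : (X : ℚ[X]) ∣ Z := by
    have := sub_dvd_pow_sub_pow (X + 1 : ℚ[X]) 1 j
    rw [one_pow, add_sub_cancel_right] at this
    rw [hZ]; exact this
  have hZ' : derivative Z * (X + 1) = C (j : ℚ) * (Z + 1) := by
    rw [hZ, derivative_sub, derivative_one, sub_zero, derivative_pow, derivative_add,
      derivative_X, derivative_one, add_zero, mul_one, sub_add_cancel, C_eq_natCast]
    cases j with
    | zero => simp
    | succ j => rw [Nat.add_sub_cancel, pow_succ]; ring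
  have hG' : derivative G * (X + 1) =
      C (j : ℚ) * ((-X : ℚ[X]) ^ (d + 1) - (-Z) ^ (d + 1)) := by
    have h1 : (derivative (H6_logT d)).comp Z * (Z + 1) = 1 - (-Z) ^ (d + 1) := by
      have := congrArg (fun p => p.comp Z) (H6_logT_derivative_mul d)
      simp only [mul_comp, add_comp, X_comp, one_comp, sub_comp, pow_comp, neg_comp] at this
      exact this
    rw [hG, derivative_sub, derivative_comp, derivative_C_mul, sub_mul]
    have e1 : derivative Z * (derivative (H6_logT d)).comp Z * (X + 1) =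
        C (j : ℚ) * ((derivative (H6_logT d)).comp Z * (Z + 1)) := by
      rw [mul_comm (derivative Z), mul_assoc, hZ']; ring
    rw [e1, h1, mul_assoc, H6_logT_derivative_mul]
    ring
  have hdvd1 : (X : ℚ[X]) ^ (d + 1) ∣ derivative G * (X + 1) := by
    rw [hG']
    apply Dvd.dvd.mul_left
    apply dvd_sub
    · rw [neg_pow]; exact Dvd.intro_left _ rfl
    · rw [neg_pow]
      exact Dvd.dvd.mul_left (pow_dvd_pow_of_dvd hXZ _) _
  have hcop : IsCoprime ((X : ℚ[X]) ^ (d + 1)) (X + 1) := by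
    apply IsCoprime.pow_left
    exact ⟨-1, 1, by ring⟩
  have hdvd2 : (X : ℚ[X]) ^ (d + 1) ∣ derivative G := hcop.dvd_of_dvd_mul_right hdvd1
  rw [X_pow_dvd_iff] at hdvd2 ⊢
  intro n hn
  cases n with
  | zero =>
    rw [coeff_zero_eq_eval_zero, hG, eval_sub, eval_comp, eval_mul, H6_logT_eval_zero, hZ]
    simp [H6_logT_eval_zero]
  | succ n =>
    have := hdvd2 n (by omega)
    rw [coeff_derivative] at this
    have hne : ((n : ℚ) + 1) ≠ 0 := by positivity
    exact (mul_eq_zero.mp this).resolve_right hne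

end LogPoly

end Groth.Agent.Lib.helper6
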