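import Mathlib
import Groth.Agent.Lib.helper6.LambdaLog

set_option autoImplicit false
set_option linter.style.haveILetI false

universe u

open Finset LambdaRing Polynomial
open scoped TensorProduct

namespace Groth.Agent.Lib.helper6

section LogApply

theorem H6_logT_aeval (d : ℕ) {A : Type*} [CommRing A] [Algebra ℚ A] (w : A) :
    aeval w (H6_logT d) = ∑ n ∈ range (d + 1), ((-1 : ℚ) ^ n / ((n : ℚ) + 1)) • w ^ (n + 1) := by
  rw [H6_logT, map_sum]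
  refine Finset.sum_congr rfl fun n _ => ?_
  rw [map_mul, aeval_C, map_pow, aeval_X, Algebra.smul_def]

theorem H6_log_identity (d j : ℕ) {A : Type*} [CommRing A] [Algebra ℚ A] (y : A)
    (hy : y ^ (d + 1) = 0) :
    ∑ n ∈ range (d + 1), ((-1 : ℚ) ^ n / ((n : ℚ) + 1)) • ((y + 1) ^ j - 1) ^ (n + 1) =
      (j : ℚ) • ∑ n ∈ range (d + 1), ((-1 : ℚ) ^ n / ((n : ℚ) + 1)) • y ^ (n + 1) := by
  obtain ⟨H, hH⟩ := H6_logT_comp d j
  have h := congrArg (aeval y) hH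
  rw [map_sub, map_mul, map_mul, aeval_C, aeval_comp, map_pow, aeval_X, hy, zero_mul,
    H6_logT_aeval, H6_logT_aeval, ← Algebra.smul_def] at h
  have e : (aeval y) ((X + 1 : ℚ[X]) ^ j - 1) = (y + 1) ^ j - 1 := by simp
  rw [e] at h
  exact sub_eq_zero.mp h

variable {K : Type u} [CommRing K] [LambdaOps K]

theorem H6_sub_one_mem (P : PosStructure K) (u : K) (hu : P.IsLine u) :
    u - 1 ∈ gammaFiltration P 1 := by
  rw [H6_gammaFiltration_succ]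
  apply AddSubgroup.subset_closure
  refine ⟨[(1, u - 1)], ?_, ?_, ?_⟩
  · intro p hp
    simp only [List.mem_singleton] at hp
    subst hp
    simp [hu.2]
  · simp
  · simp [H6_gamma_one]

theorem H6_sub_one_pow_mem (P : PosStructure K) (u : K) (hu : P.IsLine u) (n : ℕ) :
    (u - 1) ^ n ∈ gammaFiltration P n := by
  induction n with
  | zero => rw [H6_gammaFiltration_zero]; trivial
  | succ n ih =>
    rw [pow_succ]
    exact H6_gammaFiltration_mul P n 1 _ _ ih (H6_sub_one_mem P u hu)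

theorem H6_smul_one_tmul (c : ℚ) (x : K) : c • ((1 : ℚ) ⊗ₜ[ℤ] x) = c ⊗ₜ[ℤ] x := by
  rw [TensorProduct.smul_tmul', smul_eq_mul, mul_one]

theorem H6_log_eigen {P : PosStructure K} (hK : HasSplitting K P) (d : ℕ)
    (hd : gammaFiltration P (d + 1) = ⊥) (j : ℕ)
    (Ψ : ℚ ⊗[ℤ] K →ₗ[ℚ] ℚ ⊗[ℤ] K)
    (hΨ : ∀ x : K, Ψ (1 ⊗ₜ[ℤ] x) = 1 ⊗ₜ[ℤ] adams P j x) (u : K) (hu : P.IsLine u) :
    Ψ (∑ n ∈ range (d + 1), ((-1 : ℚ) ^ n / ((n : ℚ) + 1)) ⊗ₜ[ℤ] ((u - 1) ^ (n + 1))) =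
      (j : ℚ) • ∑ n ∈ range (d + 1), ((-1 : ℚ) ^ n / ((n : ℚ) + 1)) ⊗ₜ[ℤ] ((u - 1) ^ (n + 1)) := by
  have hy : ((1 : ℚ) ⊗ₜ[ℤ] (u - 1) : ℚ ⊗[ℤ] K) ^ (d + 1) = 0 := by
    rw [Algebra.TensorProduct.tmul_pow, one_pow]
    have h0 : (u - 1) ^ (d + 1) = 0 := by
      have := H6_sub_one_pow_mem P u hu (d + 1)
      rw [hd] at this
      exact this
    rw [h0, TensorProduct.tmul_zero]
  have hid := H6_log_identity d j ((1 : ℚ) ⊗ₜ[ℤ] (u - 1) : ℚ ⊗[ℤ] K) hy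
  have e1 : (((1 : ℚ) ⊗ₜ[ℤ] (u - 1) : ℚ ⊗[ℤ] K) + 1) ^ j - 1 = (1 : ℚ) ⊗ₜ[ℤ] (u ^ j - 1) := by
    rw [Algebra.TensorProduct.one_def, ← TensorProduct.tmul_add, sub_add_cancel,
      Algebra.TensorProduct.tmul_pow, one_pow, ← TensorProduct.tmul_sub]
  rw [e1] at hid
  simp only [Algebra.TensorProduct.tmul_pow, one_pow, H6_smul_one_tmul] at hid
  rw [← hid, map_sum]
  refine Finset.sum_congr rfl fun n _ => ?_
  rw [← H6_smul_one_tmul, map_smul, hΨ, H6_smul_one_tmul]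
  congr 1
  have hpow : ∀ k : ℕ, adams P j ((u - 1) ^ k) = (adams P j (u - 1)) ^ k := by
    intro k
    induction k with
    | zero =>
      rw [pow_zero, pow_zero, H6_adams_line P 1 (H6_isLine_one P), one_pow]
    | succ k ih => rw [pow_succ, H6_adams_mul hK, ih, pow_succ]
  rw [hpow, H6_adams_sub, H6_adams_line P u hu, H6_adams_line P 1 (H6_isLine_one P), one_pow]

theorem H6_log_sub_mem (P : PosStructure K) (d : ℕ) (u : K) (hu : P.IsLine u) :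
    (∑ n ∈ range (d + 1), ((-1 : ℚ) ^ n / ((n : ℚ) + 1)) ⊗ₜ[ℤ] ((u - 1) ^ (n + 1))) -
        (1 : ℚ) ⊗ₜ[ℤ] (u - 1) ∈ H6_QF P 2 := by
  rw [Finset.sum_range_succ']
  have e0 : ((-1 : ℚ) ^ 0 / (((0 : ℕ) : ℚ) + 1)) ⊗ₜ[ℤ] ((u - 1) ^ (0 + 1)) =
      (1 : ℚ) ⊗ₜ[ℤ] (u - 1) := by simp
  rw [e0, add_sub_cancel_right]
  refine Submodule.sum_mem _ fun n _ => ?_
  rw [← H6_smul_one_tmul]
  refine Submodule.smul_mem _ _ (Submodule.subset_span ⟨_, ?_, rfl⟩)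
  exact H6_gammaFiltration_mono P (by omega) (H6_sub_one_pow_mem P u hu (n + 1 + 1))

end LogApply

end Groth.Agent.Lib.helper6
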