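import Mathlib
import Groth.Agent.Lib.helper6.LambdaDet
import Groth.Agent.Lib.helper6.LambdaLog2

set_option autoImplicit false
set_option linter.style.haveILetI false

universe u

open Finset LambdaRing

namespace Groth.Agent.Lib.helper6

section Det2

variable {K : Type u} [CommRing K] [LambdaOps K]

theorem H6_aug_multiset_prod_eq_zero (P : PosStructure K) (t : Multiset K)
    (ht : ∀ a ∈ t, P.aug a = 0) (hne : 0 < Multiset.card t) : P.aug t.prod = 0 := by
  obtain ⟨a, ha⟩ := Multiset.card_pos_iff_exists_mem.mp hne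
  obtain ⟨t', rfl⟩ := Multiset.exists_cons_of_mem ha
  rw [Multiset.prod_cons, map_mul, ht a ha, zero_mul]

/-- image of `γ^r(p - ε p)` in a splitting extension -/
theorem H6_map_gamma_split {K' : Type u} [CommRing K'] [LambdaOps K'] {P : PosStructure K}
    {P' : PosStructure K'} {F : K →+* K'} (hF : IsExtension P P' F) (p : K) (hp : p ∈ P.pos)
    (s : Multiset K') (hs : ∀ u ∈ s, P'.IsLine u) (hsum : s.sum = F p) (r : ℕ) :
    F (gamma r (p - algebraMap ℤ K (P.aug p))) = (s.map fun u => u - 1).esymm r := by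
  have hcard : (Multiset.card s : ℤ) = P.aug p := by
    rw [← H6_card_of_lines P' s hs, hsum, hF.aug_comp]
  rw [H6_map_gamma F hF.isLambdaHom, ← H6_gamma_lines P' s hs, map_sub, hsum]
  congr 2
  rw [← hcard]
  simp

theorem H6_Det1_gamma_mul {P : PosStructure K} (hK : HasSplitting K P) (p : K) (hp : p ∈ P.pos)
    (r : ℕ) (hr : 1 ≤ r) (y : K) (h : 2 ≤ r ∨ P.aug y = 0) :
    H6_Det1 P (gamma r (p - algebraMap ℤ K (P.aug p)) * y) := by
  obtain ⟨L, F, hF, hL, s, hs, hsum⟩ := H6_split_one' hK p hp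
  apply H6_Det1_of_ext hF
  rw [map_mul, H6_map_gamma_split hF p hp s hs hsum r, Multiset.esymm,
    ← Multiset.sum_map_mul_right]
  rw [← H6_mem_Det1Sub]
  apply AddSubgroup.multiset_sum_mem
  intro z hz
  rw [Multiset.mem_map] at hz
  obtain ⟨t0, ht0, rfl⟩ := hz
  rw [Multiset.mem_powersetCard] at ht0
  obtain ⟨hle, hcard⟩ := ht0
  have hmem : ∀ a ∈ t0, ∃ u, L.posStr.IsLine u ∧ a = u - 1 := by
    intro a ha
    have := Multiset.mem_of_le hle ha
    rw [Multiset.mem_map] at this
    obtain ⟨u, hu, rfl⟩ := this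
    exact ⟨u, hs u hu, rfl⟩
  have haug0 : ∀ a ∈ t0, L.posStr.aug a = 0 := by
    intro a ha
    obtain ⟨u, hu, rfl⟩ := hmem a ha
    rw [map_sub, hu.2, map_one, sub_self]
  obtain ⟨a, ha⟩ := Multiset.card_pos_iff_exists_mem.mp (by omega : 0 < Multiset.card t0)
  obtain ⟨t1, rfl⟩ := Multiset.exists_cons_of_mem ha
  obtain ⟨u, hu, rfl⟩ := hmem a ha
  rw [H6_mem_Det1Sub, Multiset.prod_cons, mul_assoc]
  apply H6_Det1_line_sub_one_mul hL hu
  rw [map_mul]
  rcases h with h | h
  · rw [H6_aug_multiset_prod_eq_zero L.posStr t1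
      (fun b hb => haug0 b (Multiset.mem_cons_of_mem hb))
      (by rw [Multiset.card_cons] at hcard; omega), zero_mul]
  · rw [hF.aug_comp, h, mul_zero]

/-- augmentation of `γ^r(p - ε p)` vanishes for `r ≥ 1` -/
theorem H6_aug_gamma_pos {P : PosStructure K} (hK : HasSplitting K P) (p : K) (hp : p ∈ P.pos)
    (r : ℕ) (hr : 1 ≤ r) : P.aug (gamma r (p - algebraMap ℤ K (P.aug p))) = 0 := by
  obtain ⟨L, F, hF, hL, s, hs, hsum⟩ := H6_split_one' hK p hp
  rw [← hF.aug_comp, H6_map_gamma_split hF p hp s hs hsum r, Multiset.esymm, map_multiset_sum,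
    Multiset.map_map]
  apply Multiset.sum_eq_zero
  intro z hz
  rw [Multiset.mem_map] at hz
  obtain ⟨t0, ht0, rfl⟩ := hz
  rw [Multiset.mem_powersetCard] at ht0
  obtain ⟨hle, hcard⟩ := ht0
  simp only [Function.comp_apply]
  apply H6_aug_multiset_prod_eq_zero
  · intro a ha
    have := Multiset.mem_of_le hle ha
    rw [Multiset.mem_map] at this
    obtain ⟨u, hu, rfl⟩ := this
    rw [map_sub, (hs u hu).2, map_one, sub_self]
  · omega

theorem H6_gamma_zero' (x : K) : gamma 0 x = 1 := by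
  rw [gamma, if_pos rfl]

/-- the main statement about generators -/
theorem H6_Det1_generator {P : PosStructure K} (hK : HasSplitting K P) (l : List (ℕ × K))
    (hl : ∀ p ∈ l, p.2 ∈ P.pos) :
    (1 ≤ (l.map Prod.fst).sum →
      P.aug (l.map fun p => gamma p.1 (p.2 - algebraMap ℤ K (P.aug.toIntAlgHom p.2))).prod = 0) ∧
    ∀ y : K, (2 ≤ (l.map Prod.fst).sum ∨ (1 ≤ (l.map Prod.fst).sum ∧ P.aug y = 0)) →
      H6_Det1 P ((l.map fun p => gamma p.1 (p.2 - algebraMap ℤ K (P.aug.toIntAlgHom p.2))).prod * y) := by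
  induction l with
  | nil =>
    refine ⟨fun h => ?_, fun y h => ?_⟩
    · simp at h
    · simp at h
  | cons a l ih =>
    have ha : a.2 ∈ P.pos := hl a List.mem_cons_self
    obtain ⟨ih1, ih2⟩ := ih (fun p hp => hl p (List.mem_cons_of_mem _ hp))
    simp only [List.map_cons, List.prod_cons, List.sum_cons]
    obtain ⟨R, hR⟩ : ∃ R, R = (l.map Prod.fst).sum := ⟨_, rfl⟩
    obtain ⟨G, hG⟩ : ∃ G, G =
        (l.map fun p => gamma p.1 (p.2 - algebraMap ℤ K (P.aug.toIntAlgHom p.2))).prod := ⟨_, rfl⟩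
    rw [← hR, ← hG] at ih1 ih2 ⊢
    have hcoe : (P.aug.toIntAlgHom a.2) = P.aug a.2 := rfl
    rw [hcoe]
    refine ⟨fun h => ?_, fun y h => ?_⟩
    · rw [map_mul]
      by_cases hr : a.1 = 0
      · rw [ih1 (by omega), mul_zero]
      · rw [H6_aug_gamma_pos hK a.2 ha a.1 (by omega), zero_mul]
    · by_cases hr : a.1 = 0
      · rw [hr, H6_gamma_zero', one_mul]
        apply ih2
        rcases h with h | h
        · left; omega
        · right; exact ⟨by omega, h.2⟩
      · rw [mul_assoc]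
        apply H6_Det1_gamma_mul hK a.2 ha a.1 (by omega)
        by_cases hr2 : 2 ≤ a.1
        · left; exact hr2
        · right
          rw [map_mul]
          by_cases hR1 : 1 ≤ R
          · rw [ih1 hR1, zero_mul]
          · rcases h with h | h
            · omega
            · rw [h.2, mul_zero]

theorem H6_gammaFiltration_two_le_Det1 {P : PosStructure K} (hK : HasSplitting K P) (x : K)
    (hx : x ∈ gammaFiltration P 2) : H6_Det1 P x := by
  have h := H6_gammaFiltration_le_M P 2 x hx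
  rw [H6_M] at h
  have hle : Submodule.span ℤ (H6_T (P.aug.toIntAlgHom) P.pos 2) ≤
      (H6_Det1Sub P).toIntSubmodule := by
    rw [Submodule.span_le]
    rintro y ⟨l, h1, h2, rfl⟩
    have := (H6_Det1_generator hK l h1).2 1 (Or.inl h2)
    rw [mul_one] at this
    exact this
  exact hle h

theorem H6_aug_eq_zero_of_mem {P : PosStructure K} (hK : HasSplitting K P) (x : K)
    (hx : x ∈ gammaFiltration P 1) : P.aug x = 0 := by
  have h := H6_gammaFiltration_le_M P 1 x hx
  rw [H6_M] at h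
  have hle : Submodule.span ℤ (H6_T (P.aug.toIntAlgHom) P.pos 1) ≤
      (P.aug.toAddMonoidHom.ker).toIntSubmodule := by
    rw [Submodule.span_le]
    rintro y ⟨l, h1, h2, rfl⟩
    exact (H6_Det1_generator hK l h1).1 h2
  exact hle h

end Det2

end Groth.Agent.Lib.helper6
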