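import Mathlib
import Groth.Agent.Lib.helper6.LambdaDet2

set_option autoImplicit false
set_option linter.style.haveILetI false

universe u

open Finset LambdaRing

namespace Groth.Agent.Lib.helper6

section Det3

variable {K : Type u} [CommRing K] [LambdaOps K]

theorem H6_detp_eq_sum_gamma (P : PosStructure K) (e : K) (he : e ∈ P.pos) :
    H6_detp P e = ∑ i ∈ range ((P.aug e).toNat + 1), gamma i (e - ((P.aug e).toNat : K)) := by
  have h := congrArg (Polynomial.eval 1) (H6_gamma_poly_identity P e he)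
  rw [Polynomial.eval_finsetSum, Polynomial.eval_finsetSum] at h
  simp only [Polynomial.eval_mul, Polynomial.eval_C, Polynomial.eval_pow, Polynomial.eval_X,
    Polynomial.eval_sub, Polynomial.eval_one, one_pow, mul_one, sub_self] at h
  rw [h, Finset.sum_range_succ, Nat.sub_self, pow_zero, mul_one, H6_detp]
  rw [Finset.sum_eq_zero, zero_add]
  intro i hi
  rw [Finset.mem_range] at hi
  rw [zero_pow (by omega), mul_zero]

theorem H6_detp_sub_mem (P : PosStructure K) (e : K) (he : e ∈ P.pos) :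
    H6_detp P e - 1 - (e - ((P.aug e).toNat : K)) ∈ gammaFiltration P 2 := by
  have hpos := P.aug_pos e he
  obtain ⟨m, hm⟩ : ∃ m, m + 1 = (P.aug e).toNat := ⟨(P.aug e).toNat - 1, by omega⟩
  have haug : P.aug (e - ((P.aug e).toNat : K)) = 0 := by
    rw [map_sub, map_natCast]; omega
  rw [H6_detp_eq_sum_gamma P e he, ← hm, Finset.sum_range_succ', Finset.sum_range_succ',
    H6_gamma_zero', zero_add, H6_gamma_one, hm]
  have e1 : ∀ S : K, S + (e - ((P.aug e).toNat : K)) + 1 - 1 - (e - ((P.aug e).toNat : K)) = S := by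
    intro S; ring
  rw [e1]
  refine AddSubgroup.sum_mem _ fun i _ => ?_
  exact H6_gammaFiltration_mono P (by omega) (H6_gamma_mem P _ haug (i + 1 + 1))

theorem H6_detp_isLine {P : PosStructure K} (hK : HasSplitting K P)
    (hdet : ∀ e : K, e ∈ P.pos → LambdaOps.lam (P.aug e).toNat e ∈ P.pos) (e : K)
    (he : e ∈ P.pos) : P.IsLine (H6_detp P e) := by
  refine ⟨hdet e he, ?_⟩
  rw [H6_detp, H6_aug_lam_pos hK e he, Nat.choose_self]
  simp

theorem H6_lines_gr1_surj {P : PosStructure K} (hK : HasSplitting K P)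
    (hLinv : ∀ w : K, P.IsLine w → ∃ w' : K, P.IsLine w' ∧ w * w' = 1)
    (hdet : ∀ e : K, e ∈ P.pos → LambdaOps.lam (P.aug e).toNat e ∈ P.pos)
    (x : K) (hx : x ∈ gammaFiltration P 1) :
    ∃ u : K, P.IsLine u ∧ x - (u - 1) ∈ gammaFiltration P 2 := by
  have hx0 := H6_aug_eq_zero_of_mem hK x hx
  obtain ⟨e, f, he, hf, rfl⟩ := P.exists_sub x
  have hef : (P.aug e).toNat = (P.aug f).toNat := by
    rw [map_sub] at hx0
    have : P.aug e = P.aug f := by linarith
    rw [this]
  have hle := H6_detp_isLine hK hdet e he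
  have hlf := H6_detp_isLine hK hdet f hf
  obtain ⟨v', hv', hfv⟩ := hLinv _ hlf
  refine ⟨H6_detp P e * v', H6_isLine_mul P hle hv', ?_⟩
  have hA := H6_detp_sub_mem P e he
  have hB := H6_detp_sub_mem P f hf
  have ha := H6_sub_one_mem P _ hle
  have hb := H6_sub_one_mem P _ hlf
  have hc := H6_sub_one_mem P _ hv'
  have hbc := H6_gammaFiltration_mul P 1 1 _ _ hb hc
  have hac := H6_gammaFiltration_mul P 1 1 _ _ ha hc
  have key : e - f - (H6_detp P e * v' - 1) =
      -(H6_detp P e - 1 - (e - ((P.aug e).toNat : K))) +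
        (H6_detp P f - 1 - (f - ((P.aug f).toNat : K))) +
        ((H6_detp P f - 1) * (v' - 1) - (H6_detp P e - 1) * (v' - 1)) := by
    rw [hef]
    linear_combination (-1 : K) * hfv
  rw [key]
  exact AddSubgroup.add_mem _ (AddSubgroup.add_mem _ (AddSubgroup.neg_mem _ hA) hB)
    (AddSubgroup.sub_mem _ hbc hac)

theorem H6_lines_gr1_inj {P : PosStructure K} (hK : HasSplitting K P)
    (hLinv : ∀ w : K, P.IsLine w → ∃ w' : K, P.IsLine w' ∧ w * w' = 1)
    (u v : K) (hu : P.IsLine u) (hv : P.IsLine v) (huv : u - v ∈ gammaFiltration P 2) : u = v := by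
  obtain ⟨v', hv', hvv⟩ := hLinv v hv
  have hw := H6_isLine_mul P hu hv'
  have h1 : u * v' - 1 = v' * (u - v) := by linear_combination hvv
  have h2 : u * v' - 1 ∈ gammaFiltration P 2 := by
    rw [h1]; exact H6_mul_mem_gammaFiltration P 2 _ _ huv
  have h3 := H6_gammaFiltration_two_le_Det1 hK _ h2
  have h4 := H6_Det1_unique P h3 hw.1 (H6_isLine_one P).1 rfl
  rw [H6_detp_line P hw, H6_detp_line P (H6_isLine_one P)] at h4
  calc u = u * (v * v') := by rw [hvv, mul_one]
    _ = (u * v') * v := by ring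
    _ = v := by rw [h4, one_mul]

end Det3

end Groth.Agent.Lib.helper6
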