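import Mathlib
import Groth.Prelude.Def_KRR
import Groth.Agent.Lib.helper6.LambdaBott

set_option autoImplicit false
set_option linter.style.haveILetI false

universe u

open Finset LambdaRing

namespace Groth.Agent.Lib.helper6

section Abstract

theorem H6_functional_values {K B : Type*} [CommRing K] [CommRing B] [Algebra K B]
    (m : ℕ) (hm : 1 ≤ m) (a σ : ℕ → K) (ha0 : a 0 = 1) (ham : IsUnit (a m))
    (hazero : ∀ i, m < i → a i = 0)
    (hconv : ∀ n, 1 ≤ n → ∑ i ∈ range (n + 1), a i * σ (n - i) = 0)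
    (ℓ linv : B) (hl : linv * ℓ = 1) (hrel : ∑ i ∈ range (m + 1), a i • ℓ ^ (m - i) = 0)
    (f : B →ₗ[K] K) (hf : ∀ i, i < m → f (ℓ ^ i) = σ i) :
    (∀ i, f (ℓ ^ i) = σ i) ∧ ∀ n, 1 ≤ n → n < m → f (linv ^ n) = 0 := by
  obtain ⟨U, hU⟩ : ∃ U : Bˣ, U = ⟨ℓ, linv, by rw [mul_comm]; exact hl, hl⟩ := ⟨_, rfl⟩
  have hUℓ : (U : B) = ℓ := by rw [hU]
  have hUinv : ((U⁻¹ : Bˣ) : B) = linv := by rw [hU]; rfl
  have hrelz : ∀ z : ℤ, ∑ i ∈ range (m + 1), a i * f ((U ^ (z - (i : ℤ)) : Bˣ) : B) = 0 := by
    intro z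
    have h1 := congrArg (fun x => f (x * ((U ^ (z - (m : ℤ)) : Bˣ) : B))) hrel
    simp only [zero_mul, map_zero, Finset.sum_mul, map_sum] at h1
    rw [← h1]
    refine Finset.sum_congr rfl fun i hi => ?_
    rw [Finset.mem_range] at hi
    rw [smul_mul_assoc, map_smul, smul_eq_mul]
    congr 2
    rw [← hUℓ, ← Units.val_pow_eq_pow_val, ← Units.val_mul, ← zpow_natCast, ← zpow_add]
    congr 2
    rw [Nat.cast_sub (by omega)]
    ring
  have part1 : ∀ n, f (ℓ ^ n) = σ n := by
    intro n
    induction n using Nat.strong_induction_on with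
    | _ n ih =>
      by_cases hn : n < m
      · exact hf n hn
      · have hn' : m ≤ n := by omega
        have h1 := hrelz (n : ℤ)
        have h2 : ∑ i ∈ range (m + 1), a i * σ (n - i) = 0 := by
          rw [← hconv n (by omega)]
          apply Finset.sum_subset
          · intro i hi
            rw [Finset.mem_range] at hi ⊢
            omega
          · intro i _ hi
            rw [Finset.mem_range] at hi
            rw [hazero i (by omega), zero_mul]
        have hg : ∀ i ∈ range (m + 1), ((U ^ ((n : ℤ) - (i : ℤ)) : Bˣ) : B) = ℓ ^ (n - i) := by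
          intro i hi
          rw [Finset.mem_range] at hi
          rw [← Nat.cast_sub (by omega), zpow_natCast, Units.val_pow_eq_pow_val, hUℓ]
        rw [Finset.sum_congr rfl (fun i hi => by rw [hg i hi]), Finset.sum_range_succ',
          Finset.sum_congr rfl (fun i _ => by rw [ih (n - (i + 1)) (by omega)])] at h1
        rw [Finset.sum_range_succ'] at h2
        simp only [Nat.sub_zero, ha0, one_mul] at h1 h2
        rw [← sub_eq_zero]
        linear_combination h1 - h2
  refine ⟨part1, ?_⟩
  have hgpos : ∀ k : ℕ, f ((U ^ ((k : ℤ)) : Bˣ) : B) = σ k := by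
    intro k
    rw [zpow_natCast, Units.val_pow_eq_pow_val, hUℓ, part1]
  have part2 : ∀ n, 1 ≤ n → n < m → f ((U ^ (-(n : ℤ)) : Bˣ) : B) = 0 := by
    intro n
    induction n using Nat.strong_induction_on with
    | _ n ih =>
      intro hn1 hnm
      obtain ⟨z, hz⟩ : ∃ z : ℕ, z = m - n := ⟨_, rfl⟩
      have hzm : z + n = m := by omega
      have h1 := hrelz (z : ℤ)
      rw [Finset.sum_range_succ, ← Finset.sum_range_add_sum_Ico _ (show z + 1 ≤ m by omega)] at h1
      have hA : ∑ i ∈ range (z + 1), a i * f ((U ^ ((z : ℤ) - (i : ℤ)) : Bˣ) : B) = 0 := by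
        rw [← hconv z (by omega)]
        refine Finset.sum_congr rfl fun i hi => ?_
        rw [Finset.mem_range] at hi
        rw [← Nat.cast_sub (by omega), hgpos]
      have hB : ∑ i ∈ Finset.Ico (z + 1) m, a i * f ((U ^ ((z : ℤ) - (i : ℤ)) : Bˣ) : B) = 0 := by
        refine Finset.sum_eq_zero fun i hi => ?_
        rw [Finset.mem_Ico] at hi
        have e : (z : ℤ) - (i : ℤ) = -((i - z : ℕ) : ℤ) := by
          rw [Nat.cast_sub (by omega)]; ring
        rw [e, ih (i - z) (by omega) (by omega) (by omega), mul_zero]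
      rw [hA, hB, zero_add, zero_add] at h1
      have e : (z : ℤ) - (m : ℤ) = -(n : ℤ) := by
        rw [← hzm]; push_cast; ring
      rw [e] at h1
      exact (ham.mul_right_eq_zero).mp h1
  intro n hn1 hnm
  have := part2 n hn1 hnm
  rwa [zpow_neg, zpow_natCast, ← inv_pow, Units.val_pow_eq_pow_val, hUinv] at this

end Abstract

section Concrete

variable {K : Type u} [CommRing K] [LambdaOps K]

theorem H6_sigma_conv (e : K) (n : ℕ) (hn : 1 ≤ n) :
    ∑ i ∈ range (n + 1), ((-1 : K) ^ i * LambdaOps.lam i e) * KRR.sigma (n - i) e = 0 := by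
  have hc : PowerSeries.constantCoeff (PowerSeries.rescale (-1 : K) (lamSeries e)) =
      ((1 : Kˣ) : K) := by
    rw [H6_cc_rescale _ _ (H6_cc_lamSeries e)]; simp
  have h := PowerSeries.mul_invOfUnit _ 1 hc
  have h2 := congrArg (PowerSeries.coeff n) h
  rw [PowerSeries.coeff_mul, Finset.Nat.sum_antidiagonal_eq_sum_range_succ
    (fun i j => PowerSeries.coeff i (PowerSeries.rescale (-1 : K) (lamSeries e)) *
      PowerSeries.coeff j ((PowerSeries.rescale (-1 : K) (lamSeries e)).invOfUnit 1)),
    PowerSeries.coeff_one, if_neg (by omega)] at h2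
  rw [← h2]
  refine Finset.sum_congr rfl fun i _ => ?_
  rw [PowerSeries.coeff_rescale, H6_coeff_lamSeries]
  rfl

theorem H6_sigma_zero (e : K) : KRR.sigma 0 e = 1 := by
  have hc : PowerSeries.constantCoeff (PowerSeries.rescale (-1 : K) (lamSeries e)) =
      ((1 : Kˣ) : K) := by
    rw [H6_cc_rescale _ _ (H6_cc_lamSeries e)]; simp
  rw [KRR.sigma, KRR.sigmaSeries, PowerSeries.coeff_zero_eq_constantCoeff_apply,
    PowerSeries.constantCoeff_invOfUnit]
  simp

theorem H6_extPoly_rel (P : PosStructure K) (e : K) :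
    ∑ i ∈ range ((P.aug e).toNat + 1), ((-1 : K) ^ i * LambdaOps.lam i e) •
      (AdjoinRoot.root (KRR.extPoly P e)) ^ ((P.aug e).toNat - i) = 0 := by
  have h : Polynomial.aeval (AdjoinRoot.root (KRR.extPoly P e)) (KRR.extPoly P e) = 0 := by
    rw [AdjoinRoot.aeval_eq, AdjoinRoot.mk_self]
  have h2 : Polynomial.aeval (AdjoinRoot.root (KRR.extPoly P e))
      (∑ i ∈ Finset.range ((P.aug e).toNat + 1),
        Polynomial.C ((-1 : K) ^ i * LambdaRing.LambdaOps.lam i e) *
          Polynomial.X ^ ((P.aug e).toNat - i)) = 0 := h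
  rw [map_sum] at h2
  rw [← h2]
  refine Finset.sum_congr rfl fun i _ => ?_
  rw [map_mul, Polynomial.aeval_C, map_pow, Polynomial.aeval_X, Algebra.smul_def]

theorem H6_functional_extPoly (P : PosStructure K) (e : K) (he : e ∈ P.pos) (r : ℕ)
    (hr : P.aug e = r + 1) (f : AdjoinRoot (KRR.extPoly P e) →ₗ[K] K)
    (hf : ∀ i : ℕ, i ≤ r → f (AdjoinRoot.root (KRR.extPoly P e) ^ i) = KRR.sigma i e) :
    ∀ i : ℕ, f (AdjoinRoot.root (KRR.extPoly P e) ^ i) = KRR.sigma i e := by
  have hm : (P.aug e).toNat = r + 1 := by omega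
  have hrel := H6_extPoly_rel P e
  rw [hm] at hrel
  -- a variant of the abstract lemma without the unit hypothesis is not available; use a direct induction
  intro n
  induction n using Nat.strong_induction_on with
  | _ n ih =>
    by_cases hn : n ≤ r
    · exact hf n hn
    · have h1 := congrArg (fun x => f (x * AdjoinRoot.root (KRR.extPoly P e) ^ (n - (r + 1)))) hrel
      simp only [zero_mul, map_zero, Finset.sum_mul, map_sum] at h1
      have h2 : ∑ i ∈ range (r + 1 + 1), ((-1 : K) ^ i * LambdaOps.lam i e) * KRR.sigma (n - i) e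
          = 0 := by
        rw [← H6_sigma_conv e n (by omega)]
        apply Finset.sum_subset
        · intro i hi
          rw [Finset.mem_range] at hi ⊢
          omega
        · intro i _ hi
          rw [Finset.mem_range] at hi
          rw [P.lam_eq_zero e he i (by rw [hr]; omega), mul_zero, zero_mul]
      have h3 : ∀ i ∈ range (r + 1 + 1),
          f (((-1 : K) ^ i * LambdaOps.lam i e) • AdjoinRoot.root (KRR.extPoly P e) ^ (r + 1 - i) *
            AdjoinRoot.root (KRR.extPoly P e) ^ (n - (r + 1))) =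
          ((-1 : K) ^ i * LambdaOps.lam i e) * f (AdjoinRoot.root (KRR.extPoly P e) ^ (n - i)) := by
        intro i hi
        rw [Finset.mem_range] at hi
        rw [smul_mul_assoc, map_smul, smul_eq_mul, ← pow_add]
        congr 3
        omega
      rw [Finset.sum_congr rfl h3, Finset.sum_range_succ',
        Finset.sum_congr rfl (fun i _ => by rw [ih (n - (i + 1)) (by omega)])] at h1
      rw [Finset.sum_range_succ'] at h2
      simp only [Nat.sub_zero, pow_zero, LambdaOps.lam_zero, one_mul] at h1 h2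
      rw [← sub_eq_zero]
      linear_combination h1 - h2

end Concrete

section SubLine

theorem H6_lam_sub_line {K B : Type*} [CommRing K] [LambdaOps K] [CommRing B] [LambdaOps B]
    [Algebra K B]
    (hext : ∀ (i : ℕ) (x : K), LambdaOps.lam i (algebraMap K B x) = algebraMap K B (LambdaOps.lam i x))
    (ℓ : B) (hroot : ∀ i : ℕ, 2 ≤ i → LambdaOps.lam i ℓ = 0) (e : K) (k : ℕ) :
    LambdaOps.lam k (algebraMap K B e - ℓ) =
      ∑ i ∈ range (k + 1), ((-1 : K) ^ i * LambdaOps.lam (k - i) e) • ℓ ^ i := by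
  obtain ⟨q, hq⟩ : ∃ q : B, q = algebraMap K B e - ℓ := ⟨_, rfl⟩
  rw [← hq]
  have hrec : ∀ k : ℕ, algebraMap K B (LambdaOps.lam (k + 1) e) =
      LambdaOps.lam (k + 1) q + LambdaOps.lam k q * ℓ := by
    intro k
    have hqe : algebraMap K B e = q + ℓ := by rw [hq]; ring
    rw [← hext, hqe, LambdaOps.lam_add, Finset.sum_range_succ, Finset.sum_range_succ]
    have hz : ∑ i ∈ Finset.range k, LambdaOps.lam i q * LambdaOps.lam (k + 1 - i) ℓ = 0 := by
      apply Finset.sum_eq_zero
      intro i hi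
      rw [Finset.mem_range] at hi
      rw [hroot (k + 1 - i) (by omega), mul_zero]
    rw [hz, zero_add, Nat.sub_self, LambdaOps.lam_zero, mul_one, show k + 1 - k = 1 by omega,
      LambdaOps.lam_one]
    ring
  induction k with
  | zero =>
    simp [LambdaOps.lam_zero]
  | succ k ih =>
    have h1 : LambdaOps.lam (k + 1) q =
        algebraMap K B (LambdaOps.lam (k + 1) e) - LambdaOps.lam k q * ℓ := by
      rw [hrec k]; ring
    have hs : (∑ i ∈ range (k + 1), ((-1 : K) ^ i * LambdaOps.lam (k - i) e) • ℓ ^ i) * ℓ =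
        -∑ i ∈ range (k + 1), ((-1 : K) ^ (i + 1) * LambdaOps.lam (k + 1 - (i + 1)) e) • ℓ ^ (i + 1) := by
      rw [Finset.sum_mul, ← Finset.sum_neg_distrib]
      refine Finset.sum_congr rfl fun i _ => ?_
      rw [smul_mul_assoc, ← pow_succ, ← neg_smul]
      congr 1
      rw [pow_succ, Nat.add_sub_add_right]
      ring
    rw [h1, ih, hs, Finset.sum_range_succ' _ (k + 1)]
    simp only [pow_zero, one_mul, Nat.sub_zero]
    rw [Algebra.smul_def, mul_one]
    ring

theorem H6_functional_lam_sub_line {K B : Type*} [CommRing K] [LambdaOps K] [CommRing B]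
    [LambdaOps B] [Algebra K B]
    (hext : ∀ (i : ℕ) (x : K), LambdaOps.lam i (algebraMap K B x) = algebraMap K B (LambdaOps.lam i x))
    (ℓ : B) (hroot : ∀ i : ℕ, 2 ≤ i → LambdaOps.lam i ℓ = 0) (e : K)
    (f : B →ₗ[K] K) (hf : ∀ i : ℕ, f (ℓ ^ i) = KRR.sigma i e) (k : ℕ) :
    f (LambdaOps.lam k (algebraMap K B e - ℓ)) = if k = 0 then 1 else 0 := by
  rw [H6_lam_sub_line hext ℓ hroot e k, map_sum]
  simp only [map_smul, smul_eq_mul, hf]
  rw [← Finset.sum_flip]
  by_cases hk : k = 0
  · subst hk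
    simp [LambdaOps.lam_zero, H6_sigma_zero]
  · rw [if_neg hk]
    have h := H6_sigma_conv e k (by omega)
    have h2 : ∑ i ∈ range (k + 1), (-1 : K) ^ (k - i) * LambdaOps.lam (k - (k - i)) e *
        KRR.sigma (k - i) e =
        (-1 : K) ^ k * ∑ i ∈ range (k + 1), (-1 : K) ^ i * LambdaOps.lam i e * KRR.sigma (k - i) e := by
      rw [Finset.mul_sum]
      refine Finset.sum_congr rfl fun i hi => ?_
      rw [Finset.mem_range] at hi
      have e1 : k - (k - i) = i := by omega
      have e2 : (-1 : K) ^ (k - i) = (-1 : K) ^ k * (-1 : K) ^ i := by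
        have : k = (k - i) + i := by omega
        conv_rhs => rw [this, pow_add]
        rw [mul_assoc, ← pow_add, ← two_mul, pow_mul]
        simp
      rw [e1, e2]
      ring
    rw [h2, h, mul_zero]

end SubLine

end Groth.Agent.Lib.helper6
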