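import Mathlib
import Groth.Agent.Lib.helper6.LambdaElemExt

set_option autoImplicit false
set_option linter.style.haveILetI false

universe u

open Finset LambdaRing Polynomial

namespace Groth.Agent.Lib.helper6

section PolyAnn

theorem H6_sum_tri {M : Type*} [AddCommMonoid M] (g : ℕ → ℕ → M) (r : ℕ) :
    ∑ k ∈ range (r + 1), ∑ i ∈ range (k + 1), g i (k - i) =
      ∑ j ∈ range (r + 1), ∑ i ∈ range (r + 1 - j), g i j := by
  induction r with
  | zero => simp
  | succ r ih =>
    have hL : ∑ k ∈ range (r + 1 + 1), ∑ i ∈ range (k + 1), g i (k - i) =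
        (∑ k ∈ range (r + 1), ∑ i ∈ range (k + 1), g i (k - i)) +
          ∑ i ∈ range (r + 1 + 1), g i (r + 1 - i) := Finset.sum_range_succ _ _
    have hR : ∑ j ∈ range (r + 1 + 1), ∑ i ∈ range (r + 1 + 1 - j), g i j =
        (∑ j ∈ range (r + 1), ∑ i ∈ range (r + 1 + 1 - j), g i j) +
          ∑ i ∈ range (r + 1 + 1 - (r + 1)), g i (r + 1) := Finset.sum_range_succ _ _
    rw [hL, hR, ih]
    have h1 : ∀ j ∈ range (r + 1), ∑ i ∈ range (r + 1 + 1 - j), g i j =
        ∑ i ∈ range (r + 1 - j), g i j + g (r + 1 - j) j := by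
      intro j hj
      rw [Finset.mem_range] at hj
      rw [show r + 1 + 1 - j = (r + 1 - j) + 1 by omega, Finset.sum_range_succ]
    have key : ∑ i ∈ range (r + 1 + 1), g i (r + 1 - i) =
        ∑ j ∈ range (r + 1), g (r + 1 - j) j + ∑ i ∈ range (r + 1 + 1 - (r + 1)), g i (r + 1) := by
      rw [show r + 1 + 1 - (r + 1) = 1 by omega, Finset.sum_range_one,
        ← Finset.sum_flip (n := r + 1) (f := fun i => g i (r + 1 - i)), Finset.sum_range_succ]
      congr 1
      · refine Finset.sum_congr rfl fun j hj => ?_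
        rw [Finset.mem_range] at hj
        rw [show r + 1 - (r + 1 - j) = j by omega]
      · simp
    rw [Finset.sum_congr rfl h1, Finset.sum_add_distrib, key]
    exact (add_assoc _ _ _).symm

theorem H6_ann_one_sub_root {K : Type*} [CommRing K] (p : K[X]) (hp : p.Monic)
    (hdeg : 1 ≤ p.natDegree) (Q : K[X]) (hQ : p - C (p.eval 1) = (X - 1) * Q)
    (z : AdjoinRoot p) (hz : z * (1 - AdjoinRoot.root p) = 0) :
    ∃ k : K, z = AdjoinRoot.of p k * AdjoinRoot.mk p Q := by
  rcases subsingleton_or_nontrivial K with hK | hK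
  · refine ⟨0, ?_⟩
    have h01 : (1 : K) = 0 := Subsingleton.elim _ _
    have : z = z * AdjoinRoot.of p 1 := by rw [map_one, mul_one]
    rw [this, h01, map_zero, mul_zero, zero_mul]
  obtain ⟨z1, rfl⟩ := AdjoinRoot.mk_surjective z
  have hp1 : p ≠ 1 := by
    intro h
    rw [h, natDegree_one] at hdeg
    omega
  obtain ⟨z0, hz0⟩ : ∃ z0, z0 = z1 %ₘ p := ⟨_, rfl⟩
  have hz01 : AdjoinRoot.mk p z1 = AdjoinRoot.mk p z0 := by
    rw [AdjoinRoot.mk_eq_mk, hz0]
    exact ⟨z1 /ₘ p, by linear_combination (modByMonic_add_div z1 p).symm⟩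
  have hz0deg : z0.natDegree < p.natDegree := by
    rw [hz0]; exact natDegree_modByMonic_lt z1 hp hp1
  rw [hz01] at hz ⊢
  rw [← AdjoinRoot.mk_X, ← map_one (AdjoinRoot.mk p), ← map_sub, ← map_mul,
    AdjoinRoot.mk_eq_zero] at hz
  obtain ⟨w, hw⟩ := hz
  have hwdeg : w.natDegree = 0 := by
    by_contra hne
    have hw0 : w ≠ 0 := by
      intro h
      rw [h, natDegree_zero] at hne
      exact hne rfl
    have h1 := hp.natDegree_mul' hw0
    rw [← hw] at h1
    have h2 : (z0 * (1 - X)).natDegree ≤ z0.natDegree + 1 := by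
      refine le_trans natDegree_mul_le ?_
      have : (1 - X : K[X]).natDegree ≤ 1 := by
        refine le_trans (natDegree_sub_le _ _) ?_
        simp
      omega
    omega
  obtain ⟨k, hk⟩ : ∃ k, w = C k := ⟨w.coeff 0, eq_C_of_natDegree_eq_zero hwdeg⟩
  rw [hk] at hw
  have hD : (X - 1) * (-z0 - C k * Q) = C (k * p.eval 1) := by
    have : p = (X - 1) * Q + C (p.eval 1) := by linear_combination hQ
    rw [C_mul]
    linear_combination hw + (C k) * this
  have hD0 : -z0 - C k * Q = 0 := by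
    by_contra hne
    have hm : (X - 1 : K[X]).Monic := by
      have := monic_X_sub_C (1 : K)
      rwa [map_one] at this
    have h1 := hm.natDegree_mul' hne
    rw [hD, natDegree_C] at h1
    have : (X - 1 : K[X]).natDegree = 1 := by
      have := natDegree_X_sub_C (1 : K)
      rwa [map_one] at this
    omega
  refine ⟨-k, ?_⟩
  have : z0 = C (-k) * Q := by
    rw [map_neg]; linear_combination -hD0
  rw [this, map_mul, AdjoinRoot.mk_C]

theorem H6_poly_sub_eval_one {K : Type*} [CommRing K] (m : ℕ) (a : ℕ → K) :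
    (∑ j ∈ range (m + 1), C (a j) * X ^ (m - j)) -
        C ((∑ j ∈ range (m + 1), C (a j) * X ^ (m - j) : K[X]).eval 1) =
      (X - 1) * ∑ j ∈ range (m + 1), ∑ i ∈ range (m - j), C (a j) * X ^ i := by
  rw [eval_finsetSum]
  simp only [eval_mul, eval_C, eval_pow, eval_X, one_pow, mul_one]
  rw [map_sum, ← Finset.sum_sub_distrib, Finset.mul_sum]
  refine Finset.sum_congr rfl fun j _ => ?_
  rw [← Finset.mul_sum, mul_left_comm, mul_geom_sum]
  ring

theorem H6_monic_extShape {K : Type*} [CommRing K] [Nontrivial K] (m : ℕ) (a : ℕ → K)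
    (ha0 : a 0 = 1) :
    (∑ j ∈ range (m + 1), C (a j) * X ^ (m - j) : K[X]).Monic ∧
      (∑ j ∈ range (m + 1), C (a j) * X ^ (m - j) : K[X]).natDegree = m := by
  rw [Finset.sum_range_succ']
  simp only [Nat.sub_zero, ha0, map_one, one_mul]
  have hlt : (∑ j ∈ range m, C (a (j + 1)) * X ^ (m - (j + 1)) : K[X]).degree < (m : WithBot ℕ) := by
    refine lt_of_le_of_lt (degree_sum_le _ _) ?_
    refine (Finset.sup_lt_iff (WithBot.bot_lt_coe m)).2 ?_
    intro j hj
    rw [Finset.mem_range] at hj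
    refine lt_of_le_of_lt (degree_C_mul_X_pow_le _ _) ?_
    exact WithBot.coe_lt_coe.2 (by omega : m - (j + 1) < m)
  rw [add_comm]
  refine ⟨monic_X_pow_add hlt, ?_⟩
  rw [natDegree_add_eq_left_of_degree_lt (by rw [degree_X_pow]; exact hlt), natDegree_X_pow]

end PolyAnn

end Groth.Agent.Lib.helper6
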