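import Mathlib
import Groth.Agent.Lib.helper6.LambdaElemExt2

set_option autoImplicit false
set_option linter.style.haveILetI false

universe u

open Finset LambdaRing Polynomial

namespace Groth.Agent.Lib.helper6

section ElemAnn

variable {K : Type u} [CommRing K] [LambdaOps K]

theorem H6_extPoly_eq (P : PosStructure K) (c : K) (m : ℕ) (hm : (P.aug c).toNat = m) :
    KRR.extPoly P c =
      ∑ j ∈ range (m + 1), C ((-1 : K) ^ j * LambdaOps.lam j c) * X ^ (m - j) := by
  rw [KRR.extPoly, hm]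

theorem H6_elem_ext_ann (P : PosStructure K) (c : K) (hc : c ∈ P.pos) (r : ℕ)
    (hr : P.aug c = r + 1) [inst : LambdaOps (AdjoinRoot (KRR.extPoly P c))]
    (hext : ∀ (i : ℕ) (x : K), LambdaOps.lam i (AdjoinRoot.of (KRR.extPoly P c) x) =
      AdjoinRoot.of (KRR.extPoly P c) (LambdaOps.lam i x))
    (hroot : ∀ i : ℕ, 2 ≤ i → LambdaOps.lam i (AdjoinRoot.root (KRR.extPoly P c)) = 0)
    (f : AdjoinRoot (KRR.extPoly P c) →ₗ[K] K)
    (hf : ∀ i : ℕ, i ≤ r → f (AdjoinRoot.root (KRR.extPoly P c) ^ i) = KRR.sigma i c)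
    (z : AdjoinRoot (KRR.extPoly P c)) (hz : z * (1 - AdjoinRoot.root (KRR.extPoly P c)) = 0) :
    z = AdjoinRoot.of (KRR.extPoly P c) (f z) *
      ∑ n ∈ range (r + 1), (-1 : AdjoinRoot (KRR.extPoly P c)) ^ n *
        LambdaOps.lam n (AdjoinRoot.of (KRR.extPoly P c) c - AdjoinRoot.root (KRR.extPoly P c)) := by
  haveI : Nontrivial K := P.aug.domain_nontrivial
  have hm : (P.aug c).toNat = r + 1 := by omega
  have hpe := H6_extPoly_eq P c (r + 1) hm
  obtain ⟨a, ha⟩ : ∃ a : ℕ → K, a = fun j => (-1 : K) ^ j * LambdaOps.lam j c := ⟨_, rfl⟩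
  have hpe' : KRR.extPoly P c = ∑ j ∈ range (r + 1 + 1), C (a j) * X ^ (r + 1 - j) := by
    rw [hpe, ha]
  have ha0 : a 0 = 1 := by rw [ha]; simp [LambdaOps.lam_zero]
  have hshape := H6_monic_extShape (r + 1) a ha0
  have hmonic : (KRR.extPoly P c).Monic := by rw [hpe']; exact hshape.1
  have hdeg : 1 ≤ (KRR.extPoly P c).natDegree := by rw [hpe', hshape.2]; omega
  obtain ⟨Q, hQdef⟩ : ∃ Q : K[X], Q =
      ∑ j ∈ range (r + 1 + 1), ∑ i ∈ range (r + 1 - j), C (a j) * X ^ i := ⟨_, rfl⟩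
  have hQ : KRR.extPoly P c - C ((KRR.extPoly P c).eval 1) = (X - 1) * Q := by
    rw [hpe', hQdef]; exact H6_poly_sub_eval_one (r + 1) a
  obtain ⟨k, hk⟩ := H6_ann_one_sub_root (KRR.extPoly P c) hmonic hdeg Q hQ z hz
  obtain ⟨ℓ, hℓ⟩ : ∃ ℓ, ℓ = AdjoinRoot.root (KRR.extPoly P c) := ⟨_, rfl⟩
  rw [← hℓ] at hroot hf hz ⊢
  have hall := H6_functional_extPoly P c hc r hr f (by rw [← hℓ]; exact hf)
  rw [← hℓ] at hall
  -- the alternating sum equals `mk Q`
  have hΛ : ∑ n ∈ range (r + 1), (-1 : AdjoinRoot (KRR.extPoly P c)) ^ n *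
      LambdaOps.lam n (AdjoinRoot.of (KRR.extPoly P c) c - ℓ) = AdjoinRoot.mk (KRR.extPoly P c) Q := by
    have h1 : ∀ n ∈ range (r + 1), (-1 : AdjoinRoot (KRR.extPoly P c)) ^ n *
        LambdaOps.lam n (AdjoinRoot.of (KRR.extPoly P c) c - ℓ) =
        ∑ i ∈ range (n + 1), (fun i j => a j • ℓ ^ i) i (n - i) := by
      intro n _
      have := H6_lam_sub_line (K := K) (B := AdjoinRoot (KRR.extPoly P c)) hext ℓ hroot c n
      rw [show algebraMap K (AdjoinRoot (KRR.extPoly P c)) c = AdjoinRoot.of (KRR.extPoly P c) c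
        from rfl] at this
      rw [this, Finset.mul_sum]
      refine Finset.sum_congr rfl fun i hi => ?_
      rw [Finset.mem_range] at hi
      simp only
      rw [ha]
      simp only
      have e1 : (-1 : AdjoinRoot (KRR.extPoly P c)) ^ n =
          algebraMap K (AdjoinRoot (KRR.extPoly P c)) ((-1 : K) ^ n) := by simp
      rw [e1, ← Algebra.smul_def, smul_smul]
      congr 1
      have e2 : (-1 : K) ^ n * (-1 : K) ^ i = (-1 : K) ^ (n - i) := by
        have : n = (n - i) + i := by omega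
        conv_lhs => rw [this, pow_add, mul_assoc, ← pow_add, ← two_mul, pow_mul]
        simp
      rw [← mul_assoc, e2]
    rw [Finset.sum_congr rfl h1, H6_sum_tri (fun i j => a j • ℓ ^ i) r, hQdef, map_sum,
      Finset.sum_range_succ _ (r + 1)]
    rw [show r + 1 - (r + 1) = 0 by omega, Finset.sum_range_zero, map_zero, add_zero]
    refine Finset.sum_congr rfl fun j _ => ?_
    rw [map_sum]
    refine Finset.sum_congr rfl fun i _ => ?_
    rw [map_mul, AdjoinRoot.mk_C, map_pow, AdjoinRoot.mk_X, ← hℓ, Algebra.smul_def]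
    rfl
  rw [hΛ]
  have hfz : f z = k := by
    rw [hk, ← hΛ]
    have e3 : AdjoinRoot.of (KRR.extPoly P c) k = algebraMap K _ k := rfl
    rw [e3, ← Algebra.smul_def, map_smul, smul_eq_mul, map_sum]
    have h2 : ∀ n ∈ range (r + 1), f ((-1 : AdjoinRoot (KRR.extPoly P c)) ^ n *
        LambdaOps.lam n (AdjoinRoot.of (KRR.extPoly P c) c - ℓ)) =
        (-1 : K) ^ n * (if n = 0 then 1 else 0) := by
      intro n _
      have e1 : (-1 : AdjoinRoot (KRR.extPoly P c)) ^ n =
          algebraMap K (AdjoinRoot (KRR.extPoly P c)) ((-1 : K) ^ n) := by simp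
      rw [e1, ← Algebra.smul_def, map_smul, smul_eq_mul]
      congr 1
      exact H6_functional_lam_sub_line (K := K) (B := AdjoinRoot (KRR.extPoly P c)) hext ℓ hroot c
        f hall n
    rw [Finset.sum_congr rfl h2, Finset.sum_range_succ']
    simp
  rw [hfz]
  exact hk

end ElemAnn

end Groth.Agent.Lib.helper6
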