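import Mathlib
import Groth.Agent.Lib.helper6.LambdaElemExt3

set_option autoImplicit false
set_option linter.style.haveILetI false

universe u

open Finset LambdaRing PowerSeries

namespace Groth.Agent.Lib.helper6

section AugSigma

variable {K : Type u} [CommRing K] [LambdaOps K]

theorem H6_one_add_X_pow_coeff (R : Type*) [CommRing R] (m i : ℕ) :
    coeff i ((1 + X : PowerSeries R) ^ m) = (m.choose i : R) := by
  have e : (1 + X : PowerSeries R) ^ m =
      (((1 + Polynomial.X : Polynomial R) ^ m : Polynomial R) : PowerSeries R) := by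
    simp
  rw [e, Polynomial.coeff_coe, Polynomial.coeff_one_add_X_pow]

theorem H6_map_aug_rescale_lamSeries {P : PosStructure K} (hK : HasSplitting K P) (e : K)
    (he : e ∈ P.pos) (m : ℕ) (hm : (P.aug e).toNat = m) :
    PowerSeries.map P.aug (rescale (-1 : K) (lamSeries e)) = (1 - X : PowerSeries ℤ) ^ m := by
  have h1 : (1 - X : PowerSeries ℤ) ^ m = rescale (-1 : ℤ) ((1 + X : PowerSeries ℤ) ^ m) := by
    rw [map_pow, map_add, map_one, rescale_X]
    congr 1
    simp [sub_eq_add_neg]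
  rw [h1]
  ext i
  rw [coeff_map, coeff_rescale, coeff_rescale, H6_coeff_lamSeries, map_mul, map_pow, map_neg,
    map_one, H6_aug_lam_pos hK e he, hm, H6_one_add_X_pow_coeff]

theorem H6_map_aug_sigmaSeries {P : PosStructure K} (hK : HasSplitting K P) (e : K)
    (he : e ∈ P.pos) (m : ℕ) (hm : (P.aug e).toNat = m) :
    (1 - X : PowerSeries ℤ) ^ m * PowerSeries.map P.aug (KRR.sigmaSeries e) = 1 := by
  have hc : PowerSeries.constantCoeff (PowerSeries.rescale (-1 : K) (lamSeries e)) =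
      ((1 : Kˣ) : K) := by
    rw [H6_cc_rescale _ _ (H6_cc_lamSeries e)]; simp
  have h := PowerSeries.mul_invOfUnit _ 1 hc
  have h2 := congrArg (PowerSeries.map P.aug) h
  rw [map_mul, map_one, H6_map_aug_rescale_lamSeries hK e he m hm] at h2
  exact h2

theorem H6_aug_functional_sub_one_pow {P : PosStructure K} (hK : HasSplitting K P) (e : K)
    (he : e ∈ P.pos) (r : ℕ) (hr : P.aug e = r + 1)
    (f : AdjoinRoot (KRR.extPoly P e) →ₗ[K] K)
    (hf : ∀ i : ℕ, i ≤ r → f (AdjoinRoot.root (KRR.extPoly P e) ^ i) = KRR.sigma i e) :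
    P.aug (f ((AdjoinRoot.root (KRR.extPoly P e) - 1) ^ r)) = 1 := by
  have hall := H6_functional_extPoly P e he r hr f hf
  obtain ⟨ℓ, hℓ⟩ : ∃ ℓ, ℓ = AdjoinRoot.root (KRR.extPoly P e) := ⟨_, rfl⟩
  rw [← hℓ] at hall ⊢
  obtain ⟨S, hS⟩ : ∃ S, S = PowerSeries.map P.aug (KRR.sigmaSeries e) := ⟨_, rfl⟩
  have hS1 : (1 - X : PowerSeries ℤ) ^ (r + 1) * S = 1 := by
    rw [hS]; exact H6_map_aug_sigmaSeries hK e he (r + 1) (by omega)
  have key : ∀ j k : ℕ, P.aug (f (ℓ ^ k * (ℓ - 1) ^ j)) =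
      coeff (k + j) (S * (1 - X : PowerSeries ℤ) ^ j) := by
    intro j
    induction j with
    | zero =>
      intro k
      rw [pow_zero, mul_one, pow_zero, mul_one, add_zero, hall, hS, coeff_map]
      rfl
    | succ j ih =>
      intro k
      have e1 : ℓ ^ k * (ℓ - 1) ^ (j + 1) = ℓ ^ (k + 1) * (ℓ - 1) ^ j - ℓ ^ k * (ℓ - 1) ^ j := by
        ring
      rw [e1, map_sub, map_sub, ih, ih, pow_succ, ← mul_assoc, mul_sub, mul_one, map_sub,
        show k + (j + 1) = (k + j) + 1 by ring, coeff_succ_mul_X, show k + 1 + j = k + j + 1 by ring]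
  have h0 := key r 0
  rw [pow_zero, one_mul, zero_add] at h0
  rw [h0]
  have hT : S * (1 - X : PowerSeries ℤ) ^ r = (PowerSeries.mk 1 : PowerSeries ℤ) := by
    have h1 : (S * (1 - X : PowerSeries ℤ) ^ r) * (1 - X) = 1 := by
      rw [mul_assoc, ← pow_succ, mul_comm]; exact hS1
    calc S * (1 - X : PowerSeries ℤ) ^ r
        = (S * (1 - X : PowerSeries ℤ) ^ r) * ((1 - X) * (PowerSeries.mk 1 : PowerSeries ℤ)) := by
          rw [mul_comm (1 - X : PowerSeries ℤ), mk_one_mul_one_sub_eq_one, mul_one]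
      _ = (PowerSeries.mk 1 : PowerSeries ℤ) := by rw [← mul_assoc, h1, one_mul]
  rw [hT, coeff_mk]
  rfl

end AugSigma

end Groth.Agent.Lib.helper6
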