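import Mathlib
import Groth.Agent.Lib.helper6.LambdaAdams2

set_option autoImplicit false
set_option linter.style.haveILetI false

universe u v

open PowerSeries Finset LambdaRing

namespace Groth.Agent.Lib.helper6

variable {K : Type u} [CommRing K] [Algebra ℚ K]

/-- Coefficients of the solution of `L' = G L`, `L(0) = 1`. -/
noncomputable def H6_expODE (g : ℕ → K) : ℕ → K
  | 0 => 1
  | n + 1 => algebraMap ℚ K (1 / ((n : ℚ) + 1)) * ∑ j : Fin (n + 1), g (n - j) * H6_expODE g j

theorem H6_isUnit_succ (n : ℕ) : IsUnit ((n : K) + 1) := by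
  have : IsUnit ((n : ℚ) + 1) := by
    apply IsUnit.mk0
    positivity
  have := this.map (algebraMap ℚ K)
  simpa using this

theorem H6_expODE_succ (g : ℕ → K) (n : ℕ) :
    H6_expODE g (n + 1) * ((n : K) + 1) =
      ∑ p ∈ antidiagonal n, g p.1 * H6_expODE g p.2 := by
  rw [H6_expODE, mul_comm, ← mul_assoc]
  have h1 : ((n : K) + 1) * algebraMap ℚ K (1 / ((n : ℚ) + 1)) = 1 := by
    have : ((n : K) + 1) = algebraMap ℚ K ((n : ℚ) + 1) := by simp
    rw [this, ← map_mul]
    have : ((n : ℚ) + 1) * (1 / ((n : ℚ) + 1)) = 1 := by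
      have : ((n : ℚ) + 1) ≠ 0 := by positivity
      field_simp
    rw [this, map_one]
  rw [h1, one_mul, ← Finset.Nat.sum_antidiagonal_swap,
    Finset.Nat.sum_antidiagonal_eq_sum_range_succ_mk, Finset.sum_range]
  rfl

theorem H6_ode (g : ℕ → K) :
    PowerSeries.derivative K (PowerSeries.mk (H6_expODE g)) =
      PowerSeries.mk g * PowerSeries.mk (H6_expODE g) := by
  ext n
  rw [coeff_derivative, coeff_mk, H6_expODE_succ, coeff_mul]
  refine Finset.sum_congr rfl fun p _ => ?_
  rw [coeff_mk, coeff_mk]

theorem H6_ode_unique (G A B : PowerSeries K)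
    (hA : PowerSeries.derivative K A = G * A) (hB : PowerSeries.derivative K B = G * B)
    (h0 : constantCoeff A = constantCoeff B) : A = B := by
  ext n
  induction n using Nat.strong_induction_on with
  | _ n ih =>
    cases n with
    | zero => simpa using h0
    | succ n =>
      have h1 := congrArg (coeff n) hA
      have h2 := congrArg (coeff n) hB
      rw [coeff_derivative, coeff_mul] at h1 h2
      have : ∑ p ∈ antidiagonal n, coeff p.1 G * coeff p.2 A =
          ∑ p ∈ antidiagonal n, coeff p.1 G * coeff p.2 B := by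
        refine Finset.sum_congr rfl fun p hp => ?_
        have := Finset.HasAntidiagonal.mem_antidiagonal.mp hp
        rw [ih p.2 (by omega)]
      rw [this, ← h2] at h1
      exact (H6_isUnit_succ n).mul_left_injective h1

theorem H6_expODE_add (g g' : ℕ → K) :
    PowerSeries.mk (H6_expODE (g + g')) =
      PowerSeries.mk (H6_expODE g) * PowerSeries.mk (H6_expODE g') := by
  refine H6_ode_unique (PowerSeries.mk (g + g')) _ _ (H6_ode _) ?_ ?_
  · rw [Derivation.leibniz, H6_ode, H6_ode]
    have : (PowerSeries.mk (g + g') : PowerSeries K) = PowerSeries.mk g + PowerSeries.mk g' := by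
      ext n; simp
    rw [this]
    simp only [smul_eq_mul]
    ring
  · rw [map_mul]
    simp only [← coeff_zero_eq_constantCoeff_apply, coeff_mk, H6_expODE, mul_one]

end Groth.Agent.Lib.helper6
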