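import Mathlib
import Groth.Agent.Lib.helper6.LambdaExp

set_option autoImplicit false
set_option linter.style.haveILetI false

universe u v

open PowerSeries Finset LambdaRing

namespace Groth.Agent.Lib.helper6

variable {K : Type u} [CommRing K] [Algebra ℚ K]

/-- coefficients of the log-derivative series attached to a family of Adams operations -/
noncomputable def H6_gAd (ψ : ℕ → K →+ K) (x : K) : ℕ → K := fun i => (-1) ^ i * ψ (i + 1) x

theorem H6_gAd_add (ψ : ℕ → K →+ K) (x y : K) : H6_gAd ψ (x + y) = H6_gAd ψ x + H6_gAd ψ y := by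
  funext i
  simp only [H6_gAd, map_add, Pi.add_apply, mul_add]

/-- The λ-structure attached to Adams operations. -/
noncomputable def H6_lamOfAdams (ψ : ℕ → K →+ K) (hψ : ψ 1 = AddMonoidHom.id K) :
    LambdaRing.LambdaOps K where
  lam n x := H6_expODE (H6_gAd ψ x) n
  lam_zero x := by rw [H6_expODE]
  lam_one x := by
    have h := H6_expODE_succ (H6_gAd ψ x) 0
    simp only [Nat.cast_zero, zero_add, mul_one, Finset.Nat.antidiagonal_zero,
      Finset.sum_singleton] at h
    rw [h, H6_expODE, H6_gAd, hψ]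
    simp
  lam_add k x y := by
    have h := congrArg (coeff k) (H6_expODE_add (H6_gAd ψ x) (H6_gAd ψ y))
    rw [← H6_gAd_add, coeff_mk, coeff_mul, Finset.Nat.sum_antidiagonal_eq_sum_range_succ_mk] at h
    rw [h]
    refine Finset.sum_congr rfl fun i _ => ?_
    rw [coeff_mk, coeff_mk]

theorem H6_lamOfAdams_adams (ψ : ℕ → K →+ K) (hψ : ψ 1 = AddMonoidHom.id K) (k : ℕ) (hk : 1 ≤ k)
    (x : K) : @LambdaRing.adamsOp K _ (H6_lamOfAdams ψ hψ) k x = ψ k x := by
  letI := H6_lamOfAdams ψ hψ
  obtain ⟨k, rfl⟩ : ∃ j, k = j + 1 := ⟨k - 1, by omega⟩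
  have hL : lamSeries x = PowerSeries.mk (H6_expODE (H6_gAd ψ x)) := rfl
  have hG : logDerivSeries x = PowerSeries.mk (H6_gAd ψ x) := by
    rw [logDerivSeries, hL, H6_ode, mul_assoc, ← hL,
      mul_invOfUnit _ _ (H6_constCoeff_lamSeries x), mul_one]
  rw [H6_adamsOp_succ, hG, coeff_mk, H6_gAd, ← mul_assoc, ← mul_pow]
  simp

theorem H6_lambdaOps_ext (L L' : LambdaRing.LambdaOps K)
    (h : ∀ n x, @LambdaOps.lam K _ L n x = @LambdaOps.lam K _ L' n x) : L = L' := by
  cases L with
  | mk lam h0 h1 ha =>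
    cases L' with
    | mk lam' h0' h1' ha' =>
      have : lam = lam' := by
        funext n x
        exact h n x
      subst this
      rfl

end Groth.Agent.Lib.helper6
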