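import Mathlib
import Groth.Prelude.Def_LambdaSp
import Groth.Agent.Lib.helper6.LambdaInv2

set_option autoImplicit false
set_option linter.style.haveILetI false

universe u

open Finset LambdaRing

namespace Groth.Agent.Lib.helper6

section
variable {K : Type u} [CommRing K] [LambdaRing.LambdaOps K]

theorem H6_lamAlt_eq_gamma {P : PosStructure K} (hK : HasSplitting K P) (q : K) (hq : q ∈ P.pos) :
    (∑ i ∈ range ((P.aug q).toNat + 1), (-1 : K) ^ i * LambdaOps.lam i q) =
      (-1) ^ (P.aug q).toNat * gamma (P.aug q).toNat (q - ((P.aug q).toNat : K)) := by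
  obtain ⟨L, f, hF, s, hs, hsum⟩ := H6_split_one hK q hq
  have hcard : Multiset.card s = (P.aug q).toNat := by
    have h1 := H6_card_of_lines L.posStr s hs
    rw [hsum, hF.aug_comp] at h1
    rw [h1]; simp
  apply hF.injective
  rw [map_sum, map_mul, map_pow, map_neg, map_one, H6_map_gamma f hF.isLambdaHom, map_sub,
    map_natCast, ← hsum, ← hcard, H6_gamma_lines _ s hs]
  have h1 : ∀ i ∈ range (Multiset.card s + 1),
      f ((-1 : K) ^ i * LambdaOps.lam i q) = (-1) ^ i * s.esymm i := by
    intro i _
    rw [map_mul, map_pow, map_neg, map_one, hF.isLambdaHom, ← hsum, H6_lam_lines _ s hs]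
  rw [Finset.sum_congr rfl h1, H6_sum_neg_one_pow_esymm]
  have h3 := H6_esymm_card (s.map fun u => u - 1)
  rw [Multiset.card_map] at h3
  rw [h3]
  have h4 := Multiset.prod_map_neg (s.map fun u => u - 1)
  rw [Multiset.card_map, Multiset.map_map] at h4
  rw [← h4]
  congr 1
  refine Multiset.map_congr rfl fun u _ => ?_
  simp

theorem H6_lamAlt_mem {P : PosStructure K} (hK : HasSplitting K P) (q : K) (hq : q ∈ P.pos) :
    (∑ i ∈ range ((P.aug q).toNat + 1), (-1 : K) ^ i * LambdaOps.lam i q) ∈
      gammaFiltration P (P.aug q).toNat := by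
  rw [H6_lamAlt_eq_gamma hK q hq]
  apply H6_mul_mem_gammaFiltration
  have hpos := P.aug_pos q hq
  obtain ⟨d', hd'⟩ : ∃ d', (P.aug q).toNat = d' + 1 := ⟨(P.aug q).toNat - 1, by omega⟩
  rw [hd', H6_gammaFiltration_succ]
  apply AddSubgroup.subset_closure
  refine ⟨[(d' + 1, q - ((d' + 1 : ℕ) : K))], ?_, ?_, ?_⟩
  · intro p hp
    rw [List.mem_singleton] at hp
    rw [hp]
    simp only [map_sub, map_natCast]
    omega
  · simp
  · simp

end

section Push
variable {KY KX : Type u} [CommRing KY] [LambdaRing.LambdaOps KY]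
    [CommRing KX] [LambdaRing.LambdaOps KX]

theorem H6_push_gammaFiltration
    (PY : PosStructure KY) (hY : HasSplitting KY PY)
    (PX : PosStructure KX)
    (g : KY →+* KX) (hg : IsLambdaHom g) (hgaug : ∀ y : KY, PX.aug (g y) = PY.aug y)
    (hgsurj : Function.Surjective g)
    (p : KX →+ KY) (hproj : ∀ (y : KY) (x : KX), p (g y * x) = y * p x)
    (q : KY) (hq : q ∈ PY.pos)
    (hp1 : p 1 = ∑ i ∈ range ((PY.aug q).toNat + 1), (-1 : KY) ^ i * LambdaOps.lam i q)
    (m : ℕ) (x : KX) (hx : x ∈ gammaFiltration PX m) :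
    p x ∈ gammaFiltration PY (m + (PY.aug q).toNat) := by
  have hp1mem : p 1 ∈ gammaFiltration PY (PY.aug q).toNat := by
    rw [hp1]; exact H6_lamAlt_mem hY q hq
  have hkey : ∀ y : KY, y ∈ gammaFiltration PY m → p (g y) ∈
      gammaFiltration PY (m + (PY.aug q).toNat) := by
    intro y hy
    have : p (g y) = y * p 1 := by
      have := hproj y 1
      rwa [mul_one] at this
    rw [this]
    exact H6_gammaFiltration_mul PY _ _ y (p 1) hy hp1mem
  cases m with
  | zero =>
    obtain ⟨y, rfl⟩ := hgsurj x
    apply hkey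
    rw [H6_gammaFiltration_zero]; trivial
  | succ m =>
    rw [H6_gammaFiltration_succ] at hx
    induction hx using AddSubgroup.closure_induction with
    | mem x hx =>
      obtain ⟨l, hl1, hl2, rfl⟩ := hx
      -- lift the list
      have hlift : ∀ l : List (ℕ × KX), (∀ p ∈ l, PX.aug p.2 = 0) →
          ∃ l' : List (ℕ × KY), (∀ p ∈ l', PY.aug p.2 = 0) ∧
            l'.map Prod.fst = l.map Prod.fst ∧
            g ((l'.map fun p => gamma p.1 p.2).prod) = (l.map fun p => gamma p.1 p.2).prod := by
        intro l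
        induction l with
        | nil => intro _; exact ⟨[], by simp, by simp, by simp⟩
        | cons a l ih =>
          intro hl
          obtain ⟨l', h1, h2, h3⟩ := ih (fun p hp => hl p (List.mem_cons_of_mem _ hp))
          obtain ⟨y, hy⟩ := hgsurj a.2
          refine ⟨(a.1, y) :: l', ?_, ?_, ?_⟩
          · intro p hp
            rw [List.mem_cons] at hp
            rcases hp with rfl | hp
            · rw [← hgaug, hy]
              exact hl a (List.mem_cons_self)
            · exact h1 p hp
          · simp [h2]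
          · simp only [List.map_cons, List.prod_cons, map_mul, h3, H6_map_gamma g hg, hy]
      obtain ⟨l', h1, h2, h3⟩ := hlift l hl1
      rw [← h3]
      apply hkey
      rw [H6_gammaFiltration_succ]
      apply AddSubgroup.subset_closure
      exact ⟨l', h1, by rw [h2]; exact hl2, rfl⟩
    | zero => rw [map_zero]; exact AddSubgroup.zero_mem _
    | add a b _ _ ha hb => rw [map_add]; exact AddSubgroup.add_mem _ ha hb
    | neg a _ ha => rw [map_neg]; exact AddSubgroup.neg_mem _ ha

end Push

end Groth.Agent.Lib.helper6
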