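import Mathlib
import Groth.Prelude.Def_CAlgX

set_option autoImplicit false
set_option linter.style.haveILetI false

namespace Groth.Agent.Lib.helper6

universe u

open IsLocalRing

section pb

variable {R T E Q : Type u} [CommRing R] [CommRing T] [CommRing E] [CommRing Q]
  [Algebra R T] [Algebra R E] [Algebra R Q] (f : T →ₐ[R] Q) (g : E →ₐ[R] Q)

lemma H6_pb_ker_sq (hg : (RingHom.ker g) ^ 2 = ⊥) :
    (RingHom.ker (AlgHom.pullbackFst f g)) ^ 2 = ⊥ := by
  rw [eq_bot_iff, pow_two, Ideal.mul_le]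
  intro x hx y hy
  rw [RingHom.mem_ker] at hx hy
  rw [Ideal.mem_bot]
  have hx1 : x.1.1 = 0 := hx
  have hy1 : y.1.1 = 0 := hy
  have hx2 : x.1.2 ∈ RingHom.ker g := by
    rw [RingHom.mem_ker]
    have := x.2
    have h1 : f x.1.1 = g x.1.2 := this
    rw [← h1, hx1, map_zero]
  have hy2 : y.1.2 ∈ RingHom.ker g := by
    rw [RingHom.mem_ker]
    have h1 : f y.1.1 = g y.1.2 := y.2
    rw [← h1, hy1, map_zero]
  have h2 : x.1.2 * y.1.2 = 0 := by
    have h3 : x.1.2 * y.1.2 ∈ (RingHom.ker g) ^ 2 := by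
      rw [pow_two]
      exact Ideal.mul_mem_mul hx2 hy2
    rwa [hg, Ideal.mem_bot] at h3
  apply Subtype.ext
  apply Prod.ext
  · show x.1.1 * y.1.1 = 0
    rw [hx1, zero_mul]
  · show x.1.2 * y.1.2 = 0
    exact h2

lemma H6_pb_max_pow [IsLocalRing T] [IsLocalHom g] (hg : (RingHom.ker g) ^ 2 = ⊥) (n : ℕ)
    (hT : maximalIdeal T ^ n = ⊥)
    [IsLocalRing (AlgHom.pullback f g)] :
    maximalIdeal (AlgHom.pullback f g) ^ (n * 2) = ⊥ := by
  have h1 : (maximalIdeal (AlgHom.pullback f g)).map (AlgHom.pullbackFst f g) ≤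
      maximalIdeal T := by
    rw [Ideal.map_le_iff_le_comap]
    intro x hx
    rw [Ideal.mem_comap]
    rw [IsLocalRing.mem_maximalIdeal, mem_nonunits_iff] at hx ⊢
    intro hu
    apply hx
    obtain ⟨⟨a, b⟩, hab⟩ := x
    rw [AlgHom.isUnit_pullback_mk_iff]
    refine ⟨hu, ?_⟩
    have h2 : f a = g b := hab
    exact isUnit_of_map_unit g b (h2 ▸ hu.map f)
  have h2 : maximalIdeal (AlgHom.pullback f g) ^ n ≤ RingHom.ker (AlgHom.pullbackFst f g) := by
    intro x hx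
    rw [RingHom.mem_ker]
    have h3 : AlgHom.pullbackFst f g x ∈
        ((maximalIdeal (AlgHom.pullback f g)).map (AlgHom.pullbackFst f g)) ^ n := by
      rw [← Ideal.map_pow]
      exact Ideal.mem_map_of_mem _ hx
    have h4 := Ideal.pow_right_mono h1 n h3
    rwa [hT, Ideal.mem_bot] at h4
  rw [eq_bot_iff, pow_mul, ← H6_pb_ker_sq f g hg]
  exact Ideal.pow_right_mono h2 2

end pb

lemma H6_unit_of_quot_unit {S : Type u} [CommRing S] [IsLocalRing S] (I : Ideal S)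
    (hI : I ≤ maximalIdeal S) (s : S) (hs : IsUnit (Ideal.Quotient.mk I s)) : IsUnit s := by
  obtain ⟨t', ht'⟩ := isUnit_iff_exists_inv.1 hs
  obtain ⟨t, rfl⟩ := Ideal.Quotient.mk_surjective t'
  rw [← map_mul, ← map_one (Ideal.Quotient.mk I), Ideal.Quotient.eq] at ht'
  by_contra hns
  have hsm : s ∈ maximalIdeal S := by
    rw [IsLocalRing.mem_maximalIdeal, mem_nonunits_iff]
    exact hns
  have h1 : (1 : S) ∈ maximalIdeal S := by
    have h2 := sub_mem (Ideal.mul_mem_right t _ hsm) (hI ht')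
    have h3 : s * t - (s * t - 1) = 1 := by ring
    rwa [h3] at h2
  exact (maximalIdeal.isMaximal S).ne_top ((Ideal.eq_top_iff_one _).2 h1)

lemma H6_lift_via {R S E P : Type u} [CommRing R] [CommRing S] [IsLocalRing R]
    [IsLocalRing S] [Algebra R S] [IsLocalHom (algebraMap R S)] [CommRing E] [Algebra R E]
    (J : Ideal E) (ψ : S →ₐ[R] E ⧸ J) (I : Ideal S) (hIle : I ≤ maximalIdeal S)
    [CommRing P] [IsLocalRing P] [Algebra R P] [IsLocalHom (algebraMap R P)]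
    (π₁ : P →ₐ[R] S ⧸ I) (hπsurj : Function.Surjective π₁) (π₂ : P →ₐ[R] E)
    (hcomm : ∀ (p : P) (s : S), π₁ p = Ideal.Quotient.mk I s →
      Ideal.Quotient.mk J (π₂ p) = ψ s)
    (hker2 : (RingHom.ker π₁) ^ 2 = ⊥) (hmax : ∃ n : ℕ, maximalIdeal P ^ n = ⊥)
    (H : ∀ (A : Type u) [CommRing A] [IsLocalRing A] [Algebra R A] [IsLocalHom (algebraMap R A)]
        (J : Ideal A), J ^ 2 = ⊥ → (∃ n : ℕ, maximalIdeal A ^ n = ⊥) →
        ∀ [IsLocalRing (A ⧸ J)] (ψ : S →ₐ[R] A ⧸ J) [IsLocalHom ψ.toRingHom],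
          Function.Bijective (ResidueField.map ψ.toRingHom) →
          ∃ χ : S →ₐ[R] A, (Ideal.Quotient.mkₐ R J).comp χ = ψ) :
    ∃ χ : S →ₐ[R] E, (Ideal.Quotient.mkₐ R J).comp χ = ψ := by
  have hIne : I ≠ ⊤ := ne_top_of_le_ne_top (maximalIdeal.isMaximal S).ne_top hIle
  haveI : Nontrivial (S ⧸ I) := Ideal.Quotient.nontrivial_iff.2 hIne
  obtain ⟨JP, hJPdef⟩ : ∃ JP : Ideal P, JP = RingHom.ker π₁ := ⟨_, rfl⟩
  rw [← hJPdef] at hker2
  have hJPne : JP ≠ ⊤ := by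
    intro htop
    have h1 : (1 : P) ∈ JP := by
      rw [htop]; exact Submodule.mem_top
    rw [hJPdef, RingHom.mem_ker, map_one] at h1
    exact one_ne_zero h1
  haveI : Nontrivial (P ⧸ JP) := Ideal.Quotient.nontrivial_iff.2 hJPne
  haveI : IsLocalRing (P ⧸ JP) :=
    IsLocalRing.of_surjective' (Ideal.Quotient.mk _) Ideal.Quotient.mk_surjective
  let iso := (Ideal.quotientEquivAlgOfEq R hJPdef).trans
    (Ideal.quotientKerAlgEquivOfSurjective hπsurj)
  have hiso : ∀ x, iso (Ideal.Quotient.mk JP x) = π₁ x := fun x => rfl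
  let ψP : S →ₐ[R] (P ⧸ JP) :=
    (iso.symm : _ →ₐ[R] _).comp (Ideal.Quotient.mkₐ R I)
  have hψP : ∀ s, iso (ψP s) = Ideal.Quotient.mk I s := by
    intro s
    show iso (iso.symm (Ideal.Quotient.mk I s)) = _
    rw [AlgEquiv.apply_symm_apply]
  haveI : IsLocalHom ψP.toRingHom := by
    refine ⟨fun s hs => ?_⟩
    have h1 : IsUnit (iso (ψP s)) := IsUnit.map iso hs
    rw [hψP] at h1
    exact H6_unit_of_quot_unit _ hIle _ h1
  have hψPsurj : Function.Surjective ψP := by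
    intro y
    obtain ⟨s, hs⟩ := Ideal.Quotient.mk_surjective (iso y)
    refine ⟨s, ?_⟩
    apply iso.injective
    rw [hψP, hs]
  have hbij : Function.Bijective (ResidueField.map ψP.toRingHom) := by
    refine ⟨(ResidueField.map ψP.toRingHom).injective, ?_⟩
    intro y
    obtain ⟨z, rfl⟩ := IsLocalRing.residue_surjective y
    obtain ⟨s, rfl⟩ := hψPsurj z
    exact ⟨residue S s, ResidueField.map_residue ψP.toRingHom s⟩
  obtain ⟨χ, hχ⟩ := H P JP hker2 hmax ψP hbij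
  refine ⟨π₂.comp χ, ?_⟩
  ext s
  have h1 : Ideal.Quotient.mk JP (χ s) = ψP s := congrArg (fun g => g s) hχ
  have h2 : π₁ (χ s) = Ideal.Quotient.mk I s := by
    rw [← hψP, ← h1, hiso]
  exact hcomm (χ s) s h2

theorem H6_local_lift_crit {R S : Type u} [CommRing R] [CommRing S] [IsLocalRing R]
    [IsLocalRing S] [Algebra R S] [IsLocalHom (algebraMap R S)]
    (H : ∀ (A : Type u) [CommRing A] [IsLocalRing A] [Algebra R A] [IsLocalHom (algebraMap R A)]
        (J : Ideal A), J ^ 2 = ⊥ → (∃ n : ℕ, maximalIdeal A ^ n = ⊥) →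
        ∀ [IsLocalRing (A ⧸ J)] (ψ : S →ₐ[R] A ⧸ J) [IsLocalHom ψ.toRingHom],
          Function.Bijective (ResidueField.map ψ.toRingHom) →
          ∃ χ : S →ₐ[R] A, (Ideal.Quotient.mkₐ R J).comp χ = ψ) :
    CAlgX.IsAdicFormallySmooth R S (maximalIdeal S) := by
  intro E _ _ J hJ ψ hk
  obtain ⟨k, hk⟩ := hk
  have hk' : ∀ x ∈ maximalIdeal S ^ (k + 1), ψ x = 0 :=
    fun x hx => hk x (Ideal.pow_le_pow_right (Nat.le_succ k) hx)
  have hIle : maximalIdeal S ^ (k + 1) ≤ maximalIdeal S := Ideal.pow_le_self (Nat.succ_ne_zero k)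
  have hIne : maximalIdeal S ^ (k + 1) ≠ ⊤ :=
    ne_top_of_le_ne_top (maximalIdeal.isMaximal S).ne_top hIle
  haveI : Nontrivial (S ⧸ maximalIdeal S ^ (k + 1)) := Ideal.Quotient.nontrivial_iff.2 hIne
  haveI : IsLocalRing (S ⧸ maximalIdeal S ^ (k + 1)) :=
    IsLocalRing.of_surjective' (Ideal.Quotient.mk _) Ideal.Quotient.mk_surjective
  have hTmax : maximalIdeal (S ⧸ maximalIdeal S ^ (k + 1)) ^ (k + 1) = ⊥ := by
    have h1 : maximalIdeal (S ⧸ maximalIdeal S ^ (k + 1)) ≤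
        (maximalIdeal S).map (Ideal.Quotient.mk (maximalIdeal S ^ (k + 1))) := by
      intro x hx
      obtain ⟨s, rfl⟩ := Ideal.Quotient.mk_surjective x
      refine Ideal.mem_map_of_mem _ ?_
      rw [IsLocalRing.mem_maximalIdeal, mem_nonunits_iff] at hx ⊢
      intro hs
      exact hx (hs.map _)
    rw [eq_bot_iff]
    refine (Ideal.pow_right_mono h1 (k + 1)).trans ?_
    rw [← Ideal.map_pow, Ideal.map_quotient_self]
  have hJker : RingHom.ker (Ideal.Quotient.mkₐ R J) = J := by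
    ext x
    rw [RingHom.mem_ker]
    exact Ideal.Quotient.eq_zero_iff_mem
  have hg2 : (RingHom.ker (Ideal.Quotient.mkₐ R J)) ^ 2 = ⊥ := by rw [hJker, hJ]
  haveI : IsLocalHom (Ideal.Quotient.mkₐ R J) :=
    ⟨fun e he => (IsNilpotent.isUnit_quotient_mk_iff ⟨2, hJ⟩).1 he⟩
  haveI hPloc : IsLocalRing (AlgHom.pullback
      (Ideal.Quotient.liftₐ (maximalIdeal S ^ (k + 1)) ψ hk') (Ideal.Quotient.mkₐ R J)) :=
    AlgHom.isLocalRing_pullback _ _
  have hπsurj : Function.Surjective (AlgHom.pullbackFst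
      (Ideal.Quotient.liftₐ (maximalIdeal S ^ (k + 1)) ψ hk') (Ideal.Quotient.mkₐ R J)) :=
    AlgHom.surjective_pullbackFst_of_surjective _ _ Ideal.Quotient.mk_surjective
  haveI : IsLocalHom (algebraMap R (AlgHom.pullback
      (Ideal.Quotient.liftₐ (maximalIdeal S ^ (k + 1)) ψ hk') (Ideal.Quotient.mkₐ R J))) := by
    refine ⟨fun r hr => ?_⟩
    have h1 : IsUnit (AlgHom.pullbackFst
      (Ideal.Quotient.liftₐ (maximalIdeal S ^ (k + 1)) ψ hk') (Ideal.Quotient.mkₐ R J)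
      (algebraMap R _ r)) := hr.map _
    rw [AlgHom.commutes] at h1
    have h2 : IsUnit (Ideal.Quotient.mk (maximalIdeal S ^ (k + 1)) (algebraMap R S r)) := h1
    exact isUnit_of_map_unit (algebraMap R S) r (H6_unit_of_quot_unit _ hIle _ h2)
  have hJP2 := H6_pb_ker_sq (Ideal.Quotient.liftₐ (maximalIdeal S ^ (k + 1)) ψ hk')
    (Ideal.Quotient.mkₐ R J) hg2
  have hPmax := H6_pb_max_pow (Ideal.Quotient.liftₐ (maximalIdeal S ^ (k + 1)) ψ hk')
    (Ideal.Quotient.mkₐ R J) hg2 (k + 1) hTmax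
  refine H6_lift_via J ψ (maximalIdeal S ^ (k + 1)) hIle
    (AlgHom.pullbackFst
      (Ideal.Quotient.liftₐ (maximalIdeal S ^ (k + 1)) ψ hk') (Ideal.Quotient.mkₐ R J)) hπsurj
    (AlgHom.pullbackSnd
      (Ideal.Quotient.liftₐ (maximalIdeal S ^ (k + 1)) ψ hk') (Ideal.Quotient.mkₐ R J))
    ?_ hJP2 ⟨_, hPmax⟩ H
  intro p s hps
  have h3 : (Ideal.Quotient.liftₐ (maximalIdeal S ^ (k + 1)) ψ hk') (p.1.1) =
      Ideal.Quotient.mkₐ R J (p.1.2) := p.2
  show Ideal.Quotient.mkₐ R J (p.1.2) = ψ s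
  rw [← h3]
  have h4 : p.1.1 = Ideal.Quotient.mk (maximalIdeal S ^ (k + 1)) s := hps
  rw [h4]
  rfl

end Groth.Agent.Lib.helper6
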