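import Mathlib
import Groth.Agent.Lib.helper6.GeomRedFS3

set_option autoImplicit false
open TensorProduct

namespace Groth.Agent.Lib.helper6

theorem H6_tensor_mvps_inj (k V σ : Type*) [Field k] [Field V] [Algebra k V] :
    ∃ φ : V ⊗[k] MvPowerSeries σ k →+* MvPowerSeries σ V, Function.Injective φ := by
  classical
  let f : V →ₐ[k] MvPowerSeries σ V :=
    { (MvPowerSeries.C : V →+* MvPowerSeries σ V) with
      commutes' := fun r => (MvPowerSeries.algebraMap_apply (σ := σ) (R := k) (A := V) (r := r)).symm }
  have hf : ∀ v, f v = MvPowerSeries.C v := fun _ => rfl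
  let φ := Algebra.TensorProduct.productMap f (MvPowerSeries.mapAlgHom (σ := σ) (Algebra.ofId k V))
  refine ⟨φ.toRingHom, ?_⟩
  rw [injective_iff_map_eq_zero]
  intro x hx
  let b := Module.Basis.ofVectorSpace k V
  let e := TensorProduct.equivFinsuppOfBasisLeft (N := MvPowerSeries σ k) b
  obtain ⟨g, rfl⟩ : ∃ g, e.symm g = x := ⟨e x, e.symm_apply_apply x⟩
  have hg : g = 0 := by
    ext i m
    by_cases hi : i ∈ g.support
    · have hx' : φ (e.symm g) = 0 := hx
      rw [TensorProduct.equivFinsuppOfBasisLeft_symm_apply, Finsupp.sum, map_sum] at hx'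
      have h1 := congrArg (MvPowerSeries.coeff m) hx'
      rw [map_sum, map_zero] at h1
      have h2 : ∑ j ∈ g.support, (MvPowerSeries.coeff m (g j)) • b j = 0 := by
        rw [← h1]
        refine Finset.sum_congr rfl (fun j _ => ?_)
        rw [Algebra.TensorProduct.productMap_apply_tmul, hf, MvPowerSeries.coeff_C_mul,
          MvPowerSeries.mapAlgHom_apply, MvPowerSeries.coeff_map, Algebra.smul_def, mul_comm]
        rfl
      have := linearIndependent_iff'.1 b.linearIndependent g.support
        (fun j => MvPowerSeries.coeff m (g j)) h2 i hi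
      simpa using this
    · rw [Finsupp.notMem_support_iff] at hi
      simp [hi]
  rw [hg, map_zero]

theorem H6_mvps_geomRed (k : Type*) [Field k] (σ : Type*) :
    IsReduced (AlgebraicClosure k ⊗[k] MvPowerSeries σ k) := by
  obtain ⟨φ, hφ⟩ := H6_tensor_mvps_inj k (AlgebraicClosure k) σ
  exact isReduced_of_injective φ hφ

end Groth.Agent.Lib.helper6
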