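import Mathlib

set_option autoImplicit false
set_option linter.style.haveILetI false

namespace Groth.Agent.Lib.helper6

universe u

section

variable {R : Type u} [CommRing R] {P : Type u} [AddCommGroup P] [Module R P]

lemma H6_nilp_nakayama_top (I : Ideal R) (k : ℕ) (hk : I ^ k = ⊥) (N : Submodule R P)
    (h : N ⊔ I • ⊤ = ⊤) : N = ⊤ := by
  have hall : ∀ j : ℕ, N ⊔ I ^ j • (⊤ : Submodule R P) = ⊤ := by
    intro j
    induction j with
    | zero => rw [pow_zero, Ideal.one_eq_top, Submodule.top_smul, sup_top_eq]
    | succ j ih =>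
      rw [eq_top_iff]
      calc (⊤ : Submodule R P) = N ⊔ I ^ j • (⊤ : Submodule R P) := ih.symm
        _ = N ⊔ I ^ j • (N ⊔ I • (⊤ : Submodule R P)) := by rw [h]
        _ = N ⊔ (I ^ j • N ⊔ I ^ j • (I • (⊤ : Submodule R P))) := by rw [Submodule.smul_sup]
        _ ≤ N ⊔ I ^ (j + 1) • (⊤ : Submodule R P) := by
          refine sup_le le_sup_left (sup_le ?_ ?_)
          · exact le_sup_of_le_left Submodule.smul_le_right
          · rw [← Submodule.mul_smul, ← pow_succ]
            exact le_sup_right
  have := hall k
  rwa [hk, Submodule.bot_smul, sup_bot_eq] at this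

lemma H6_nilp_nakayama_bot (I : Ideal R) (k : ℕ) (hk : I ^ k = ⊥) (N : Submodule R P)
    (h : N ≤ I • N) : N = ⊥ := by
  have hall : ∀ j : ℕ, N ≤ I ^ j • N := by
    intro j
    induction j with
    | zero => rw [pow_zero, Ideal.one_eq_top, Submodule.top_smul]
    | succ j ih =>
      calc N ≤ I ^ j • N := ih
        _ ≤ I ^ j • (I • N) := Submodule.smul_mono le_rfl h
        _ = I ^ (j + 1) • N := by rw [← Submodule.mul_smul, ← pow_succ]
  have := hall k
  rwa [hk, Submodule.bot_smul, le_bot_iff] at this

end

/-- projective modules over a local ring with nilpotent maximal ideal are free. -/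
theorem H6_free_of_projective_nilpotent {R : Type u} [CommRing R] [IsLocalRing R] (k : ℕ)
    (hk : IsLocalRing.maximalIdeal R ^ k = ⊥) (P : Type u) [AddCommGroup P] [Module R P]
    [Module.Projective R P] : Module.Free R P := by
  classical
  obtain ⟨m, hm⟩ : ∃ m : Ideal R, m = IsLocalRing.maximalIdeal R := ⟨_, rfl⟩
  haveI : m.IsMaximal := by rw [hm]; infer_instance
  letI : Field (R ⧸ m) := Ideal.Quotient.field m
  rw [← hm] at hk
  let b := Module.Free.chooseBasis (R ⧸ m) (P ⧸ (m • ⊤ : Submodule R P))
  let ι := Module.Free.ChooseBasisIndex (R ⧸ m) (P ⧸ (m • ⊤ : Submodule R P))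
  have hex : ∀ i : ι, ∃ p : P, Submodule.Quotient.mk p = b i :=
    fun i => Submodule.Quotient.mk_surjective _ (b i)
  choose e he using hex
  let φ : (ι →₀ R) →ₗ[R] P := Finsupp.linearCombination R e
  -- surjectivity
  have hrange : LinearMap.range φ = Submodule.span R (Set.range e) :=
    Finsupp.range_linearCombination R
  have hmap : (LinearMap.range φ).map (m • ⊤ : Submodule R P).mkQ = ⊤ := by
    rw [hrange, Submodule.map_span, ← Set.range_comp]
    have h1 : ((m • ⊤ : Submodule R P).mkQ ∘ e) = b := by
      funext i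
      exact he i
    rw [h1]
    have h2 := Submodule.restrictScalars_span R (R ⧸ m) Ideal.Quotient.mk_surjective
      (Set.range b)
    rw [← h2, b.span_eq]
    rfl
  have hsup : LinearMap.range φ ⊔ m • (⊤ : Submodule R P) = ⊤ := by
    have h1 := Submodule.comap_map_eq (m • ⊤ : Submodule R P).mkQ (LinearMap.range φ)
    rw [hmap, Submodule.comap_top, Submodule.ker_mkQ] at h1
    exact h1.symm
  have hsurj : Function.Surjective φ :=
    LinearMap.range_eq_top.1 (H6_nilp_nakayama_top m k hk _ hsup)
  -- splitting
  obtain ⟨s, hs⟩ := Module.projective_lifting_property φ LinearMap.id hsurj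
  have hsφ : ∀ p, φ (s p) = p := fun p => congrArg (fun l => l p) hs
  -- injectivity
  have hker : LinearMap.ker φ ≤ m • LinearMap.ker φ := by
    intro x hx
    have hx0 : φ x = 0 := hx
    have hcoef : ∀ i, x i ∈ m := by
      have h1 : Finsupp.linearCombination (R ⧸ m) b
          (x.mapRange (Ideal.Quotient.mk m) (map_zero _)) = 0 := by
        have h2 : (Submodule.Quotient.mk (φ x) : P ⧸ (m • ⊤ : Submodule R P)) = 0 := by
          rw [hx0]; rfl
        rw [← h2]
        show _ = (m • ⊤ : Submodule R P).mkQ (Finsupp.linearCombination R e x)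
        rw [Finsupp.linearCombination_apply, Finsupp.linearCombination_apply,
          Finsupp.sum_mapRange_index (h := fun i a => a • b i) (fun i => zero_smul _ _), map_finsuppSum]
        refine Finsupp.sum_congr fun i _ => ?_
        rw [map_smul, Submodule.mkQ_apply, he i]
        rfl
      have h3 := (linearIndependent_iff.1 b.linearIndependent) _ h1
      intro i
      have h4 := DFunLike.congr_fun h3 i
      rw [Finsupp.mapRange_apply, Finsupp.zero_apply] at h4
      exact Ideal.Quotient.eq_zero_iff_mem.1 h4
    have hπ : ∀ y : ι →₀ R, y - s (φ y) ∈ LinearMap.ker φ := by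
      intro y
      rw [LinearMap.mem_ker, map_sub, hsφ, sub_self]
    have hx1 : x = x.sum fun i a => a • (Finsupp.single i (1 : R) - s (φ (Finsupp.single i 1))) := by
      have h5 : x.sum (fun i a => a • (Finsupp.single i (1 : R) - s (φ (Finsupp.single i 1)))) =
          x.sum (fun i a => Finsupp.single i a) -
            s (φ (x.sum fun i a => Finsupp.single i a)) := by
        simp only [Finsupp.sum, smul_sub, Finset.sum_sub_distrib, map_sum, ← map_smul,
          Finsupp.smul_single, smul_eq_mul, mul_one]
      rw [h5, Finsupp.sum_single, hx0, map_zero, sub_zero]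
    rw [hx1]
    refine Submodule.sum_mem _ fun i _ => ?_
    exact Submodule.smul_mem_smul (hcoef i) (hπ _)
  have hinj : Function.Injective φ :=
    LinearMap.ker_eq_bot.1 (H6_nilp_nakayama_bot m k hk _ hker)
  exact Module.Free.of_equiv (LinearEquiv.ofBijective φ ⟨hinj, hsurj⟩)

end Groth.Agent.Lib.helper6
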