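import Mathlib
import Groth.Prelude.Def_PP16
import Groth.Prelude.Def_DiffOp
import Groth.Agent.Lib.helper6.PP16DivPow3
import Groth.Agent.Lib.helper1.DiffOp

set_option autoImplicit false
set_option linter.style.haveILetI false

namespace Groth.Agent.Lib.helper6
open PP16 Diff16
open scoped TensorProduct

universe u

section

variable (A B : Type u) [CommRing A] [CommRing B] [Algebra A B]

lemma H6_isDiffOpLE_commutator_same (k : ℕ) (D : B →ₗ[A] B) (hD : IsDiffOpLE A B B B k D) (b : B) :
    IsDiffOpLE A B B B k (Diff16.commutator A B B B D b) := by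
  cases k with
  | zero =>
    rw [(Groth.Agent.H1.H1_isDiffOpLE_zero_iff' D).mp hD b]
    exact Groth.Agent.H1.H1_isDiffOpLE_zeroMap 0
  | succ k => exact Groth.Agent.H1.H1_isDiffOpLE_succ _ _ (hD b)

lemma H6_pascal_term (a : B) (Q P : ℕ) :
    ((Q + 1).choose P : B) * a ^ (Q + 1 - P) - a * ((Q.choose P : B) * a ^ (Q - P)) =
      if 1 ≤ P then (Q.choose (P - 1) : B) * a ^ (Q - (P - 1)) else 0 := by
  cases P with
  | zero =>
    simp only [Nat.choose_zero_right, Nat.cast_one, one_mul, Nat.sub_zero]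
    rw [if_neg (by omega), pow_succ]
    ring
  | succ P =>
    rw [if_pos (by omega), Nat.add_sub_cancel, Nat.choose_succ_succ, Nat.cast_add]
    have h1 : Q + 1 - (P + 1) = Q - P := by omega
    rw [h1]
    by_cases hQ : P + 1 ≤ Q
    · have h2 : Q - P = (Q - (P + 1)) + 1 := by omega
      rw [h2, pow_succ]
      ring
    · have h3 : Q.choose (P + 1) = 0 := Nat.choose_eq_zero_of_lt (by omega)
      rw [h3]
      simp

variable {ι : Type*} [Fintype ι] [DecidableEq ι] (z : ι → B)

lemma H6_mono_pascal (p q : ι → ℕ) (i : ι) :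
    ((∏ j, ((q + Pi.single i 1 : ι → ℕ) j).choose (p j) : ℕ) : B) *
        ∏ j, z j ^ ((q + Pi.single i 1 : ι → ℕ) j - p j) -
      z i * (((∏ j, (q j).choose (p j) : ℕ) : B) * ∏ j, z j ^ (q j - p j)) =
    if 1 ≤ p i then ((∏ j, (q j).choose ((p - Pi.single i 1 : ι → ℕ) j) : ℕ) : B) *
        ∏ j, z j ^ (q j - (p - Pi.single i 1 : ι → ℕ) j) else 0 := by
  simp only [Nat.cast_prod, ← Finset.prod_mul_distrib]
  rw [← Finset.mul_prod_erase Finset.univ _ (Finset.mem_univ i),
    ← Finset.mul_prod_erase Finset.univ (fun j => ((q j).choose (p j) : B) * z j ^ (q j - p j))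
      (Finset.mem_univ i)]
  have hrest : ∏ j ∈ Finset.univ.erase i,
      (((q + Pi.single i 1 : ι → ℕ) j).choose (p j) : B) *
        z j ^ ((q + Pi.single i 1 : ι → ℕ) j - p j) =
      ∏ j ∈ Finset.univ.erase i, ((q j).choose (p j) : B) * z j ^ (q j - p j) := by
    refine Finset.prod_congr rfl fun j hj => ?_
    have hji : j ≠ i := Finset.ne_of_mem_erase hj
    simp [Pi.single_eq_of_ne hji]
  rw [hrest]
  have hi : (q + Pi.single i 1 : ι → ℕ) i = q i + 1 := by simp
  rw [hi]
  have key := H6_pascal_term B (z i) (q i) (p i)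
  split_ifs with hp
  · rw [if_pos hp] at key
    rw [← Finset.mul_prod_erase Finset.univ _ (Finset.mem_univ i)]
    have hrest2 : ∏ j ∈ Finset.univ.erase i,
        ((q j).choose ((p - Pi.single i 1 : ι → ℕ) j) : B) *
          z j ^ (q j - (p - Pi.single i 1 : ι → ℕ) j) =
        ∏ j ∈ Finset.univ.erase i, ((q j).choose (p j) : B) * z j ^ (q j - p j) := by
      refine Finset.prod_congr rfl fun j hj => ?_
      have hji : j ≠ i := Finset.ne_of_mem_erase hj
      simp [Pi.single_eq_of_ne hji]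
    rw [hrest2]
    have hi2 : (p - Pi.single i 1 : ι → ℕ) i = p i - 1 := by simp
    rw [hi2, ← key]
    ring
  · rw [if_neg hp] at key
    linear_combination (∏ j ∈ Finset.univ.erase i, ((q j).choose (p j) : B) * z j ^ (q j - p j)) * key


variable (hz : Submodule.span B (Set.range fun i => KaehlerDifferential.D A B (z i)) = ⊤)
  (Dp : (ι → ℕ) → (B →ₗ[A] B)) (hD : ∀ p, ∃ k : ℕ, Diff16.IsDiffOpLE A B B B k (Dp p))
  (hDz : ∀ p q : ι → ℕ, Dp p (∏ i, z i ^ q i) =
      ((∏ i, Nat.choose (q i) (p i) : ℕ) : B) * ∏ i, z i ^ (q i - p i))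

include hz hD hDz in
lemma H6_commutator_Dp (p : ι → ℕ) (i : ι) :
    Diff16.commutator A B B B (Dp p) (z i) =
      if 1 ≤ p i then Dp (p - Pi.single i 1) else 0 := by
  rw [← sub_eq_zero]
  obtain ⟨k1, hk1⟩ := hD p
  obtain ⟨k2, hk2⟩ := hD (p - Pi.single i 1)
  refine H6_eq_zero_of_monomials A B z hz (max k1 k2) _ ?_ ?_
  · rw [sub_eq_add_neg]
    refine Groth.Agent.H1.H1_isDiffOpLE_add _ _ _
      (Groth.Agent.H1.H1_isDiffOpLE_mono (le_max_left _ _) _
        (H6_isDiffOpLE_commutator_same A B k1 _ hk1 _))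
      (Groth.Agent.H1.H1_isDiffOpLE_neg _ _ ?_)
    split_ifs
    · exact Groth.Agent.H1.H1_isDiffOpLE_mono (le_max_right _ _) _ hk2
    · exact Groth.Agent.H1.H1_isDiffOpLE_zeroMap _
  · intro q
    rw [LinearMap.sub_apply, Groth.Agent.H1.H1_commutator_apply, smul_eq_mul, smul_eq_mul,
      ← H6_prod_single, hDz, hDz, H6_mono_pascal]
    split_ifs
    · rw [hDz, sub_self]
    · rw [LinearMap.zero_apply, sub_self]

include hz in
lemma H6_order_succ_of_comm_gens (k : ℕ) (E : B →ₗ[A] B) (hE : IsDiffOpLE A B B B k E) (n : ℕ)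
    (h : ∀ i, IsDiffOpLE A B B B n (Diff16.commutator A B B B E (z i))) :
    IsDiffOpLE A B B B (n + 1) E := by
  rw [H6_isDiffOpLE_iff] at hE ⊢
  have h' : ∀ i, ∀ t ∈ KaehlerDifferential.ideal A B ^ (n + 1),
      H6_lam A B B B (Diff16.commutator A B B B E (z i)) t = 0 := fun i =>
    (H6_isDiffOpLE_iff A B B B n _).1 (h i)
  have hpow : KaehlerDifferential.ideal A B ^ (k + 1) ≤ H6_Ann A B E := by
    intro t ht s
    exact hE (s * t) (Ideal.mul_mem_left _ _ ht)
  have hG : ∀ g ∈ H6_G A B z, ∀ r ∈ KaehlerDifferential.ideal A B ^ (n + 1),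
      r * g ∈ H6_Ann A B E := by
    intro g hg
    unfold H6_G at hg
    induction hg using Submodule.span_induction with
    | mem x hx =>
      obtain ⟨i, rfl⟩ := hx
      intro r hr s
      rw [← mul_assoc, H6_lam_mul_gen]
      exact h' i _ (Ideal.mul_mem_left _ _ hr)
    | zero => intro r _; rw [mul_zero]; exact Ideal.zero_mem _
    | add x y _ _ hx hy => intro r hr; rw [mul_add]; exact Ideal.add_mem _ (hx r hr) (hy r hr)
    | smul c x _ hx =>
      intro r hr
      rw [smul_eq_mul, ← mul_assoc]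
      exact hx (r * c) (Ideal.mul_mem_right _ _ hr)
  have hmul : KaehlerDifferential.ideal A B ^ (n + 1) * H6_G A B z ≤ H6_Ann A B E := by
    rw [Ideal.mul_le]
    intro r hr g hg
    exact hG g hg r hr
  have hle : KaehlerDifferential.ideal A B ^ (n + 1 + 1) ≤ H6_Ann A B E := by
    calc KaehlerDifferential.ideal A B ^ (n + 1 + 1)
        = KaehlerDifferential.ideal A B ^ (n + 1) * KaehlerDifferential.ideal A B := pow_succ _ _
      _ ≤ KaehlerDifferential.ideal A B ^ (n + 1) *
          (H6_G A B z ⊔ KaehlerDifferential.ideal A B ^ (k + 1)) :=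
            Ideal.mul_mono_right (H6_ideal_le_G_sup_pow A B z hz k)
      _ = KaehlerDifferential.ideal A B ^ (n + 1) * H6_G A B z ⊔
          KaehlerDifferential.ideal A B ^ (n + 1) * KaehlerDifferential.ideal A B ^ (k + 1) :=
            Ideal.mul_sup _ _ _
      _ ≤ H6_Ann A B E := sup_le hmul (Ideal.mul_le_right.trans hpow)
  intro t ht
  have := hle ht 1
  rwa [one_mul] at this

include hz hD hDz in
theorem H6_Dp_order : ∀ (k : ℕ) (p : ι → ℕ), ∑ i, p i = k → IsDiffOpLE A B B B k (Dp p) := by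
  intro k
  induction k with
  | zero =>
    intro p hp
    obtain ⟨k1, hk1⟩ := hD p
    refine H6_linear_of_comm_gens A B z hz k1 _ hk1 fun i => ?_
    rw [H6_commutator_Dp A B z hz Dp hD hDz p i, if_neg]
    have : p i = 0 := by
      have := (Finset.sum_eq_zero_iff.1 hp) i (Finset.mem_univ i)
      exact this
    omega
  | succ k ih =>
    intro p hp
    obtain ⟨k1, hk1⟩ := hD p
    refine H6_order_succ_of_comm_gens A B z hz k1 _ hk1 k fun i => ?_
    rw [H6_commutator_Dp A B z hz Dp hD hDz p i]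
    split_ifs with hpi
    · apply ih
      have h1 : ∑ j, (p - Pi.single i 1 : ι → ℕ) j + ∑ j, (Pi.single i 1 : ι → ℕ) j = ∑ j, p j := by
        rw [← Finset.sum_add_distrib]
        refine Finset.sum_congr rfl fun j _ => ?_
        by_cases hji : j = i
        · subst hji; simp; omega
        · simp [Pi.single_eq_of_ne hji]
      have h2 : ∑ j, (Pi.single i 1 : ι → ℕ) j = 1 := by
        rw [Finset.sum_pi_single']
        simp
      omega
    · exact Groth.Agent.H1.H1_isDiffOpLE_zeroMap _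

end

end Groth.Agent.Lib.helper6
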