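import Mathlib
import Groth.Prelude.Def_PP16
import Groth.Prelude.Def_DiffOp
import Groth.Agent.Lib.helper6.PP16DivPow4
import Groth.Agent.Lib.helper6.EtaleCoord4

set_option autoImplicit false
set_option linter.style.haveILetI false

namespace Groth.Agent.Lib.helper6
open PP16 Diff16
open scoped TensorProduct

universe u

section

variable (A B : Type u) [CommRing A] [CommRing B] [Algebra A B]

lemma H6_lam_add (D D' : B →ₗ[A] B) (t : B ⊗[A] B) :
    H6_lam A B B B (D + D') t = H6_lam A B B B D t + H6_lam A B B B D' t := by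
  induction t using TensorProduct.induction_on with
  | zero => simp
  | tmul x y =>
    ext m
    rw [LinearMap.add_apply, H6_lam_tmul, H6_lam_tmul, H6_lam_tmul, LinearMap.add_apply, smul_add]
  | add x y hx hy => rw [map_add, map_add, map_add, hx, hy]; abel

lemma H6_lam_one (D : B →ₗ[A] B) : H6_lam A B B B D 1 = D := by
  ext m
  rw [Algebra.TensorProduct.one_def, H6_lam_tmul, one_smul, one_smul]

variable {ι : Type*} [Fintype ι] [DecidableEq ι] (z : ι → B)

/-- `ζ^q = ∏ (1 ⊗ z_j - z_j ⊗ 1)^(q j)`. -/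
noncomputable def H6_zetaPow (q : ι → ℕ) : B ⊗[A] B :=
  ∏ j, ((1 : B) ⊗ₜ[A] z j - z j ⊗ₜ[A] (1 : B)) ^ q j

lemma H6_zetaPow_zero : H6_zetaPow A B z 0 = 1 := by
  simp [H6_zetaPow]

lemma H6_zetaPow_add_single (q : ι → ℕ) (i : ι) :
    H6_zetaPow A B z (q + Pi.single i 1) =
      H6_zetaPow A B z q * ((1 : B) ⊗ₜ[A] z i - z i ⊗ₜ[A] (1 : B)) := by
  unfold H6_zetaPow
  rw [H6_prod_single (B := B ⊗[A] B) (fun j => (1 : B) ⊗ₜ[A] z j - z j ⊗ₜ[A] (1 : B)) q i, mul_comm]

lemma H6_zetaPow_mem (q : ι → ℕ) :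
    H6_zetaPow A B z q ∈ KaehlerDifferential.ideal A B ^ (∑ j, q j) := by
  unfold H6_zetaPow
  rw [← Finset.prod_pow_eq_pow_sum]
  refine Ideal.prod_mem_prod fun j _ => ?_
  exact Ideal.pow_mem_pow (KaehlerDifferential.one_smul_sub_smul_one_mem_ideal A (z j)) _

/-- coefficient functional `κ_q(D) = λ_D(ζ^q)(1)`. -/
noncomputable def H6_kappa (q : ι → ℕ) : (B →ₗ[A] B) →ₗ[B] B where
  toFun D := H6_lam A B B B D (H6_zetaPow A B z q) 1
  map_add' D D' := by rw [H6_lam_add, LinearMap.add_apply]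
  map_smul' c D := by rw [H6_lam_smul, LinearMap.smul_apply, RingHom.id_apply]

lemma H6_kappa_apply (q : ι → ℕ) (D : B →ₗ[A] B) :
    H6_kappa A B z q D = H6_lam A B B B D (H6_zetaPow A B z q) 1 := rfl

omit [DecidableEq ι] in
lemma H6_sum_sub_single [DecidableEq ι] (p : ι → ℕ) (i : ι) (hp : 1 ≤ p i) :
    ∑ j, (p - Pi.single i 1 : ι → ℕ) j + 1 = ∑ j, p j := by
  have h1 : ∑ j, (p - Pi.single i 1 : ι → ℕ) j + ∑ j, (Pi.single i 1 : ι → ℕ) j = ∑ j, p j := by
    rw [← Finset.sum_add_distrib]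
    refine Finset.sum_congr rfl fun j _ => ?_
    by_cases hji : j = i
    · subst hji; simp; omega
    · simp [Pi.single_eq_of_ne hji]
  have h2 : ∑ j, (Pi.single i 1 : ι → ℕ) j = 1 := by
    rw [Finset.sum_pi_single']
    simp
  omega

lemma H6_sum_add_single (q : ι → ℕ) (i : ι) :
    ∑ j, (q + Pi.single i 1 : ι → ℕ) j = ∑ j, q j + 1 := by
  simp only [Pi.add_apply]
  rw [Finset.sum_add_distrib, Finset.sum_pi_single']
  simp

lemma H6_pi_induction {P : (ι → ℕ) → Prop} (h0 : P 0)
    (hs : ∀ q i, P q → P (q + Pi.single i 1)) : ∀ q, P q := by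
  have : ∀ (k : ℕ) (q : ι → ℕ), ∑ j, q j = k → P q := by
    intro k
    induction k with
    | zero =>
      intro q hq
      have : q = 0 := by
        funext j
        exact (Finset.sum_eq_zero_iff.1 hq) j (Finset.mem_univ j)
      rw [this]; exact h0
    | succ k ih =>
      intro q hq
      have hex : ∃ i, 1 ≤ q i := by
        by_contra hne
        push Not at hne
        have : ∑ j, q j = 0 := Finset.sum_eq_zero fun j _ => by have := hne j; omega
        omega
      obtain ⟨i, hi⟩ := hex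
      have hq' : q = (q - Pi.single i 1) + Pi.single i 1 := by
        funext j
        by_cases hji : j = i
        · subst hji; simp; omega
        · simp [Pi.single_eq_of_ne hji]
      rw [hq']
      apply hs
      apply ih
      have := H6_sum_sub_single q i hi
      omega
  intro q
  exact this _ q rfl

lemma H6_le_sub_single_iff (p q : ι → ℕ) (i : ι) (hp : 1 ≤ p i) :
    q + Pi.single i 1 ≤ p ↔ q ≤ p - Pi.single i 1 := by
  constructor
  · intro h j
    have := h j
    by_cases hji : j = i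
    · subst hji; simp at this ⊢; omega
    · simpa [Pi.single_eq_of_ne hji] using this
  · intro h j
    have := h j
    by_cases hji : j = i
    · subst hji; simp at this ⊢; omega
    · simpa [Pi.single_eq_of_ne hji] using this

variable (hz : Submodule.span B (Set.range fun i => KaehlerDifferential.D A B (z i)) = ⊤)
  (Dp : (ι → ℕ) → (B →ₗ[A] B)) (hD : ∀ p, ∃ k : ℕ, Diff16.IsDiffOpLE A B B B k (Dp p))
  (hDz : ∀ p q : ι → ℕ, Dp p (∏ i, z i ^ q i) =
      ((∏ i, Nat.choose (q i) (p i) : ℕ) : B) * ∏ i, z i ^ (q i - p i))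

open Classical in
include hz hD hDz in
lemma H6_lam_Dp_zetaPow : ∀ (q p : ι → ℕ),
    H6_lam A B B B (Dp p) (H6_zetaPow A B z q) = if q ≤ p then Dp (p - q) else 0 := by
  intro q
  induction q using H6_pi_induction with
  | h0 =>
    intro p
    rw [H6_zetaPow_zero, H6_lam_one,
      if_pos (show (0 : ι → ℕ) ≤ p from fun j => Nat.zero_le _), tsub_zero]
  | hs q i ih =>
    intro p
    rw [H6_zetaPow_add_single, H6_lam_mul_gen, H6_commutator_Dp A B z hz Dp hD hDz p i]
    by_cases hpi : 1 ≤ p i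
    · rw [if_pos hpi, ih, H6_le_sub_single_iff p q i hpi]
      split_ifs
      · congr 1
        funext j
        simp only [Pi.sub_apply, Pi.add_apply]
        omega
      · rfl
    · rw [if_neg hpi, H6_lam_zero, if_neg]
      intro h
      have := h i
      simp at this
      omega

omit [DecidableEq ι] in
include hDz in
lemma H6_Dp_one (r : ι → ℕ) : Dp r 1 = if r = 0 then 1 else 0 := by
  have h1 := hDz r 0
  simp only [Pi.zero_apply, pow_zero, Finset.prod_const_one, Nat.zero_sub, mul_one] at h1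
  rw [h1]
  split_ifs with hr
  · subst hr; simp
  · have : ∃ j, r j ≠ 0 := by
      by_contra hne
      push Not at hne
      exact hr (funext hne)
    obtain ⟨j, hj⟩ := this
    rw [Finset.prod_eq_zero (Finset.mem_univ j) (Nat.choose_eq_zero_of_lt (Nat.pos_of_ne_zero hj))]
    simp

include hz hD hDz in
lemma H6_kappa_Dp (q p : ι → ℕ) : H6_kappa A B z q (Dp p) = if p = q then 1 else 0 := by
  rw [H6_kappa_apply, H6_lam_Dp_zetaPow A B z hz Dp hD hDz q p]
  by_cases hqp : q ≤ p
  · rw [if_pos hqp, H6_Dp_one A B z Dp hDz]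
    by_cases hpq : p = q
    · rw [if_pos hpq, if_pos]
      rw [hpq]; funext j; simp
    · rw [if_neg hpq, if_neg]
      intro h0
      apply hpq
      funext j
      have h1 : p j - q j = 0 := congrFun h0 j
      have h2 : q j ≤ p j := hqp j
      omega
  · rw [if_neg hqp, LinearMap.zero_apply, if_neg]
    rintro rfl
    exact hqp le_rfl

lemma H6_lam_zetaPow_linear (n : ℕ) (E : B →ₗ[A] B) (hE : IsDiffOpLE A B B B n E) (q : ι → ℕ)
    (hq : ∑ j, q j = n) (x : B) :
    H6_lam A B B B E (H6_zetaPow A B z q) x = x * H6_lam A B B B E (H6_zetaPow A B z q) 1 := by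
  rw [H6_isDiffOpLE_iff] at hE
  have h1 : ((1 : B) ⊗ₜ[A] x - x ⊗ₜ[A] (1 : B)) * H6_zetaPow A B z q ∈
      KaehlerDifferential.ideal A B ^ (n + 1) := by
    rw [pow_succ', ← hq]
    exact Ideal.mul_mem_mul (KaehlerDifferential.one_smul_sub_smul_one_mem_ideal A x)
      (H6_zetaPow_mem A B z q)
  have h2 := congrArg (fun f => f 1) (hE _ h1)
  simp only [sub_mul, map_sub, LinearMap.sub_apply, LinearMap.zero_apply, H6_lam_left, H6_lam_right,
    smul_eq_mul, mul_one] at h2
  exact sub_eq_zero.1 h2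

include hz in
lemma H6_order_of_top_vanish : ∀ (m : ℕ) (E : B →ₗ[A] B), (∃ k, IsDiffOpLE A B B B k E) →
    (∀ q : ι → ℕ, ∑ j, q j = m + 1 → H6_lam A B B B E (H6_zetaPow A B z q) = 0) →
    IsDiffOpLE A B B B m E := by
  intro m
  induction m with
  | zero =>
    intro E ⟨k, hk⟩ h
    refine H6_linear_of_comm_gens A B z hz k E hk fun i => ?_
    have h1 := h (0 + Pi.single i 1) (by rw [H6_sum_add_single]; simp)
    rwa [H6_zetaPow_add_single, H6_zetaPow_zero, H6_lam_mul_gen, H6_lam_one] at h1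
  | succ m ih =>
    intro E ⟨k, hk⟩ h
    refine H6_order_succ_of_comm_gens A B z hz k E hk m fun i => ?_
    refine ih _ ⟨k, H6_isDiffOpLE_commutator_same A B k E hk _⟩ fun q hq => ?_
    rw [← H6_lam_mul_gen, ← H6_zetaPow_add_single]
    apply h
    rw [H6_sum_add_single, hq]

include hz in
lemma H6_eq_zero_of_kappa : ∀ (m : ℕ) (E : B →ₗ[A] B), IsDiffOpLE A B B B m E →
    (∀ q : ι → ℕ, H6_kappa A B z q E = 0) → E = 0 := by
  intro m
  induction m with
  | zero =>
    intro E hE h
    ext x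
    have h0 := h 0
    rw [H6_kappa_apply, H6_zetaPow_zero, H6_lam_one] at h0
    have := hE x 1
    rw [smul_eq_mul, mul_one, h0, smul_zero] at this
    rw [this]; rfl
  | succ m ih =>
    intro E hE h
    refine ih E (H6_order_of_top_vanish A B z hz m E ⟨m + 1, hE⟩ fun q hq => ?_) h
    ext x
    rw [H6_lam_zetaPow_linear A B z (m + 1) E hE q hq x, ← H6_kappa_apply, h q, mul_zero]
    rfl

end

end Groth.Agent.Lib.helper6
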