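import Mathlib
import Groth.Prelude.Def_PP16
import Groth.Agent.Lib.helper6.PP16Basic

set_option autoImplicit false
set_option linter.style.haveILetI false

namespace Groth.Agent.Lib.helper6
open PP16
open scoped TensorProduct

universe u

lemma H6_pow_le_ker {R S : Type*} [CommRing R] [CommRing S] (φ : R →+* S) (N : Ideal R)
    (J : Ideal S) (m : ℕ) (hJ : J ^ m = ⊥) (h : N ≤ J.comap φ) : N ^ m ≤ RingHom.ker φ := by
  refine (Ideal.pow_right_mono h m).trans ((Ideal.le_comap_pow _ _).trans ?_)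
  rw [hJ]
  exact le_of_eq rfl

lemma H6_pow_le_ker_abs {R S : Type*} [CommRing R] [CommRing S] (ι d : R →+* S) (N : Ideal R)
    (aug : Ideal S) (m : ℕ) (haug : aug ^ m = ⊥) (h : ∀ x ∈ N, d x - ι x ∈ aug) :
    N ^ m ≤ RingHom.ker ((Ideal.Quotient.mk (N.map ι)).comp d) := by
  apply H6_pow_le_ker _ N (aug.map (Ideal.Quotient.mk (N.map ι))) m
  · rw [← Ideal.map_pow, haug, Ideal.map_bot]
  · intro x hx
    rw [Ideal.mem_comap, RingHom.comp_apply]
    have h1 : Ideal.Quotient.mk (N.map ι) (d x) = Ideal.Quotient.mk (N.map ι) (d x - ι x) := by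
      rw [map_sub, Ideal.Quotient.eq_zero_iff_mem.2 (Ideal.mem_map_of_mem ι hx), sub_zero]
    rw [h1]
    exact Ideal.mem_map_of_mem _ (h x hx)

section

variable (n : ℕ) (A B : Type u) [CommRing A] [CommRing B] [Algebra A B] (g : B →ₐ[A] A)

/-- `ρ : B ⊗_A B → B`, `b ⊗ c ↦ g(b) c`. -/
noncomputable def H6_rho : B ⊗[A] B →ₐ[A] B :=
  Algebra.TensorProduct.lift ((Algebra.ofId A B).comp g) (AlgHom.id A B) (fun _ _ => Commute.all _ _)

lemma H6_rho_tmul (b c : B) : H6_rho A B g (b ⊗ₜ c) = algebraMap A B (g b) * c := by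
  simp [H6_rho, Algebra.TensorProduct.lift_tmul, Algebra.ofId_apply]

lemma H6_sub_mem_ker (b : B) : b - algebraMap A B (g b) ∈ RingHom.ker g := by
  rw [RingHom.mem_ker, map_sub, AlgHom.commutes, Algebra.algebraMap_self_apply, sub_self]

lemma H6_rho_ideal_le :
    KaehlerDifferential.ideal A B ≤ (RingHom.ker g).comap (H6_rho A B g) := by
  rw [← KaehlerDifferential.span_range_eq_ideal, Ideal.span_le]
  rintro _ ⟨b, rfl⟩
  show H6_rho A B g ((1 : B) ⊗ₜ[A] b - b ⊗ₜ[A] (1 : B)) ∈ RingHom.ker g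
  rw [map_sub, H6_rho_tmul, H6_rho_tmul, map_one, map_one, one_mul, mul_one]
  exact H6_sub_mem_ker A B g b

lemma H6_rho_pow_le :
    KaehlerDifferential.ideal A B ^ (n + 1) ≤
      (RingHom.ker g ^ (n + 1)).comap (H6_rho A B g) :=
  (Ideal.pow_right_mono (H6_rho_ideal_le A B g) (n + 1)).trans (Ideal.le_comap_pow _ _)

/-- `P → B/N^(n+1)` induced by `ρ`. -/
noncomputable def H6_rhoBar : P n A B →+* B ⧸ (RingHom.ker g ^ (n + 1)) :=
  Ideal.Quotient.lift _ ((Ideal.Quotient.mk (RingHom.ker g ^ (n + 1))).comp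
    (H6_rho A B g : B ⊗[A] B →+* B)) (fun x hx => by
      rw [RingHom.comp_apply, Ideal.Quotient.eq_zero_iff_mem]
      exact H6_rho_pow_le n A B g hx)

lemma H6_rhoBar_mk (t : B ⊗[A] B) :
    H6_rhoBar n A B g (Ideal.Quotient.mk _ t) =
      Ideal.Quotient.mk (RingHom.ker g ^ (n + 1)) (H6_rho A B g t) := rfl

lemma H6_L_le_ker :
    (RingHom.ker g).map (algebraMap B (P n A B)) ≤ RingHom.ker (H6_rhoBar n A B g) := by
  rw [Ideal.map_le_iff_le_comap]
  intro x hx
  show H6_rhoBar n A B g (Ideal.Quotient.mk _ (x ⊗ₜ[A] (1 : B))) = 0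
  rw [H6_rhoBar_mk, H6_rho_tmul, RingHom.mem_ker.1 hx, map_zero, zero_mul, map_zero]

/-- `P/L → B/N^(n+1)`. -/
noncomputable def H6_rhoBar2 :
    (P n A B ⧸ (RingHom.ker g).map (algebraMap B (P n A B))) →+* B ⧸ (RingHom.ker g ^ (n + 1)) :=
  Ideal.Quotient.lift _ (H6_rhoBar n A B g) (fun x hx => H6_L_le_ker n A B g hx)

lemma H6_rhoBar2_phi (b : B) :
    H6_rhoBar2 n A B g ((Ideal.Quotient.mk ((RingHom.ker g).map (algebraMap B (P n A B))))
      (dn n A B b)) = Ideal.Quotient.mk _ b := by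
  show H6_rhoBar n A B g (Ideal.Quotient.mk _ ((1 : B) ⊗ₜ[A] b)) = _
  rw [H6_rhoBar_mk, H6_rho_tmul, map_one, map_one, one_mul]

lemma H6_aug_pow_eq_bot : augIdeal n A B ^ (n + 1) = ⊥ := by
  rw [augIdeal, ← Ideal.map_pow, eq_bot_iff, Ideal.map_le_iff_le_comap]
  intro x hx
  exact Ideal.Quotient.eq_zero_iff_mem.2 hx

lemma H6_mk_mem_aug (x : B) :
    Ideal.Quotient.mk (KaehlerDifferential.ideal A B ^ (n + 1))
      ((1 : B) ⊗ₜ[A] x - x ⊗ₜ[A] (1 : B)) ∈ augIdeal n A B := by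
  unfold augIdeal
  exact Ideal.mem_map_of_mem _ (KaehlerDifferential.one_smul_sub_smul_one_mem_ideal A x)

theorem H6_dn_mod_section :
    Function.Surjective ((Ideal.Quotient.mk ((RingHom.ker g).map (algebraMap B (PP16.P n A B)))).comp
        (PP16.dn n A B).toRingHom) ∧
      RingHom.ker ((Ideal.Quotient.mk ((RingHom.ker g).map (algebraMap B (PP16.P n A B)))).comp
        (PP16.dn n A B).toRingHom) = RingHom.ker g ^ (n + 1) := by
  obtain ⟨φ, hφ⟩ : ∃ φ, φ = (Ideal.Quotient.mk ((RingHom.ker g).map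
    (algebraMap B (PP16.P n A B)))).comp (PP16.dn n A B).toRingHom := ⟨_, rfl⟩
  rw [← hφ]
  have hφ' : ∀ b, φ b = Ideal.Quotient.mk _ (Ideal.Quotient.mk _ ((1 : B) ⊗ₜ[A] b)) := by
    intro b; rw [hφ]; rfl
  have hL : ∀ x ∈ RingHom.ker g, ∀ c : B, Ideal.Quotient.mk ((RingHom.ker g).map
      (algebraMap B (PP16.P n A B))) (Ideal.Quotient.mk _ (x ⊗ₜ[A] c)) = 0 := by
    intro x hx c
    rw [Ideal.Quotient.eq_zero_iff_mem]
    have : (Ideal.Quotient.mk (KaehlerDifferential.ideal A B ^ (n + 1))) (x ⊗ₜ[A] c) =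
        algebraMap B (P n A B) x * Ideal.Quotient.mk _ ((1 : B) ⊗ₜ[A] c) := by
      show _ = Ideal.Quotient.mk _ (x ⊗ₜ[A] (1 : B)) * _
      rw [← map_mul, Algebra.TensorProduct.tmul_mul_tmul, mul_one, one_mul]
    rw [this]
    exact Ideal.mul_mem_right _ _ (Ideal.mem_map_of_mem _ hx)
  constructor
  · intro y
    obtain ⟨y, rfl⟩ := Ideal.Quotient.mk_surjective y
    obtain ⟨t, rfl⟩ := Ideal.Quotient.mk_surjective y
    induction t using TensorProduct.induction_on with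
    | zero => exact ⟨0, by simp⟩
    | tmul b c =>
      refine ⟨g b • c, ?_⟩
      rw [hφ']
      have h1 : b ⊗ₜ[A] c = (b - algebraMap A B (g b)) ⊗ₜ[A] c + (1 : B) ⊗ₜ[A] (g b • c) := by
        rw [TensorProduct.sub_tmul, Algebra.algebraMap_eq_smul_one, TensorProduct.smul_tmul]
        abel
      conv_rhs => rw [h1]
      rw [map_add, map_add, hL _ (H6_sub_mem_ker A B g b), zero_add]
    | add x y hx hy =>
      obtain ⟨u, hu⟩ := hx
      obtain ⟨v, hv⟩ := hy
      exact ⟨u + v, by rw [map_add, hu, hv, map_add, map_add]⟩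
  · apply le_antisymm
    · intro b hb
      rw [RingHom.mem_ker] at hb
      have := H6_rhoBar2_phi n A B g b
      rw [hφ] at hb
      rw [RingHom.comp_apply] at hb
      have h2 : (PP16.dn n A B).toRingHom b = dn n A B b := rfl
      rw [h2] at hb
      rw [hb, map_zero] at this
      exact Ideal.Quotient.eq_zero_iff_mem.1 this.symm
    · rw [hφ]
      exact H6_pow_le_ker_abs (algebraMap B (P n A B)) (dn n A B).toRingHom (RingHom.ker g)
        (augIdeal n A B) (n + 1) (H6_aug_pow_eq_bot n A B) (fun x _ => by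
          have : (dn n A B).toRingHom x - algebraMap B (P n A B) x =
              Ideal.Quotient.mk (KaehlerDifferential.ideal A B ^ (n + 1))
                ((1 : B) ⊗ₜ[A] x - x ⊗ₜ[A] (1 : B)) := by
            rw [map_sub]; rfl
          rw [this]
          exact H6_mk_mem_aug n A B x)

end

end Groth.Agent.Lib.helper6
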