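import Mathlib
import Groth.Prelude.Def_PP16
import Groth.Agent.Lib.helper6.PP16Section

set_option autoImplicit false
set_option linter.style.haveILetI false

namespace Groth.Agent.Lib.helper6
open PP16
open scoped TensorProduct

universe u

section

variable (n : ℕ) (A B : Type u) [CommRing A] [CommRing B] [Algebra A B]

/-- the multiplication map `P^n → B`. -/
noncomputable def H6_mu : P n A B →+* B :=
  Ideal.Quotient.lift _ ((Algebra.TensorProduct.lmul' A : B ⊗[A] B →ₐ[A] B) : B ⊗[A] B →+* B)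
    (fun x hx => by
      have h1 : KaehlerDifferential.ideal A B ^ (n + 1) ≤ KaehlerDifferential.ideal A B :=
        Ideal.pow_le_self (Nat.succ_ne_zero n)
      exact (RingHom.mem_ker).1 (h1 hx))

lemma H6_mu_mk (t : B ⊗[A] B) :
    H6_mu n A B (Ideal.Quotient.mk _ t) = Algebra.TensorProduct.lmul' A t := rfl

lemma H6_mu_algebraMap (b : B) : H6_mu n A B (algebraMap B (P n A B) b) = b := by
  show H6_mu n A B (Ideal.Quotient.mk _ (b ⊗ₜ[A] (1 : B))) = b
  rw [H6_mu_mk, Algebra.TensorProduct.lmul'_apply_tmul, mul_one]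

lemma H6_mem_aug_iff (x : P n A B) : x ∈ augIdeal n A B ↔ H6_mu n A B x = 0 := by
  obtain ⟨t, rfl⟩ := Ideal.Quotient.mk_surjective x
  rw [H6_mu_mk]
  constructor
  · intro h
    unfold augIdeal at h
    rw [Ideal.mem_map_iff_of_surjective _ Ideal.Quotient.mk_surjective] at h
    obtain ⟨s, hs, hst⟩ := h
    have : t - s ∈ KaehlerDifferential.ideal A B ^ (n + 1) := by
      rw [← Ideal.Quotient.eq_zero_iff_mem, map_sub, hst, sub_self]
    have h1 : KaehlerDifferential.ideal A B ^ (n + 1) ≤ KaehlerDifferential.ideal A B :=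
      Ideal.pow_le_self (Nat.succ_ne_zero n)
    have h2 : t ∈ KaehlerDifferential.ideal A B := by
      have := add_mem (h1 this) hs
      rwa [sub_add_cancel] at this
    exact (RingHom.mem_ker).1 h2
  · intro h
    unfold augIdeal
    exact Ideal.mem_map_of_mem _ ((RingHom.mem_ker).2 h)

/-- the `B`-linear projection `P → P`, `p ↦ p - μ(p)·1`. -/
noncomputable def H6_pi : P n A B →ₗ[B] P n A B where
  toFun p := p - algebraMap B (P n A B) (H6_mu n A B p)
  map_add' x y := by rw [map_add, map_add]; abel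
  map_smul' b x := by
    rw [RingHom.id_apply, Algebra.smul_def, map_mul, H6_mu_algebraMap, map_mul, Algebra.smul_def,
      mul_sub]

lemma H6_pi_mem_aug (p : P n A B) : H6_pi n A B p ∈ augIdeal n A B := by
  rw [H6_mem_aug_iff]
  show H6_mu n A B (p - algebraMap B (P n A B) (H6_mu n A B p)) = 0
  rw [map_sub, H6_mu_algebraMap, sub_self]

lemma H6_pi_of_mem_aug (x : P n A B) (hx : x ∈ augIdeal n A B) : H6_pi n A B x = x := by
  show x - algebraMap B (P n A B) (H6_mu n A B x) = x
  rw [(H6_mem_aug_iff n A B x).1 hx, map_zero, sub_zero]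

lemma H6_splitting (I : Ideal B) (x : P n A B)
    (hx1 : x ∈ I.map (algebraMap B (P n A B))) (hx2 : x ∈ augIdeal n A B) :
    x ∈ I • (augIdeal n A B).restrictScalars B := by
  have h1 : x ∈ (I • ⊤ : Submodule B (P n A B)) := by
    rw [Ideal.smul_top_eq_map]
    exact hx1
  have h2 : H6_pi n A B x ∈ I • (augIdeal n A B).restrictScalars B := by
    refine Submodule.smul_induction_on h1 ?_ ?_
    · intro i hi p _
      rw [map_smul]
      exact Submodule.smul_mem_smul hi (H6_pi_mem_aug n A B p)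
    · intro a b ha hb
      rw [map_add]
      exact add_mem ha hb
  rwa [H6_pi_of_mem_aug n A B x hx2] at h2

lemma H6_smul_aug_le (I : Ideal B) (x : P n A B)
    (hx : x ∈ I • (augIdeal n A B).restrictScalars B) :
    x ∈ I.map (algebraMap B (P n A B)) ∧ x ∈ augIdeal n A B := by
  refine Submodule.smul_induction_on hx ?_ ?_
  · intro i hi a ha
    rw [Algebra.smul_def]
    exact ⟨Ideal.mul_mem_right _ _ (Ideal.mem_map_of_mem _ hi), Ideal.mul_mem_left _ _ ha⟩
  · intro a b ha hb
    exact ⟨add_mem ha.1 hb.1, add_mem ha.2 hb.2⟩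

variable (g : B →ₐ[A] A)

lemma H6_rhoBar2_injective : Function.Injective (H6_rhoBar2 n A B g) := by
  rw [injective_iff_map_eq_zero]
  intro y hy
  obtain ⟨h1, h2⟩ := H6_dn_mod_section n A B g
  obtain ⟨b, rfl⟩ := h1 y
  rw [RingHom.comp_apply] at hy ⊢
  have h3 : (PP16.dn n A B).toRingHom b = dn n A B b := rfl
  rw [h3] at hy ⊢
  rw [H6_rhoBar2_phi, Ideal.Quotient.eq_zero_iff_mem, ← h2, RingHom.mem_ker, RingHom.comp_apply,
    h3] at hy
  exact hy

lemma H6_mem_of_rhoBar_eq_zero (x : P n A B) (hx : H6_rhoBar n A B g x = 0) :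
    x ∈ (RingHom.ker g).map (algebraMap B (P n A B)) := by
  have : H6_rhoBar2 n A B g (Ideal.Quotient.mk _ x) = 0 := hx
  have h2 := H6_rhoBar2_injective n A B g (this.trans (map_zero _).symm)
  exact Ideal.Quotient.eq_zero_iff_mem.1 h2

lemma H6_rhoBar_eps (c : B) :
    H6_rhoBar n A B g (Ideal.Quotient.mk _ ((1 : B) ⊗ₜ[A] c - c ⊗ₜ[A] (1 : B))) =
      Ideal.Quotient.mk _ (c - algebraMap A B (g c)) := by
  rw [H6_rhoBar_mk, map_sub, H6_rho_tmul, H6_rho_tmul, map_one, map_one, one_mul, mul_one]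

end

end Groth.Agent.Lib.helper6
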