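import Mathlib

set_option autoImplicit false
set_option linter.style.haveILetI false

namespace Groth.Agent.Lib.helper6
open scoped TensorProduct

universe u v w

section

variable (R ι : Type u) [CommRing R] (M : Type v) [AddCommGroup M] [Module R M]
  {N : Type w} [AddCommGroup N] [Module R N]

/-- lift of a symmetric multilinear map to the symmetric power. -/
noncomputable def H6_symLift (μ : MultilinearMap R (fun _ : ι => M) N)
    (hμ : ∀ (e : Equiv.Perm ι) (f : ι → M), μ (fun i => f (e i)) = μ f) :
    SymmetricPower R ι M →ₗ[R] N where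
  toFun := AddCon.lift _ (PiTensorProduct.lift μ).toAddMonoidHom
    (AddCon.addConGen_le.2 (by
      rintro _ _ ⟨e, f⟩
      rw [AddCon.ker_rel, LinearMap.toAddMonoidHom_coe, PiTensorProduct.lift.tprod,
        PiTensorProduct.lift.tprod]
      exact (hμ e f).symm))
  map_add' := map_add _
  map_smul' := fun r x => by
    induction x using AddCon.induction_on with
    | H x =>
      show (PiTensorProduct.lift μ) (r • x) = r • (PiTensorProduct.lift μ) x
      rw [map_smul]

lemma H6_symLift_tprod (μ : MultilinearMap R (fun _ : ι => M) N)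
    (hμ : ∀ (e : Equiv.Perm ι) (f : ι → M), μ (fun i => f (e i)) = μ f) (f : ι → M) :
    H6_symLift R ι M μ hμ (SymmetricPower.tprod R f) = μ f := by
  show (PiTensorProduct.lift μ) (PiTensorProduct.tprod R f) = μ f
  rw [PiTensorProduct.lift.tprod]

end

section mono

variable (R ι' : Type u) [CommRing R] [Fintype ι'] (M : Type v) [AddCommGroup M] [Module R M]
  {ι : Type} [Fintype ι] [DecidableEq ι] (b : Module.Basis ι R M)

/-- the symmetric multilinear map `ω ↦ ∏_k L(ω_k)` into the polynomial ring, `L(b_i) = X_i`. -/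
noncomputable def H6_polyMul : MultilinearMap R (fun _ : ι' => M) (MvPolynomial ι R) :=
  (MultilinearMap.mkPiAlgebra R ι' (MvPolynomial ι R)).compLinearMap
    (fun _ => b.constr R (fun i => (MvPolynomial.X i : MvPolynomial ι R)))

lemma H6_polyMul_apply (f : ι' → M) :
    H6_polyMul R ι' M b f =
      ∏ k, b.constr R (fun i => (MvPolynomial.X i : MvPolynomial ι R)) (f k) := rfl

lemma H6_polyMul_symm (e : Equiv.Perm ι') (f : ι' → M) :
    H6_polyMul R ι' M b (fun i => f (e i)) = H6_polyMul R ι' M b f := by
  rw [H6_polyMul_apply, H6_polyMul_apply]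
  exact Equiv.prod_comp e (fun k => b.constr R (fun i => (MvPolynomial.X i : MvPolynomial ι R)) (f k))

/-- the linear map `Sym^ι' M → R[X_i]`. -/
noncomputable def H6_symPoly : SymmetricPower R ι' M →ₗ[R] MvPolynomial ι R :=
  H6_symLift R ι' M (H6_polyMul R ι' M b) (H6_polyMul_symm R ι' M b)

lemma H6_symPoly_tprod_basis (s : ι' → ι) :
    H6_symPoly R ι' M b (SymmetricPower.tprod R (fun k => b (s k))) =
      ∏ k, (MvPolynomial.X (s k) : MvPolynomial ι R) := by
  unfold H6_symPoly
  rw [H6_symLift_tprod, H6_polyMul_apply]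
  refine Finset.prod_congr rfl fun k _ => ?_
  rw [Module.Basis.constr_basis]

end mono

section seq

variable {ι : Type} [Fintype ι] [DecidableEq ι]

/-- for `p` with `∑ p = card ι'` there is a sequence `s : ι' → ι` hitting `i` exactly `p i` times. -/
lemma H6_exists_seq (ι' : Type u) [Fintype ι'] (p : ι → ℕ) (hp : ∑ i, p i = Fintype.card ι') :
    ∃ s : ι' → ι, ∀ (C : Type u) [CommMonoid C] (g : ι → C), ∏ k, g (s k) = ∏ i, g i ^ p i := by
  have hcard : Fintype.card ι' = Fintype.card (Σ i, Fin (p i)) := by
    rw [Fintype.card_sigma, ← hp]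
    simp
  obtain ⟨e⟩ := Fintype.card_eq.1 hcard
  refine ⟨fun k => (e k).1, fun C _ g => ?_⟩
  rw [Fintype.prod_equiv e (fun k => g (e k).1) (fun x => g x.1) (fun _ => rfl),
    Fintype.prod_sigma]
  refine Finset.prod_congr rfl fun i _ => ?_
  show ∏ _y : Fin (p i), g i = g i ^ p i
  rw [Finset.prod_const, Finset.card_univ, Fintype.card_fin]

end seq

end Groth.Agent.Lib.helper6
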