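import Mathlib
import Groth.Prelude.Def_PP16
import Groth.Agent.Lib.helper6.SymLift
import Groth.Agent.Lib.helper6.PP16DivPow5
import Groth.Agent.Lib.helper6.PP16Vanish

set_option autoImplicit false
set_option linter.style.haveILetI false

namespace Groth.Agent.Lib.helper6
open PP16
open scoped TensorProduct

universe u

section generic

lemma H6_span_of_nilpotent {B Pr : Type*} [CommRing B] [CommRing Pr] [Algebra B Pr] {ι : Type*}
    (𝔞 : Ideal Pr) (n : ℕ) (h𝔞 : 𝔞 ^ n = ⊥) (W : Submodule B Pr) (ζb : ι → Pr)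
    (hζaug : ∀ i, ζb i ∈ 𝔞) (h1 : (1 : Pr) ∈ W) (hWζ : ∀ w ∈ W, ∀ i, w * ζb i ∈ W)
    (haugG : 𝔞 ≤ Ideal.span (Set.range ζb))
    (hsplit : ∀ x : Pr, ∃ β : B, x - algebraMap B Pr β ∈ 𝔞) : ⊤ ≤ W := by
  have claim : ∀ (k : ℕ) (x : Pr), ∃ w ∈ W, x - w ∈ 𝔞 ^ k := by
    intro k
    induction k with
    | zero =>
      intro x
      refine ⟨0, W.zero_mem, ?_⟩
      rw [pow_zero, Ideal.one_eq_top]; trivial
    | succ k ih =>
      have sub : ∀ a ∈ Ideal.span (Set.range ζb), ∀ y : Pr,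
          ∃ w ∈ W, y * a - w ∈ 𝔞 ^ (k + 1) := by
        intro a ha
        induction ha using Submodule.span_induction with
        | mem a ha =>
          obtain ⟨i, rfl⟩ := ha
          intro y
          obtain ⟨w₀, hw₀, hy⟩ := ih y
          refine ⟨w₀ * ζb i, hWζ w₀ hw₀ i, ?_⟩
          rw [← sub_mul, pow_succ]
          exact Ideal.mul_mem_mul hy (hζaug i)
        | zero =>
          intro y
          refine ⟨0, W.zero_mem, ?_⟩
          rw [mul_zero, sub_zero]; exact Ideal.zero_mem _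
        | add a a' _ _ ha ha' =>
          intro y
          obtain ⟨w, hw, h⟩ := ha y
          obtain ⟨w', hw', h'⟩ := ha' y
          refine ⟨w + w', W.add_mem hw hw', ?_⟩
          have : y * (a + a') - (w + w') = (y * a - w) + (y * a' - w') := by ring
          rw [this]
          exact Ideal.add_mem _ h h'
        | smul c a _ ha =>
          intro y
          obtain ⟨w, hw, h⟩ := ha (y * c)
          refine ⟨w, hw, ?_⟩
          rw [smul_eq_mul, ← mul_assoc]
          exact h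
      intro x
      obtain ⟨β, hβ⟩ := hsplit x
      obtain ⟨w, hw, h⟩ := sub _ (haugG hβ) 1
      refine ⟨β • (1 : Pr) + w, W.add_mem (W.smul_mem _ h1) hw, ?_⟩
      have : x - (β • (1 : Pr) + w) = 1 * (x - algebraMap B Pr β) - w := by
        rw [Algebra.smul_def, mul_one, one_mul]
        ring
      rw [this]
      exact h
  intro x _
  obtain ⟨w, hw, h⟩ := claim n x
  rw [h𝔞, Ideal.mem_bot, sub_eq_zero] at h
  rw [h]
  exact hw

end generic

section

variable (A B : Type u) [CommRing A] [CommRing B] [Algebra A B]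
variable {ι : Type} [Fintype ι] [DecidableEq ι] (z : ι → B)

lemma H6_prod_X_pow (p : ι → ℕ) :
    (∏ i, (MvPolynomial.X i : MvPolynomial ι B) ^ p i) =
      MvPolynomial.monomial (Finsupp.equivFunOnFinite.symm p) 1 := by
  rw [MvPolynomial.monomial_eq, map_one, one_mul, Finsupp.prod_fintype]
  · rfl
  · intro i; rw [pow_zero]

/-- independence of the classes of `ζ^p` in the graded piece. -/
lemma H6_gr_indep (hB : IsDiffSmooth A B) (b : Module.Basis ι B (KaehlerDifferential A B))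
    (hb : ∀ i, b i = KaehlerDifferential.D A B (z i))
    (ι' : Type u) [Fintype ι'] (𝒮 : Finset (ι → ℕ))
    (h𝒮 : ∀ p ∈ 𝒮, ∑ i, p i = Fintype.card ι') (c : (ι → ℕ) → B)
    (hT : ∑ p ∈ 𝒮, (c p ⊗ₜ[A] (1 : B)) * H6_zetaPow A B z p ∈
      KaehlerDifferential.ideal A B ^ (Fintype.card ι' + 1)) :
    ∀ p ∈ 𝒮, c p = 0 := by
  classical
  obtain ⟨φ, hφ, hφbij⟩ := hB.2 ι'
  have hex : ∀ p : {p // p ∈ 𝒮}, ∃ s : ι' → ι,
      ∀ (C : Type u) [CommMonoid C] (g : ι → C), ∏ k, g (s k) = ∏ i, g i ^ p.1 i :=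
    fun p => H6_exists_seq ι' p.1 (h𝒮 p.1 p.2)
  choose s hs using hex
  set x : SymmetricPower B ι' (KaehlerDifferential A B) :=
    ∑ p ∈ 𝒮.attach, c p.1 • SymmetricPower.tprod B (fun k => KaehlerDifferential.D A B (z (s p k)))
    with hx
  have hmem : ∀ p : {p // p ∈ 𝒮}, H6_zetaPow A B z p.1 ∈
      (KaehlerDifferential.ideal A B ^ Fintype.card ι').restrictScalars B := by
    intro p
    show H6_zetaPow A B z p.1 ∈ KaehlerDifferential.ideal A B ^ Fintype.card ι'
    rw [← h𝒮 p.1 p.2]; exact H6_zetaPow_mem A B z p.1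
  have hφx : φ x = 0 := by
    rw [hx, map_sum]
    simp_rw [map_smul, hφ]
    have hz : ∀ p : {p // p ∈ 𝒮}, zetaProd A B (fun k => z (s p k)) =
        Submodule.mkQ _ (⟨H6_zetaPow A B z p.1, hmem p⟩ :
          ↥((KaehlerDifferential.ideal A B ^ Fintype.card ι').restrictScalars B)) := by
      intro p
      unfold zetaProd
      rw [Submodule.mkQ_apply]
      congr 1
      apply Subtype.ext
      show ∏ k, ((1 : B) ⊗ₜ[A] z (s p k) - z (s p k) ⊗ₜ[A] (1 : B)) = H6_zetaPow A B z p.1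
      exact hs p (B ⊗[A] B) (fun i => (1 : B) ⊗ₜ[A] z i - z i ⊗ₜ[A] (1 : B))
    simp_rw [hz, ← map_smul, ← map_sum]
    rw [Submodule.mkQ_apply, Submodule.Quotient.mk_eq_zero, Submodule.mem_comap]
    rw [← Finset.sum_attach 𝒮 (fun p => (c p ⊗ₜ[A] (1 : B)) * H6_zetaPow A B z p)] at hT
    have hval : (((KaehlerDifferential.ideal A B ^ Fintype.card ι').restrictScalars B).subtype
        (∑ p ∈ 𝒮.attach, c p.1 • (⟨H6_zetaPow A B z p.1, hmem p⟩ :
          ↥((KaehlerDifferential.ideal A B ^ Fintype.card ι').restrictScalars B)))) =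
        ∑ p ∈ 𝒮.attach, (c p.1 ⊗ₜ[A] (1 : B)) * H6_zetaPow A B z p.1 := by
      rw [map_sum]
      refine Finset.sum_congr rfl fun p _ => ?_
      rw [map_smul, Submodule.subtype_apply, Algebra.smul_def,
        Algebra.TensorProduct.algebraMap_apply]
      rfl
    rw [hval]
    exact hT
  have hx0 : x = 0 := hφbij.1 (hφx.trans (map_zero φ).symm)
  intro q hq
  have h1 := congrArg (H6_symPoly B ι' (KaehlerDifferential A B) b) hx0
  rw [hx, map_sum, map_zero] at h1
  have h2 : ∀ p ∈ 𝒮.attach, H6_symPoly B ι' (KaehlerDifferential A B) b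
      (c p.1 • SymmetricPower.tprod B (fun k => KaehlerDifferential.D A B (z (s p k)))) =
      c p.1 • MvPolynomial.monomial (Finsupp.equivFunOnFinite.symm p.1) (1 : B) := by
    intro p _
    rw [map_smul]
    congr 1
    have : (fun k => KaehlerDifferential.D A B (z (s p k))) = fun k => b (s p k) := by
      funext k; rw [hb]
    rw [this, H6_symPoly_tprod_basis, hs p (MvPolynomial ι B) (fun i => MvPolynomial.X i),
      H6_prod_X_pow]
  rw [Finset.sum_congr rfl h2,
    Finset.sum_attach 𝒮 (fun p => c p • MvPolynomial.monomial (Finsupp.equivFunOnFinite.symm p) (1 : B))]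
    at h1
  have h3 := congrArg (MvPolynomial.coeff (Finsupp.equivFunOnFinite.symm q)) h1
  rw [MvPolynomial.coeff_sum, MvPolynomial.coeff_zero] at h3
  simp_rw [MvPolynomial.coeff_smul, MvPolynomial.coeff_monomial, smul_eq_mul, mul_ite, mul_one,
    mul_zero] at h3
  rw [Finset.sum_eq_single q] at h3
  · rwa [if_pos rfl] at h3
  · intro p _ hpq
    rw [if_neg]
    intro h
    exact hpq (Finsupp.equivFunOnFinite.symm.injective h)
  · intro h; exact absurd hq h

/-- independence of the `ζ^p`, `|p| ≤ m`, modulo `I^(m+1)`. -/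
lemma H6_zeta_indep (hB : IsDiffSmooth A B) (b : Module.Basis ι B (KaehlerDifferential A B))
    (hb : ∀ i, b i = KaehlerDifferential.D A B (z i)) :
    ∀ (m : ℕ) (𝒮 : Finset (ι → ℕ)), (∀ p ∈ 𝒮, ∑ i, p i ≤ m) → ∀ (c : (ι → ℕ) → B),
      ∑ p ∈ 𝒮, (c p ⊗ₜ[A] (1 : B)) * H6_zetaPow A B z p ∈ KaehlerDifferential.ideal A B ^ (m + 1) →
      ∀ p ∈ 𝒮, c p = 0 := by
  classical
  intro m
  induction m with
  | zero =>
    intro 𝒮 h𝒮 c hT
    have hcard : Fintype.card (ULift.{u} (Fin 0)) = 0 := by simp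
    refine H6_gr_indep A B z hB b hb (ULift.{u} (Fin 0)) 𝒮 (fun p hp => ?_) c ?_
    · rw [hcard]; exact Nat.le_zero.1 (h𝒮 p hp)
    · rw [hcard]; exact hT
  | succ m ih =>
    intro 𝒮 h𝒮 c hT
    set F : (ι → ℕ) → B ⊗[A] B := fun p => (c p ⊗ₜ[A] (1 : B)) * H6_zetaPow A B z p with hF
    have hsplit := Finset.sum_filter_add_sum_filter_not 𝒮 (fun p => ∑ i, p i ≤ m) F
    have htop_deg : ∀ p ∈ 𝒮.filter (fun p => ¬ ∑ i, p i ≤ m), ∑ i, p i = m + 1 := by
      intro p hp
      rw [Finset.mem_filter] at hp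
      have := h𝒮 p hp.1
      omega
    have htop_mem : ∑ p ∈ 𝒮.filter (fun p => ¬ ∑ i, p i ≤ m), F p ∈
        KaehlerDifferential.ideal A B ^ (m + 1) := by
      refine Ideal.sum_mem _ fun p hp => ?_
      refine Ideal.mul_mem_left _ _ ?_
      rw [← htop_deg p hp]
      exact H6_zetaPow_mem A B z p
    have hlow_mem : ∑ p ∈ 𝒮.filter (fun p => ∑ i, p i ≤ m), F p ∈
        KaehlerDifferential.ideal A B ^ (m + 1) := by
      have h1 : ∑ p ∈ 𝒮, F p ∈ KaehlerDifferential.ideal A B ^ (m + 1) :=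
        Ideal.pow_le_pow_right (Nat.le_succ _) hT
      rw [← hsplit] at h1
      exact (Ideal.add_mem_iff_left _ htop_mem).1 h1
    have hlow : ∀ p ∈ 𝒮.filter (fun p => ∑ i, p i ≤ m), c p = 0 :=
      ih (𝒮.filter (fun p => ∑ i, p i ≤ m)) (fun p hp => (Finset.mem_filter.1 hp).2) c hlow_mem
    have hlow0 : ∑ p ∈ 𝒮.filter (fun p => ∑ i, p i ≤ m), F p = 0 := by
      refine Finset.sum_eq_zero fun p hp => ?_
      rw [hF]
      simp only
      rw [hlow p hp, TensorProduct.zero_tmul, zero_mul]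
    have htop : ∑ p ∈ 𝒮.filter (fun p => ¬ ∑ i, p i ≤ m), F p ∈
        KaehlerDifferential.ideal A B ^ (m + 1 + 1) := by
      have h1 : ∑ p ∈ 𝒮, F p ∈ KaehlerDifferential.ideal A B ^ (m + 1 + 1) := hT
      rwa [← hsplit, hlow0, zero_add] at h1
    have hcard : Fintype.card (ULift.{u} (Fin (m + 1))) = m + 1 := by simp
    have htop0 : ∀ p ∈ 𝒮.filter (fun p => ¬ ∑ i, p i ≤ m), c p = 0 := by
      refine H6_gr_indep A B z hB b hb (ULift.{u} (Fin (m + 1))) _ (fun p hp => ?_) c ?_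
      · rw [hcard]; exact htop_deg p hp
      · rw [hcard]; exact htop
    intro p hp
    by_cases hpm : ∑ i, p i ≤ m
    · exact hlow p (Finset.mem_filter.2 ⟨hp, hpm⟩)
    · exact htop0 p (Finset.mem_filter.2 ⟨hp, hpm⟩)

/-- the candidate basis vectors of `P^m`. -/
noncomputable def H6_vP (m : ℕ) (p : {p : ι → ℕ // ∑ i, p i ≤ m}) : P m A B :=
  ∏ i, (dn m A B (z i) - algebraMap B (P m A B) (z i)) ^ (p.1 i)

lemma H6_vP_eq (m : ℕ) (p : {p : ι → ℕ // ∑ i, p i ≤ m}) :
    H6_vP A B z m p = Ideal.Quotient.mk _ (H6_zetaPow A B z p.1) := by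
  unfold H6_vP H6_zetaPow
  rw [map_prod]
  refine Finset.prod_congr rfl fun i _ => ?_
  rw [map_pow, map_sub]
  rfl

lemma H6_smul_mk (m : ℕ) (β : B) (t : B ⊗[A] B) :
    β • (Ideal.Quotient.mk (KaehlerDifferential.ideal A B ^ (m + 1)) t : P m A B) =
      Ideal.Quotient.mk _ ((β ⊗ₜ[A] (1 : B)) * t) := by
  rw [Algebra.smul_def, map_mul]
  rfl

theorem H6_vP_linearIndependent (hB : IsDiffSmooth A B)
    (b : Module.Basis ι B (KaehlerDifferential A B))
    (hb : ∀ i, b i = KaehlerDifferential.D A B (z i)) (m : ℕ) :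
    LinearIndependent B (H6_vP A B z m) := by
  classical
  rw [linearIndependent_iff']
  intro t g hg q hq
  let c : (ι → ℕ) → B := fun p => if h : ∑ i, p i ≤ m then g ⟨p, h⟩ else 0
  have hc : ∀ p : {p : ι → ℕ // ∑ i, p i ≤ m}, c p.1 = g p := fun p => by
    show (if h : ∑ i, p.1 i ≤ m then g ⟨p.1, h⟩ else 0) = g p
    rw [dif_pos p.2]
  have h1 : ∑ p ∈ t, g p • H6_vP A B z m p =
      Ideal.Quotient.mk _ (∑ p ∈ t, (c p.1 ⊗ₜ[A] (1 : B)) * H6_zetaPow A B z p.1) := by
    rw [map_sum]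
    refine Finset.sum_congr rfl fun p _ => ?_
    rw [H6_vP_eq, H6_smul_mk, hc]
  rw [h1, Ideal.Quotient.eq_zero_iff_mem] at hg
  have h2 : ∑ p ∈ t.map (Function.Embedding.subtype _),
      (c p ⊗ₜ[A] (1 : B)) * H6_zetaPow A B z p ∈ KaehlerDifferential.ideal A B ^ (m + 1) := by
    rw [Finset.sum_map]
    exact hg
  have h3 := H6_zeta_indep A B z hB b hb m (t.map (Function.Embedding.subtype _))
    (fun p hp => by
      rw [Finset.mem_map] at hp
      obtain ⟨p', _, rfl⟩ := hp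
      exact p'.2) c h2 q.1 (Finset.mem_map.2 ⟨q, hq, rfl⟩)
  rw [hc] at h3
  exact h3

theorem H6_vP_span
    (hz : Submodule.span B (Set.range fun i => KaehlerDifferential.D A B (z i)) = ⊤) (m : ℕ) :
    ⊤ ≤ Submodule.span B (Set.range (H6_vP A B z m)) := by
  classical
  set W := Submodule.span B (Set.range (H6_vP A B z m)) with hW
  let ζb : ι → P m A B := fun i =>
    Ideal.Quotient.mk _ ((1 : B) ⊗ₜ[A] z i - z i ⊗ₜ[A] (1 : B))
  have hζaug : ∀ i, ζb i ∈ augIdeal m A B := fun i => H6_mk_mem_aug m A B (z i)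
  have h1 : (1 : P m A B) ∈ W := by
    have : H6_vP A B z m ⟨0, by simp⟩ = 1 := by
      rw [H6_vP_eq, H6_zetaPow_zero, map_one]
    rw [← this]
    exact Submodule.subset_span ⟨_, rfl⟩
  have hWζ : ∀ w ∈ W, ∀ i, w * ζb i ∈ W := by
    intro w hw i
    induction hw using Submodule.span_induction with
    | mem x hx =>
      obtain ⟨p, rfl⟩ := hx
      have e1 : H6_vP A B z m p * ζb i =
          Ideal.Quotient.mk _ (H6_zetaPow A B z (p.1 + Pi.single i 1)) := by
        rw [H6_vP_eq, H6_zetaPow_add_single, map_mul]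
      rw [e1]
      by_cases hp : ∑ j, (p.1 + Pi.single i 1 : ι → ℕ) j ≤ m
      · have : H6_vP A B z m ⟨p.1 + Pi.single i 1, hp⟩ =
            Ideal.Quotient.mk _ (H6_zetaPow A B z (p.1 + Pi.single i 1)) := H6_vP_eq A B z m _
        rw [← this]
        exact Submodule.subset_span ⟨_, rfl⟩
      · have hmem : H6_zetaPow A B z (p.1 + Pi.single i 1) ∈
            KaehlerDifferential.ideal A B ^ (m + 1) :=
          Ideal.pow_le_pow_right (by omega) (H6_zetaPow_mem A B z _)
        rw [Ideal.Quotient.eq_zero_iff_mem.2 hmem]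
        exact W.zero_mem
    | zero => rw [zero_mul]; exact W.zero_mem
    | add x y _ _ hx hy => rw [add_mul]; exact W.add_mem hx hy
    | smul β x _ hx => rw [smul_mul_assoc]; exact W.smul_mem β hx
  have haugG : augIdeal m A B ≤ Ideal.span (Set.range ζb) := by
    unfold augIdeal
    refine (Ideal.map_mono (H6_ideal_le_G_sup_pow A B z hz m)).trans ?_
    rw [Ideal.map_sup, Ideal.map_quotient_self, sup_bot_eq, H6_G, Ideal.map_span]
    refine Ideal.span_mono ?_
    rintro _ ⟨_, ⟨i, rfl⟩, rfl⟩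
    exact ⟨i, rfl⟩
  exact H6_span_of_nilpotent (augIdeal m A B) (m + 1) (H6_aug_pow_eq_bot m A B) W ζb hζaug h1 hWζ
    haugG (fun x => ⟨H6_mu m A B x, H6_pi_mem_aug m A B x⟩)

theorem H6_exists_basis_P (hB : IsDiffSmooth A B)
    (b : Module.Basis ι B (KaehlerDifferential A B))
    (hb : ∀ i, b i = KaehlerDifferential.D A B (z i)) (m : ℕ) :
    ∃ bs : Module.Basis {p : ι → ℕ // ∑ i, p i ≤ m} B (P m A B),
      ∀ p, bs p = ∏ i, (dn m A B (z i) - algebraMap B (P m A B) (z i)) ^ (p.1 i) := by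
  have hz : Submodule.span B (Set.range fun i => KaehlerDifferential.D A B (z i)) = ⊤ := by
    have : (fun i => KaehlerDifferential.D A B (z i)) = b := by
      funext i; exact (hb i).symm
    rw [this]
    exact b.span_eq
  refine ⟨Module.Basis.mk (H6_vP_linearIndependent A B z hB b hb m) (H6_vP_span A B z hz m), ?_⟩
  intro p
  rw [Module.Basis.mk_apply]
  rfl

end

end Groth.Agent.Lib.helper6
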