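import Mathlib
import Groth.Prelude.Def_PP16
import Groth.Prelude.Def_DiffOp
import Groth.Agent.Lib.helper6.PP16DivPow5

set_option autoImplicit false
set_option linter.style.haveILetI false

namespace Groth.Agent.Lib.helper6
open PP16 Diff16
open scoped TensorProduct

universe u

section

variable (A B : Type u) [CommRing A] [CommRing B] [Algebra A B]
variable {ι : Type*} [Fintype ι] [DecidableEq ι] (z : ι → B)
variable (hz : Submodule.span B (Set.range fun i => KaehlerDifferential.D A B (z i)) = ⊤)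
  (Dp : (ι → ℕ) → (B →ₗ[A] B)) (hD : ∀ p, ∃ k : ℕ, Diff16.IsDiffOpLE A B B B k (Dp p))
  (hDz : ∀ p q : ι → ℕ, Dp p (∏ i, z i ^ q i) =
      ((∏ i, Nat.choose (q i) (p i) : ℕ) : B) * ∏ i, z i ^ (q i - p i))

include hz hD hDz in
lemma H6_kappa_sum (m : ℕ) (a : {p : ι → ℕ // ∑ i, p i ≤ m} →₀ B) (q : ι → ℕ) :
    H6_kappa A B z q (a.sum fun p c => c • Dp p.1) =
      if h : ∑ i, q i ≤ m then a ⟨q, h⟩ else 0 := by
  rw [map_finsuppSum]
  simp_rw [map_smul, H6_kappa_Dp A B z hz Dp hD hDz, smul_eq_mul, mul_ite, mul_one, mul_zero]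
  split_ifs with h
  · rw [Finsupp.sum, Finset.sum_eq_single ⟨q, h⟩]
    · rw [if_pos rfl]
    · intro p _ hp
      rw [if_neg]
      intro hpq
      exact hp (Subtype.ext hpq)
    · intro hq
      rw [if_pos rfl]
      exact Finsupp.notMem_support_iff.1 hq
  · rw [Finsupp.sum]
    refine Finset.sum_eq_zero fun p _ => ?_
    rw [if_neg]
    intro hpq
    exact h (hpq ▸ p.2)

include hz hD hDz in
theorem H6_Dp_basis (m : ℕ) (D : B →ₗ[A] B) (hDm : IsDiffOpLE A B B B m D) :
    ∃! a : {p : ι → ℕ // ∑ i, p i ≤ m} →₀ B, D = a.sum fun p c => c • Dp p.1 := by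
  haveI : Finite {p : ι → ℕ // ∑ i, p i ≤ m} := by
    apply Finite.of_injective (fun p : {p : ι → ℕ // ∑ i, p i ≤ m} =>
      (fun i => (⟨p.1 i, by
        have := Finset.single_le_sum (f := p.1) (fun _ _ => Nat.zero_le _) (Finset.mem_univ i)
        have := p.2
        omega⟩ : Fin (m + 1))))
    intro p p' h
    ext i
    have := congrFun h i
    simpa using congrArg Fin.val this
  refine ⟨Finsupp.equivFunOnFinite.symm (fun p => H6_kappa A B z p.1 D), ?_, ?_⟩
  · show D = _
    rw [← sub_eq_zero]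
    refine H6_eq_zero_of_kappa A B z hz m _ ?_ ?_
    · rw [sub_eq_add_neg]
      refine Groth.Agent.H1.H1_isDiffOpLE_add _ _ _ hDm (Groth.Agent.H1.H1_isDiffOpLE_neg _ _ ?_)
      rw [Finsupp.sum]
      refine H6_isDiffOpLE_sum A B m _ _ fun p _ => ?_
      refine H6_isDiffOpLE_smul A B B B m _ _ ?_
      exact Groth.Agent.H1.H1_isDiffOpLE_mono p.2 _ (H6_Dp_order A B z hz Dp hD hDz _ p.1 rfl)
    · intro q
      rw [map_sub, H6_kappa_sum A B z hz Dp hD hDz m]
      split_ifs with h
      · rw [Finsupp.equivFunOnFinite_symm_apply_apply, sub_self]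
      · rw [sub_zero, H6_kappa_apply]
        have hmem : H6_zetaPow A B z q ∈ KaehlerDifferential.ideal A B ^ (m + 1) :=
          Ideal.pow_le_pow_right (by omega) (H6_zetaPow_mem A B z q)
        rw [(H6_isDiffOpLE_iff A B B B m D).1 hDm _ hmem]
        rfl
  · intro a' ha'
    ext p
    rw [Finsupp.equivFunOnFinite_symm_apply_apply]
    have := H6_kappa_sum A B z hz Dp hD hDz m a' p.1
    rw [← ha', dif_pos p.2] at this
    exact this.symm

end

end Groth.Agent.Lib.helper6
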