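import Mathlib

set_option autoImplicit false
set_option linter.style.haveILetI false

namespace Groth.Agent.Lib.helper6
open scoped TensorProduct

universe u v w

section

variable {R : Type u} [CommRing R] {ι' : Type u} [Fintype ι'] {M : Type v} [AddCommGroup M]
  [Module R M] {ι : Type} [Fintype ι] [DecidableEq ι]

/-- count vector of a sequence. -/
def H6_count (s : ι' → ι) : ι → ℕ := fun i => (Finset.univ.filter (fun k => s k = i)).card

lemma H6_sum_count (s : ι' → ι) : ∑ i, H6_count s i = Fintype.card ι' := by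
  unfold H6_count
  rw [← Finset.card_univ (α := ι')]
  exact (Finset.card_eq_sum_card_fiberwise (f := s) (s := Finset.univ) (t := Finset.univ)
    (fun _ _ => Finset.mem_univ _)).symm

lemma H6_prod_comp_count {C : Type*} [CommMonoid C] (s : ι' → ι) (g : ι → C) :
    ∏ k, g (s k) = ∏ i, g i ^ H6_count s i := by
  rw [← Finset.prod_fiberwise (s := Finset.univ) (g := s) (f := fun k => g (s k))]
  refine Finset.prod_congr rfl fun i _ => ?_
  rw [Finset.prod_congr rfl (fun k hk => by rw [(Finset.mem_filter.1 hk).2]), Finset.prod_const]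
  rfl

lemma H6_exists_perm_of_count (s s' : ι' → ι) (h : H6_count s = H6_count s') :
    ∃ e : Equiv.Perm ι', ∀ k, s' (e k) = s k := by
  classical
  have hne : ∀ i : ι, Nonempty ({k // s k = i} ≃ {k // s' k = i}) := fun i => by
    apply Fintype.card_eq.1
    rw [Fintype.card_subtype, Fintype.card_subtype]
    exact congrFun h i
  exact ⟨Equiv.ofFiberEquiv (fun i => (hne i).some), fun k => Equiv.ofFiberEquiv_map _ k⟩

lemma H6_tprod_eq_of_count (f : ι → M) (s s' : ι' → ι) (h : H6_count s = H6_count s') :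
    SymmetricPower.tprod R (fun k => f (s k)) = SymmetricPower.tprod R (fun k => f (s' k)) := by
  obtain ⟨e, he⟩ := H6_exists_perm_of_count s s' h
  rw [← SymmetricPower.tprod_equiv e (fun k => f (s' k))]
  congr 1
  funext k
  rw [he]

lemma H6_sym_span_basis [DecidableEq ι'] (b : Module.Basis ι R M) :
    Submodule.span R (Set.range fun s : ι' → ι => SymmetricPower.tprod R (fun k => b (s k))) = ⊤ := by
  rw [eq_top_iff, ← SymmetricPower.span_tprod_eq_top, Submodule.span_le]
  rintro _ ⟨f, rfl⟩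
  have h1 : f = fun k => ∑ i, b.repr (f k) i • b i := by
    funext k
    exact (b.sum_repr (f k)).symm
  rw [h1, MultilinearMap.map_sum]
  refine Submodule.sum_mem _ fun s _ => ?_
  rw [MultilinearMap.map_smul_univ]
  exact Submodule.smul_mem _ _ (Submodule.subset_span ⟨s, rfl⟩)

lemma H6_sym_exists_coeff [DecidableEq ι'] (b : Module.Basis ι R M) (x : SymmetricPower R ι' M) :
    ∃ c : (ι' → ι) → R, x = ∑ s : ι' → ι, c s • SymmetricPower.tprod R (fun k => b (s k)) := by
  have hx : x ∈ Submodule.span R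
      (Set.range fun s : ι' → ι => SymmetricPower.tprod R (fun k => b (s k))) := by
    rw [H6_sym_span_basis]; trivial
  obtain ⟨c, hc⟩ := (Submodule.mem_span_range_iff_exists_fun R).1 hx
  exact ⟨c, hc.symm⟩

lemma H6_sym_injective_of_indep [DecidableEq ι'] {N : Type w} [AddCommGroup N] [Module R N]
    (b : Module.Basis ι R M) (φ : SymmetricPower R ι' M →ₗ[R] N) (y : (ι → ℕ) → N)
    (hφ : ∀ s : ι' → ι, φ (SymmetricPower.tprod R (fun k => b (s k))) = y (H6_count s))
    (hy : ∀ (𝒮 : Finset (ι → ℕ)) (c : (ι → ℕ) → R), (∀ p ∈ 𝒮, ∑ i, p i = Fintype.card ι') →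
      ∑ p ∈ 𝒮, c p • y p = 0 → ∀ p ∈ 𝒮, c p = 0) :
    Function.Injective φ := by
  rw [injective_iff_map_eq_zero]
  intro x hx
  obtain ⟨c, rfl⟩ := H6_sym_exists_coeff b x
  rw [map_sum] at hx
  simp_rw [map_smul, hφ] at hx
  let 𝒮 : Finset (ι → ℕ) := Finset.univ.image (H6_count (ι' := ι') (ι := ι))
  have hmaps : ∀ s ∈ (Finset.univ : Finset (ι' → ι)), H6_count s ∈ 𝒮 :=
    fun s _ => Finset.mem_image_of_mem _ (Finset.mem_univ s)
  have h1 : ∑ s : ι' → ι, c s • y (H6_count s) =
      ∑ p ∈ 𝒮, (∑ s ∈ Finset.univ.filter (fun s : ι' → ι => H6_count s = p), c s) • y p := by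
    rw [← Finset.sum_fiberwise_of_maps_to hmaps]
    refine Finset.sum_congr rfl fun p _ => ?_
    rw [Finset.sum_smul]
    refine Finset.sum_congr rfl fun s hs => ?_
    rw [(Finset.mem_filter.1 hs).2]
  rw [h1] at hx
  have h2 := hy 𝒮 _ (fun p hp => by
    obtain ⟨s, _, rfl⟩ := Finset.mem_image.1 hp
    exact H6_sum_count s) hx
  rw [← Finset.sum_fiberwise_of_maps_to hmaps]
  refine Finset.sum_eq_zero fun p hp => ?_
  obtain ⟨s₀, _, hs₀⟩ := Finset.mem_image.1 hp
  have h3 : ∀ s ∈ Finset.univ.filter (fun s : ι' → ι => H6_count s = p),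
      c s • SymmetricPower.tprod R (fun k => b (s k)) =
        c s • SymmetricPower.tprod R (fun k => b (s₀ k)) := by
    intro s hs
    rw [H6_tprod_eq_of_count (fun i => b i) s s₀ ((Finset.mem_filter.1 hs).2.trans hs₀.symm)]
  rw [Finset.sum_congr rfl h3, ← Finset.sum_smul, h2 p hp, zero_smul]

end

end Groth.Agent.Lib.helper6
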