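import Mathlib
import Groth.Prelude.Def_PP16
import Groth.Prelude.Def_DiffOp
import Groth.Agent.Lib.helper6.PP16Basis
import Groth.Agent.Lib.helper6.PP16DivPow6
import Groth.Agent.Lib.helper6.SymSpan

set_option autoImplicit false
set_option linter.style.haveILetI false

namespace Groth.Agent.Lib.helper6
open scoped TensorProduct
open PP16 Diff16

universe u

section

variable (A B : Type u) [CommRing A] [CommRing B] [Algebra A B]

lemma H6_leibniz_of_order_one (D : B →ₗ[A] B) (hD : IsDiffOpLE A B B B 1 D) (h1 : D 1 = 0)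
    (x y : B) : D (x * y) = x * D y + y * D x := by
  have hc : IsDiffOpLE A B B B 0 (Diff16.commutator A B B B D x) := hD x
  have h2 := hc y 1
  rw [H6_commutator_apply, H6_commutator_apply] at h2
  simp only [smul_eq_mul, mul_one, h1, mul_zero, sub_zero] at h2
  linear_combination h2

/-- an operator of order `≤ 1` killing `1` is a derivation. -/
noncomputable def H6_derivationOf (D : B →ₗ[A] B) (hD : IsDiffOpLE A B B B 1 D) (h1 : D 1 = 0) :
    Derivation A B B where
  toLinearMap := D
  map_one_eq_zero' := h1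
  leibniz' x y := by
    show D (x * y) = x • D y + y • D x
    rw [smul_eq_mul, smul_eq_mul]
    exact H6_leibniz_of_order_one A B D hD h1 x y

lemma H6_derivationOf_apply (D : B →ₗ[A] B) (hD : IsDiffOpLE A B B B 1 D) (h1 : D 1 = 0) (x : B) :
    H6_derivationOf A B D hD h1 x = D x := rfl

variable {ι : Type} [Fintype ι] [DecidableEq ι] (z : ι → B)
variable (hz : Submodule.span B (Set.range fun i => KaehlerDifferential.D A B (z i)) = ⊤)
  (Dp : (ι → ℕ) → (B →ₗ[A] B)) (hD : ∀ p, ∃ k : ℕ, Diff16.IsDiffOpLE A B B B k (Dp p))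
  (hDz : ∀ p q : ι → ℕ, Dp p (∏ i, z i ^ q i) =
      ((∏ i, Nat.choose (q i) (p i) : ℕ) : B) * ∏ i, z i ^ (q i - p i))

include hDz in
lemma H6_Dp_single_z (i j : ι) : Dp (Pi.single i 1) (z j) = if i = j then 1 else 0 := by
  have h := hDz (Pi.single i 1) (Pi.single j 1)
  have e1 : ∏ l, z l ^ ((Pi.single j 1 : ι → ℕ) l) = z j := by
    have := H6_prod_single (B := B) z (0 : ι → ℕ) j
    simpa using this
  rw [e1] at h
  rw [h]
  by_cases hij : i = j
  · subst hij
    rw [if_pos rfl]
    have e2 : ∀ l, ((Pi.single i 1 : ι → ℕ) l).choose ((Pi.single i 1 : ι → ℕ) l) = 1 :=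
      fun l => Nat.choose_self _
    have e3 : ∀ l, z l ^ ((Pi.single i 1 : ι → ℕ) l - (Pi.single i 1 : ι → ℕ) l) = 1 := by
      intro l; rw [Nat.sub_self, pow_zero]
    simp only [e2, e3, Finset.prod_const_one, Nat.cast_one, mul_one]
  · rw [if_neg hij]
    have e2 : ((Pi.single j 1 : ι → ℕ) i).choose ((Pi.single i 1 : ι → ℕ) i) = 0 := by
      rw [Pi.single_eq_same, Pi.single_eq_of_ne hij]
      rfl
    rw [Finset.prod_eq_zero (Finset.mem_univ i) e2, Nat.cast_zero, zero_mul]

include hz hD hDz in
theorem H6_basis_of_Dp :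
    ∃ b : Module.Basis ι B (KaehlerDifferential A B), ∀ i, b i = KaehlerDifferential.D A B (z i) := by
  have hord : ∀ i, IsDiffOpLE A B B B 1 (Dp (Pi.single i 1)) := fun i =>
    H6_Dp_order A B z hz Dp hD hDz 1 (Pi.single i 1) (by
      rw [Finset.sum_pi_single']; simp)
  have hone : ∀ i, Dp (Pi.single i 1) 1 = 0 := fun i => by
    rw [H6_Dp_one A B z Dp hDz, if_neg]
    intro h
    have := congrFun h i
    simp at this
  let f : ι → (KaehlerDifferential A B →ₗ[B] B) := fun i =>
    (H6_derivationOf A B _ (hord i) (hone i)).liftKaehlerDifferential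
  have hf : ∀ i j, f i (KaehlerDifferential.D A B (z j)) = if i = j then 1 else 0 := by
    intro i j
    show (H6_derivationOf A B _ (hord i) (hone i)).liftKaehlerDifferential
      (KaehlerDifferential.D A B (z j)) = _
    rw [Derivation.liftKaehlerDifferential_comp_D, H6_derivationOf_apply,
      H6_Dp_single_z A B z Dp hDz]
  have hli : LinearIndependent B (fun i => KaehlerDifferential.D A B (z i)) := by
    rw [linearIndependent_iff']
    intro s g hg j hj
    have h1 := congrArg (f j) hg
    rw [map_sum, map_zero] at h1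
    simp_rw [map_smul, hf, smul_eq_mul, mul_ite, mul_one, mul_zero] at h1
    rw [Finset.sum_ite_eq, if_pos hj] at h1
    exact h1
  refine ⟨Module.Basis.mk hli (le_of_eq hz.symm), fun i => ?_⟩
  rw [Module.Basis.mk_apply]

end

end Groth.Agent.Lib.helper6
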