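import Mathlib
import Groth.Prelude.Def_PP16
import Groth.Prelude.Def_DiffOp
import Groth.Agent.Lib.helper6.PP16Smooth

set_option autoImplicit false
set_option linter.style.haveILetI false

namespace Groth.Agent.Lib.helper6
open scoped TensorProduct
open PP16 Diff16

universe u

lemma H6_prod_sub_prod_mem {R : Type*} [CommRing R] (I : Ideal R) {κ : Type*} (s : Finset κ)
    (x y : κ → R) (hx : ∀ k ∈ s, x k ∈ I) (hy : ∀ k ∈ s, y k ∈ I)
    (hxy : ∀ k ∈ s, x k - y k ∈ I ^ 2) :
    ∏ k ∈ s, x k - ∏ k ∈ s, y k ∈ I ^ (s.card + 1) := by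
  classical
  induction s using Finset.induction_on with
  | empty => simp
  | insert a s ha ih =>
    rw [Finset.prod_insert ha, Finset.prod_insert ha, Finset.card_insert_of_notMem ha]
    have hX : ∏ k ∈ s, x k ∈ I ^ s.card := by
      have := Ideal.prod_mem_prod (s := s) (I := fun _ => I) (x := x)
        (fun k hk => hx k (Finset.mem_insert_of_mem hk))
      rwa [Finset.prod_const] at this
    have ih' := ih (fun k hk => hx k (Finset.mem_insert_of_mem hk))
      (fun k hk => hy k (Finset.mem_insert_of_mem hk))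
      (fun k hk => hxy k (Finset.mem_insert_of_mem hk))
    have e : x a * ∏ k ∈ s, x k - y a * ∏ k ∈ s, y k =
        (x a - y a) * ∏ k ∈ s, x k + y a * (∏ k ∈ s, x k - ∏ k ∈ s, y k) := by ring
    rw [e]
    refine Ideal.add_mem _ ?_ ?_
    · have := Ideal.mul_mem_mul (hxy a (Finset.mem_insert_self a s)) hX
      rwa [← pow_add, add_comm 2 s.card] at this
    · have := Ideal.mul_mem_mul (hy a (Finset.mem_insert_self a s)) ih'
      rwa [← pow_succ'] at this

section

variable (A B : Type u) [CommRing A] [CommRing B] [Algebra A B]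
variable {ι : Type} [Fintype ι] [DecidableEq ι] (z : ι → B)
  (b : Module.Basis ι B (KaehlerDifferential A B))

/-- the `B`-linear map `Ω → B ⊗ B`, `dz_i ↦ 1 ⊗ z_i - z_i ⊗ 1`. -/
noncomputable def H6_L : KaehlerDifferential A B →ₗ[B] B ⊗[A] B :=
  b.constr B (fun i => ((1 : B) ⊗ₜ[A] z i - z i ⊗ₜ[A] (1 : B) : B ⊗[A] B))

lemma H6_L_apply (ω : KaehlerDifferential A B) :
    H6_L A B z b ω =
      ∑ i, (b.repr ω i ⊗ₜ[A] (1 : B)) * ((1 : B) ⊗ₜ[A] z i - z i ⊗ₜ[A] (1 : B)) := by
  unfold H6_L
  rw [Module.Basis.constr_apply_fintype]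
  refine Finset.sum_congr rfl fun i _ => ?_
  rw [Algebra.smul_def, Algebra.TensorProduct.algebraMap_apply]
  rfl

lemma H6_L_mem (ω : KaehlerDifferential A B) :
    H6_L A B z b ω ∈ KaehlerDifferential.ideal A B := by
  rw [H6_L_apply]
  exact Ideal.sum_mem _ fun i _ => Ideal.mul_mem_left _ _
    (KaehlerDifferential.one_smul_sub_smul_one_mem_ideal A (z i))

lemma H6_L_D (hb : ∀ i, b i = KaehlerDifferential.D A B (z i)) (x : B) :
    H6_L A B z b (KaehlerDifferential.D A B x) - ((1 : B) ⊗ₜ[A] x - x ⊗ₜ[A] (1 : B)) ∈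
      KaehlerDifferential.ideal A B ^ 2 := by
  have hyI := H6_L_mem A B z b (KaehlerDifferential.D A B x)
  have hxI := KaehlerDifferential.one_smul_sub_smul_one_mem_ideal A x
  have h1 : KaehlerDifferential.fromIdeal A B ⟨_, hyI⟩ = KaehlerDifferential.D A B x := by
    have h0 : KaehlerDifferential.fromIdeal A B ⟨_, hyI⟩ =
        (KaehlerDifferential.D A B).tensorProductTo (H6_L A B z b (KaehlerDifferential.D A B x)) :=
      (KaehlerDifferential.D_tensorProductTo
        (⟨_, hyI⟩ : KaehlerDifferential.ideal A B)).symm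
    rw [h0, H6_L_apply, map_sum]
    conv_rhs => rw [← b.sum_repr (KaehlerDifferential.D A B x)]
    refine Finset.sum_congr rfl fun i _ => ?_
    rw [mul_sub, Algebra.TensorProduct.tmul_mul_tmul, Algebra.TensorProduct.tmul_mul_tmul, map_sub,
      Derivation.tensorProductTo_tmul, Derivation.tensorProductTo_tmul, mul_one, one_mul, mul_one,
      Derivation.map_one_eq_zero, smul_zero, sub_zero, hb]
  have h3 : (KaehlerDifferential.ideal A B).toCotangent
      ((⟨_, hyI⟩ : KaehlerDifferential.ideal A B) - ⟨_, hxI⟩) = 0 := by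
    rw [map_sub]
    have : (KaehlerDifferential.ideal A B).toCotangent ⟨_, hyI⟩ = KaehlerDifferential.D A B x := h1
    rw [this, KaehlerDifferential.D_apply, sub_self]
  rw [Ideal.toCotangent_eq_zero] at h3
  exact h3

end

end Groth.Agent.Lib.helper6
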