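import Mathlib
import Groth.Prelude.Def_PP16
import Groth.Prelude.Def_DiffOp
import Groth.Agent.Lib.helper6.PP16Smooth2

set_option autoImplicit false
set_option linter.style.haveILetI false

namespace Groth.Agent.Lib.helper6
open scoped TensorProduct
open PP16 Diff16

universe u

section gr

variable (A B : Type u) [CommRing A] [CommRing B] [Algebra A B] (n : ℕ)

lemma H6_subtype_sum_smul {κ : Type*} (s : Finset κ) (c : κ → B)
    (T : κ → ↥((KaehlerDifferential.ideal A B ^ n).restrictScalars B)) :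
    (((KaehlerDifferential.ideal A B ^ n).restrictScalars B).subtype (∑ k ∈ s, c k • T k)) =
      ∑ k ∈ s, (c k ⊗ₜ[A] (1 : B)) * (T k).1 := by
  rw [map_sum]
  refine Finset.sum_congr rfl fun p _ => ?_
  rw [map_smul, Submodule.subtype_apply, Algebra.smul_def, Algebra.TensorProduct.algebraMap_apply]
  rfl

lemma H6_gr_sub_sum_eq_zero_iff {κ : Type*} (s : Finset κ) (c : κ → B)
    (t₀ : ↥((KaehlerDifferential.ideal A B ^ n).restrictScalars B))
    (T : κ → ↥((KaehlerDifferential.ideal A B ^ n).restrictScalars B)) :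
    (Submodule.mkQ _ t₀ : grI A B n) = ∑ k ∈ s, c k • (Submodule.mkQ _ (T k) : grI A B n) ↔
      t₀.1 - ∑ k ∈ s, (c k ⊗ₜ[A] (1 : B)) * (T k).1 ∈ KaehlerDifferential.ideal A B ^ (n + 1) := by
  simp_rw [← map_smul, ← map_sum]
  rw [← sub_eq_zero, ← map_sub, Submodule.mkQ_apply, Submodule.Quotient.mk_eq_zero,
    Submodule.mem_comap, map_sub, H6_subtype_sum_smul]
  rfl

end gr

section

variable (A B : Type u) [CommRing A] [CommRing B] [Algebra A B]
variable {ι : Type} [Fintype ι] [DecidableEq ι] (z : ι → B)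

/-- `ζ^p` as an element of `I^n` (zero when `|p| ≠ n`). -/
noncomputable def H6_zetaT (n : ℕ) (p : ι → ℕ) :
    ↥((KaehlerDifferential.ideal A B ^ n).restrictScalars B) :=
  if h : ∑ i, p i = n then ⟨H6_zetaPow A B z p, by
    show H6_zetaPow A B z p ∈ KaehlerDifferential.ideal A B ^ n
    rw [← h]; exact H6_zetaPow_mem A B z p⟩ else 0

lemma H6_zetaT_val (n : ℕ) (p : ι → ℕ) (h : ∑ i, p i = n) :
    (H6_zetaT A B z n p).1 = H6_zetaPow A B z p := by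
  unfold H6_zetaT
  rw [dif_pos h]

/-- the class of `ζ^p` in `I^n/I^(n+1)`. -/
noncomputable def H6_grZeta (n : ℕ) (p : ι → ℕ) : grI A B n := Submodule.mkQ _ (H6_zetaT A B z n p)

lemma H6_zetaProd_eq_grZeta (ι' : Type u) [Fintype ι'] (s : ι' → ι) (p : ι → ℕ)
    (hp : ∑ i, p i = Fintype.card ι')
    (h : ∏ k, ((1 : B) ⊗ₜ[A] z (s k) - z (s k) ⊗ₜ[A] (1 : B)) = H6_zetaPow A B z p) :
    zetaProd A B (fun k => z (s k)) = H6_grZeta A B z (Fintype.card ι') p := by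
  unfold H6_grZeta zetaProd
  rw [Submodule.mkQ_apply]
  congr 1
  apply Subtype.ext
  rw [H6_zetaT_val A B z _ p hp]
  exact h

variable (hz : Submodule.span B (Set.range fun i => KaehlerDifferential.D A B (z i)) = ⊤)
  (Dp : (ι → ℕ) → (B →ₗ[A] B)) (hD : ∀ p, ∃ k : ℕ, Diff16.IsDiffOpLE A B B B k (Dp p))
  (hDz : ∀ p q : ι → ℕ, Dp p (∏ i, z i ^ q i) =
      ((∏ i, Nat.choose (q i) (p i) : ℕ) : B) * ∏ i, z i ^ (q i - p i))

include hz hD hDz in
lemma H6_coeff_eq_zero_of_Dp (𝒮 : Finset (ι → ℕ)) (c : (ι → ℕ) → B) (q : ι → ℕ) (hq : q ∈ 𝒮)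
    (hT : ∑ p ∈ 𝒮, (c p ⊗ₜ[A] (1 : B)) * H6_zetaPow A B z p ∈
      KaehlerDifferential.ideal A B ^ (∑ i, q i + 1)) : c q = 0 := by
  have h0 := (H6_isDiffOpLE_iff A B B B _ (Dp q)).1
    (H6_Dp_order A B z hz Dp hD hDz _ q rfl) _ hT
  have h1 : H6_lam A B B B (Dp q) (∑ p ∈ 𝒮, (c p ⊗ₜ[A] (1 : B)) * H6_zetaPow A B z p) 1 = 0 := by
    rw [h0]; rfl
  rw [map_sum, LinearMap.sum_apply] at h1
  simp_rw [H6_lam_left, ← H6_kappa_apply, H6_kappa_Dp A B z hz Dp hD hDz, smul_eq_mul, mul_ite,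
    mul_one, mul_zero] at h1
  rw [Finset.sum_ite_eq, if_pos hq] at h1
  exact h1

include hz hD hDz in
lemma H6_gr_span_of_Dp (n : ℕ) (t : B ⊗[A] B) (ht : t ∈ KaehlerDifferential.ideal A B ^ n) :
    ∃ (𝒮 : Finset (ι → ℕ)) (c : (ι → ℕ) → B), (∀ p ∈ 𝒮, ∑ i, p i = n) ∧
      t - ∑ p ∈ 𝒮, (c p ⊗ₜ[A] (1 : B)) * H6_zetaPow A B z p ∈
        KaehlerDifferential.ideal A B ^ (n + 1) := by
  classical
  have hmem : (Ideal.Quotient.mk (KaehlerDifferential.ideal A B ^ (n + 1)) t : P n A B) ∈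
      Submodule.span B (Set.range (H6_vP A B z n)) := H6_vP_span A B z hz n trivial
  obtain ⟨a, ha⟩ := (Finsupp.mem_span_range_iff_exists_finsupp).1 hmem
  let c : (ι → ℕ) → B := fun p => if h : ∑ i, p i ≤ n then a ⟨p, h⟩ else 0
  have hc : ∀ p : {p : ι → ℕ // ∑ i, p i ≤ n}, c p.1 = a p := fun p => by
    show (if h : ∑ i, p.1 i ≤ n then a ⟨p.1, h⟩ else 0) = a p
    rw [dif_pos p.2]
  let 𝒮0 : Finset (ι → ℕ) := a.support.image Subtype.val
  have h𝒮0 : ∀ p ∈ 𝒮0, ∑ i, p i ≤ n := by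
    intro p hp
    obtain ⟨p', _, rfl⟩ := Finset.mem_image.1 hp
    exact p'.2
  have h1 : (Ideal.Quotient.mk (KaehlerDifferential.ideal A B ^ (n + 1))
      (∑ p ∈ 𝒮0, (c p ⊗ₜ[A] (1 : B)) * H6_zetaPow A B z p) : P n A B) =
      Ideal.Quotient.mk _ t := by
    rw [← ha, Finsupp.sum, Finset.sum_image (Subtype.val_injective.injOn), map_sum]
    refine Finset.sum_congr rfl fun p _ => ?_
    rw [H6_vP_eq, H6_smul_mk, hc]
  have h2 : t - ∑ p ∈ 𝒮0, (c p ⊗ₜ[A] (1 : B)) * H6_zetaPow A B z p ∈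
      KaehlerDifferential.ideal A B ^ (n + 1) := by
    rw [← Ideal.Quotient.eq]; exact h1.symm
  have h3 : ∑ p ∈ 𝒮0, (c p ⊗ₜ[A] (1 : B)) * H6_zetaPow A B z p ∈
      KaehlerDifferential.ideal A B ^ n := by
    have := Ideal.sub_mem _ ht (Ideal.pow_le_pow_right (Nat.le_succ n) h2)
    rwa [sub_sub_cancel] at this
  have h4 : ∀ q ∈ 𝒮0, ∑ i, q i < n → c q = 0 := fun q hq hlt =>
    H6_coeff_eq_zero_of_Dp A B z hz Dp hD hDz 𝒮0 c q hq
      (Ideal.pow_le_pow_right (by omega) h3)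
  refine ⟨𝒮0.filter (fun p => ∑ i, p i = n), c, fun p hp => (Finset.mem_filter.1 hp).2, ?_⟩
  rw [Finset.sum_filter_of_ne]
  · exact h2
  · intro p hp hne
    by_contra hpn
    apply hne
    rw [h4 p hp (lt_of_le_of_ne (h𝒮0 p hp) hpn), TensorProduct.zero_tmul, zero_mul]

end

end Groth.Agent.Lib.helper6
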