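import Mathlib
import Groth.Prelude.Def_PP16
import Groth.Prelude.Def_DiffOp
import Groth.Agent.Lib.helper6.PP16Smooth3

set_option autoImplicit false
set_option linter.style.haveILetI false

namespace Groth.Agent.Lib.helper6
open scoped TensorProduct
open PP16 Diff16

universe u

section

variable (A B : Type u) [CommRing A] [CommRing B] [Algebra A B]
variable {ι : Type} [Fintype ι] [DecidableEq ι] (z : ι → B)
  (b : Module.Basis ι B (KaehlerDifferential A B))
  (ι' : Type u) [Fintype ι']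

/-- `ω ↦ ∏_k L(ω_k)`. -/
noncomputable def H6_smMu0 :
    MultilinearMap B (fun _ : ι' => KaehlerDifferential A B) (B ⊗[A] B) :=
  (MultilinearMap.mkPiAlgebra B ι' (B ⊗[A] B)).compLinearMap (fun _ => H6_L A B z b)

lemma H6_smMu0_apply (ω : ι' → KaehlerDifferential A B) :
    H6_smMu0 A B z b ι' ω = ∏ k, H6_L A B z b (ω k) := rfl

lemma H6_smMu0_mem (ω : ι' → KaehlerDifferential A B) :
    H6_smMu0 A B z b ι' ω ∈
      (KaehlerDifferential.ideal A B ^ Fintype.card ι').restrictScalars B := by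
  rw [H6_smMu0_apply]
  show ∏ k, H6_L A B z b (ω k) ∈ KaehlerDifferential.ideal A B ^ Fintype.card ι'
  have := Ideal.prod_mem_prod (s := Finset.univ) (I := fun _ : ι' => KaehlerDifferential.ideal A B)
    (x := fun k => H6_L A B z b (ω k)) (fun k _ => H6_L_mem A B z b (ω k))
  rwa [Finset.prod_const, Finset.card_univ] at this

noncomputable def H6_smMu2 :
    MultilinearMap B (fun _ : ι' => KaehlerDifferential A B) (grI A B (Fintype.card ι')) :=
  (Submodule.mkQ _).compMultilinearMap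
    ((H6_smMu0 A B z b ι').codRestrict _ (H6_smMu0_mem A B z b ι'))

lemma H6_smMu2_apply (ω : ι' → KaehlerDifferential A B) :
    H6_smMu2 A B z b ι' ω =
      Submodule.mkQ _ (⟨∏ k, H6_L A B z b (ω k), H6_smMu0_mem A B z b ι' ω⟩ :
        ↥((KaehlerDifferential.ideal A B ^ Fintype.card ι').restrictScalars B)) := rfl

lemma H6_smMu2_symm (e : Equiv.Perm ι') (ω : ι' → KaehlerDifferential A B) :
    H6_smMu2 A B z b ι' (fun k => ω (e k)) = H6_smMu2 A B z b ι' ω := by
  rw [H6_smMu2_apply, H6_smMu2_apply]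
  congr 1
  apply Subtype.ext
  exact Equiv.prod_comp e (fun k => H6_L A B z b (ω k))

/-- the map `Sym^n Ω → I^n/I^(n+1)`. -/
noncomputable def H6_smPhi :
    SymmetricPower B ι' (KaehlerDifferential A B) →ₗ[B] grI A B (Fintype.card ι') :=
  H6_symLift B ι' (KaehlerDifferential A B) (H6_smMu2 A B z b ι') (H6_smMu2_symm A B z b ι')

lemma H6_smPhi_D (hb : ∀ i, b i = KaehlerDifferential.D A B (z i)) (β : ι' → B) :
    H6_smPhi A B z b ι' (SymmetricPower.tprod B (fun k => KaehlerDifferential.D A B (β k))) =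
      zetaProd A B β := by
  unfold H6_smPhi
  rw [H6_symLift_tprod, H6_smMu2_apply]
  unfold zetaProd
  rw [Submodule.mkQ_apply, Submodule.Quotient.eq, Submodule.mem_comap]
  show ∏ k, H6_L A B z b (KaehlerDifferential.D A B (β k)) -
    ∏ k, ((1 : B) ⊗ₜ[A] β k - β k ⊗ₜ[A] (1 : B)) ∈
      KaehlerDifferential.ideal A B ^ (Fintype.card ι' + 1)
  have := H6_prod_sub_prod_mem (KaehlerDifferential.ideal A B) (Finset.univ : Finset ι')
    (fun k => H6_L A B z b (KaehlerDifferential.D A B (β k)))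
    (fun k => (1 : B) ⊗ₜ[A] β k - β k ⊗ₜ[A] (1 : B))
    (fun k _ => H6_L_mem A B z b _)
    (fun k _ => KaehlerDifferential.one_smul_sub_smul_one_mem_ideal A (β k))
    (fun k _ => H6_L_D A B z b hb (β k))
  rwa [Finset.card_univ] at this

variable (hz : Submodule.span B (Set.range fun i => KaehlerDifferential.D A B (z i)) = ⊤)
  (Dp : (ι → ℕ) → (B →ₗ[A] B)) (hD : ∀ p, ∃ k : ℕ, Diff16.IsDiffOpLE A B B B k (Dp p))
  (hDz : ∀ p q : ι → ℕ, Dp p (∏ i, z i ^ q i) =
      ((∏ i, Nat.choose (q i) (p i) : ℕ) : B) * ∏ i, z i ^ (q i - p i))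

include hz hD hDz in
theorem H6_smPhi_bijective (hb : ∀ i, b i = KaehlerDifferential.D A B (z i)) :
    Function.Bijective (H6_smPhi A B z b ι') := by
  classical
  constructor
  · refine H6_sym_injective_of_indep b _ (H6_grZeta A B z (Fintype.card ι')) ?_ ?_
    · intro s
      have : (fun k => b (s k)) = fun k => KaehlerDifferential.D A B (z (s k)) :=
        funext fun k => hb _
      rw [this, H6_smPhi_D A B z b ι' hb (fun k => z (s k))]
      exact H6_zetaProd_eq_grZeta A B z ι' s _ (H6_sum_count s)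
        (H6_prod_comp_count s (fun i => (1 : B) ⊗ₜ[A] z i - z i ⊗ₜ[A] (1 : B)))
    · intro 𝒮 c h𝒮 hsum p hp
      have h0 : (Submodule.mkQ _ (0 : ↥((KaehlerDifferential.ideal A B ^
          Fintype.card ι').restrictScalars B)) : grI A B (Fintype.card ι')) =
          ∑ p ∈ 𝒮, c p • (Submodule.mkQ _ (H6_zetaT A B z (Fintype.card ι') p) :
            grI A B (Fintype.card ι')) := by
        rw [map_zero]; exact hsum.symm
      rw [H6_gr_sub_sum_eq_zero_iff] at h0
      have h1 : ∑ p ∈ 𝒮, (c p ⊗ₜ[A] (1 : B)) * H6_zetaPow A B z p ∈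
          KaehlerDifferential.ideal A B ^ (Fintype.card ι' + 1) := by
        have h2 : ∑ p ∈ 𝒮, (c p ⊗ₜ[A] (1 : B)) * (H6_zetaT A B z (Fintype.card ι') p).1 =
            ∑ p ∈ 𝒮, (c p ⊗ₜ[A] (1 : B)) * H6_zetaPow A B z p :=
          Finset.sum_congr rfl fun p hp => by rw [H6_zetaT_val A B z _ p (h𝒮 p hp)]
        rw [← h2]
        have := Ideal.neg_mem_iff _ |>.2 h0
        simpa using this
      refine H6_coeff_eq_zero_of_Dp A B z hz Dp hD hDz 𝒮 c p hp ?_
      rw [h𝒮 p hp]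
      exact h1
  · intro y
    obtain ⟨⟨t, ht⟩, rfl⟩ := Submodule.Quotient.mk_surjective _ y
    obtain ⟨𝒮, c, h𝒮, hmem⟩ := H6_gr_span_of_Dp A B z hz Dp hD hDz (Fintype.card ι') t ht
    have hex : ∀ p : {p // p ∈ 𝒮}, ∃ s : ι' → ι,
        ∀ (C : Type u) [CommMonoid C] (g : ι → C), ∏ k, g (s k) = ∏ i, g i ^ p.1 i :=
      fun p => H6_exists_seq ι' p.1 (h𝒮 p.1 p.2)
    choose s hs using hex
    refine ⟨∑ p ∈ 𝒮.attach, c p.1 •
      SymmetricPower.tprod B (fun k => KaehlerDifferential.D A B (z (s p k))), ?_⟩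
    rw [map_sum]
    simp_rw [map_smul, H6_smPhi_D A B z b ι' hb]
    have h1 : ∀ p ∈ 𝒮.attach, c p.1 • zetaProd A B (fun k => z (s p k)) =
        c p.1 • (Submodule.mkQ _ (H6_zetaT A B z (Fintype.card ι') p.1) :
          grI A B (Fintype.card ι')) := by
      intro p _
      rw [H6_zetaProd_eq_grZeta A B z ι' (s p) p.1 (h𝒮 p.1 p.2)
        (hs p (B ⊗[A] B) (fun i => (1 : B) ⊗ₜ[A] z i - z i ⊗ₜ[A] (1 : B)))]
      rfl
    rw [Finset.sum_congr rfl h1,
      Finset.sum_attach 𝒮 (fun p => c p • (Submodule.mkQ _ (H6_zetaT A B z (Fintype.card ι') p) :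
          grI A B (Fintype.card ι')))]
    symm
    show (Submodule.mkQ _ (⟨t, ht⟩ : ↥((KaehlerDifferential.ideal A B ^
      Fintype.card ι').restrictScalars B)) : grI A B (Fintype.card ι')) = _
    rw [H6_gr_sub_sum_eq_zero_iff]
    have h2 : ∑ p ∈ 𝒮, (c p ⊗ₜ[A] (1 : B)) * (H6_zetaT A B z (Fintype.card ι') p).1 =
        ∑ p ∈ 𝒮, (c p ⊗ₜ[A] (1 : B)) * H6_zetaPow A B z p :=
      Finset.sum_congr rfl fun p hp => by rw [H6_zetaT_val A B z _ p (h𝒮 p hp)]
    rw [h2]
    exact hmem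

include hz hD hDz in
theorem H6_isDiffSmooth_of_Dp :
    IsDiffSmooth A B ∧
      ∃ b : Module.Basis ι B (KaehlerDifferential A B), ∀ i, b i = KaehlerDifferential.D A B (z i) := by
  obtain ⟨b, hb⟩ := H6_basis_of_Dp A B z hz Dp hD hDz
  refine ⟨⟨Module.Projective.of_basis b, ?_⟩, b, hb⟩
  intro ι' _
  exact ⟨H6_smPhi A B z b ι', H6_smPhi_D A B z b ι' hb,
    H6_smPhi_bijective A B z b ι' hz Dp hD hDz hb⟩

end

end Groth.Agent.Lib.helper6
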