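import Mathlib
import Groth.Prelude.Def_PP16
import Groth.Prelude.Def_DiffOp
import Groth.Agent.Lib.helper6.PP16Smooth4

set_option autoImplicit false
set_option linter.style.haveILetI false

namespace Groth.Agent.Lib.helper6
open scoped TensorProduct
open PP16 Diff16

universe u

section

variable (A B : Type u) [CommRing A] [CommRing B] [Algebra A B]

/-- a `B`-linear section of `I → Ω` when `Ω` is projective. -/
lemma H6_exists_section [Module.Projective B (KaehlerDifferential A B)] :
    ∃ L : KaehlerDifferential A B →ₗ[B] B ⊗[A] B,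
      ∃ hL : ∀ ω, L ω ∈ KaehlerDifferential.ideal A B,
        ∀ ω, (KaehlerDifferential.ideal A B).toCotangent ⟨L ω, hL ω⟩ = ω := by
  let π : ↥(KaehlerDifferential.ideal A B) →ₗ[B] KaehlerDifferential A B :=
    ((KaehlerDifferential.ideal A B).toCotangent).restrictScalars B
  have hπ : Function.Surjective π := Ideal.toCotangent_surjective _
  obtain ⟨h, hh⟩ := Module.projective_lifting_property π LinearMap.id hπ
  refine ⟨((KaehlerDifferential.ideal A B).subtype.restrictScalars B) ∘ₗ h,
    fun ω => (h ω).2, fun ω => ?_⟩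
  exact LinearMap.congr_fun hh ω

lemma H6_section_D (L : KaehlerDifferential A B →ₗ[B] B ⊗[A] B)
    (hL : ∀ ω, L ω ∈ KaehlerDifferential.ideal A B)
    (hsec : ∀ ω, (KaehlerDifferential.ideal A B).toCotangent ⟨L ω, hL ω⟩ = ω) (x : B) :
    L (KaehlerDifferential.D A B x) - ((1 : B) ⊗ₜ[A] x - x ⊗ₜ[A] (1 : B)) ∈
      KaehlerDifferential.ideal A B ^ 2 := by
  have h1 := hsec (KaehlerDifferential.D A B x)
  conv_rhs at h1 => rw [KaehlerDifferential.D_apply]
  rw [Ideal.toCotangent_eq] at h1
  exact h1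

variable (L : KaehlerDifferential A B →ₗ[B] B ⊗[A] B)
  (hL : ∀ ω, L ω ∈ KaehlerDifferential.ideal A B) (ι' : Type u) [Fintype ι']

/-- `ω ↦ ∏_k L(ω_k)`. -/
noncomputable def H6_gMu0 :
    MultilinearMap B (fun _ : ι' => KaehlerDifferential A B) (B ⊗[A] B) :=
  (MultilinearMap.mkPiAlgebra B ι' (B ⊗[A] B)).compLinearMap (fun _ => L)

lemma H6_gMu0_apply (ω : ι' → KaehlerDifferential A B) :
    H6_gMu0 A B L ι' ω = ∏ k, L (ω k) := rfl

include hL in
lemma H6_gMu0_mem (ω : ι' → KaehlerDifferential A B) :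
    H6_gMu0 A B L ι' ω ∈
      (KaehlerDifferential.ideal A B ^ Fintype.card ι').restrictScalars B := by
  rw [H6_gMu0_apply]
  show ∏ k, L (ω k) ∈ KaehlerDifferential.ideal A B ^ Fintype.card ι'
  have := Ideal.prod_mem_prod (s := Finset.univ) (I := fun _ : ι' => KaehlerDifferential.ideal A B)
    (x := fun k => L (ω k)) (fun k _ => hL (ω k))
  rwa [Finset.prod_const, Finset.card_univ] at this

noncomputable def H6_gMu2 :
    MultilinearMap B (fun _ : ι' => KaehlerDifferential A B) (grI A B (Fintype.card ι')) :=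
  (Submodule.mkQ _).compMultilinearMap
    ((H6_gMu0 A B L ι').codRestrict _ (H6_gMu0_mem A B L hL ι'))

lemma H6_gMu2_apply (ω : ι' → KaehlerDifferential A B) :
    H6_gMu2 A B L hL ι' ω =
      Submodule.mkQ _ (⟨∏ k, L (ω k), H6_gMu0_mem A B L hL ι' ω⟩ :
        ↥((KaehlerDifferential.ideal A B ^ Fintype.card ι').restrictScalars B)) := rfl

lemma H6_gMu2_symm (e : Equiv.Perm ι') (ω : ι' → KaehlerDifferential A B) :
    H6_gMu2 A B L hL ι' (fun k => ω (e k)) = H6_gMu2 A B L hL ι' ω := by
  rw [H6_gMu2_apply, H6_gMu2_apply]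
  congr 1
  apply Subtype.ext
  exact Equiv.prod_comp e (fun k => L (ω k))

/-- the map `Sym^n Ω → I^n/I^(n+1)` attached to a section `L`. -/
noncomputable def H6_gPhi :
    SymmetricPower B ι' (KaehlerDifferential A B) →ₗ[B] grI A B (Fintype.card ι') :=
  H6_symLift B ι' (KaehlerDifferential A B) (H6_gMu2 A B L hL ι') (H6_gMu2_symm A B L hL ι')

lemma H6_gPhi_tprod (ω : ι' → KaehlerDifferential A B) :
    H6_gPhi A B L hL ι' (SymmetricPower.tprod B ω) =
      Submodule.mkQ _ (⟨∏ k, L (ω k), H6_gMu0_mem A B L hL ι' ω⟩ :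
        ↥((KaehlerDifferential.ideal A B ^ Fintype.card ι').restrictScalars B)) := by
  unfold H6_gPhi
  rw [H6_symLift_tprod, H6_gMu2_apply]

lemma H6_gPhi_D
    (hLD : ∀ x : B, L (KaehlerDifferential.D A B x) - ((1 : B) ⊗ₜ[A] x - x ⊗ₜ[A] (1 : B)) ∈
      KaehlerDifferential.ideal A B ^ 2) (β : ι' → B) :
    H6_gPhi A B L hL ι' (SymmetricPower.tprod B (fun k => KaehlerDifferential.D A B (β k))) =
      zetaProd A B β := by
  rw [H6_gPhi_tprod]
  unfold zetaProd
  rw [Submodule.mkQ_apply, Submodule.Quotient.eq, Submodule.mem_comap]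
  show ∏ k, L (KaehlerDifferential.D A B (β k)) -
    ∏ k, ((1 : B) ⊗ₜ[A] β k - β k ⊗ₜ[A] (1 : B)) ∈
      KaehlerDifferential.ideal A B ^ (Fintype.card ι' + 1)
  have := H6_prod_sub_prod_mem (KaehlerDifferential.ideal A B) (Finset.univ : Finset ι')
    (fun k => L (KaehlerDifferential.D A B (β k)))
    (fun k => (1 : B) ⊗ₜ[A] β k - β k ⊗ₜ[A] (1 : B))
    (fun k _ => hL _)
    (fun k _ => KaehlerDifferential.one_smul_sub_smul_one_mem_ideal A (β k))
    (fun k _ => hLD (β k))
  rwa [Finset.card_univ] at this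

end

section span

variable (A B : Type u) [CommRing A] [CommRing B] [Algebra A B]

lemma H6_sub_eps_mem (t : B ⊗[A] B) :
    t - (Algebra.TensorProduct.lmul' A t) ⊗ₜ[A] (1 : B) ∈ KaehlerDifferential.ideal A B := by
  show Algebra.TensorProduct.lmul' A (t - (Algebra.TensorProduct.lmul' A t) ⊗ₜ[A] (1 : B)) = 0
  rw [map_sub, Algebra.TensorProduct.lmul'_apply_tmul, mul_one, sub_self]

lemma H6_pow_le_span_prod (ι' : Type u) [DecidableEq ι'] (s : Finset ι') :
    (KaehlerDifferential.ideal A B ^ s.card).restrictScalars B ≤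
      Submodule.span B (Set.range fun β : ι' → B =>
        ∏ k ∈ s, ((1 : B) ⊗ₜ[A] β k - β k ⊗ₜ[A] (1 : B))) ⊔
        (KaehlerDifferential.ideal A B ^ (s.card + 1)).restrictScalars B := by
  induction s using Finset.induction_on with
  | empty =>
    intro t _
    have e : t = (Algebra.TensorProduct.lmul' A t) • (1 : B ⊗[A] B) +
        (t - (Algebra.TensorProduct.lmul' A t) ⊗ₜ[A] (1 : B)) := by
      rw [Algebra.smul_def, mul_one, Algebra.TensorProduct.algebraMap_apply]
      simp
    rw [e]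
    refine Submodule.add_mem_sup (Submodule.smul_mem _ _ (Submodule.subset_span ⟨fun _ => 0, ?_⟩)) ?_
    · simp
    · show _ ∈ KaehlerDifferential.ideal A B ^ (0 + 1)
      rw [zero_add, pow_one]
      exact H6_sub_eps_mem A B t
  | insert a s ha ih =>
    rw [Finset.card_insert_of_notMem ha]
    intro t ht
    have ht' : t ∈ KaehlerDifferential.ideal A B * KaehlerDifferential.ideal A B ^ s.card := by
      rw [← pow_succ']; exact ht
    have key1 : ∀ (β : ι' → B) (x : B ⊗[A] B), x ∈ Submodule.span B (Set.range fun s : B =>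
        (1 : B) ⊗ₜ[A] s - s ⊗ₜ[A] (1 : B)) →
        x * ∏ k ∈ s, ((1 : B) ⊗ₜ[A] β k - β k ⊗ₜ[A] (1 : B)) ∈
          Submodule.span B (Set.range fun β : ι' → B =>
            ∏ k ∈ insert a s, ((1 : B) ⊗ₜ[A] β k - β k ⊗ₜ[A] (1 : B))) ⊔
          (KaehlerDifferential.ideal A B ^ (s.card + 1 + 1)).restrictScalars B := by
      intro β x hx'
      refine Submodule.span_induction ?_ ?_ ?_ ?_ hx'
      · rintro _ ⟨c, rfl⟩
        refine Submodule.mem_sup_left (Submodule.subset_span ⟨Function.update β a c, ?_⟩)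
        show ∏ k ∈ insert a s, ((1 : B) ⊗ₜ[A] Function.update β a c k -
          Function.update β a c k ⊗ₜ[A] (1 : B)) = _
        rw [Finset.prod_insert ha, Function.update_self]
        congr 1
        refine Finset.prod_congr rfl fun k hk => ?_
        have hka : k ≠ a := fun h => ha (by rw [← h]; exact hk)
        rw [Function.update_of_ne hka]
      · rw [zero_mul]; exact Submodule.zero_mem _
      · intro x y _ _ hx hy; rw [add_mul]; exact Submodule.add_mem _ hx hy
      · intro d x _ hx; rw [smul_mul_assoc]; exact Submodule.smul_mem _ d hx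
    have key2 : ∀ (x : B ⊗[A] B), x ∈ KaehlerDifferential.ideal A B → ∀ w : B ⊗[A] B,
        w ∈ Submodule.span B (Set.range fun β : ι' → B =>
          ∏ k ∈ s, ((1 : B) ⊗ₜ[A] β k - β k ⊗ₜ[A] (1 : B))) →
        x * w ∈
          Submodule.span B (Set.range fun β : ι' → B =>
            ∏ k ∈ insert a s, ((1 : B) ⊗ₜ[A] β k - β k ⊗ₜ[A] (1 : B))) ⊔
          (KaehlerDifferential.ideal A B ^ (s.card + 1 + 1)).restrictScalars B := by
      intro x hx w hw
      have hx' : x ∈ Submodule.span B (Set.range fun s : B =>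
          (1 : B) ⊗ₜ[A] s - s ⊗ₜ[A] (1 : B)) := by
        rw [KaehlerDifferential.submodule_span_range_eq_ideal]; exact hx
      refine Submodule.span_induction ?_ ?_ ?_ ?_ hw
      · rintro _ ⟨β, rfl⟩
        exact key1 β x hx'
      · rw [mul_zero]; exact Submodule.zero_mem _
      · intro w w' _ _ hw hw'; rw [mul_add]; exact Submodule.add_mem _ hw hw'
      · intro d w _ hw; rw [mul_smul_comm]; exact Submodule.smul_mem _ d hw
    refine Submodule.mul_induction_on ht' ?_ ?_
    · intro x hx y hy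
      obtain ⟨w, hw, e, he, rfl⟩ := Submodule.mem_sup.1 (ih hy)
      rw [mul_add]
      refine Submodule.add_mem _ (key2 x hx w hw) ?_
      refine Submodule.mem_sup_right ?_
      show x * e ∈ KaehlerDifferential.ideal A B ^ (s.card + 1 + 1)
      rw [pow_succ' _ (s.card + 1)]
      exact Ideal.mul_mem_mul hx he
    · intro x y hx hy
      exact Submodule.add_mem _ hx hy

end span

end Groth.Agent.Lib.helper6
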