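import Mathlib
import Groth.Prelude.Def_PP16
import Groth.Prelude.Def_DiffOp
import Groth.Agent.Lib.helper6.PP16Char0A
import Groth.Agent.Lib.helper1.DiffOp

set_option autoImplicit false
set_option linter.style.haveILetI false

namespace Groth.Agent.Lib.helper6
open scoped TensorProduct
open PP16 Diff16

universe u

section surj

variable (A B : Type u) [CommRing A] [CommRing B] [Algebra A B]
variable (L : KaehlerDifferential A B →ₗ[B] B ⊗[A] B)
  (hL : ∀ ω, L ω ∈ KaehlerDifferential.ideal A B) (ι' : Type u) [Fintype ι']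

theorem H6_gPhi_surjective
    (hLD : ∀ x : B, L (KaehlerDifferential.D A B x) - ((1 : B) ⊗ₜ[A] x - x ⊗ₜ[A] (1 : B)) ∈
      KaehlerDifferential.ideal A B ^ 2) :
    Function.Surjective (H6_gPhi A B L hL ι') := by
  classical
  intro y
  obtain ⟨⟨t, ht⟩, rfl⟩ := Submodule.Quotient.mk_surjective _ y
  have ht' : t ∈ (KaehlerDifferential.ideal A B ^
      (Finset.univ : Finset ι').card).restrictScalars B := by
    rw [Finset.card_univ]; exact ht
  obtain ⟨w, hw, e, he, hwe⟩ := Submodule.mem_sup.1 (H6_pow_le_span_prod A B ι' Finset.univ ht')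
  rw [Finset.card_univ] at he
  obtain ⟨c, hc⟩ := Finsupp.mem_span_range_iff_exists_finsupp.1 hw
  have hP : ∀ β : ι' → B, ∏ k, ((1 : B) ⊗ₜ[A] β k - β k ⊗ₜ[A] (1 : B)) ∈
      (KaehlerDifferential.ideal A B ^ Fintype.card ι').restrictScalars B := by
    intro β
    show _ ∈ KaehlerDifferential.ideal A B ^ Fintype.card ι'
    simpa using PP16.prod_mem_pow (KaehlerDifferential.ideal A B) Finset.univ
      (fun i => (1 : B) ⊗ₜ[A] β i - β i ⊗ₜ[A] (1 : B))
      (fun i _ => KaehlerDifferential.one_smul_sub_smul_one_mem_ideal A (β i))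
  have hzp : ∀ β : ι' → B, zetaProd A B β =
      (Submodule.mkQ _ (⟨_, hP β⟩ : ↥((KaehlerDifferential.ideal A B ^
        Fintype.card ι').restrictScalars B)) : grI A B (Fintype.card ι')) := fun β => rfl
  refine ⟨c.sum (fun β a => a • SymmetricPower.tprod B
    (fun k => KaehlerDifferential.D A B (β k))), ?_⟩
  rw [map_finsuppSum]
  simp_rw [map_smul, H6_gPhi_D A B L hL ι' hLD, hzp]
  symm
  rw [Finsupp.sum]
  show (Submodule.mkQ _ (⟨t, ht⟩ : ↥((KaehlerDifferential.ideal A B ^
    Fintype.card ι').restrictScalars B)) : grI A B (Fintype.card ι')) = _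
  rw [H6_gr_sub_sum_eq_zero_iff]
  have h2 : ∑ β ∈ c.support, (c β ⊗ₜ[A] (1 : B)) *
      ∏ k, ((1 : B) ⊗ₜ[A] β k - β k ⊗ₜ[A] (1 : B)) = w := by
    rw [← hc, Finsupp.sum]
    refine Finset.sum_congr rfl fun β _ => ?_
    rw [Algebra.smul_def, Algebra.TensorProduct.algebraMap_apply]
    rfl
  show t - ∑ β ∈ c.support, (c β ⊗ₜ[A] (1 : B)) *
      ∏ k, ((1 : B) ⊗ₜ[A] β k - β k ⊗ₜ[A] (1 : B)) ∈ _
  rw [h2, ← hwe, add_sub_cancel_left]
  exact he

end surj

section generic

/-- monomial Leibniz rule modulo `I^|p|` for an additive map with the Leibniz property. -/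
lemma H6_leibniz_monomial {R : Type*} [CommRing R] (I : Ideal R) (δ : R →+ R)
    (hδ1 : δ 1 = 0) (hδ : ∀ x y, δ (x * y) = x * δ y + y * δ x)
    {ι : Type*} [Fintype ι] [DecidableEq ι] (ξ : ι → R) (hξ : ∀ j, ξ j ∈ I) (i : ι)
    (hpair : ∀ j, δ (ξ j) - (if j = i then 1 else 0) ∈ I) :
    ∀ p : ι → ℕ, δ (∏ j, ξ j ^ p j) - p i • ∏ j, ξ j ^ (p - Pi.single i 1 : ι → ℕ) j ∈
      I ^ (∑ j, p j) := by
  have hmon : ∀ p : ι → ℕ, ∏ j, ξ j ^ p j ∈ I ^ (∑ j, p j) := by
    intro p
    rw [← Finset.prod_pow_eq_pow_sum]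
    exact Ideal.prod_mem_prod fun j _ => Ideal.pow_mem_pow (hξ j) _
  intro p
  induction p using H6_pi_induction with
  | h0 =>
    simp only [Pi.zero_apply, pow_zero, Finset.prod_const_one, hδ1, zero_smul, sub_zero]
    exact Ideal.zero_mem _
  | hs p j ih =>
    rw [H6_prod_single (B := R) ξ p j, hδ, H6_sum_add_single, pow_succ]
    set r := δ (∏ j, ξ j ^ p j) - p i • ∏ j, ξ j ^ (p - Pi.single i 1 : ι → ℕ) j with hr
    set r' := δ (ξ j) - (if j = i then 1 else 0) with hr'
    have e1 : δ (∏ j, ξ j ^ p j) = p i • ∏ j, ξ j ^ (p - Pi.single i 1 : ι → ℕ) j + r := by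
      rw [hr]; abel
    have e2 : δ (ξ j) = (if j = i then 1 else 0) + r' := by rw [hr']; abel
    have hmain : ξ j * (p i • ∏ j, ξ j ^ (p - Pi.single i 1 : ι → ℕ) j) +
        (∏ j, ξ j ^ p j) * (if j = i then 1 else 0) =
        (p + Pi.single j 1 : ι → ℕ) i •
          ∏ l, ξ l ^ (p + Pi.single j 1 - Pi.single i 1 : ι → ℕ) l := by
      by_cases hji : j = i
      · subst hji
        rw [if_pos rfl, mul_one]
        have e3 : (p + Pi.single j 1 - Pi.single j 1 : ι → ℕ) = p := by
          funext l; simp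
        rw [e3]
        by_cases hp : p j = 0
        · rw [hp, zero_smul, mul_zero, zero_add]
          simp [hp]
        · have e4 : (p - Pi.single j 1 + Pi.single j 1 : ι → ℕ) = p := by
            funext l
            by_cases hl : l = j
            · subst hl; simp; omega
            · simp [Pi.single_eq_of_ne hl]
          have e5 : ξ j * ∏ l, ξ l ^ (p - Pi.single j 1 : ι → ℕ) l = ∏ l, ξ l ^ p l := by
            rw [← H6_prod_single (B := R) ξ (p - Pi.single j 1) j, e4]
          rw [mul_smul_comm, e5]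
          simp only [Pi.add_apply, Pi.single_eq_same]
          rw [add_smul, one_smul]
      · rw [if_neg hji, mul_zero, add_zero]
        have e3 : (p + Pi.single j 1 - Pi.single i 1 : ι → ℕ) =
            (p - Pi.single i 1 + Pi.single j 1 : ι → ℕ) := by
          funext l
          by_cases hl : l = i
          · subst hl
            simp [Pi.single_eq_of_ne (Ne.symm hji)]
          · simp [Pi.single_eq_of_ne hl]
        rw [e3, H6_prod_single (B := R) ξ (p - Pi.single i 1) j, mul_smul_comm]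
        simp [Pi.single_eq_of_ne (Ne.symm hji)]
    have e6 : ξ j * δ (∏ j, ξ j ^ p j) + (∏ j, ξ j ^ p j) * δ (ξ j) -
        (p + Pi.single j 1 : ι → ℕ) i •
          ∏ l, ξ l ^ (p + Pi.single j 1 - Pi.single i 1 : ι → ℕ) l =
        ξ j * r + (∏ j, ξ j ^ p j) * r' := by
      rw [← hmain, e1, e2]; ring
    rw [e6]
    refine Ideal.add_mem _ ?_ ?_
    · rw [mul_comm (ξ j) r]
      exact Ideal.mul_mem_mul ih (hξ j)
    · exact Ideal.mul_mem_mul (hmon p) (hpair j)

end generic

end Groth.Agent.Lib.helper6
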