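import Mathlib
import Groth.Prelude.Def_PP16
import Groth.Prelude.Def_DiffOp
import Groth.Agent.Lib.helper6.PP16Char0B

set_option autoImplicit false
set_option linter.style.haveILetI false

namespace Groth.Agent.Lib.helper6
open scoped TensorProduct
open PP16 Diff16

universe u

section deriv

variable (A B : Type u) [CommRing A] [CommRing B] [Algebra A B] (d : Derivation A B B)

/-- `id ⊗ ∂` on `B ⊗ B`. -/
noncomputable def H6_d2 : B ⊗[A] B →ₗ[A] B ⊗[A] B := LinearMap.lTensor B (d : B →ₗ[A] B)

lemma H6_d2_tmul (b c : B) : H6_d2 A B d (b ⊗ₜ[A] c) = b ⊗ₜ[A] d c := by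
  unfold H6_d2
  rw [LinearMap.lTensor_tmul]
  rfl

lemma H6_d2_mul (t t' : B ⊗[A] B) :
    H6_d2 A B d (t * t') = t * H6_d2 A B d t' + t' * H6_d2 A B d t := by
  induction t using TensorProduct.induction_on with
  | zero => simp
  | tmul b c =>
    induction t' using TensorProduct.induction_on with
    | zero => simp
    | tmul b' c' =>
      rw [Algebra.TensorProduct.tmul_mul_tmul, H6_d2_tmul, H6_d2_tmul, H6_d2_tmul,
        Algebra.TensorProduct.tmul_mul_tmul, Algebra.TensorProduct.tmul_mul_tmul, d.leibniz,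
        TensorProduct.tmul_add, smul_eq_mul, smul_eq_mul, mul_comm b' b]
    | add x y hx hy =>
      rw [mul_add, map_add, hx, hy, map_add, mul_add, add_mul]
      abel
  | add x y hx hy =>
    rw [add_mul, map_add, hx, hy, map_add, mul_add, add_mul]
    abel

lemma H6_d2_one : H6_d2 A B d 1 = 0 := by
  rw [Algebra.TensorProduct.one_def, H6_d2_tmul, d.map_one_eq_zero, TensorProduct.tmul_zero]

lemma H6_lam_comp_deriv (E : B →ₗ[A] B) (t : B ⊗[A] B) :
    H6_lam A B B B (E ∘ₗ (d : B →ₗ[A] B)) t 1 = H6_lam A B B B E (H6_d2 A B d t) 1 := by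
  induction t using TensorProduct.induction_on with
  | zero => simp
  | tmul b c =>
    rw [H6_d2_tmul, H6_lam_tmul, H6_lam_tmul]
    show b • E (d (c • (1 : B))) = b • E (d c • (1 : B))
    rw [smul_eq_mul c, mul_one, smul_eq_mul (d c), mul_one]
  | add x y hx hy =>
    rw [map_add, LinearMap.add_apply, hx, hy, map_add, map_add, LinearMap.add_apply]

lemma H6_lmul_d2 (t : B ⊗[A] B) :
    Algebra.TensorProduct.lmul' A (H6_d2 A B d t) = d.tensorProductTo t := by
  induction t using TensorProduct.induction_on with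
  | zero => simp
  | tmul b c =>
    rw [H6_d2_tmul, Algebra.TensorProduct.lmul'_apply_tmul, Derivation.tensorProductTo_tmul,
      smul_eq_mul]
  | add x y hx hy => rw [map_add, map_add, hx, hy, map_add]

lemma H6_derivation_order (d : Derivation A B B) : IsDiffOpLE A B B B 1 (d : B →ₗ[A] B) := by
  intro b b' m
  rw [H6_commutator_apply, H6_commutator_apply]
  show d (b • (b' • m)) - b • d (b' • m) = b' • (d (b • m) - b • d m)
  simp only [smul_eq_mul, d.leibniz]
  ring

lemma H6_tensorProductTo_compDer (f : KaehlerDifferential A B →ₗ[B] B) (t : B ⊗[A] B) :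
    (f.compDer (KaehlerDifferential.D A B)).tensorProductTo t =
      f ((KaehlerDifferential.D A B).tensorProductTo t) := by
  induction t using TensorProduct.induction_on with
  | zero => simp
  | tmul b c =>
    rw [Derivation.tensorProductTo_tmul, Derivation.tensorProductTo_tmul, map_smul]
    rfl
  | add x y hx hy => rw [map_add, map_add, hx, hy, map_add]

lemma H6_pairing (f : KaehlerDifferential A B →ₗ[B] B) (ξ : B ⊗[A] B)
    (hξ : ξ ∈ KaehlerDifferential.ideal A B) :
    Algebra.TensorProduct.lmul' A (H6_d2 A B (f.compDer (KaehlerDifferential.D A B)) ξ) =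
      f ((KaehlerDifferential.ideal A B).toCotangent ⟨ξ, hξ⟩) := by
  rw [H6_lmul_d2, H6_tensorProductTo_compDer]
  congr 1
  exact KaehlerDifferential.D_tensorProductTo (⟨ξ, hξ⟩ : KaehlerDifferential.ideal A B)

end deriv

section exist

variable (A B : Type u) [CommRing A] [CommRing B] [Algebra A B]
variable {ι : Type} [Fintype ι] [DecidableEq ι] (d : ι → Derivation A B B) (ξ : ι → B ⊗[A] B)
  (hξ : ∀ j, ξ j ∈ KaehlerDifferential.ideal A B)
  (hpair : ∀ i j, Algebra.TensorProduct.lmul' A (H6_d2 A B (d i) (ξ j)) = if i = j then 1 else 0)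

include hξ hpair in
lemma H6_lam_comp_monomial (i : ι) (n : ℕ) (E : B →ₗ[A] B) (hE : IsDiffOpLE A B B B n E)
    (p : ι → ℕ) (hp : ∑ j, p j = n + 1) :
    H6_lam A B B B (E ∘ₗ (d i : B →ₗ[A] B)) (∏ j, ξ j ^ p j) 1 =
      p i • H6_lam A B B B E (∏ j, ξ j ^ (p - Pi.single i 1 : ι → ℕ) j) 1 := by
  rw [H6_lam_comp_deriv]
  have hpair' : ∀ j, (H6_d2 A B (d i)).toAddMonoidHom (ξ j) - (if j = i then 1 else 0) ∈
      KaehlerDifferential.ideal A B := by
    intro j
    show Algebra.TensorProduct.lmul' A (H6_d2 A B (d i) (ξ j) - (if j = i then 1 else 0)) = 0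
    rw [map_sub, hpair i j]
    by_cases hji : j = i
    · rw [if_pos hji, if_pos hji.symm, map_one, sub_self]
    · rw [if_neg hji, if_neg (Ne.symm hji), map_zero, sub_self]
  have h1 := H6_leibniz_monomial (KaehlerDifferential.ideal A B) (H6_d2 A B (d i)).toAddMonoidHom
    (H6_d2_one A B (d i)) (H6_d2_mul A B (d i)) ξ hξ i hpair' p
  rw [hp] at h1
  have h2 := (H6_isDiffOpLE_iff A B B B n E).1 hE _ h1
  have h3 : H6_lam A B B B E ((H6_d2 A B (d i)) (∏ j, ξ j ^ p j) -
      p i • ∏ j, ξ j ^ (p - Pi.single i 1 : ι → ℕ) j) 1 = 0 := by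
    have : (H6_d2 A B (d i)).toAddMonoidHom (∏ j, ξ j ^ p j) =
        H6_d2 A B (d i) (∏ j, ξ j ^ p j) := rfl
    rw [← this, h2]; rfl
  rw [map_sub, LinearMap.sub_apply, sub_eq_zero, map_nsmul, LinearMap.smul_apply] at h3
  exact h3

include hξ hpair in
theorem H6_exists_op_monomial : ∀ q : ι → ℕ, ∃ (E : B →ₗ[A] B) (N : ℕ), N ≠ 0 ∧
    IsDiffOpLE A B B B (∑ j, q j) E ∧
    ∀ p : ι → ℕ, ∑ j, p j = ∑ j, q j →
      H6_lam A B B B E (∏ j, ξ j ^ p j) 1 = (N : B) * (if p = q then 1 else 0) := by
  intro q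
  induction q using H6_pi_induction with
  | h0 =>
    refine ⟨LinearMap.id, 1, one_ne_zero, ?_, ?_⟩
    · have h0 : ∑ j, (0 : ι → ℕ) j = 0 := by simp
      rw [h0]
      intro b m; rfl
    · intro p hp
      have hp0 : p = 0 := by
        funext j
        have h1 : ∑ j, p j = 0 := by rw [hp]; simp
        exact (Finset.sum_eq_zero_iff.1 h1) j (Finset.mem_univ j)
      subst hp0
      simp only [Pi.zero_apply, pow_zero, Finset.prod_const_one, if_true, Nat.cast_one, mul_one]
      rw [Algebra.TensorProduct.one_def, H6_lam_tmul]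
      simp
  | hs q i ih =>
    obtain ⟨E, N, hN, hE, hval⟩ := ih
    refine ⟨E ∘ₗ (d i : B →ₗ[A] B), (q i + 1) * N, Nat.mul_ne_zero (Nat.succ_ne_zero _) hN, ?_, ?_⟩
    · rw [H6_sum_add_single, add_comm]
      exact Groth.Agent.H1.H1_isDiffOpLE_comp 1 _ _ _ (H6_derivation_order A B (d i)) hE
    · intro p hp
      rw [H6_sum_add_single] at hp
      rw [H6_lam_comp_monomial A B d ξ hξ hpair i _ E hE p hp]
      by_cases hpi : p i = 0
      · rw [hpi, zero_smul, if_neg, mul_zero]
        intro h
        have := congrFun h i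
        simp at this
        omega
      · have hpi' : 1 ≤ p i := Nat.one_le_iff_ne_zero.2 hpi
        have hsum : ∑ j, (p - Pi.single i 1 : ι → ℕ) j = ∑ j, q j := by
          have := H6_sum_sub_single p i hpi'
          omega
        rw [hval _ hsum]
        by_cases hpq : p = q + Pi.single i 1
        · have h1 : (p - Pi.single i 1 : ι → ℕ) = q := by
            rw [hpq]; funext j; simp
          rw [if_pos hpq, if_pos h1, mul_one, mul_one]
          have : p i = q i + 1 := by rw [hpq]; simp
          rw [this, nsmul_eq_mul, Nat.cast_mul]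
        · rw [if_neg hpq, if_neg, mul_zero, smul_zero, mul_zero]
          intro h1
          apply hpq
          rw [← h1]
          funext j
          by_cases hj : j = i
          · subst hj; simp; omega
          · simp [Pi.single_eq_of_ne hj]

end exist

end Groth.Agent.Lib.helper6
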