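import Mathlib
import Groth.Prelude.Def_PP16
import Groth.Prelude.Def_DiffOp
import Groth.Agent.Lib.helper6.PP16Char0C

set_option autoImplicit false
set_option linter.style.haveILetI false

namespace Groth.Agent.Lib.helper6
open scoped TensorProduct
open PP16 Diff16

universe u v w

section sym

variable {R : Type u} [CommRing R] {ι' : Type u} [Fintype ι'] {M : Type v} [AddCommGroup M]
  [Module R M] {ι : Type} [Fintype ι] [DecidableEq ι]

lemma H6_sym_sum_eq_zero_of_indep [DecidableEq ι'] {N : Type w} [AddCommGroup N] [Module R N]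
    (v : ι → M) (φ : SymmetricPower R ι' M →ₗ[R] N) (y : (ι → ℕ) → N)
    (hφ : ∀ s : ι' → ι, φ (SymmetricPower.tprod R (fun k => v (s k))) = y (H6_count s))
    (hy : ∀ (𝒮 : Finset (ι → ℕ)) (c : (ι → ℕ) → R), (∀ p ∈ 𝒮, ∑ i, p i = Fintype.card ι') →
      ∑ p ∈ 𝒮, c p • y p = 0 → ∀ p ∈ 𝒮, c p = 0)
    (c : (ι' → ι) → R)
    (hx : φ (∑ s : ι' → ι, c s • SymmetricPower.tprod R (fun k => v (s k))) = 0) :
    ∑ s : ι' → ι, c s • SymmetricPower.tprod R (fun k => v (s k)) = 0 := by
  rw [map_sum] at hx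
  simp_rw [map_smul, hφ] at hx
  let 𝒮 : Finset (ι → ℕ) := Finset.univ.image (H6_count (ι' := ι') (ι := ι))
  have hmaps : ∀ s ∈ (Finset.univ : Finset (ι' → ι)), H6_count s ∈ 𝒮 :=
    fun s _ => Finset.mem_image_of_mem _ (Finset.mem_univ s)
  have h1 : ∑ s : ι' → ι, c s • y (H6_count s) =
      ∑ p ∈ 𝒮, (∑ s ∈ Finset.univ.filter (fun s : ι' → ι => H6_count s = p), c s) • y p := by
    rw [← Finset.sum_fiberwise_of_maps_to hmaps]
    refine Finset.sum_congr rfl fun p _ => ?_
    rw [Finset.sum_smul]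
    refine Finset.sum_congr rfl fun s hs => ?_
    rw [(Finset.mem_filter.1 hs).2]
  rw [h1] at hx
  have h2 := hy 𝒮 _ (fun p hp => by
    obtain ⟨s, _, rfl⟩ := Finset.mem_image.1 hp
    exact H6_sum_count s) hx
  rw [← Finset.sum_fiberwise_of_maps_to hmaps]
  refine Finset.sum_eq_zero fun p hp => ?_
  obtain ⟨s₀, _, hs₀⟩ := Finset.mem_image.1 hp
  have h3 : ∀ s ∈ Finset.univ.filter (fun s : ι' → ι => H6_count s = p),
      c s • SymmetricPower.tprod R (fun k => v (s k)) =
        c s • SymmetricPower.tprod R (fun k => v (s₀ k)) := by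
    intro s hs
    rw [H6_tprod_eq_of_count (fun i => v i) s s₀ ((Finset.mem_filter.1 hs).2.trans hs₀.symm)]
  rw [Finset.sum_congr rfl h3, ← Finset.sum_smul, h2 p hp, zero_smul]

lemma H6_sym_span_basis' {J : Type*} (b : Module.Basis J R M) :
    Submodule.span R (Set.range fun s : ι' → J => SymmetricPower.tprod R (fun k => b (s k))) =
      ⊤ := by
  classical
  rw [eq_top_iff, ← SymmetricPower.span_tprod_eq_top, Submodule.span_le]
  rintro _ ⟨f, rfl⟩
  have h1 : f = fun k => ∑ j ∈ (b.repr (f k)).support, b.repr (f k) j • b j := by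
    funext k
    conv_lhs => rw [← b.linearCombination_repr (f k), Finsupp.linearCombination_apply,
      Finsupp.sum]
  rw [h1, MultilinearMap.map_sum_finset]
  refine Submodule.sum_mem _ fun s _ => ?_
  rw [MultilinearMap.map_smul_univ]
  exact Submodule.smul_mem _ _ (Submodule.subset_span ⟨s, rfl⟩)

lemma H6_sym_exists_finite_coeff [DecidableEq ι'] {J : Type*} (b : Module.Basis J R M)
    (x : SymmetricPower R ι' M) :
    ∃ (m : ℕ) (g : Fin m → J), Function.Injective g ∧ ∃ c : (ι' → Fin m) → R,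
      x = ∑ s : ι' → Fin m, c s • SymmetricPower.tprod R (fun k => b (g (s k))) := by
  classical
  have hx : x ∈ Submodule.span R
      (Set.range fun s : ι' → J => SymmetricPower.tprod R (fun k => b (s k))) := by
    rw [H6_sym_span_basis']; trivial
  obtain ⟨c, hc⟩ := Finsupp.mem_span_range_iff_exists_finsupp.1 hx
  let J₀ : Finset J := c.support.biUnion (fun s => Finset.univ.image s)
  let e := J₀.equivFin
  let comp : (ι' → Fin J₀.card) → (ι' → J) := fun s'' k => (e.symm (s'' k)).1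
  have hinj : Function.Injective comp := by
    intro s t h
    funext k
    have := congrFun h k
    exact e.symm.injective (Subtype.ext this)
  refine ⟨J₀.card, fun i => (e.symm i).1, ?_, fun s'' => c (comp s''), ?_⟩
  · intro i i' h
    exact e.symm.injective (Subtype.ext h)
  · rw [← hc, Finsupp.sum]
    have h1 : ∑ s'' : ι' → Fin J₀.card, c (comp s'') •
        SymmetricPower.tprod R (fun k => b ((e.symm (s'' k)).1)) =
        ∑ s ∈ Finset.univ.image comp, c s • SymmetricPower.tprod R (fun k => b (s k)) := by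
      rw [Finset.sum_image hinj.injOn]
    rw [h1]
    refine Finset.sum_subset ?_ ?_
    · intro s hs
      rw [Finset.mem_image]
      have hmem : ∀ k, s k ∈ J₀ := by
        intro k
        rw [Finset.mem_biUnion]
        exact ⟨s, hs, Finset.mem_image_of_mem _ (Finset.mem_univ k)⟩
      refine ⟨fun k => e ⟨s k, hmem k⟩, Finset.mem_univ _, ?_⟩
      funext k
      show (e.symm (e ⟨s k, hmem k⟩)).1 = s k
      rw [Equiv.symm_apply_apply]
    · intro s _ hns
      rw [Finsupp.notMem_support_iff.1 hns, zero_smul]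

end sym

section inj

variable (A B : Type u) [CommRing A] [CommRing B] [Algebra A B]
variable {ι : Type} [Fintype ι] [DecidableEq ι] (ξ : ι → B ⊗[A] B)
  (hξ : ∀ j, ξ j ∈ KaehlerDifferential.ideal A B)

include hξ in
lemma H6_xi_monomial_mem (p : ι → ℕ) :
    ∏ j, ξ j ^ p j ∈ KaehlerDifferential.ideal A B ^ (∑ j, p j) := by
  rw [← Finset.prod_pow_eq_pow_sum]
  exact Ideal.prod_mem_prod fun j _ => Ideal.pow_mem_pow (hξ j) _

/-- `ξ^p` as an element of `I^n` (zero when `|p| ≠ n`). -/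
noncomputable def H6_xiT (n : ℕ) (p : ι → ℕ) :
    ↥((KaehlerDifferential.ideal A B ^ n).restrictScalars B) :=
  if h : ∑ i, p i = n then ⟨∏ j, ξ j ^ p j, by
    show ∏ j, ξ j ^ p j ∈ KaehlerDifferential.ideal A B ^ n
    rw [← h]; exact H6_xi_monomial_mem A B ξ hξ p⟩ else 0

lemma H6_xiT_val (n : ℕ) (p : ι → ℕ) (h : ∑ i, p i = n) :
    (H6_xiT A B ξ hξ n p).1 = ∏ j, ξ j ^ p j := by
  unfold H6_xiT
  rw [dif_pos h]

end inj

section main

variable (A B : Type u) [CommRing A] [CommRing B] [Algebra A B] [Algebra ℚ B]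
variable (L : KaehlerDifferential A B →ₗ[B] B ⊗[A] B)
  (hL : ∀ ω, L ω ∈ KaehlerDifferential.ideal A B)
  (hsec : ∀ ω, (KaehlerDifferential.ideal A B).toCotangent ⟨L ω, hL ω⟩ = ω)
  (ι' : Type u) [Fintype ι']

include hsec in
theorem H6_gPhi_injective_of_free {J : Type*} (b : Module.Basis J B (KaehlerDifferential A B)) :
    Function.Injective (H6_gPhi A B L hL ι') := by
  classical
  rw [injective_iff_map_eq_zero]
  intro x hx
  obtain ⟨m, g, hg, c, rfl⟩ := H6_sym_exists_finite_coeff b x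
  let v : Fin m → KaehlerDifferential A B := fun i => b (g i)
  let ξ : Fin m → B ⊗[A] B := fun i => L (v i)
  let d : Fin m → Derivation A B B := fun i => (b.coord (g i)).compDer (KaehlerDifferential.D A B)
  have hξ : ∀ j, ξ j ∈ KaehlerDifferential.ideal A B := fun j => hL _
  have hpair : ∀ i j, Algebra.TensorProduct.lmul' A (H6_d2 A B (d i) (ξ j)) =
      if i = j then 1 else 0 := by
    intro i j
    rw [H6_pairing A B (b.coord (g i)) (ξ j) (hξ j)]
    have : (KaehlerDifferential.ideal A B).toCotangent ⟨ξ j, hξ j⟩ = b (g j) := hsec (v j)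
    rw [this, Module.Basis.coord_apply, Module.Basis.repr_self, Finsupp.single_apply]
    by_cases hij : i = j
    · subst hij; rw [if_pos rfl, if_pos rfl]
    · rw [if_neg hij, if_neg]
      intro h
      exact hij (hg h).symm
  set n := Fintype.card ι' with hn
  refine H6_sym_sum_eq_zero_of_indep v (H6_gPhi A B L hL ι')
    (fun p => (Submodule.mkQ _ (H6_xiT A B ξ hξ n p) : grI A B n)) ?_ ?_ c hx
  · intro s
    rw [H6_gPhi_tprod]
    congr 1
    apply Subtype.ext
    rw [H6_xiT_val A B ξ hξ n _ (H6_sum_count s)]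
    exact H6_prod_comp_count s ξ
  · intro 𝒮 cc h𝒮 hsum q hq
    have h0 : (Submodule.mkQ _ (0 : ↥((KaehlerDifferential.ideal A B ^ n).restrictScalars B)) :
        grI A B n) = ∑ p ∈ 𝒮, cc p • (Submodule.mkQ _ (H6_xiT A B ξ hξ n p) : grI A B n) := by
      rw [map_zero]; exact hsum.symm
    rw [H6_gr_sub_sum_eq_zero_iff] at h0
    have h1 : ∑ p ∈ 𝒮, (cc p ⊗ₜ[A] (1 : B)) * ∏ j, ξ j ^ p j ∈
        KaehlerDifferential.ideal A B ^ (n + 1) := by
      have h2 : ∑ p ∈ 𝒮, (cc p ⊗ₜ[A] (1 : B)) * (H6_xiT A B ξ hξ n p).1 =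
          ∑ p ∈ 𝒮, (cc p ⊗ₜ[A] (1 : B)) * ∏ j, ξ j ^ p j :=
        Finset.sum_congr rfl fun p hp => by rw [H6_xiT_val A B ξ hξ n p (h𝒮 p hp)]
      rw [← h2]
      have := Ideal.neg_mem_iff _ |>.2 h0
      simpa using this
    obtain ⟨E, N, hN, hE, hval⟩ := H6_exists_op_monomial A B d ξ hξ hpair q
    rw [h𝒮 q hq] at hE
    have h3 := (H6_isDiffOpLE_iff A B B B n E).1 hE _ h1
    have h4 : H6_lam A B B B E (∑ p ∈ 𝒮, (cc p ⊗ₜ[A] (1 : B)) * ∏ j, ξ j ^ p j) 1 = 0 := by
      rw [h3]; rfl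
    rw [map_sum, LinearMap.sum_apply] at h4
    have h5 : ∀ p ∈ 𝒮, H6_lam A B B B E ((cc p ⊗ₜ[A] (1 : B)) * ∏ j, ξ j ^ p j) 1 =
        cc p * ((N : B) * (if p = q then 1 else 0)) := by
      intro p hp
      rw [H6_lam_left, hval p ((h𝒮 p hp).trans (h𝒮 q hq).symm), smul_eq_mul]
    rw [Finset.sum_congr rfl h5] at h4
    simp_rw [mul_ite, mul_one, mul_zero] at h4
    rw [Finset.sum_ite_eq' 𝒮 q, if_pos hq] at h4
    have hunit : IsUnit ((N : ℕ) : B) := by
      have : IsUnit ((N : ℚ)) := isUnit_iff_ne_zero.2 (Nat.cast_ne_zero.2 hN)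
      have h := this.map (algebraMap ℚ B)
      rwa [map_natCast] at h
    exact (hunit.mul_left_eq_zero).1 h4

end main

end Groth.Agent.Lib.helper6
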