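import Mathlib
import Groth.Prelude.Def_PP16
import Groth.Prelude.Def_DiffOp
import Groth.Agent.Lib.helper6.PP16Diff

set_option autoImplicit false
set_option linter.style.haveILetI false

namespace Groth.Agent.Lib.helper6
open PP16 Diff16
open scoped TensorProduct

universe u

section

variable (n : ℕ) (A B : Type u) [CommRing A] [CommRing B] [Algebra A B]
    (M N : Type u) [AddCommGroup M] [Module A M] [Module B M] [IsScalarTower A B M]
    [AddCommGroup N] [Module A N] [Module B N] [IsScalarTower A B N]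

/-- descent of `λ_D` to `P^n`. -/
noncomputable def H6_lamBar (D : M →ₗ[A] N)
    (h : ∀ t ∈ KaehlerDifferential.ideal A B ^ (n + 1), H6_lam A B M N D t = 0) :
    P n A B →+ (M →ₗ[A] N) :=
  (Ideal.Quotient.mk (KaehlerDifferential.ideal A B ^ (n + 1))).toAddMonoidHom.liftOfRightInverse
    (Function.surjInv Ideal.Quotient.mk_surjective)
    (Function.rightInverse_surjInv Ideal.Quotient.mk_surjective)
    ⟨(H6_lam A B M N D).toAddMonoidHom, fun t ht => by
      rw [AddMonoidHom.mem_ker] at ht ⊢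
      exact h t (Ideal.Quotient.eq_zero_iff_mem.1 ht)⟩

lemma H6_lamBar_mk (D : M →ₗ[A] N)
    (h : ∀ t ∈ KaehlerDifferential.ideal A B ^ (n + 1), H6_lam A B M N D t = 0) (t : B ⊗[A] B) :
    H6_lamBar n A B M N D h (Ideal.Quotient.mk _ t) = H6_lam A B M N D t :=
  AddMonoidHom.liftOfRightInverse_comp_apply _ _ _ _ t

/-- the map `u : P^n(M) → N`. -/
noncomputable def H6_u (D : M →ₗ[A] N)
    (h : ∀ t ∈ KaehlerDifferential.ideal A B ^ (n + 1), H6_lam A B M N D t = 0) :
    PM n A B M →+ N :=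
  TensorProduct.liftAddHom
    (AddMonoidHom.mk' (fun x : Pr n A B =>
      ((H6_lamBar n A B M N D h (show P n A B from x) : M →ₗ[A] N).toAddMonoidHom))
      (by
        intro x y; ext m
        exact congrArg (fun f : M →ₗ[A] N => f m) (map_add (H6_lamBar n A B M N D h)
          (show P n A B from x) (show P n A B from y))))
    (by
      intro b x m
      obtain ⟨t, rfl⟩ := Ideal.Quotient.mk_surjective (show P n A B from x)
      show H6_lamBar n A B M N D h (Ideal.Quotient.mk _ ((1 : B) ⊗ₜ[A] b) * Ideal.Quotient.mk _ t) m =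
        H6_lamBar n A B M N D h (Ideal.Quotient.mk _ t) (b • m)
      rw [← map_mul, H6_lamBar_mk, H6_lamBar_mk, H6_lam_right])

lemma H6_u_tmul (D : M →ₗ[A] N)
    (h : ∀ t ∈ KaehlerDifferential.ideal A B ^ (n + 1), H6_lam A B M N D t = 0)
    (t : B ⊗[A] B) (m : M) :
    H6_u n A B M N D h
      ((show Pr n A B from (Ideal.Quotient.mk (KaehlerDifferential.ideal A B ^ (n + 1)) t)) ⊗ₜ[B] m) =
      H6_lam A B M N D t m := by
  unfold H6_u
  rw [TensorProduct.liftAddHom_tmul]
  show H6_lamBar n A B M N D h (Ideal.Quotient.mk _ t) m = _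
  rw [H6_lamBar_mk]

/-- every element of `Pr` is `mk t`. -/
lemma H6_Pr_surj (x : Pr n A B) :
    ∃ t : B ⊗[A] B, x = (show Pr n A B from
      (Ideal.Quotient.mk (KaehlerDifferential.ideal A B ^ (n + 1)) t)) := by
  obtain ⟨t, ht⟩ := Ideal.Quotient.mk_surjective (show P n A B from x)
  exact ⟨t, ht.symm⟩

lemma H6_smul_tmul_mk (b : B) (t : B ⊗[A] B) (m : M) :
    algebraMap B (P n A B) b •
      ((show Pr n A B from (Ideal.Quotient.mk (KaehlerDifferential.ideal A B ^ (n + 1)) t)) ⊗ₜ[B] m) =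
      ((show Pr n A B from (Ideal.Quotient.mk (KaehlerDifferential.ideal A B ^ (n + 1))
        ((b ⊗ₜ[A] (1 : B)) * t))) ⊗ₜ[B] m) := by
  rw [TensorProduct.smul_tmul']
  congr 1

lemma H6_u_smul (D : M →ₗ[A] N)
    (h : ∀ t ∈ KaehlerDifferential.ideal A B ^ (n + 1), H6_lam A B M N D t = 0)
    (b : B) (t : PM n A B M) :
    H6_u n A B M N D h (algebraMap B (P n A B) b • t) = b • H6_u n A B M N D h t := by
  induction t using TensorProduct.induction_on with
  | zero => rw [smul_zero, map_zero, smul_zero]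
  | tmul x m =>
    obtain ⟨t, rfl⟩ := H6_Pr_surj n A B x
    rw [H6_smul_tmul_mk, H6_u_tmul, H6_u_tmul, H6_lam_left]
  | add x y hx hy => rw [smul_add, map_add, hx, hy, map_add, smul_add]

lemma H6_dM_eq (m : M) :
    dM n A B M m = (show Pr n A B from (Ideal.Quotient.mk (KaehlerDifferential.ideal A B ^ (n + 1))
      ((1 : B) ⊗ₜ[A] (1 : B)))) ⊗ₜ[B] m := rfl

lemma H6_u_dM (D : M →ₗ[A] N)
    (h : ∀ t ∈ KaehlerDifferential.ideal A B ^ (n + 1), H6_lam A B M N D t = 0) (m : M) :
    H6_u n A B M N D h (dM n A B M m) = D m := by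
  rw [H6_dM_eq, H6_u_tmul, H6_lam_tmul, one_smul, one_smul]

/-- any `u'` with the two properties is computed by `λ_D`. -/
lemma H6_u'_eq (D : M →ₗ[A] N) (u' : PM n A B M →+ N)
    (h1 : ∀ (b : B) (t : PM n A B M), u' (algebraMap B (P n A B) b • t) = b • u' t)
    (h2 : ∀ m : M, u' (dM n A B M m) = D m) (t : B ⊗[A] B) (m : M) :
    u' ((show Pr n A B from (Ideal.Quotient.mk (KaehlerDifferential.ideal A B ^ (n + 1)) t)) ⊗ₜ[B] m) =
      H6_lam A B M N D t m := by
  induction t using TensorProduct.induction_on with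
  | zero =>
    rw [map_zero, map_zero, LinearMap.zero_apply]
    have : (show Pr n A B from (0 : P n A B)) = 0 := rfl
    rw [this, TensorProduct.zero_tmul, map_zero]
  | tmul b c =>
    have e1 : ((show Pr n A B from (Ideal.Quotient.mk (KaehlerDifferential.ideal A B ^ (n + 1))
        (b ⊗ₜ[A] c))) ⊗ₜ[B] m) =
        algebraMap B (P n A B) b • dM n A B M (c • m) := by
      have e0 : c • (show Pr n A B from
          (Ideal.Quotient.mk (KaehlerDifferential.ideal A B ^ (n + 1)) (b ⊗ₜ[A] (1 : B)))) =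
          (show Pr n A B from
            (Ideal.Quotient.mk (KaehlerDifferential.ideal A B ^ (n + 1)) (b ⊗ₜ[A] c))) := by
        show (Ideal.Quotient.mk (KaehlerDifferential.ideal A B ^ (n + 1)) ((1 : B) ⊗ₜ[A] c)) *
          (Ideal.Quotient.mk (KaehlerDifferential.ideal A B ^ (n + 1)) (b ⊗ₜ[A] (1 : B))) =
          Ideal.Quotient.mk (KaehlerDifferential.ideal A B ^ (n + 1)) (b ⊗ₜ[A] c)
        rw [← map_mul, Algebra.TensorProduct.tmul_mul_tmul, one_mul, mul_one]
      rw [H6_dM_eq, H6_smul_tmul_mk, Algebra.TensorProduct.tmul_mul_tmul, mul_one, one_mul,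
        ← TensorProduct.smul_tmul, e0]
    rw [e1, h1, h2, H6_lam_tmul]
  | add x y hx hy =>
    have : (show Pr n A B from (Ideal.Quotient.mk (KaehlerDifferential.ideal A B ^ (n + 1)) (x + y))) =
        (show Pr n A B from (Ideal.Quotient.mk (KaehlerDifferential.ideal A B ^ (n + 1)) x)) +
        (show Pr n A B from (Ideal.Quotient.mk (KaehlerDifferential.ideal A B ^ (n + 1)) y)) := by
      rw [map_add]; rfl
    rw [this, TensorProduct.add_tmul, map_add, hx, hy, map_add, LinearMap.add_apply]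

theorem H6_isDiffOpLE_iff_existsUnique (D : M →ₗ[A] N) :
    Diff16.IsDiffOpLE A B M N n D ↔
      ∃! u : PP16.PM n A B M →+ N,
        (∀ (b : B) (t : PP16.PM n A B M), u (algebraMap B (PP16.P n A B) b • t) = b • u t) ∧
          ∀ m : M, u (PP16.dM n A B M m) = D m := by
  rw [H6_isDiffOpLE_iff]
  constructor
  · intro h
    refine ⟨H6_u n A B M N D h, ⟨H6_u_smul n A B M N D h, H6_u_dM n A B M N D h⟩, ?_⟩
    rintro u' ⟨h1, h2⟩
    apply AddMonoidHom.ext
    intro t
    induction t using TensorProduct.induction_on with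
    | zero => rw [map_zero, map_zero]
    | tmul x m =>
      obtain ⟨t, rfl⟩ := H6_Pr_surj n A B x
      rw [H6_u'_eq n A B M N D u' h1 h2, H6_u_tmul]
    | add x y hx hy => rw [map_add, map_add, hx, hy]
  · rintro ⟨u, ⟨h1, h2⟩, -⟩ t ht
    ext m
    rw [← H6_u'_eq n A B M N D u h1 h2, Ideal.Quotient.eq_zero_iff_mem.2 ht]
    have : (show Pr n A B from (0 : P n A B)) = 0 := rfl
    rw [this, TensorProduct.zero_tmul, map_zero]
    rfl

end

end Groth.Agent.Lib.helper6
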