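import Mathlib
import Groth.Agent.Lib.helper6.SymSpan

set_option autoImplicit false
set_option linter.style.haveILetI false

namespace Groth.Agent.Lib.helper6
open scoped TensorProduct
open MvPolynomial

universe u v

section

variable {R : Type u} [CommRing R] {ι' : Type u} [Fintype ι'] {M : Type u} [AddCommGroup M]
  [Module R M]

/-- count of a sequence as a finitely supported function. -/
noncomputable def H6_cnt {J : Type*} (s : ι' → J) : J →₀ ℕ := ∑ k, Finsupp.single (s k) 1

lemma H6_cnt_apply {J : Type*} [DecidableEq J] (s : ι' → J) (j : J) :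
    H6_cnt s j = (Finset.univ.filter (fun k => s k = j)).card := by
  unfold H6_cnt
  rw [Finsupp.finset_sum_apply]
  simp_rw [Finsupp.single_apply]
  rw [Finset.card_filter]

lemma H6_cnt_degree {J : Type*} (s : ι' → J) : (H6_cnt s).degree = Fintype.card ι' := by
  unfold H6_cnt
  rw [map_sum]
  simp [Finsupp.degree_single]

lemma H6_exists_perm_of_cnt {J : Type*} (s s' : ι' → J) (h : H6_cnt s = H6_cnt s') :
    ∃ e : Equiv.Perm ι', ∀ k, s' (e k) = s k := by
  classical
  have hne : ∀ j : J, Nonempty ({k // s k = j} ≃ {k // s' k = j}) := fun j => by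
    apply Fintype.card_eq.1
    rw [Fintype.card_subtype, Fintype.card_subtype]
    have h1 := H6_cnt_apply s j
    have h2 := H6_cnt_apply s' j
    rw [h] at h1
    exact h1.symm.trans h2
  exact ⟨Equiv.ofFiberEquiv (fun j => (hne j).some), fun k => Equiv.ofFiberEquiv_map _ k⟩

lemma H6_tprod_eq_of_cnt (s s' : ι' → M) (h : H6_cnt s = H6_cnt s') :
    SymmetricPower.tprod R s = SymmetricPower.tprod R s' := by
  obtain ⟨e, he⟩ := H6_exists_perm_of_cnt s s' h
  rw [← SymmetricPower.tprod_equiv e s']
  congr 1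
  funext k
  rw [he]

lemma H6_prod_X_cnt {J : Type*} (s : ι' → J) :
    ∏ k, (X (s k) : MvPolynomial J R) = monomial (H6_cnt s) 1 := by
  unfold H6_cnt
  rw [monomial_sum_one]
  rfl

variable (R ι' M)

/-- the element `∏ j^(p j)` of `Sym^ι' M` attached to a multi-index on `M` itself. -/
noncomputable def H6_symMono (p : M →₀ ℕ) : SymmetricPower R ι' M :=
  open Classical in
  if h : ∃ s : ι' → M, H6_cnt s = p then SymmetricPower.tprod R h.choose else 0

lemma H6_symMono_cnt (s : ι' → M) : H6_symMono R ι' M (H6_cnt s) = SymmetricPower.tprod R s := by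
  unfold H6_symMono
  have h : ∃ s' : ι' → M, H6_cnt s' = H6_cnt s := ⟨s, rfl⟩
  rw [dif_pos h]
  exact H6_tprod_eq_of_cnt _ _ h.choose_spec

lemma H6_symMono_of_degree_ne (p : M →₀ ℕ) (hp : p.degree ≠ Fintype.card ι') :
    H6_symMono R ι' M p = 0 := by
  unfold H6_symMono
  rw [dif_neg]
  rintro ⟨s, rfl⟩
  exact hp (H6_cnt_degree s)

/-- the linear map `R[X_m : m ∈ M] → Sym^ι' M`, `X^p ↦ ∏ m^(p m)`. -/
noncomputable def H6_polyToSym : MvPolynomial M R →ₗ[R] SymmetricPower R ι' M :=
  (MvPolynomial.basisMonomials M R).constr R (H6_symMono R ι' M)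

lemma H6_polyToSym_monomial (p : M →₀ ℕ) (c : R) :
    H6_polyToSym R ι' M (monomial p c) = c • H6_symMono R ι' M p := by
  have h1 : (monomial p c : MvPolynomial M R) = c • MvPolynomial.basisMonomials M R p := by
    rw [coe_basisMonomials, smul_monomial, smul_eq_mul, mul_one]
  rw [h1, map_smul]
  unfold H6_polyToSym
  rw [Module.Basis.constr_basis]

lemma H6_polyToSym_eq_zero (n : ℕ) (hn : n = Fintype.card ι') (P : MvPolynomial M R)
    (hP : P ∈ MvPolynomial.idealOfVars M R ^ (n + 1)) : H6_polyToSym R ι' M P = 0 := by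
  rw [MvPolynomial.mem_pow_idealOfVars_iff] at hP
  rw [P.as_sum, map_sum]
  refine Finset.sum_eq_zero fun p hp => ?_
  rw [H6_polyToSym_monomial, H6_symMono_of_degree_ne, smul_zero]
  have := hP p hp
  omega

/-- key identity: products of linear forms go back to symmetric tensors. -/
lemma H6_polyToSym_prod (i : M →ₗ[R] M →₀ R)
    (hi : ∀ m, Finsupp.linearCombination R id (i m) = m) (ω : ι' → M) :
    H6_polyToSym R ι' M (∏ k, Finsupp.linearCombination R (X : M → MvPolynomial M R) (i (ω k))) =
      SymmetricPower.tprod R ω := by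
  classical
  have h1 : ∀ k, Finsupp.linearCombination R (X : M → MvPolynomial M R) (i (ω k)) =
      ∑ j ∈ (i (ω k)).support, C (i (ω k) j) * X j := by
    intro k
    rw [Finsupp.linearCombination_apply, Finsupp.sum]
    refine Finset.sum_congr rfl fun j _ => ?_
    rw [MvPolynomial.smul_eq_C_mul]
  simp_rw [h1]
  rw [Finset.prod_univ_sum, map_sum]
  have h2 : ω = fun k => ∑ j ∈ (i (ω k)).support, i (ω k) j • j := by
    funext k
    conv_lhs => rw [← hi (ω k), Finsupp.linearCombination_apply, Finsupp.sum]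
    rfl
  conv_rhs => rw [h2, MultilinearMap.map_sum_finset]
  refine Finset.sum_congr rfl fun s _ => ?_
  rw [MultilinearMap.map_smul_univ, Finset.prod_mul_distrib, ← map_prod, H6_prod_X_cnt,
    C_mul_monomial, mul_one, H6_polyToSym_monomial, H6_symMono_cnt]

end

end Groth.Agent.Lib.helper6
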