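import Mathlib
import Groth.Prelude.Def_PP16
import Groth.Prelude.Def_DiffOp
import Groth.Agent.Lib.helper6.PP16Char0B
import Groth.Agent.Lib.helper6.SymPolyInv

set_option autoImplicit false
set_option linter.style.haveILetI false

namespace Groth.Agent.Lib.helper6
open scoped TensorProduct
open PP16 Diff16 MvPolynomial

universe u

section lifting

variable (A B : Type u) [CommRing A] [CommRing B] [Algebra A B]
variable (i : KaehlerDifferential A B →ₗ[B] KaehlerDifferential A B →₀ B) (n : ℕ)

/-- linear forms `ℓ(ω) = ∑ i(ω)_j X_j`. -/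
noncomputable def H6_ell : KaehlerDifferential A B →ₗ[B] MvPolynomial (KaehlerDifferential A B) B :=
  (Finsupp.linearCombination B
    (X : KaehlerDifferential A B → MvPolynomial (KaehlerDifferential A B) B)) ∘ₗ i

lemma H6_ell_apply (ω : KaehlerDifferential A B) :
    H6_ell A B i ω = Finsupp.linearCombination B
      (X : KaehlerDifferential A B → MvPolynomial (KaehlerDifferential A B) B) (i ω) := rfl

lemma H6_ell_mem (ω : KaehlerDifferential A B) :
    H6_ell A B i ω ∈ MvPolynomial.idealOfVars (KaehlerDifferential A B) B := by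
  rw [H6_ell_apply, Finsupp.linearCombination_apply, Finsupp.sum]
  refine Ideal.sum_mem _ fun j _ => ?_
  rw [MvPolynomial.smul_eq_C_mul]
  exact Ideal.mul_mem_left _ _ (Ideal.subset_span ⟨j, rfl⟩)

/-- the first order map `b ↦ b + ℓ(db)`. -/
noncomputable def H6_f1 : B →ₐ[A] (MvPolynomial (KaehlerDifferential A B) B ⧸
    (MvPolynomial.idealOfVars (KaehlerDifferential A B) B) ^ 2) where
  toFun b := Ideal.Quotient.mk _ (C b + H6_ell A B i (KaehlerDifferential.D A B b))
  map_one' := by
    rw [Derivation.map_one_eq_zero, map_zero, add_zero, C_1, map_one]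
  map_mul' b c := by
    rw [← map_mul, Ideal.Quotient.eq]
    have e : C (b * c) + H6_ell A B i (KaehlerDifferential.D A B (b * c)) -
        (C b + H6_ell A B i (KaehlerDifferential.D A B b)) *
          (C c + H6_ell A B i (KaehlerDifferential.D A B c)) =
        -(H6_ell A B i (KaehlerDifferential.D A B b) *
          H6_ell A B i (KaehlerDifferential.D A B c)) := by
      rw [Derivation.leibniz, map_add, map_smul, map_smul, MvPolynomial.smul_eq_C_mul,
        MvPolynomial.smul_eq_C_mul, C_mul]
      ring
    rw [e, pow_two]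
    exact neg_mem (Ideal.mul_mem_mul (H6_ell_mem A B i _) (H6_ell_mem A B i _))
  map_zero' := by
    rw [map_zero, map_zero, map_zero, add_zero, map_zero]
  map_add' b c := by
    rw [← map_add]
    congr 1
    rw [map_add, map_add, map_add]
    ring
  commutes' a := by
    show Ideal.Quotient.mk _ (C (algebraMap A B a) +
      H6_ell A B i (KaehlerDifferential.D A B (algebraMap A B a))) = _
    rw [Derivation.map_algebraMap, map_zero, add_zero]
    rfl

lemma H6_f1_apply (b : B) :
    H6_f1 A B i b = Ideal.Quotient.mk _ (C b + H6_ell A B i (KaehlerDifferential.D A B b)) := rfl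

theorem H6_exists_tau' [Algebra.FormallySmooth A B] :
    ∃ τ : B →ₐ[A] (MvPolynomial (KaehlerDifferential A B) B ⧸
        (MvPolynomial.idealOfVars (KaehlerDifferential A B) B) ^ (n + 2)),
      ∀ c : B, τ c - Ideal.Quotient.mk _ (C c + H6_ell A B i (KaehlerDifferential.D A B c)) ∈
        ((MvPolynomial.idealOfVars (KaehlerDifferential A B) B) ^ 2).map
          (Ideal.Quotient.mk ((MvPolynomial.idealOfVars (KaehlerDifferential A B) B) ^ (n + 2))) := by
  have hle : (MvPolynomial.idealOfVars (KaehlerDifferential A B) B) ^ (n + 2) ≤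
      (MvPolynomial.idealOfVars (KaehlerDifferential A B) B) ^ 2 :=
    Ideal.pow_le_pow_right (by omega)
  let g := Ideal.Quotient.factorₐ A hle
  have hg : Function.Surjective g := Ideal.Quotient.factor_surjective hle
  have hker : RingHom.ker (g : (MvPolynomial (KaehlerDifferential A B) B ⧸
        (MvPolynomial.idealOfVars (KaehlerDifferential A B) B) ^ (n + 2)) →+*
        (MvPolynomial (KaehlerDifferential A B) B ⧸
        (MvPolynomial.idealOfVars (KaehlerDifferential A B) B) ^ 2)) =
      ((MvPolynomial.idealOfVars (KaehlerDifferential A B) B) ^ 2).map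
        (Ideal.Quotient.mk ((MvPolynomial.idealOfVars (KaehlerDifferential A B) B) ^ (n + 2))) :=
    Ideal.Quotient.factor_ker hle
  have hnil : IsNilpotent (RingHom.ker (g : (MvPolynomial (KaehlerDifferential A B) B ⧸
        (MvPolynomial.idealOfVars (KaehlerDifferential A B) B) ^ (n + 2)) →+*
        (MvPolynomial (KaehlerDifferential A B) B ⧸
        (MvPolynomial.idealOfVars (KaehlerDifferential A B) B) ^ 2))) := by
    refine ⟨n + 2, ?_⟩
    rw [hker, ← Ideal.map_pow, Ideal.zero_eq_bot, ← le_bot_iff,
      ← Ideal.map_quotient_self ((MvPolynomial.idealOfVars (KaehlerDifferential A B) B) ^ (n + 2))]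
    refine Ideal.map_mono ?_
    rw [← pow_mul]
    exact Ideal.pow_le_pow_right (by nlinarith)
  refine ⟨Algebra.FormallySmooth.liftOfSurjective (H6_f1 A B i) g hg hnil, fun c => ?_⟩
  rw [← hker, RingHom.mem_ker, map_sub, sub_eq_zero]
  have := Algebra.FormallySmooth.liftOfSurjective_apply (H6_f1 A B i) g hg hnil c
  rw [H6_f1_apply] at this
  exact this

end lifting

end Groth.Agent.Lib.helper6
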