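import Mathlib
import Groth.Prelude.Def_PP16
import Groth.Prelude.Def_DiffOp
import Groth.Agent.Lib.helper6.PP16FSmooth

set_option autoImplicit false
set_option linter.style.haveILetI false

namespace Groth.Agent.Lib.helper6
open scoped TensorProduct
open PP16 Diff16 MvPolynomial

universe u

section

variable (A B : Type u) [CommRing A] [CommRing B] [Algebra A B]
variable (i : KaehlerDifferential A B →ₗ[B] KaehlerDifferential A B →₀ B) (n : ℕ)
variable (τ : B →ₐ[A] (MvPolynomial (KaehlerDifferential A B) B ⧸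
        (MvPolynomial.idealOfVars (KaehlerDifferential A B) B) ^ (n + 2)))

/-- `b ⊗ c ↦ b τ(c)`. -/
noncomputable def H6_tauT : B ⊗[A] B →ₐ[A] (MvPolynomial (KaehlerDifferential A B) B ⧸
        (MvPolynomial.idealOfVars (KaehlerDifferential A B) B) ^ (n + 2)) :=
  Algebra.TensorProduct.lift (IsScalarTower.toAlgHom A B _) τ (fun _ _ => Commute.all _ _)

lemma H6_tauT_tmul (b c : B) :
    H6_tauT A B n τ (b ⊗ₜ[A] c) = Ideal.Quotient.mk _ (C b) * τ c := by
  unfold H6_tauT
  rw [Algebra.TensorProduct.lift_tmul]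
  rfl

variable (hτ : ∀ c : B, τ c - Ideal.Quotient.mk _ (C c + H6_ell A B i (KaehlerDifferential.D A B c)) ∈
        ((MvPolynomial.idealOfVars (KaehlerDifferential A B) B) ^ 2).map
          (Ideal.Quotient.mk ((MvPolynomial.idealOfVars (KaehlerDifferential A B) B) ^ (n + 2))))

include hτ in
lemma H6_tauT_sub_ell (ξ : B ⊗[A] B) (hξ : ξ ∈ KaehlerDifferential.ideal A B) :
    H6_tauT A B n τ ξ -
        Ideal.Quotient.mk _ (H6_ell A B i ((KaehlerDifferential.D A B).tensorProductTo ξ)) ∈
      ((MvPolynomial.idealOfVars (KaehlerDifferential A B) B) ^ 2).map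
        (Ideal.Quotient.mk ((MvPolynomial.idealOfVars (KaehlerDifferential A B) B) ^ (n + 2))) := by
  have hξ' : ξ ∈ Submodule.span B (Set.range fun s : B =>
      (1 : B) ⊗ₜ[A] s - s ⊗ₜ[A] (1 : B)) := by
    rw [KaehlerDifferential.submodule_span_range_eq_ideal]; exact hξ
  refine Submodule.span_induction ?_ ?_ ?_ ?_ hξ'
  · rintro _ ⟨c, rfl⟩
    rw [map_sub, H6_tauT_tmul, H6_tauT_tmul, map_sub, Derivation.tensorProductTo_tmul,
      Derivation.tensorProductTo_tmul, Derivation.map_one_eq_zero, smul_zero, sub_zero, one_smul]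
    simp only [map_one, one_mul, mul_one]
    have := hτ c
    rw [map_add] at this
    have e : τ c - Ideal.Quotient.mk _ (C c) -
        Ideal.Quotient.mk ((MvPolynomial.idealOfVars (KaehlerDifferential A B) B) ^ (n + 2))
          (H6_ell A B i (KaehlerDifferential.D A B c)) =
        τ c - (Ideal.Quotient.mk _ (C c) + Ideal.Quotient.mk _
          (H6_ell A B i (KaehlerDifferential.D A B c))) := by ring
    rw [e]
    exact this
  · rw [map_zero, map_zero, map_zero, map_zero, sub_zero]
    exact Ideal.zero_mem _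
  · intro x y _ _ hx hy
    rw [map_add, map_add, map_add, map_add]
    have e : ∀ a b c d : (MvPolynomial (KaehlerDifferential A B) B ⧸
        (MvPolynomial.idealOfVars (KaehlerDifferential A B) B) ^ (n + 2)),
        a + b - (c + d) = (a - c) + (b - d) := fun a b c d => by ring
    rw [e]
    exact Ideal.add_mem _ hx hy
  · intro d x _ hx
    have e1 : H6_tauT A B n τ (d • x) = Ideal.Quotient.mk _ (C d) * H6_tauT A B n τ x := by
      rw [Algebra.smul_def, map_mul, Algebra.TensorProduct.algebraMap_apply]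
      congr 1
      show H6_tauT A B n τ (d ⊗ₜ[A] (1 : B)) = _
      rw [H6_tauT_tmul, map_one, mul_one]
    rw [e1, map_smul, map_smul, MvPolynomial.smul_eq_C_mul, map_mul, ← mul_sub]
    exact Ideal.mul_mem_left _ _ hx

include hτ in
lemma H6_tauT_mem (ξ : B ⊗[A] B) (hξ : ξ ∈ KaehlerDifferential.ideal A B) :
    H6_tauT A B n τ ξ ∈ (MvPolynomial.idealOfVars (KaehlerDifferential A B) B).map
      (Ideal.Quotient.mk ((MvPolynomial.idealOfVars (KaehlerDifferential A B) B) ^ (n + 2))) := by
  have h1 := H6_tauT_sub_ell A B i n τ hτ ξ hξ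
  have h2 : Ideal.Quotient.mk ((MvPolynomial.idealOfVars (KaehlerDifferential A B) B) ^ (n + 2))
      (H6_ell A B i ((KaehlerDifferential.D A B).tensorProductTo ξ)) ∈
      (MvPolynomial.idealOfVars (KaehlerDifferential A B) B).map
      (Ideal.Quotient.mk ((MvPolynomial.idealOfVars (KaehlerDifferential A B) B) ^ (n + 2))) :=
    Ideal.mem_map_of_mem _ (H6_ell_mem A B i _)
  have h3 := Ideal.map_mono (f := Ideal.Quotient.mk
    ((MvPolynomial.idealOfVars (KaehlerDifferential A B) B) ^ (n + 2)))
    (Ideal.pow_le_self (I := MvPolynomial.idealOfVars (KaehlerDifferential A B) B) two_ne_zero) h1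
  have := Ideal.add_mem _ h3 h2
  rwa [sub_add_cancel] at this

end

end Groth.Agent.Lib.helper6
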