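import Mathlib
import Groth.Prelude.Def_PP16
import Groth.Prelude.Def_DiffOp
import Groth.Agent.Lib.helper6.PP16FSmooth2

set_option autoImplicit false
set_option linter.style.haveILetI false

namespace Groth.Agent.Lib.helper6
open scoped TensorProduct
open PP16 Diff16 MvPolynomial

universe u

section

variable (A B : Type u) [CommRing A] [CommRing B] [Algebra A B] [Algebra.FormallySmooth A B]
variable (L : KaehlerDifferential A B →ₗ[B] B ⊗[A] B)
  (hL : ∀ ω, L ω ∈ KaehlerDifferential.ideal A B)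
  (hsec : ∀ ω, (KaehlerDifferential.ideal A B).toCotangent ⟨L ω, hL ω⟩ = ω)
  (ι' : Type u) [Fintype ι']

include hsec in
theorem H6_gPhi_injective_of_formallySmooth :
    Function.Injective (H6_gPhi A B L hL ι') := by
  classical
  obtain ⟨i, hi⟩ := Module.projective_def'.1
    (inferInstance : Module.Projective B (KaehlerDifferential A B))
  have hi' : ∀ m, Finsupp.linearCombination B id (i m) = m := fun m => LinearMap.congr_fun hi m
  obtain ⟨n, hn⟩ : ∃ n, n = Fintype.card ι' := ⟨_, rfl⟩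
  obtain ⟨τ, hτ⟩ := H6_exists_tau' A B i n
  rw [injective_iff_map_eq_zero]
  intro x hx
  have hxs : x ∈ Submodule.span B (Set.range
      (SymmetricPower.tprod B (ι := ι') (M := KaehlerDifferential A B))) := by
    rw [SymmetricPower.span_tprod_eq_top]; trivial
  obtain ⟨c, rfl⟩ := Finsupp.mem_span_range_iff_exists_finsupp.1 hxs
  rw [Finsupp.sum] at hx ⊢
  rw [map_sum] at hx
  simp_rw [map_smul, H6_gPhi_tprod] at hx
  have h0 : (Submodule.mkQ _ (0 : ↥((KaehlerDifferential.ideal A B ^
      Fintype.card ι').restrictScalars B)) : grI A B (Fintype.card ι')) =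
      ∑ ω ∈ c.support, c ω • (Submodule.mkQ _ (⟨∏ k, L (ω k), H6_gMu0_mem A B L hL ι' ω⟩ :
        ↥((KaehlerDifferential.ideal A B ^ Fintype.card ι').restrictScalars B)) :
          grI A B (Fintype.card ι')) := by
    rw [map_zero]; exact hx.symm
  rw [H6_gr_sub_sum_eq_zero_iff] at h0
  have hT : ∑ ω ∈ c.support, (c ω ⊗ₜ[A] (1 : B)) * ∏ k, L (ω k) ∈
      KaehlerDifferential.ideal A B ^ (n + 1) := by
    rw [hn]
    have := Ideal.neg_mem_iff _ |>.2 h0
    simpa using this
  have h𝔪 : Ideal.map (H6_tauT A B n τ) (KaehlerDifferential.ideal A B) ≤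
      (MvPolynomial.idealOfVars (KaehlerDifferential A B) B).map
      (Ideal.Quotient.mk ((MvPolynomial.idealOfVars (KaehlerDifferential A B) B) ^ (n + 2))) := by
    rw [Ideal.map_le_iff_le_comap]
    intro ξ hξ
    exact H6_tauT_mem A B i n τ hτ ξ hξ
  have h1 : H6_tauT A B n τ (∑ ω ∈ c.support, (c ω ⊗ₜ[A] (1 : B)) * ∏ k, L (ω k)) ∈
      ((MvPolynomial.idealOfVars (KaehlerDifferential A B) B).map
      (Ideal.Quotient.mk ((MvPolynomial.idealOfVars (KaehlerDifferential A B) B) ^ (n + 2)))) ^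
        (n + 1) := by
    have := Ideal.mem_map_of_mem (H6_tauT A B n τ) hT
    rw [Ideal.map_pow] at this
    exact Ideal.pow_right_mono h𝔪 _ this
  have hF4 : ∀ ω : KaehlerDifferential A B, H6_tauT A B n τ (L ω) -
      Ideal.Quotient.mk _ (H6_ell A B i ω) ∈
      ((MvPolynomial.idealOfVars (KaehlerDifferential A B) B).map
      (Ideal.Quotient.mk ((MvPolynomial.idealOfVars (KaehlerDifferential A B) B) ^ (n + 2)))) ^
        2 := by
    intro ω
    have h := H6_tauT_sub_ell A B i n τ hτ (L ω) (hL ω)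
    have e : (KaehlerDifferential.D A B).tensorProductTo (L ω) = ω :=
      (KaehlerDifferential.D_tensorProductTo
        (⟨L ω, hL ω⟩ : KaehlerDifferential.ideal A B)).trans (hsec ω)
    rw [e, Ideal.map_pow] at h
    exact h
  have hF5 : ∀ ω : ι' → KaehlerDifferential A B, H6_tauT A B n τ (∏ k, L (ω k)) -
      Ideal.Quotient.mk _ (∏ k, H6_ell A B i (ω k)) ∈
      ((MvPolynomial.idealOfVars (KaehlerDifferential A B) B).map
      (Ideal.Quotient.mk ((MvPolynomial.idealOfVars (KaehlerDifferential A B) B) ^ (n + 2)))) ^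
        (n + 1) := by
    intro ω
    rw [map_prod, map_prod]
    have := H6_prod_sub_prod_mem ((MvPolynomial.idealOfVars (KaehlerDifferential A B) B).map
      (Ideal.Quotient.mk ((MvPolynomial.idealOfVars (KaehlerDifferential A B) B) ^ (n + 2))))
      (Finset.univ : Finset ι') (fun k => H6_tauT A B n τ (L (ω k)))
      (fun k => Ideal.Quotient.mk _ (H6_ell A B i (ω k)))
      (fun k _ => H6_tauT_mem A B i n τ hτ _ (hL _))
      (fun k _ => Ideal.mem_map_of_mem _ (H6_ell_mem A B i _))
      (fun k _ => hF4 (ω k))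
    rwa [Finset.card_univ, ← hn] at this
  obtain ⟨P, hP⟩ : ∃ P, P = ∑ ω ∈ c.support, C (c ω) * ∏ k, H6_ell A B i (ω k) := ⟨_, rfl⟩
  have h2 : H6_tauT A B n τ (∑ ω ∈ c.support, (c ω ⊗ₜ[A] (1 : B)) * ∏ k, L (ω k)) -
      Ideal.Quotient.mk ((MvPolynomial.idealOfVars (KaehlerDifferential A B) B) ^ (n + 2)) P ∈
      ((MvPolynomial.idealOfVars (KaehlerDifferential A B) B).map
      (Ideal.Quotient.mk ((MvPolynomial.idealOfVars (KaehlerDifferential A B) B) ^ (n + 2)))) ^
        (n + 1) := by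
    rw [hP, map_sum, map_sum, ← Finset.sum_sub_distrib]
    refine Ideal.sum_mem _ fun ω _ => ?_
    rw [map_mul, map_mul, H6_tauT_tmul, map_one, mul_one, ← mul_sub]
    exact Ideal.mul_mem_left _ _ (hF5 ω)
  have h3 : Ideal.Quotient.mk ((MvPolynomial.idealOfVars (KaehlerDifferential A B) B) ^ (n + 2)) P ∈
      ((MvPolynomial.idealOfVars (KaehlerDifferential A B) B).map
      (Ideal.Quotient.mk ((MvPolynomial.idealOfVars (KaehlerDifferential A B) B) ^ (n + 2)))) ^
        (n + 1) := by
    have := Ideal.sub_mem _ h1 h2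
    rwa [sub_sub_cancel] at this
  have h4 : P ∈ (MvPolynomial.idealOfVars (KaehlerDifferential A B) B) ^ (n + 1) := by
    rw [← Ideal.map_pow] at h3
    obtain ⟨P', hP', hPP'⟩ := (Ideal.mem_map_iff_of_surjective _
      Ideal.Quotient.mk_surjective).1 h3
    have h5 : P' - P ∈ (MvPolynomial.idealOfVars (KaehlerDifferential A B) B) ^ (n + 2) :=
      Ideal.Quotient.eq.1 hPP'
    have h6 := Ideal.sub_mem _ hP' (Ideal.pow_le_pow_right (Nat.le_succ _) h5)
    rwa [sub_sub_cancel] at h6
  have h5 := H6_polyToSym_eq_zero B ι' (KaehlerDifferential A B) n hn P h4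
  rw [hP, map_sum] at h5
  have h6 : ∀ ω ∈ c.support, H6_polyToSym B ι' (KaehlerDifferential A B)
      (C (c ω) * ∏ k, H6_ell A B i (ω k)) = c ω • SymmetricPower.tprod B ω := by
    intro ω _
    rw [← MvPolynomial.smul_eq_C_mul, map_smul]
    congr 1
    exact H6_polyToSym_prod B ι' (KaehlerDifferential A B) i hi' ω
  rw [Finset.sum_congr rfl h6] at h5
  exact h5

theorem H6_isDiffSmooth_of_formallySmooth : IsDiffSmooth A B := by
  obtain ⟨L, hL, hsec⟩ := H6_exists_section A B
  have hLD := H6_section_D A B L hL hsec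
  exact ⟨inferInstance, fun ι' _ => ⟨H6_gPhi A B L hL ι', H6_gPhi_D A B L hL ι' hLD,
    H6_gPhi_injective_of_formallySmooth A B L hL hsec ι',
    H6_gPhi_surjective A B L hL ι' hLD⟩⟩

end

end Groth.Agent.Lib.helper6
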