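import Mathlib

set_option autoImplicit false
set_option linter.style.haveILetI false

namespace Groth.Agent.Lib.helper6
open scoped TensorProduct

universe u

section main

variable (B B' P P' : Type u) [CommRing B] [CommRing B'] [CommRing P] [CommRing P']
  [Algebra B B'] [Algebra B P] [Algebra B' P'] [Algebra P P'] [Algebra B P']
  [IsScalarTower B P P'] [IsScalarTower B B' P']

/-- pushout criterion via an explicit inverse ring hom. -/
theorem H6_isPushout_of_inverse (Ψ : P' →+* P ⊗[B] B')
    (h1 : ∀ p : P, Ψ (algebraMap P P' p) = p ⊗ₜ[B] (1 : B'))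
    (h2 : ∀ b' : B', Ψ (algebraMap B' P' b') = (1 : P) ⊗ₜ[B] b')
    (hgen : ∀ x : P', x ∈ Subring.closure
      (Set.range (algebraMap P P') ∪ Set.range (algebraMap B' P'))) :
    Algebra.IsPushout B P B' P' := by
  let Φ : P ⊗[B] B' →ₐ[B] P' :=
    Algebra.TensorProduct.productMap (IsScalarTower.toAlgHom B P P') (IsScalarTower.toAlgHom B B' P')
  have hΦ : ∀ p b', Φ (p ⊗ₜ[B] b') = algebraMap P P' p * algebraMap B' P' b' := fun p b' => by
    rw [Algebra.TensorProduct.productMap_apply_tmul]; rfl
  have hΨΦ : ∀ x, Ψ (Φ x) = x := by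
    intro x
    induction x using TensorProduct.induction_on with
    | zero => simp
    | tmul p b' =>
      rw [hΦ, map_mul, h1, h2, Algebra.TensorProduct.tmul_mul_tmul, mul_one, one_mul]
    | add x y hx hy => rw [map_add, map_add, hx, hy]
  have hΦΨ : ∀ y, Φ (Ψ y) = y := by
    intro y
    have hy := hgen y
    induction hy using Subring.closure_induction with
    | mem x hx =>
      rcases hx with ⟨p, rfl⟩ | ⟨b', rfl⟩
      · rw [h1, hΦ, map_one, mul_one]
      · rw [h2, hΦ, map_one, one_mul]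
    | zero => simp
    | one => simp
    | add x y _ _ hx hy => rw [map_add, map_add, hx, hy]
    | neg x _ hx => rw [map_neg, map_neg, hx]
    | mul x y _ _ hx hy => rw [map_mul, map_mul, hx, hy]
  constructor
  let e : P ⊗[B] B' ≃ₗ[P] P' :=
    { toFun := Φ
      invFun := Ψ
      left_inv := hΨΦ
      right_inv := hΦΨ
      map_add' := map_add Φ
      map_smul' := fun p x => by
        rw [RingHom.id_apply]
        have : p • x = (p ⊗ₜ[B] (1 : B')) * x := by
          induction x using TensorProduct.induction_on with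
          | zero => simp
          | tmul q b' =>
            rw [TensorProduct.smul_tmul', Algebra.TensorProduct.tmul_mul_tmul, one_mul, smul_eq_mul]
          | add x y hx hy => rw [smul_add, hx, hy, mul_add]
        rw [this, map_mul, hΦ, map_one, mul_one, Algebra.smul_def] }
  refine IsBaseChange.of_equiv e fun b' => ?_
  show Φ ((1 : P) ⊗ₜ[B] b') = _
  rw [hΦ, map_one, one_mul]
  rfl

end main

section po

variable (A B A' B' : Type u) [CommRing A] [CommRing B] [Algebra A B]
  [CommRing A'] [CommRing B'] [Algebra A' B'] [Algebra A A'] [Algebra B B'] [Algebra A B']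
  [IsScalarTower A A' B'] [IsScalarTower A B B']

/-- ring-hom version of `Algebra.pushoutDesc`. -/
lemma H6_pushout_desc [Algebra.IsPushout A B A' B'] (X : Type u) [CommRing X]
    (f : B →+* X) (g : A' →+* X) (h : ∀ a, f (algebraMap A B a) = g (algebraMap A A' a)) :
    ∃ r : B' →+* X, (∀ b, r (algebraMap B B' b) = f b) ∧ (∀ a', r (algebraMap A' B' a') = g a') := by
  letI : Algebra A X := (f.comp (algebraMap A B)).toAlgebra
  let fa : B →ₐ[A] X := { f with commutes' := fun a => rfl }
  let ga : A' →ₐ[A] X := { g with commutes' := fun a => (h a).symm }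
  refine ⟨(Algebra.pushoutDesc B' fa ga (fun _ _ => mul_comm _ _)).toRingHom, fun b => ?_, fun a' => ?_⟩
  · exact Algebra.pushoutDesc_left B' fa ga (fun _ _ => mul_comm _ _) b
  · exact Algebra.pushoutDesc_right B' fa ga (fun _ _ => mul_comm _ _) a'

/-- ring-hom version of the tensor product lift. -/
lemma H6_tensor_desc (X : Type u) [CommRing X] (l r : B' →+* X)
    (h : ∀ a', l (algebraMap A' B' a') = r (algebraMap A' B' a')) :
    ∃ Ψ : B' ⊗[A'] B' →+* X, ∀ x y, Ψ (x ⊗ₜ[A'] y) = l x * r y := by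
  letI : Algebra A' X := (l.comp (algebraMap A' B')).toAlgebra
  let la : B' →ₐ[A'] X := { l with commutes' := fun a => rfl }
  let ra : B' →ₐ[A'] X := { r with commutes' := fun a => (h a).symm }
  refine ⟨(Algebra.TensorProduct.productMap la ra).toRingHom, fun x y => ?_⟩
  exact Algebra.TensorProduct.productMap_apply_tmul la ra x y

/-- induction principle for a pushout. -/
lemma H6_pushout_induction [Algebra.IsPushout A B A' B'] {motive : B' → Prop}
    (zero : motive 0)
    (base : ∀ (b : B) (a' : A'), motive (algebraMap B B' b * algebraMap A' B' a'))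
    (add : ∀ x y, motive x → motive y → motive (x + y)) : ∀ x, motive x := by
  intro x
  have hbc : IsBaseChange B (IsScalarTower.toAlgHom A A' B').toLinearMap := Algebra.IsPushout.out
  refine hbc.inductionOn x (fun y => ∀ b : B, motive (algebraMap B B' b * y)) ?_ ?_ ?_ ?_ 1 |> fun h => by
    simpa using h
  · intro b; rw [mul_zero]; exact zero
  · intro a' b
    exact base b a'
  · intro s n hn b
    rw [Algebra.smul_def, ← mul_assoc, ← map_mul]
    exact hn (b * s)
  · intro n₁ n₂ h₁ h₂ b
    rw [mul_add]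
    exact add _ _ (h₁ b) (h₂ b)


lemma H6_pow_le_ker' {R S : Type*} [CommRing R] [CommRing S] (φ : R →+* S) (N : Ideal R)
    (J : Ideal S) (m : ℕ) (hJ : J ^ m = ⊥) (h : N ≤ J.comap φ) : N ^ m ≤ RingHom.ker φ := by
  refine (Ideal.pow_right_mono h m).trans ((Ideal.le_comap_pow _ _).trans ?_)
  rw [hJ]
  exact le_of_eq rfl

/-- generic construction of the inverse map for the base change of principal parts. -/
theorem H6_pushout_psi0 [Algebra.IsPushout A B A' B'] (P : Type u) [CommRing P] [Algebra B P]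
    (d : B →+* P) (aug : Ideal P) (m : ℕ) (haug : aug ^ m = ⊥)
    (hd : ∀ b, d b - algebraMap B P b ∈ aug)
    (hdA : ∀ a, d (algebraMap A B a) = algebraMap B P (algebraMap A B a)) :
    ∃ Ψ₀ : B' ⊗[A'] B' →+* P ⊗[B] B',
      (∀ b c : B, Ψ₀ (algebraMap B B' b ⊗ₜ[A'] algebraMap B B' c) =
        (algebraMap B P b * d c) ⊗ₜ[B] (1 : B')) ∧
      (∀ b' : B', Ψ₀ (b' ⊗ₜ[A'] (1 : B')) = (1 : P) ⊗ₜ[B] b') ∧
      KaehlerDifferential.ideal A' B' ^ m ≤ RingHom.ker Ψ₀ := by
  let inl : P →+* P ⊗[B] B' :=
    (Algebra.TensorProduct.includeLeft : P →ₐ[B] P ⊗[B] B').toRingHom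
  let inr : B' →+* P ⊗[B] B' :=
    (Algebra.TensorProduct.includeRight : B' →ₐ[B] P ⊗[B] B').toRingHom
  have hinl : ∀ p, inl p = p ⊗ₜ[B] (1 : B') := fun p => rfl
  have hinr : ∀ b', inr b' = (1 : P) ⊗ₜ[B] b' := fun b' => rfl
  have hbal : ∀ (b : B) (b' : B'),
      inr (algebraMap B B' b * b') = inl (algebraMap B P b) * inr b' := by
    intro b b'
    rw [hinr, hinr, hinl, Algebra.TensorProduct.tmul_mul_tmul, mul_one, one_mul,
      ← Algebra.smul_def, Algebra.algebraMap_eq_smul_one, TensorProduct.smul_tmul]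
  have hbal1 : ∀ b : B, inr (algebraMap B B' b) = inl (algebraMap B P b) := by
    intro b
    have := hbal b 1
    rwa [mul_one, map_one, mul_one] at this
  let f : B →+* P ⊗[B] B' := inl.comp d
  let g : A' →+* P ⊗[B] B' := inr.comp (algebraMap A' B')
  have hfg : ∀ a, f (algebraMap A B a) = g (algebraMap A A' a) := by
    intro a
    show inl (d (algebraMap A B a)) = inr (algebraMap A' B' (algebraMap A A' a))
    rw [hdA, ← IsScalarTower.algebraMap_apply A A' B', IsScalarTower.algebraMap_apply A B B',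
      hbal1]
  obtain ⟨r, hr1, hr2⟩ := H6_pushout_desc A B A' B' (P ⊗[B] B') f g hfg
  have hr1' : ∀ b, r (algebraMap B B' b) = inl (d b) := hr1
  have hr2' : ∀ a', r (algebraMap A' B' a') = inr (algebraMap A' B' a') := hr2
  obtain ⟨Ψ₀, hΨ₀⟩ := H6_tensor_desc A' B' (P ⊗[B] B') inr r (fun a' => (hr2' a').symm)
  have h𝔞 : (aug.map inl) ^ m = ⊥ := by
    rw [← Ideal.map_pow, haug, Ideal.map_bot]
  have hdiff : ∀ b' : B', r b' - inr b' ∈ aug.map inl := by
    intro b'
    induction b' using H6_pushout_induction A B A' B' with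
    | zero => simp
    | base b a' =>
      rw [map_mul, hr1', hr2', hbal, ← sub_mul, ← map_sub]
      exact Ideal.mul_mem_right _ _ (Ideal.mem_map_of_mem _ (hd b))
    | add x y hx hy =>
      rw [map_add, map_add, add_sub_add_comm]
      exact Ideal.add_mem _ hx hy
  refine ⟨Ψ₀, ?_, ?_, ?_⟩
  · intro b c
    rw [hΨ₀, hr1', hbal1, ← map_mul, hinl]
  · intro b'
    rw [hΨ₀, map_one, mul_one, hinr]
  · apply H6_pow_le_ker' Ψ₀ _ (aug.map inl) m h𝔞
    rw [← KaehlerDifferential.span_range_eq_ideal, Ideal.span_le]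
    rintro _ ⟨b', rfl⟩
    show Ψ₀ ((1 : B') ⊗ₜ[A'] b' - b' ⊗ₜ[A'] (1 : B')) ∈ aug.map inl
    rw [map_sub, hΨ₀, hΨ₀, map_one, map_one, one_mul, mul_one]
    exact hdiff b'

end po

end Groth.Agent.Lib.helper6
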