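import Mathlib
import Groth.Prelude.Def_PP16
import Groth.Agent.Lib.helper6.PP16Section
import Groth.Agent.Lib.helper6.PushoutAux

set_option autoImplicit false
set_option linter.style.haveILetI false

namespace Groth.Agent.Lib.helper6
open PP16
open scoped TensorProduct

universe u

section

variable (n : ℕ) (A B A' B' : Type u) [CommRing A] [CommRing B] [Algebra A B]
  [CommRing A'] [CommRing B'] [Algebra A' B'] [Algebra A A'] [Algebra B B'] [Algebra A B']
  [IsScalarTower A A' B'] [IsScalarTower A B B']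

lemma H6_mk_tmul_eq (b c : B) :
    (Ideal.Quotient.mk (KaehlerDifferential.ideal A B ^ (n + 1)) (b ⊗ₜ[A] c) : P n A B) =
      algebraMap B (P n A B) b * dn n A B c := by
  show _ = Ideal.Quotient.mk _ (b ⊗ₜ[A] (1 : B)) * Ideal.Quotient.mk _ ((1 : B) ⊗ₜ[A] c)
  rw [← map_mul, Algebra.TensorProduct.tmul_mul_tmul, mul_one, one_mul]

lemma H6_dn_algebraMap (a : A) :
    dn n A B (algebraMap A B a) = algebraMap B (P n A B) (algebraMap A B a) := by
  show Ideal.Quotient.mk _ ((1 : B) ⊗ₜ[A] algebraMap A B a) =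
    Ideal.Quotient.mk _ (algebraMap A B a ⊗ₜ[A] (1 : B))
  congr 1
  rw [Algebra.algebraMap_eq_smul_one, TensorProduct.tmul_smul, TensorProduct.smul_tmul']

lemma H6_dn_sub_mem_aug (b : B) : dn n A B b - algebraMap B (P n A B) b ∈ augIdeal n A B := by
  have := H6_mk_mem_aug n A B b
  rwa [map_sub] at this

theorem H6_exists_inverse [Algebra.IsPushout A B A' B'] :
    ∃ Ψ : P n A' B' →+* (P n A B) ⊗[B] B',
      (∀ p : P n A B, Ψ (map n A B A' B' p) = p ⊗ₜ[B] (1 : B')) ∧
      (∀ b' : B', Ψ (algebraMap B' (P n A' B') b') = (1 : P n A B) ⊗ₜ[B] b') := by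
  obtain ⟨Ψ₀, h1, h2, h3⟩ := H6_pushout_psi0 A B A' B' (P n A B) (dn n A B).toRingHom
    (augIdeal n A B) (n + 1) (H6_aug_pow_eq_bot n A B) (H6_dn_sub_mem_aug n A B)
    (H6_dn_algebraMap n A B)
  refine ⟨Ideal.Quotient.lift _ Ψ₀ (fun t ht => h3 ht), ?_, ?_⟩
  · intro p
    obtain ⟨t, rfl⟩ := Ideal.Quotient.mk_surjective p
    rw [map_mk, Ideal.Quotient.lift_mk]
    induction t using TensorProduct.induction_on with
    | zero => simp
    | tmul b c =>
      rw [tensorMap_tmul, h1, H6_mk_tmul_eq]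
      rfl
    | add x y hx hy =>
      rw [map_add, map_add, hx, hy, map_add, TensorProduct.add_tmul]
  · intro b'
    show Ideal.Quotient.lift _ Ψ₀ _ (Ideal.Quotient.mk _ (b' ⊗ₜ[A'] (1 : B'))) = _
    rw [Ideal.Quotient.lift_mk, h2]

theorem H6_P_generated [Algebra.IsPushout A B A' B'] (x : P n A' B') :
    x ∈ Subring.closure (Set.range (map n A B A' B') ∪ Set.range (algebraMap B' (P n A' B'))) := by
  set C := Subring.closure (Set.range (map n A B A' B') ∪ Set.range (algebraMap B' (P n A' B')))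
    with hC
  have hB' : ∀ b', algebraMap B' (P n A' B') b' ∈ C := fun b' =>
    Subring.subset_closure (Or.inr ⟨b', rfl⟩)
  have hP : ∀ p, map n A B A' B' p ∈ C := fun p => Subring.subset_closure (Or.inl ⟨p, rfl⟩)
  have hdn : ∀ b' : B', dn n A' B' b' ∈ C := by
    intro b'
    induction b' using H6_pushout_induction A B A' B' with
    | zero => rw [map_zero]; exact C.zero_mem
    | base b a' =>
      rw [map_mul, ← map_dn n A B A' B', H6_dn_algebraMap]
      exact C.mul_mem (hP _) (hB' _)
    | add x y hx hy => rw [map_add]; exact C.add_mem hx hy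
  obtain ⟨t, rfl⟩ := Ideal.Quotient.mk_surjective x
  induction t using TensorProduct.induction_on with
  | zero => rw [map_zero]; exact C.zero_mem
  | tmul b' c' =>
    rw [H6_mk_tmul_eq]
    exact C.mul_mem (hB' _) (hdn _)
  | add x y hx hy => rw [map_add]; exact C.add_mem hx hy

end

end Groth.Agent.Lib.helper6
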