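import Mathlib
import Groth.Prelude.Def_PP16
import Groth.Prelude.Def_DiffOp
import Groth.Agent.Lib.helper6.PP16Smooth4
import Groth.Agent.Lib.helper6.PP16Pushout

set_option autoImplicit false
set_option linter.style.haveILetI false

namespace Groth.Agent.Lib.helper6
open scoped TensorProduct
open PP16 Diff16 MvPolynomial

universe u

lemma H6_coeff_prod_add_pow' (R : Type*) [CommRing R] {ι : Type*} [Fintype ι] [DecidableEq ι]
    (c : ι → R) (q : ι → ℕ) (p : ι →₀ ℕ) :
    coeff p (∏ i, (C (c i) + X i : MvPolynomial ι R) ^ q i) =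
      ((∏ i, Nat.choose (q i) (p i) : ℕ) : R) * ∏ i, c i ^ (q i - p i) := by
  classical
  have h1 : ∀ i, (C (c i) + X i : MvPolynomial ι R) ^ q i =
      ∑ k ∈ Finset.range (q i + 1),
        monomial (Finsupp.single i k) ((c i) ^ (q i - k) * ((q i).choose k : R)) := by
    intro i
    rw [add_comm, add_pow]
    refine Finset.sum_congr rfl fun k hk => ?_
    rw [X_pow_eq_monomial, ← C_pow, ← map_natCast (C : R →+* MvPolynomial ι R), mul_assoc,
      ← C_mul, mul_comm, C_mul_monomial, mul_one]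
  simp_rw [h1]
  rw [Finset.prod_univ_sum]
  have h2 : ∀ k : ι → ℕ,
      ∏ i, monomial (Finsupp.single i (k i)) (c i ^ (q i - k i) * ((q i).choose (k i) : R)) =
        monomial (Finsupp.equivFunOnFinite.symm k)
          (∏ i, (c i ^ (q i - k i) * ((q i).choose (k i) : R))) := by
    intro k
    rw [← monomial_sum_prod]
    have : (∑ i, Finsupp.single i (k i) : ι →₀ ℕ) = Finsupp.equivFunOnFinite.symm k :=
      Finsupp.univ_sum_single (Finsupp.equivFunOnFinite.symm k)
    rw [this]
  simp_rw [h2]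
  rw [coeff_sum]
  simp_rw [coeff_monomial]
  have h3 : ∀ k : ι → ℕ, (Finsupp.equivFunOnFinite.symm k = p) ↔ k = ⇑p := by
    intro k
    constructor
    · intro h; rw [← h]; rfl
    · intro h; ext i; rw [h]; rfl
  simp_rw [h3]
  rw [Finset.sum_ite_eq']
  split_ifs with hmem
  · rw [Finset.prod_mul_distrib, Nat.cast_prod, mul_comm]
  · rw [Fintype.mem_piFinset] at hmem
    push Not at hmem
    obtain ⟨i, hi⟩ := hmem
    rw [Finset.mem_range, not_lt] at hi
    have : (q i).choose (p i) = 0 := Nat.choose_eq_zero_of_lt (by omega)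
    rw [Finset.prod_eq_zero (Finset.mem_univ i) this, Nat.cast_zero, zero_mul]

section

variable (A B : Type u) [CommRing A] [CommRing B] [Algebra A B] (m : ℕ)

/-- the operator `ℓ ∘ d^m` attached to a `B`-linear form on `P^m`. -/
noncomputable def H6_opOf (ℓ : P m A B →ₗ[B] B) : B →ₗ[A] B where
  toFun x := ℓ (dn m A B x)
  map_add' x y := by rw [map_add, map_add]
  map_smul' a x := by
    rw [map_smul, RingHom.id_apply, ← algebraMap_smul B a (dn m A B x), map_smul, algebraMap_smul]

lemma H6_opOf_apply (ℓ : P m A B →ₗ[B] B) (x : B) : H6_opOf A B m ℓ x = ℓ (dn m A B x) := rfl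

lemma H6_lam_opOf (ℓ : P m A B →ₗ[B] B) (t : B ⊗[A] B) (w : B) :
    H6_lam A B B B (H6_opOf A B m ℓ) t w =
      ℓ (Ideal.Quotient.mk (KaehlerDifferential.ideal A B ^ (m + 1)) t * dn m A B w) := by
  induction t using TensorProduct.induction_on with
  | zero => simp
  | tmul x y =>
    rw [H6_lam_tmul, H6_opOf_apply, H6_mk_tmul_eq]
    show x • ℓ (dn m A B (y * w)) = _
    rw [map_mul (dn m A B), mul_assoc, ← Algebra.smul_def, LinearMap.map_smul]
  | add x y hx hy =>
    rw [map_add, LinearMap.add_apply, hx, hy, map_add, add_mul, map_add]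

lemma H6_opOf_order (ℓ : P m A B →ₗ[B] B) : IsDiffOpLE A B B B m (H6_opOf A B m ℓ) := by
  rw [H6_isDiffOpLE_iff]
  intro t ht
  ext w
  rw [H6_lam_opOf, Ideal.Quotient.eq_zero_iff_mem.2 ht, zero_mul, map_zero]
  rfl

variable {ι : Type} [Fintype ι] [DecidableEq ι] (z : ι → B)

/-- evaluation `X_i ↦ d^m z_i - z_i`. -/
noncomputable def H6_evP : MvPolynomial ι B →ₐ[B] P m A B :=
  MvPolynomial.aeval (fun i => dn m A B (z i) - algebraMap B (P m A B) (z i))

lemma H6_evP_monomial (r : ι →₀ ℕ) :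
    H6_evP A B m z (monomial r 1) =
      Ideal.Quotient.mk (KaehlerDifferential.ideal A B ^ (m + 1)) (H6_zetaPow A B z r) := by
  unfold H6_evP H6_zetaPow
  rw [MvPolynomial.aeval_monomial, map_one, one_mul, Finsupp.prod_fintype _ _ (fun i => pow_zero _),
    map_prod]
  refine Finset.prod_congr rfl fun i _ => ?_
  rw [map_pow, map_sub]
  rfl

lemma H6_evP_prod (q : ι → ℕ) :
    H6_evP A B m z (∏ i, (C (z i) + X i : MvPolynomial ι B) ^ q i) =
      dn m A B (∏ i, z i ^ q i) := by
  rw [map_prod, map_prod]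
  refine Finset.prod_congr rfl fun i _ => ?_
  rw [map_pow, map_pow, map_add]
  congr 1
  unfold H6_evP
  rw [MvPolynomial.aeval_X, MvPolynomial.aeval_C]
  ring

theorem H6_exists_Dp_of_basis
    (bs : Module.Basis {p : ι → ℕ // ∑ i, p i ≤ m} B (P m A B))
    (hbs : ∀ p, bs p = ∏ i, (dn m A B (z i) - algebraMap B (P m A B) (z i)) ^ (p.1 i))
    (p : ι → ℕ) (hp : ∑ i, p i = m) :
    ∃ D : B →ₗ[A] B, IsDiffOpLE A B B B m D ∧
      ∀ q : ι → ℕ, D (∏ i, z i ^ q i) =
        ((∏ i, Nat.choose (q i) (p i) : ℕ) : B) * ∏ i, z i ^ (q i - p i) := by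
  classical
  set ℓ : P m A B →ₗ[B] B := bs.coord ⟨p, le_of_eq hp⟩ with hℓ
  refine ⟨H6_opOf A B m ℓ, H6_opOf_order A B m ℓ, fun q => ?_⟩
  have hcoeff : ℓ ∘ₗ (H6_evP A B m z).toLinearMap =
      MvPolynomial.lcoeff B (Finsupp.equivFunOnFinite.symm p) := by
    apply MvPolynomial.linearMap_ext
    intro r
    apply LinearMap.ext_ring
    rw [LinearMap.comp_apply, LinearMap.comp_apply, LinearMap.comp_apply, AlgHom.toLinearMap_apply,
      MvPolynomial.lcoeff_apply, H6_evP_monomial]
    show ℓ _ = coeff _ (monomial r 1)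
    rw [coeff_monomial]
    by_cases hr : ∑ i, r i ≤ m
    · have e1 : (Ideal.Quotient.mk (KaehlerDifferential.ideal A B ^ (m + 1))
          (H6_zetaPow A B z r) : P m A B) = bs ⟨r, hr⟩ := by
        rw [hbs]
        exact (H6_vP_eq A B z m ⟨r, hr⟩).symm
      rw [e1, hℓ, Module.Basis.coord_apply, Module.Basis.repr_self, Finsupp.single_apply]
      by_cases hrp : r = Finsupp.equivFunOnFinite.symm p
      · rw [if_pos hrp, if_pos]
        apply Subtype.ext
        show (r : ι → ℕ) = p
        rw [hrp]; rfl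
      · rw [if_neg hrp, if_neg]
        intro h
        apply hrp
        have h' : (r : ι → ℕ) = p := congrArg Subtype.val h
        ext i
        rw [h']; rfl
    · have hmem : H6_zetaPow A B z r ∈ KaehlerDifferential.ideal A B ^ (m + 1) :=
        Ideal.pow_le_pow_right (by omega) (H6_zetaPow_mem A B z r)
      rw [Ideal.Quotient.eq_zero_iff_mem.2 hmem, map_zero, if_neg]
      intro h
      apply hr
      rw [h]
      exact le_of_eq hp
  rw [H6_opOf_apply, ← H6_evP_prod]
  have := LinearMap.congr_fun hcoeff (∏ i, (C (z i) + X i : MvPolynomial ι B) ^ q i)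
  rw [LinearMap.comp_apply, AlgHom.toLinearMap_apply, MvPolynomial.lcoeff_apply] at this
  rw [this, H6_coeff_prod_add_pow']
  rfl

end

end Groth.Agent.Lib.helper6
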