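import Mathlib
import Groth.Prelude.Def_PP16
import Groth.Prelude.Def_DiffOp
import Groth.Agent.Lib.helper6.PP16Smooth5
import Groth.Agent.S2808

set_option autoImplicit false
set_option linter.style.haveILetI false

namespace Groth.Agent.Lib.helper6
open scoped TensorProduct
open PP16 Diff16 MvPolynomial

universe u

section

variable (A B : Type u) [CommRing A] [CommRing B] [Algebra A B] (m : ℕ)
variable {ι : Type} [Fintype ι] [DecidableEq ι] (z : ι → B)

lemma H6_coord_evP
    (bs : Module.Basis {p : ι → ℕ // ∑ i, p i ≤ m} B (P m A B))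
    (hbs : ∀ p, bs p = ∏ i, (dn m A B (z i) - algebraMap B (P m A B) (z i)) ^ (p.1 i))
    (p : ι → ℕ) (hp : ∑ i, p i ≤ m) :
    bs.coord ⟨p, hp⟩ ∘ₗ (H6_evP A B m z).toLinearMap =
      MvPolynomial.lcoeff B (Finsupp.equivFunOnFinite.symm p) := by
  classical
  apply MvPolynomial.linearMap_ext
  intro r
  apply LinearMap.ext_ring
  rw [LinearMap.comp_apply, LinearMap.comp_apply, LinearMap.comp_apply, AlgHom.toLinearMap_apply,
    MvPolynomial.lcoeff_apply, H6_evP_monomial]
  show bs.coord ⟨p, hp⟩ _ = coeff _ (monomial r 1)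
  rw [coeff_monomial]
  by_cases hr : ∑ i, r i ≤ m
  · have e1 : (Ideal.Quotient.mk (KaehlerDifferential.ideal A B ^ (m + 1))
        (H6_zetaPow A B z r) : P m A B) = bs ⟨r, hr⟩ := by
      rw [hbs]
      exact (H6_vP_eq A B z m ⟨r, hr⟩).symm
    rw [e1, Module.Basis.coord_apply, Module.Basis.repr_self, Finsupp.single_apply]
    by_cases hrp : r = Finsupp.equivFunOnFinite.symm p
    · rw [if_pos hrp, if_pos]
      apply Subtype.ext
      show (r : ι → ℕ) = p
      rw [hrp]; rfl
    · rw [if_neg hrp, if_neg]
      intro h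
      apply hrp
      have h' : (r : ι → ℕ) = p := congrArg Subtype.val h
      ext i
      rw [h']; rfl
  · have hmem : H6_zetaPow A B z r ∈ KaehlerDifferential.ideal A B ^ (m + 1) :=
      Ideal.pow_le_pow_right (by omega) (H6_zetaPow_mem A B z r)
    rw [Ideal.Quotient.eq_zero_iff_mem.2 hmem, map_zero, if_neg]
    intro h
    apply hr
    rw [h]
    exact hp

theorem H6_evP_surjective_ker
    (bs : Module.Basis {p : ι → ℕ // ∑ i, p i ≤ m} B (P m A B))
    (hbs : ∀ p, bs p = ∏ i, (dn m A B (z i) - algebraMap B (P m A B) (z i)) ^ (p.1 i)) :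
    Function.Surjective (H6_evP A B m z) ∧
      RingHom.ker (H6_evP A B m z).toRingHom =
        (Ideal.span (Set.range (MvPolynomial.X : ι → MvPolynomial ι B))) ^ (m + 1) := by
  classical
  constructor
  · intro y
    refine ⟨(bs.repr y).sum (fun p c => c • ∏ i, (X i : MvPolynomial ι B) ^ p.1 i), ?_⟩
    rw [map_finsuppSum]
    conv_rhs => rw [← bs.linearCombination_repr y, Finsupp.linearCombination_apply]
    refine Finsupp.sum_congr fun p _ => ?_
    rw [map_smul, hbs, map_prod]
    congr 1
    refine Finset.prod_congr rfl fun i _ => ?_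
    rw [map_pow]
    congr 1
    unfold H6_evP
    rw [MvPolynomial.aeval_X]
  · apply le_antisymm
    · intro f hf
      have hf0 : H6_evP A B m z f = 0 := hf
      show f ∈ MvPolynomial.idealOfVars ι B ^ (m + 1)
      rw [MvPolynomial.mem_pow_idealOfVars_iff']
      intro x hx
      have hx' : ∑ i, x i ≤ m := by
        rw [Finsupp.degree_eq_sum] at hx
        omega
      have := LinearMap.congr_fun (H6_coord_evP A B m z bs hbs (fun i => x i) hx') f
      rw [LinearMap.comp_apply, AlgHom.toLinearMap_apply, hf0, map_zero,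
        MvPolynomial.lcoeff_apply] at this
      rw [this]
      congr 1
      ext i
      rfl
    · have h1 : Ideal.map (H6_evP A B m z).toRingHom
          ((Ideal.span (Set.range (MvPolynomial.X : ι → MvPolynomial ι B))) ^ (m + 1)) ≤ ⊥ := by
        rw [Ideal.map_pow, ← H6_aug_pow_eq_bot m A B]
        refine Ideal.pow_right_mono ?_ _
        rw [Ideal.map_span, Ideal.span_le]
        rintro _ ⟨_, ⟨i, rfl⟩, rfl⟩
        show H6_evP A B m z (X i) ∈ augIdeal m A B
        unfold H6_evP
        rw [MvPolynomial.aeval_X]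
        exact H6_dn_sub_mem_aug m A B (z i)
      intro f hf
      have := h1 (Ideal.mem_map_of_mem _ hf)
      rwa [Ideal.mem_bot] at this

end

end Groth.Agent.Lib.helper6
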