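import Mathlib
import Groth.Prelude.Def_PP16
import Groth.Agent.Lib.helper6.PP16Basic

set_option autoImplicit false
set_option linter.style.haveILetI false

namespace Groth.Agent.Lib.helper6
open PP16
open scoped TensorProduct

universe u

section

variable (A B C : Type u) [CommRing A] [CommRing B] [CommRing C]
    [Algebra A B] [Algebra B C] [Algebra A C] [IsScalarTower A B C]

lemma H6_tower_mem (b : B) (c c' : C) :
    (b • c) ⊗ₜ[A] c' - c ⊗ₜ[A] (b • c') ∈
      (KaehlerDifferential.ideal A B).map (tensorMap A B A C) := by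
  have h : (b • c) ⊗ₜ[A] c' - c ⊗ₜ[A] (b • c') =
      -((c ⊗ₜ[A] c') * tensorMap A B A C ((1 : B) ⊗ₜ[A] b - b ⊗ₜ[A] (1 : B))) := by
    rw [map_sub, tensorMap_tmul, tensorMap_tmul, map_one, mul_sub,
      Algebra.TensorProduct.tmul_mul_tmul, Algebra.TensorProduct.tmul_mul_tmul, mul_one, mul_one,
      Algebra.smul_def, Algebra.smul_def, mul_comm c, mul_comm c']
    ring
  rw [h]
  exact neg_mem (Ideal.mul_mem_left _ _ (Ideal.mem_map_of_mem _
    (KaehlerDifferential.one_smul_sub_smul_one_mem_ideal A b)))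

/-- the additive inverse map `C ⊗_B C → (C ⊗_A C)/K`. -/
noncomputable def H6_towerInv :
    C ⊗[B] C →+ (C ⊗[A] C) ⧸ (KaehlerDifferential.ideal A B).map (tensorMap A B A C) :=
  TensorProduct.liftAddHom
    (AddMonoidHom.mk' (fun c => AddMonoidHom.mk'
      (fun c' => Ideal.Quotient.mk ((KaehlerDifferential.ideal A B).map (tensorMap A B A C))
        (c ⊗ₜ[A] c'))
      (by intro x y; rw [TensorProduct.tmul_add, map_add]))
      (by intro x y; ext c'; simp [TensorProduct.add_tmul]))
    (by
      intro b c c'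
      simp only [AddMonoidHom.mk'_apply]
      rw [← sub_eq_zero, ← map_sub, Ideal.Quotient.eq_zero_iff_mem]
      exact H6_tower_mem A B C b c c')

lemma H6_towerInv_tmul (c c' : C) :
    H6_towerInv A B C (c ⊗ₜ[B] c') =
      Ideal.Quotient.mk ((KaehlerDifferential.ideal A B).map (tensorMap A B A C)) (c ⊗ₜ[A] c') := by
  simp [H6_towerInv]

lemma H6_towerInv_tensorMap (t : C ⊗[A] C) :
    H6_towerInv A B C (tensorMap A C B C t) =
      Ideal.Quotient.mk ((KaehlerDifferential.ideal A B).map (tensorMap A B A C)) t := by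
  induction t using TensorProduct.induction_on with
  | zero => simp
  | tmul c c' =>
    rw [tensorMap_tmul, H6_towerInv_tmul]
    rfl
  | add x y hx hy => rw [map_add, map_add, hx, hy, map_add]

lemma H6_ker_tensorMap_tower :
    RingHom.ker (tensorMap A C B C) = (KaehlerDifferential.ideal A B).map (tensorMap A B A C) := by
  apply le_antisymm
  · intro t ht
    rw [RingHom.mem_ker] at ht
    have := H6_towerInv_tensorMap A B C t
    rw [ht, map_zero] at this
    exact Ideal.Quotient.eq_zero_iff_mem.1 this.symm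
  · rw [Ideal.map_le_iff_le_comap, ← KaehlerDifferential.span_range_eq_ideal, Ideal.span_le]
    rintro _ ⟨b, rfl⟩
    show tensorMap A B A C ((1 : B) ⊗ₜ[A] b - b ⊗ₜ[A] (1 : B)) ∈ RingHom.ker (tensorMap A C B C)
    rw [RingHom.mem_ker, map_sub, tensorMap_tmul, tensorMap_tmul, map_one, map_sub, tensorMap_tmul,
      tensorMap_tmul, map_one, sub_eq_zero]
    show (1 : C) ⊗ₜ[B] (algebraMap B C b) = (algebraMap B C b) ⊗ₜ[B] (1 : C)
    rw [Algebra.algebraMap_eq_smul_one, TensorProduct.smul_tmul]

theorem H6_map_tower (n : ℕ) :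
    Function.Surjective (PP16.map n A C B C) ∧
      RingHom.ker (PP16.map n A C B C) = (PP16.augIdeal n A B).map (PP16.map n A B A C) := by
  obtain ⟨h1, h2⟩ := H6_map_surj_ker A C B C n (fun c => ⟨c, rfl⟩)
  refine ⟨h1, ?_⟩
  rw [h2, H6_ker_tensorMap_tower, augIdeal]
  rw [show Ideal.map (tensorMap A B A C) (KaehlerDifferential.ideal A B) =
    Ideal.map ((tensorMap A B A C : B ⊗[A] B →ₐ[A] C ⊗[A] C) : B ⊗[A] B →+* C ⊗[A] C)
      (KaehlerDifferential.ideal A B) from rfl, Ideal.map_map]
  rw [show Ideal.map (PP16.map n A B A C)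
      (Ideal.map (Ideal.Quotient.mk (KaehlerDifferential.ideal A B ^ (n + 1)))
        (KaehlerDifferential.ideal A B)) =
    Ideal.map ((PP16.map n A B A C : P n A B →ₐ[A] P n A C) : P n A B →+* P n A C)
      (Ideal.map (Ideal.Quotient.mk (KaehlerDifferential.ideal A B ^ (n + 1)))
        (KaehlerDifferential.ideal A B)) from rfl, Ideal.map_map]
  rfl

end

end Groth.Agent.Lib.helper6
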