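import Mathlib
import Groth.Prelude.Def_PP16
import Groth.Agent.Lib.helper6.PP16Tower

set_option autoImplicit false
set_option linter.style.haveILetI false

namespace Groth.Agent.Lib.helper6
open PP16
open scoped TensorProduct

universe u

lemma H6_kaehler_ideal_eq_bot_of_isLocalization (A A' : Type u) [CommRing A] [CommRing A']
    [Algebra A A'] (R : Submonoid A) [IsLocalization R A'] :
    KaehlerDifferential.ideal A A' = ⊥ := by
  rw [← KaehlerDifferential.span_range_eq_ideal, Ideal.span_eq_bot]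
  rintro _ ⟨a', rfl⟩
  show (1 : A') ⊗ₜ[A] a' - a' ⊗ₜ[A] (1 : A') = 0
  rw [sub_eq_zero]
  obtain ⟨⟨a, r⟩, har⟩ := IsLocalization.surj R a'
  simp only at har
  obtain ⟨u, hu⟩ : ∃ u : A', u * algebraMap A A' r = 1 :=
    ⟨IsLocalization.mk' A' 1 r, IsLocalization.mk'_spec' A' 1 r |> fun h => by
      rw [mul_comm]; simpa using h⟩
  have ha' : a' = algebraMap A A' a * u := by
    calc a' = a' * (algebraMap A A' r * u) := by rw [mul_comm _ u, hu, mul_one]
      _ = (a' * algebraMap A A' r) * u := by ring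
      _ = algebraMap A A' a * u := by rw [har]
  calc (1 : A') ⊗ₜ[A] a' = ((r : A) • u) ⊗ₜ[A] a' := by
        rw [Algebra.smul_def, mul_comm, hu]
    _ = u ⊗ₜ[A] ((r : A) • a') := by rw [TensorProduct.smul_tmul]
    _ = u ⊗ₜ[A] (a • (1 : A')) := by
        rw [Algebra.smul_def, Algebra.smul_def, mul_comm, har, mul_one]
    _ = (a • u) ⊗ₜ[A] (1 : A') := by rw [TensorProduct.smul_tmul]
    _ = a' ⊗ₜ[A] (1 : A') := by rw [Algebra.smul_def, ← ha']

theorem H6_map_bijective_of_isLocalization_base (n : ℕ) (A A' B' : Type u) [CommRing A]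
    [CommRing A'] [CommRing B'] [Algebra A A'] [Algebra A' B'] [Algebra A B']
    [IsScalarTower A A' B'] (R : Submonoid A) [IsLocalization R A'] :
    Function.Bijective (PP16.map n A B' A' B') := by
  obtain ⟨h1, h2⟩ := H6_map_tower A A' B' n
  refine ⟨?_, h1⟩
  rw [injective_iff_map_eq_zero]
  intro x hx
  have : x ∈ RingHom.ker (PP16.map n A B' A' B') := hx
  have haug : augIdeal n A A' = ⊥ := by
    unfold augIdeal
    have h0 := H6_kaehler_ideal_eq_bot_of_isLocalization A A' R
    rw [eq_bot_iff, Ideal.map_le_iff_le_comap]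
    exact h0.le.trans bot_le
  rw [h2, haug, Ideal.map_bot] at this
  exact this

end Groth.Agent.Lib.helper6
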