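import Mathlib
import Groth.Agent.Lib.helper6.PushoutAux

set_option autoImplicit false
set_option linter.style.haveILetI false

namespace Groth.Agent.Lib.helper6
open scoped TensorProduct

universe u

section main

variable (B B' P P' : Type u) [CommRing B] [CommRing B'] [CommRing P] [CommRing P']
  [Algebra B B'] [Algebra B P] [Algebra B' P'] [Algebra P P'] [Algebra B P']
  [IsScalarTower B P P'] [IsScalarTower B B' P']

/-- pushout criterion via an explicit inverse ring hom (rigidity form). -/
theorem H6_isPushout_of_inverse' (Ψ : P' →+* P ⊗[B] B')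
    (h1 : ∀ p : P, Ψ (algebraMap P P' p) = p ⊗ₜ[B] (1 : B'))
    (h2 : ∀ b' : B', Ψ (algebraMap B' P' b') = (1 : P) ⊗ₜ[B] b')
    (hgen : ∀ g : P' →+* P', (∀ p, g (algebraMap P P' p) = algebraMap P P' p) →
      (∀ b', g (algebraMap B' P' b') = algebraMap B' P' b') → ∀ y, g y = y) :
    Algebra.IsPushout B P B' P' := by
  let Φ : P ⊗[B] B' →ₐ[B] P' :=
    Algebra.TensorProduct.productMap (IsScalarTower.toAlgHom B P P') (IsScalarTower.toAlgHom B B' P')
  have hΦ : ∀ p b', Φ (p ⊗ₜ[B] b') = algebraMap P P' p * algebraMap B' P' b' := fun p b' => by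
    rw [Algebra.TensorProduct.productMap_apply_tmul]; rfl
  have hΨΦ : ∀ x, Ψ (Φ x) = x := by
    intro x
    induction x using TensorProduct.induction_on with
    | zero => simp
    | tmul p b' =>
      rw [hΦ, map_mul, h1, h2, Algebra.TensorProduct.tmul_mul_tmul, mul_one, one_mul]
    | add x y hx hy => rw [map_add, map_add, hx, hy]
  have hΦΨ : ∀ y, Φ (Ψ y) = y := by
    refine hgen (Φ.toRingHom.comp Ψ) (fun p => ?_) (fun b' => ?_)
    · show Φ (Ψ (algebraMap P P' p)) = _
      rw [h1, hΦ, map_one, mul_one]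
    · show Φ (Ψ (algebraMap B' P' b')) = _
      rw [h2, hΦ, map_one, one_mul]
  constructor
  let e : P ⊗[B] B' ≃ₗ[P] P' :=
    { toFun := Φ
      invFun := Ψ
      left_inv := hΨΦ
      right_inv := hΦΨ
      map_add' := map_add Φ
      map_smul' := fun p x => by
        rw [RingHom.id_apply]
        have : p • x = (p ⊗ₜ[B] (1 : B')) * x := by
          induction x using TensorProduct.induction_on with
          | zero => simp
          | tmul q b' =>
            rw [TensorProduct.smul_tmul', Algebra.TensorProduct.tmul_mul_tmul, one_mul, smul_eq_mul]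
          | add x y hx hy => rw [smul_add, hx, hy, mul_add]
        rw [this, map_mul, hΦ, map_one, mul_one, Algebra.smul_def] }
  refine IsBaseChange.of_equiv e fun b' => ?_
  show Φ ((1 : P) ⊗ₜ[B] b') = _
  rw [hΦ, map_one, one_mul]
  rfl

end main

section loc

variable (A B B' : Type u) [CommRing A] [CommRing B] [Algebra A B]
  [CommRing B'] [Algebra B B'] [Algebra A B'] [IsScalarTower A B B']

/-- generic construction of the inverse map for the localization of principal parts. -/
theorem H6_loc_psi0 (S : Submonoid B) [IsLocalization S B'] (P : Type u) [CommRing P] [Algebra B P]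
    (d : B →+* P) (aug : Ideal P) (m : ℕ) (haug : aug ^ m = ⊥)
    (hd : ∀ b, d b - algebraMap B P b ∈ aug)
    (hdA : ∀ a, d (algebraMap A B a) = algebraMap B P (algebraMap A B a)) :
    ∃ Ψ₀ : B' ⊗[A] B' →+* P ⊗[B] B',
      (∀ b c : B, Ψ₀ (algebraMap B B' b ⊗ₜ[A] algebraMap B B' c) =
        (algebraMap B P b * d c) ⊗ₜ[B] (1 : B')) ∧
      (∀ b' : B', Ψ₀ (b' ⊗ₜ[A] (1 : B')) = (1 : P) ⊗ₜ[B] b') ∧
      KaehlerDifferential.ideal A B' ^ m ≤ RingHom.ker Ψ₀ := by
  let inl : P →+* P ⊗[B] B' :=
    (Algebra.TensorProduct.includeLeft : P →ₐ[B] P ⊗[B] B').toRingHom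
  let inr : B' →+* P ⊗[B] B' :=
    (Algebra.TensorProduct.includeRight : B' →ₐ[B] P ⊗[B] B').toRingHom
  have hinl : ∀ p, inl p = p ⊗ₜ[B] (1 : B') := fun p => rfl
  have hinr : ∀ b', inr b' = (1 : P) ⊗ₜ[B] b' := fun b' => rfl
  have hbal : ∀ (b : B) (b' : B'),
      inr (algebraMap B B' b * b') = inl (algebraMap B P b) * inr b' := by
    intro b b'
    rw [hinr, hinr, hinl, Algebra.TensorProduct.tmul_mul_tmul, mul_one, one_mul,
      ← Algebra.smul_def, Algebra.algebraMap_eq_smul_one, TensorProduct.smul_tmul]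
  have hbal1 : ∀ b : B, inr (algebraMap B B' b) = inl (algebraMap B P b) := by
    intro b
    have := hbal b 1
    rwa [mul_one, map_one, mul_one] at this
  have h𝔞 : (aug.map inl) ^ m = ⊥ := by
    rw [← Ideal.map_pow, haug, Ideal.map_bot]
  have hnil : ∀ x ∈ aug.map inl, IsNilpotent x := by
    intro x hx
    refine ⟨m, ?_⟩
    have := Ideal.pow_mem_pow hx m
    rwa [h𝔞, Ideal.mem_bot] at this
  have hdmem : ∀ b, inl (d b) - inr (algebraMap B B' b) ∈ aug.map inl := by
    intro b
    rw [hbal1, ← map_sub]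
    exact Ideal.mem_map_of_mem _ (hd b)
  have hunits : ∀ s : S, IsUnit ((inl.comp d) s) := by
    intro s
    have h1 : IsUnit (inr (algebraMap B B' s)) := (IsLocalization.map_units B' s).map inr
    have h2 := (hnil _ (hdmem s)).isUnit_add_left_of_commute h1 (Commute.all _ _)
    have h3 : inr (algebraMap B B' s) + (inl (d s) - inr (algebraMap B B' s)) = inl (d s) := by ring
    rw [h3] at h2
    exact h2
  let r : B' →+* P ⊗[B] B' := IsLocalization.lift hunits
  have hr1 : ∀ b, r (algebraMap B B' b) = inl (d b) := fun b => IsLocalization.lift_eq hunits b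
  have hrA : ∀ a, r (algebraMap A B' a) = inr (algebraMap A B' a) := by
    intro a
    rw [IsScalarTower.algebraMap_apply A B B', hr1, hdA, hbal1]
  obtain ⟨Ψ₀, hΨ₀⟩ := H6_tensor_desc A B' (P ⊗[B] B') inr r (fun a => (hrA a).symm)
  have hdiff : ∀ b' : B', r b' - inr b' ∈ aug.map inl := by
    intro b'
    obtain ⟨b, s, rfl⟩ := IsLocalization.exists_mk'_eq S b'
    have hu : IsUnit (r (algebraMap B B' s)) := by rw [hr1]; exact hunits s
    have hspec : algebraMap B B' s * IsLocalization.mk' B' b s = algebraMap B B' b := by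
      rw [mul_comm]; exact IsLocalization.mk'_spec B' b s
    have key : r (algebraMap B B' s) * (r (IsLocalization.mk' B' b s) - inr (IsLocalization.mk' B' b s)) ∈
        aug.map inl := by
      have e1 : r (algebraMap B B' s) * r (IsLocalization.mk' B' b s) = inl (d b) := by
        rw [← map_mul, hspec, hr1]
      have e2 : inr (algebraMap B B' s) * inr (IsLocalization.mk' B' b s) = inr (algebraMap B B' b) := by
        rw [← map_mul, hspec]
      have e3 : r (algebraMap B B' s) * (r (IsLocalization.mk' B' b s) - inr (IsLocalization.mk' B' b s)) =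
          (inl (d b) - inr (algebraMap B B' b)) -
            (inl (d s) - inr (algebraMap B B' s)) * inr (IsLocalization.mk' B' b s) := by
        rw [mul_sub, e1, sub_mul, e2, hr1]
        ring
      rw [e3]
      exact Ideal.sub_mem _ (hdmem b) (Ideal.mul_mem_right _ _ (hdmem s))
    obtain ⟨u, hu'⟩ := hu
    have := Ideal.mul_mem_left _ (↑u⁻¹ : P ⊗[B] B') key
    rwa [← hu', ← mul_assoc, Units.inv_mul, one_mul] at this
  refine ⟨Ψ₀, ?_, ?_, ?_⟩
  · intro b c
    rw [hΨ₀, hr1, hbal1, ← map_mul, hinl]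
  · intro b'
    rw [hΨ₀, map_one, mul_one, hinr]
  · apply H6_pow_le_ker' Ψ₀ _ (aug.map inl) m h𝔞
    rw [← KaehlerDifferential.span_range_eq_ideal, Ideal.span_le]
    rintro _ ⟨b', rfl⟩
    show Ψ₀ ((1 : B') ⊗ₜ[A] b' - b' ⊗ₜ[A] (1 : B')) ∈ aug.map inl
    rw [map_sub, hΨ₀, hΨ₀, map_one, map_one, one_mul, mul_one]
    exact hdiff b'

end loc

end Groth.Agent.Lib.helper6
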