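import Mathlib
import Groth.Prelude.Def_PP16
import Groth.Agent.Lib.helper6.PP16Pushout
import Groth.Agent.Lib.helper6.PushoutAux2

set_option autoImplicit false
set_option linter.style.haveILetI false

namespace Groth.Agent.Lib.helper6
open PP16
open scoped TensorProduct

universe u

section

variable (n : ℕ) (A B B' : Type u) [CommRing A] [CommRing B] [Algebra A B]
  [CommRing B'] [Algebra B B'] [Algebra A B'] [IsScalarTower A B B']

theorem H6_exists_inverse_loc (S : Submonoid B) [IsLocalization S B'] :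
    ∃ Ψ : P n A B' →+* (P n A B) ⊗[B] B',
      (∀ p : P n A B, Ψ (map n A B A B' p) = p ⊗ₜ[B] (1 : B')) ∧
      (∀ b' : B', Ψ (algebraMap B' (P n A B') b') = (1 : P n A B) ⊗ₜ[B] b') := by
  obtain ⟨Ψ₀, h1, h2, h3⟩ := H6_loc_psi0 A B B' S (P n A B) (dn n A B).toRingHom
    (augIdeal n A B) (n + 1) (H6_aug_pow_eq_bot n A B) (H6_dn_sub_mem_aug n A B)
    (H6_dn_algebraMap n A B)
  refine ⟨Ideal.Quotient.lift _ Ψ₀ (fun t ht => h3 ht), ?_, ?_⟩
  · intro p
    obtain ⟨t, rfl⟩ := Ideal.Quotient.mk_surjective p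
    rw [map_mk, Ideal.Quotient.lift_mk]
    induction t using TensorProduct.induction_on with
    | zero => simp
    | tmul b c =>
      rw [tensorMap_tmul, h1, H6_mk_tmul_eq]
      rfl
    | add x y hx hy =>
      rw [map_add, map_add, hx, hy, map_add, TensorProduct.add_tmul]
  · intro b'
    show Ideal.Quotient.lift _ Ψ₀ _ (Ideal.Quotient.mk _ (b' ⊗ₜ[A] (1 : B'))) = _
    rw [Ideal.Quotient.lift_mk, h2]

theorem H6_P_rigid_loc (S : Submonoid B) [IsLocalization S B'] (g : P n A B' →+* P n A B')
    (hg1 : ∀ p, g (map n A B A B' p) = map n A B A B' p)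
    (hg2 : ∀ b', g (algebraMap B' (P n A B') b') = algebraMap B' (P n A B') b') :
    ∀ y, g y = y := by
  have hdn : g.comp (dn n A B').toRingHom = (dn n A B').toRingHom := by
    apply IsLocalization.ringHom_ext S
    ext b
    show g (dn n A B' (algebraMap B B' b)) = dn n A B' (algebraMap B B' b)
    rw [← map_dn n A B A B', hg1]
  intro y
  obtain ⟨t, rfl⟩ := Ideal.Quotient.mk_surjective y
  induction t using TensorProduct.induction_on with
  | zero => simp
  | tmul x y =>
    rw [H6_mk_tmul_eq, map_mul, hg2]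
    congr 1
    exact RingHom.congr_fun hdn y
  | add x y hx hy => rw [map_add, map_add, hx, hy]

end

end Groth.Agent.Lib.helper6
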