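import Mathlib
import Groth.Prelude.Def_PP16
import Groth.Agent.Lib.helper6.PP16Basic

set_option autoImplicit false
set_option linter.style.haveILetI false

namespace Groth.Agent.Lib.helper6
open PP16 MvPolynomial
open scoped TensorProduct

universe u

section

variable (A : Type u) [CommRing A] (σ : Type u)

/-- the shift automorphism `X_i ↦ X_i + C X_i` of `B[σ]`, `B = A[σ]`. -/
noncomputable def H6_shift :
    MvPolynomial σ (MvPolynomial σ A) ≃ₐ[MvPolynomial σ A] MvPolynomial σ (MvPolynomial σ A) :=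
  AlgEquiv.ofAlgHom
    (aeval (fun i => (X i : MvPolynomial σ (MvPolynomial σ A)) + C (X i)))
    (aeval (fun i => (X i : MvPolynomial σ (MvPolynomial σ A)) - C (X i)))
    (by ext i; simp)
    (by ext i; simp)

lemma H6_shift_X (i : σ) : H6_shift A σ (X i) = X i + C (X i) := by
  simp [H6_shift]

/-- `B ⊗_A B ≃ B[σ]`. -/
noncomputable def H6_polyEquiv :
    (MvPolynomial σ A) ⊗[A] (MvPolynomial σ A) ≃ₐ[MvPolynomial σ A]
      MvPolynomial σ (MvPolynomial σ A) :=
  (MvPolynomial.algebraTensorAlgEquiv A (MvPolynomial σ A)).trans (H6_shift A σ)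

lemma H6_polyEquiv_tmul (b c : MvPolynomial σ A) :
    H6_polyEquiv A σ (b ⊗ₜ c) =
      b • H6_shift A σ (MvPolynomial.map (algebraMap A (MvPolynomial σ A)) c) := by
  simp [H6_polyEquiv]

lemma H6_constantCoeff_shift (p : MvPolynomial σ (MvPolynomial σ A)) :
    constantCoeff (H6_shift A σ p) = aeval (X : σ → MvPolynomial σ A) p := by
  induction p using MvPolynomial.induction_on with
  | C b => simp [H6_shift]
  | add p q hp hq => rw [map_add, map_add, hp, hq, map_add]
  | mul_X p i hp =>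
    rw [map_mul, map_mul, hp, map_mul, H6_shift_X]
    simp

lemma H6_mem_idealOfVars_iff (p : MvPolynomial σ (MvPolynomial σ A)) :
    p ∈ Ideal.span (Set.range (X : σ → MvPolynomial σ (MvPolynomial σ A))) ↔
      constantCoeff p = 0 := by
  have h := MvPolynomial.mem_pow_idealOfVars_iff' (σ := σ) (R := MvPolynomial σ A) 1 p
  rw [pow_one] at h
  rw [show Ideal.span (Set.range (X : σ → MvPolynomial σ (MvPolynomial σ A))) =
    idealOfVars σ (MvPolynomial σ A) from rfl, h]
  constructor
  · intro h0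
    exact h0 0 (by simp)
  · intro h0 x hx
    have : x = 0 := by
      rw [Nat.lt_one_iff] at hx
      exact (Finsupp.degree_eq_zero_iff x).1 hx
    rw [this]
    exact h0

lemma H6_polyEquiv_ideal :
    (KaehlerDifferential.ideal A (MvPolynomial σ A)).map
      ((H6_polyEquiv A σ : _ ≃ₐ[MvPolynomial σ A] _) : _ →+* _) =
      Ideal.span (Set.range (X : σ → MvPolynomial σ (MvPolynomial σ A))) := by
  apply le_antisymm
  · rw [Ideal.map_le_iff_le_comap, ← KaehlerDifferential.span_range_eq_ideal, Ideal.span_le]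
    rintro _ ⟨b, rfl⟩
    rw [SetLike.mem_coe, Ideal.mem_comap, H6_mem_idealOfVars_iff]
    show constantCoeff (H6_polyEquiv A σ ((1 : MvPolynomial σ A) ⊗ₜ[A] b - b ⊗ₜ[A] 1)) = 0
    rw [map_sub, H6_polyEquiv_tmul, H6_polyEquiv_tmul, map_sub, one_smul, map_one, map_one,
      H6_constantCoeff_shift, MvPolynomial.aeval_map_algebraMap]
    simp [MvPolynomial.smul_eq_C_mul]
  · rw [Ideal.span_le]
    rintro _ ⟨i, rfl⟩
    have : (X i : MvPolynomial σ (MvPolynomial σ A)) =
        H6_polyEquiv A σ ((1 : MvPolynomial σ A) ⊗ₜ[A] X i - X i ⊗ₜ[A] 1) := by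
      rw [map_sub, H6_polyEquiv_tmul, H6_polyEquiv_tmul, one_smul, map_one, map_one, map_X,
        H6_shift_X, MvPolynomial.smul_eq_C_mul, mul_one, add_sub_cancel_right]
    rw [SetLike.mem_coe, this]
    exact Ideal.mem_map_of_mem _ (KaehlerDifferential.one_smul_sub_smul_one_mem_ideal A (X i))

theorem H6_exists_algEquiv_mvPolynomial (n : ℕ) :
    ∃ e : PP16.P n A (MvPolynomial σ A) ≃ₐ[MvPolynomial σ A]
        (MvPolynomial σ (MvPolynomial σ A) ⧸
          Ideal.span (Set.range (MvPolynomial.X : σ → MvPolynomial σ (MvPolynomial σ A))) ^ (n + 1)),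
      ∀ i : σ, e (PP16.dn n A (MvPolynomial σ A) (MvPolynomial.X i)) =
        Ideal.Quotient.mk _ (MvPolynomial.C (MvPolynomial.X i : MvPolynomial σ A) +
          (MvPolynomial.X i : MvPolynomial σ (MvPolynomial σ A))) := by
  refine ⟨Ideal.quotientEquivAlg _ _ (H6_polyEquiv A σ) ?_, ?_⟩
  · rw [Ideal.map_pow, H6_polyEquiv_ideal]
  · intro i
    show Ideal.Quotient.mk _ (H6_polyEquiv A σ ((1 : MvPolynomial σ A) ⊗ₜ[A] X i)) = _
    rw [H6_polyEquiv_tmul, one_smul, map_X, H6_shift_X, add_comm (X i)]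

end

end Groth.Agent.Lib.helper6
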