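import Mathlib
import Groth.Prelude.Def_PP16
import Groth.Agent.Lib.helper6.PP16Basic

set_option autoImplicit false
set_option linter.style.haveILetI false

namespace Groth.Agent.Lib.helper6
open PP16
open scoped TensorProduct

universe u

section

variable (A : Type u) [CommRing A] (E : Type u) [AddCommGroup E] [Module A E]

local notation "S" => SymmetricAlgebra A E

/-- `ψ : S → S ⊗ S`, `ι t ↦ ι t ⊗ 1 + 1 ⊗ ι t`. -/
noncomputable def H6_symPsi : S →ₐ[A] S ⊗[A] S :=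
  SymmetricAlgebra.lift
    ((Algebra.TensorProduct.includeLeft : S →ₐ[A] S ⊗[A] S).toLinearMap ∘ₗ SymmetricAlgebra.ι A E +
      (Algebra.TensorProduct.includeRight : S →ₐ[A] S ⊗[A] S).toLinearMap ∘ₗ SymmetricAlgebra.ι A E)

lemma H6_symPsi_ι (t : E) :
    H6_symPsi A E (SymmetricAlgebra.ι A E t) =
      SymmetricAlgebra.ι A E t ⊗ₜ 1 + 1 ⊗ₜ SymmetricAlgebra.ι A E t := by
  simp [H6_symPsi, SymmetricAlgebra.lift_ι_apply]

/-- `ψ' : S → S ⊗ S`, `ι t ↦ 1 ⊗ ι t - ι t ⊗ 1`. -/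
noncomputable def H6_symPsi' : S →ₐ[A] S ⊗[A] S :=
  SymmetricAlgebra.lift
    ((Algebra.TensorProduct.includeRight : S →ₐ[A] S ⊗[A] S).toLinearMap ∘ₗ SymmetricAlgebra.ι A E -
      (Algebra.TensorProduct.includeLeft : S →ₐ[A] S ⊗[A] S).toLinearMap ∘ₗ SymmetricAlgebra.ι A E)

lemma H6_symPsi'_ι (t : E) :
    H6_symPsi' A E (SymmetricAlgebra.ι A E t) =
      1 ⊗ₜ SymmetricAlgebra.ι A E t - SymmetricAlgebra.ι A E t ⊗ₜ 1 := by
  simp [H6_symPsi', SymmetricAlgebra.lift_ι_apply]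

noncomputable def H6_symTheta : S ⊗[A] S →ₐ[S] S ⊗[A] S :=
  Algebra.TensorProduct.lift (Algebra.TensorProduct.includeLeft : S →ₐ[S] S ⊗[A] S)
    (H6_symPsi A E) (fun _ _ => Commute.all _ _)

noncomputable def H6_symTheta' : S ⊗[A] S →ₐ[S] S ⊗[A] S :=
  Algebra.TensorProduct.lift (Algebra.TensorProduct.includeLeft : S →ₐ[S] S ⊗[A] S)
    (H6_symPsi' A E) (fun _ _ => Commute.all _ _)

lemma H6_symTheta_tmul (s s' : S) :
    H6_symTheta A E (s ⊗ₜ s') = (s ⊗ₜ 1) * H6_symPsi A E s' := by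
  simp [H6_symTheta, Algebra.TensorProduct.lift_tmul]

lemma H6_symTheta'_tmul (s s' : S) :
    H6_symTheta' A E (s ⊗ₜ s') = (s ⊗ₜ 1) * H6_symPsi' A E s' := by
  simp [H6_symTheta', Algebra.TensorProduct.lift_tmul]

lemma H6_symTheta_comp : (H6_symTheta' A E).comp (H6_symTheta A E) = AlgHom.id S (S ⊗[A] S) := by
  apply Algebra.TensorProduct.ext
  · ext
  · apply SymmetricAlgebra.algHom_ext
    ext t
    simp [H6_symTheta_tmul, H6_symTheta'_tmul, H6_symPsi_ι, H6_symPsi'_ι]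
    simp only [← Algebra.TensorProduct.one_def, one_mul]
    abel

lemma H6_symTheta_comp' : (H6_symTheta A E).comp (H6_symTheta' A E) = AlgHom.id S (S ⊗[A] S) := by
  apply Algebra.TensorProduct.ext
  · ext
  · apply SymmetricAlgebra.algHom_ext
    ext t
    simp [H6_symTheta_tmul, H6_symTheta'_tmul, H6_symPsi_ι, H6_symPsi'_ι]
    simp only [← Algebra.TensorProduct.one_def, one_mul]
    abel

noncomputable def H6_symEquiv : S ⊗[A] S ≃ₐ[S] S ⊗[A] S :=
  AlgEquiv.ofAlgHom (H6_symTheta A E) (H6_symTheta' A E) (H6_symTheta_comp' A E)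
    (H6_symTheta_comp A E)

lemma H6_symTheta_Theta' (x : S ⊗[A] S) : H6_symTheta A E (H6_symTheta' A E x) = x :=
  congrArg (fun f => f x) (H6_symTheta_comp' A E)

lemma H6_ι_mem_K (t : E) :
    SymmetricAlgebra.ι A E t ∈ RingHom.ker (SymmetricAlgebra.lift (0 : E →ₗ[A] A)) := by
  rw [RingHom.mem_ker, SymmetricAlgebra.lift_ι_apply]
  rfl

lemma H6_symPsi_sub_mem (s : S) :
    H6_symPsi A E s - s ⊗ₜ[A] (1 : S) ∈
      (RingHom.ker (SymmetricAlgebra.lift (0 : E →ₗ[A] A))).map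
        (Algebra.TensorProduct.includeRight : S →ₐ[A] S ⊗[A] S) := by
  obtain ⟨𝔎, h𝔎⟩ : ∃ 𝔎, 𝔎 = (RingHom.ker (SymmetricAlgebra.lift (0 : E →ₗ[A] A))).map
        (Algebra.TensorProduct.includeRight : S →ₐ[A] S ⊗[A] S) := ⟨_, rfl⟩
  rw [← h𝔎]
  induction s using SymmetricAlgebra.induction with
  | algebraMap r =>
    rw [AlgHom.commutes, Algebra.TensorProduct.algebraMap_apply, sub_self]
    exact zero_mem _
  | ι t =>
    rw [H6_symPsi_ι, add_sub_cancel_left, h𝔎]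
    exact Ideal.mem_map_of_mem _ (H6_ι_mem_K A E t)
  | mul a b ha hb =>
    have : H6_symPsi A E (a * b) - (a * b) ⊗ₜ[A] (1 : S) =
        H6_symPsi A E a * (H6_symPsi A E b - b ⊗ₜ[A] (1 : S)) +
          (H6_symPsi A E a - a ⊗ₜ[A] (1 : S)) * (b ⊗ₜ[A] (1 : S)) := by
      rw [map_mul, sub_mul, mul_sub, Algebra.TensorProduct.tmul_mul_tmul, mul_one]
      abel
    rw [this]
    exact add_mem (Ideal.mul_mem_left _ _ hb) (Ideal.mul_mem_right _ _ ha)
  | add a b ha hb =>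
    have : H6_symPsi A E (a + b) - (a + b) ⊗ₜ[A] (1 : S) =
        (H6_symPsi A E a - a ⊗ₜ[A] (1 : S)) + (H6_symPsi A E b - b ⊗ₜ[A] (1 : S)) := by
      rw [map_add, TensorProduct.add_tmul]
      abel
    rw [this]
    exact add_mem ha hb

lemma H6_symPsi'_sub_mem (s : S) :
    H6_symPsi' A E s - algebraMap A (S ⊗[A] S) (SymmetricAlgebra.lift (0 : E →ₗ[A] A) s) ∈
      KaehlerDifferential.ideal A S := by
  induction s using SymmetricAlgebra.induction with
  | algebraMap r =>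
    rw [AlgHom.commutes, AlgHom.commutes, Algebra.algebraMap_self_apply, sub_self]
    exact zero_mem _
  | ι t =>
    rw [H6_symPsi'_ι, SymmetricAlgebra.lift_ι_apply, LinearMap.zero_apply, map_zero, sub_zero]
    exact KaehlerDifferential.one_smul_sub_smul_one_mem_ideal A _
  | mul a b ha hb =>
    have : H6_symPsi' A E (a * b) -
        algebraMap A (S ⊗[A] S) (SymmetricAlgebra.lift (0 : E →ₗ[A] A) (a * b)) =
        H6_symPsi' A E a * (H6_symPsi' A E b -
          algebraMap A (S ⊗[A] S) (SymmetricAlgebra.lift (0 : E →ₗ[A] A) b)) +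
        (H6_symPsi' A E a - algebraMap A (S ⊗[A] S) (SymmetricAlgebra.lift (0 : E →ₗ[A] A) a)) *
          algebraMap A (S ⊗[A] S) (SymmetricAlgebra.lift (0 : E →ₗ[A] A) b) := by
      rw [map_mul, map_mul, map_mul]
      ring
    rw [this]
    exact add_mem (Ideal.mul_mem_left _ _ hb) (Ideal.mul_mem_right _ _ ha)
  | add a b ha hb =>
    have : H6_symPsi' A E (a + b) -
        algebraMap A (S ⊗[A] S) (SymmetricAlgebra.lift (0 : E →ₗ[A] A) (a + b)) =
        (H6_symPsi' A E a - algebraMap A (S ⊗[A] S) (SymmetricAlgebra.lift (0 : E →ₗ[A] A) a)) +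
        (H6_symPsi' A E b - algebraMap A (S ⊗[A] S) (SymmetricAlgebra.lift (0 : E →ₗ[A] A) b)) := by
      rw [map_add, map_add, map_add]
      abel
    rw [this]
    exact add_mem ha hb

lemma H6_symPsi'_mem (k : S) (hk : k ∈ RingHom.ker (SymmetricAlgebra.lift (0 : E →ₗ[A] A))) :
    H6_symPsi' A E k ∈ KaehlerDifferential.ideal A S := by
  have := H6_symPsi'_sub_mem A E k
  rw [RingHom.mem_ker] at hk
  rw [hk, map_zero, sub_zero] at this
  exact this

lemma H6_symEquiv_ideal :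
    (KaehlerDifferential.ideal A S).map
      ((H6_symEquiv A E : (S ⊗[A] S) ≃ₐ[S] (S ⊗[A] S)) : (S ⊗[A] S) →+* (S ⊗[A] S)) =
    (RingHom.ker (SymmetricAlgebra.lift (0 : E →ₗ[A] A))).map
        (Algebra.TensorProduct.includeRight : S →ₐ[A] S ⊗[A] S) := by
  apply le_antisymm
  · rw [Ideal.map_le_iff_le_comap, ← KaehlerDifferential.span_range_eq_ideal, Ideal.span_le]
    rintro _ ⟨s, rfl⟩
    rw [SetLike.mem_coe, Ideal.mem_comap]
    show H6_symTheta A E ((1 : S) ⊗ₜ[A] s - s ⊗ₜ[A] (1 : S)) ∈ _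
    rw [map_sub, H6_symTheta_tmul, H6_symTheta_tmul, map_one, mul_one,
      ← Algebra.TensorProduct.one_def, one_mul]
    exact H6_symPsi_sub_mem A E s
  · rw [Ideal.map_le_iff_le_comap]
    intro k hk
    rw [Ideal.mem_comap]
    have h1 : (Algebra.TensorProduct.includeRight : S →ₐ[A] S ⊗[A] S) k =
        H6_symTheta A E (H6_symPsi' A E k) := by
      have := H6_symTheta_Theta' A E ((1 : S) ⊗ₜ[A] k)
      rw [H6_symTheta'_tmul, ← Algebra.TensorProduct.one_def, one_mul] at this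
      rw [this]
      rfl
    rw [h1]
    exact Ideal.mem_map_of_mem _ (H6_symPsi'_mem A E k hk)

theorem H6_exists_algEquiv_symmetricAlgebra (n : ℕ) :
    ∃ e : PP16.P n A (SymmetricAlgebra A E) ≃ₐ[SymmetricAlgebra A E]
        (SymmetricAlgebra A E ⊗[A] (SymmetricAlgebra A E ⧸
          RingHom.ker (SymmetricAlgebra.lift (0 : E →ₗ[A] A)) ^ (n + 1))),
      ∀ t : E, e (PP16.dn n A (SymmetricAlgebra A E) (SymmetricAlgebra.ι A E t)) =
        SymmetricAlgebra.ι A E t ⊗ₜ 1 + 1 ⊗ₜ Ideal.Quotient.mk _ (SymmetricAlgebra.ι A E t) := by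
  have hI : ((RingHom.ker (SymmetricAlgebra.lift (0 : E →ₗ[A] A))) ^ (n + 1)).map
        (Algebra.TensorProduct.includeRight : S →ₐ[A] S ⊗[A] S) =
      ((KaehlerDifferential.ideal A S) ^ (n + 1)).map
      ((H6_symEquiv A E : (S ⊗[A] S) ≃ₐ[S] (S ⊗[A] S)) : (S ⊗[A] S) →+* (S ⊗[A] S)) := by
    rw [Ideal.map_pow, Ideal.map_pow, H6_symEquiv_ideal]
  refine ⟨(Ideal.quotientEquivAlg _ _ (H6_symEquiv A E) hI).trans
    (Algebra.TensorProduct.tensorQuotientEquiv (R := A) S S S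
      ((RingHom.ker (SymmetricAlgebra.lift (0 : E →ₗ[A] A))) ^ (n + 1))).symm, ?_⟩
  intro t
  show (Algebra.TensorProduct.tensorQuotientEquiv (R := A) S S S
      ((RingHom.ker (SymmetricAlgebra.lift (0 : E →ₗ[A] A))) ^ (n + 1))).symm
      (Ideal.Quotient.mk _ (H6_symTheta A E ((1 : S) ⊗ₜ[A] SymmetricAlgebra.ι A E t))) = _
  rw [H6_symTheta_tmul, ← Algebra.TensorProduct.one_def, one_mul, H6_symPsi_ι, map_add, map_add]
  rfl

end

end Groth.Agent.Lib.helper6
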