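import Mathlib

set_option autoImplicit false
set_option linter.style.haveILetI false

namespace Groth.Agent.Lib.helper6

universe u

open MvPowerSeries in
lemma H6_ps_mem_span {σ : Type*} [DecidableEq σ] {A : Type u} [CommRing A] (M : ℕ)
    (s : Finset σ) :
    ∀ G : MvPowerSeries σ A, (∀ m : σ →₀ ℕ, (∀ i ∈ s, m i < M) → coeff m G = 0) →
      G ∈ Ideal.span ((fun i => (X i : MvPowerSeries σ A) ^ M) '' (s : Set σ)) := by
  classical
  induction s using Finset.induction_on with
  | empty =>
    intro G hG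
    have : G = 0 := by
      ext m
      rw [hG m (fun i hi => absurd hi (Finset.notMem_empty i)), map_zero]
    rw [this]
    exact zero_mem _
  | insert i s' hi ih =>
    intro G hG
    let G' : MvPowerSeries σ A := fun m => if m i < M then 0 else coeff m G
    have hG' : ∀ m, coeff m G' = if m i < M then 0 else coeff m G := fun m => rfl
    have hdvd : (X i : MvPowerSeries σ A) ^ M ∣ G' := by
      rw [X_pow_dvd_iff]
      intro m hm
      rw [hG', if_pos hm]
    have h1 : G - G' ∈ Ideal.span ((fun i => (X i : MvPowerSeries σ A) ^ M) '' (s' : Set σ)) := by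
      refine ih (G - G') ?_
      intro m hm
      rw [map_sub, hG']
      by_cases hmi : m i < M
      · rw [if_pos hmi, sub_zero]
        refine hG m ?_
        intro j hj
        rcases Finset.mem_insert.1 hj with rfl | hj
        · exact hmi
        · exact hm j hj
      · rw [if_neg hmi, sub_self]
    have hle : Ideal.span ((fun i => (X i : MvPowerSeries σ A) ^ M) '' (s' : Set σ)) ≤
        Ideal.span ((fun i => (X i : MvPowerSeries σ A) ^ M) '' ((insert i s' : Finset σ) : Set σ)) := by
      refine Ideal.span_mono (Set.image_mono ?_)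
      intro j hj
      exact Finset.mem_insert_of_mem hj
    have h2 : G' ∈ Ideal.span ((fun i => (X i : MvPowerSeries σ A) ^ M) ''
        ((insert i s' : Finset σ) : Set σ)) := by
      obtain ⟨Q, hQ⟩ := hdvd
      rw [hQ]
      exact Ideal.mul_mem_right _ _ (Ideal.subset_span ⟨i, Finset.mem_insert_self i s', rfl⟩)
    have : G = (G - G') + G' := by ring
    rw [this]
    exact add_mem (hle h1) h2

noncomputable def H6_boxN (n M : ℕ) : Fin n →₀ ℕ := Finsupp.equivFunOnFinite.symm (fun _ => M - 1)

lemma H6_boxN_apply (n M : ℕ) (i : Fin n) : H6_boxN n M i = M - 1 := rfl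

lemma H6_le_boxN {n M : ℕ} (hM : 1 ≤ M) (m : Fin n →₀ ℕ) : m ≤ H6_boxN n M ↔ ∀ i, m i < M := by
  rw [Finsupp.le_def]
  constructor
  · intro h i
    have := h i
    rw [H6_boxN_apply] at this
    omega
  · intro h i
    have := h i
    rw [H6_boxN_apply]
    omega

open MvPowerSeries in
lemma H6_ps_mem_pow {n : ℕ} {A : Type u} [CommRing A] (M : ℕ) (hM : 1 ≤ M)
    (G : MvPowerSeries (Fin n) A) (hG : ∀ m ≤ H6_boxN n M, coeff m G = 0) :
    G ∈ (RingHom.ker (constantCoeff : MvPowerSeries (Fin n) A →+* A)) ^ M := by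
  have h1 := H6_ps_mem_span (A := A) M (Finset.univ : Finset (Fin n)) G (fun m hm =>
    hG m ((H6_le_boxN hM m).2 (fun i => hm i (Finset.mem_univ i))))
  have hle : Ideal.span ((fun i => (X i : MvPowerSeries (Fin n) A) ^ M) ''
      ((Finset.univ : Finset (Fin n)) : Set (Fin n))) ≤
      (RingHom.ker (constantCoeff : MvPowerSeries (Fin n) A →+* A)) ^ M := by
    rw [Ideal.span_le]
    rintro _ ⟨i, -, rfl⟩
    refine Ideal.pow_mem_pow ?_ M
    rw [RingHom.mem_ker, constantCoeff_X]
  exact hle h1

section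

variable {n : ℕ} {A : Type u} [CommRing A] {C : Type u} [CommRing C] [Algebra A C]

lemma H6_aeval_eq_zero (c : Fin n → C) (M : ℕ) (hM : 1 ≤ M) (hc : ∀ i, c i ^ M = 0)
    (p : MvPolynomial (Fin n) A) (hp : ∀ m ≤ H6_boxN n M, p.coeff m = 0) :
    MvPolynomial.aeval c p = 0 := by
  rw [MvPolynomial.aeval_def, MvPolynomial.eval₂_eq']
  refine Finset.sum_eq_zero (fun m hm => ?_)
  have h1 : ¬ m ≤ H6_boxN n M := fun hle => (MvPolynomial.mem_support_iff.1 hm) (hp m hle)
  rw [H6_le_boxN hM] at h1
  push_neg at h1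
  obtain ⟨i, hi⟩ := h1
  have h3 : c i ^ m i = 0 := by rw [← Nat.sub_add_cancel hi, pow_add, hc, mul_zero]
  rw [Finset.prod_eq_zero (Finset.mem_univ i) h3, mul_zero]

noncomputable def H6_evalNil (c : Fin n → C) (M : ℕ) (hM : 1 ≤ M) (hc : ∀ i, c i ^ M = 0) :
    MvPowerSeries (Fin n) A →ₐ[A] C :=
  { toFun := fun F => MvPolynomial.aeval c (MvPowerSeries.trunc' A (H6_boxN n M) F)
    map_one' := by rw [MvPowerSeries.trunc'_one, map_one]
    map_mul' := fun F G => by
      rw [← map_mul, ← sub_eq_zero, ← map_sub]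
      refine H6_aeval_eq_zero c M hM hc _ ?_
      intro m hm
      rw [MvPolynomial.coeff_sub, MvPowerSeries.coeff_trunc', if_pos hm,
        MvPowerSeries.coeff_trunc'_mul_trunc'_eq_coeff_mul _ _ _ hm, sub_self]
    map_zero' := by rw [map_zero, map_zero]
    map_add' := fun F G => by rw [map_add, map_add]
    commutes' := fun a => by
      show MvPolynomial.aeval c (MvPowerSeries.trunc' A _ (algebraMap A (MvPowerSeries _ A) a)) = _
      rw [MvPowerSeries.algebraMap_apply, Algebra.algebraMap_self, RingHom.id_apply,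
        MvPowerSeries.trunc'_C, MvPolynomial.aeval_C] }

lemma H6_evalNil_apply (c : Fin n → C) (M : ℕ) (hM : 1 ≤ M) (hc : ∀ i, c i ^ M = 0)
    (F : MvPowerSeries (Fin n) A) :
    H6_evalNil c M hM hc F = MvPolynomial.aeval c (MvPowerSeries.trunc' A (H6_boxN n M) F) := rfl

/-- an algebra map out of power series killing `K^k` is evaluation of a truncation. -/
lemma H6_ps_hom_eq {D : Type u} [CommRing D] [Algebra A D]
    (u : MvPowerSeries (Fin n) A →ₐ[A] D) (M : ℕ) (hM : 1 ≤ M)
    (hu : ∀ x ∈ (RingHom.ker (MvPowerSeries.constantCoeff : MvPowerSeries (Fin n) A →+* A)) ^ M,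
      u x = 0) (F : MvPowerSeries (Fin n) A) :
    u F = MvPolynomial.aeval (fun i => u (MvPowerSeries.X i))
      (MvPowerSeries.trunc' A (H6_boxN n M) F) := by
  have h1 : u (F - ((MvPowerSeries.trunc' A (H6_boxN n M) F : MvPolynomial (Fin n) A) :
      MvPowerSeries (Fin n) A)) = 0 := by
    refine hu _ (H6_ps_mem_pow M hM _ ?_)
    intro m hm
    rw [map_sub, MvPolynomial.coeff_coe, MvPowerSeries.coeff_trunc', if_pos hm, sub_self]
  have h2 : ∀ p : MvPolynomial (Fin n) A, u (p : MvPowerSeries (Fin n) A) =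
      MvPolynomial.aeval (fun i => u (MvPowerSeries.X i)) p := by
    intro p
    have e1 := MvPolynomial.aeval_unique (u.comp (MvPolynomial.coeToMvPowerSeries.algHom A))
    have e2 : MvPolynomial.coeToMvPowerSeries.algHom A p = (p : MvPowerSeries (Fin n) A) := by
      rw [MvPolynomial.coeToMvPowerSeries.algHom_apply, Algebra.algebraMap_self,
        MvPowerSeries.map_id, RingHom.id_apply]
    have e3 : (⇑(u.comp (MvPolynomial.coeToMvPowerSeries.algHom A)) ∘ MvPolynomial.X) =
        fun i => u (MvPowerSeries.X i) := by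
      funext i
      show u (MvPolynomial.coeToMvPowerSeries.algHom A (MvPolynomial.X i)) = _
      rw [MvPolynomial.coeToMvPowerSeries.algHom_apply, Algebra.algebraMap_self,
        MvPowerSeries.map_id, RingHom.id_apply, MvPolynomial.coe_X]
    rw [e3] at e1
    have e4 := congrArg (fun g => g p) e1
    simp only [AlgHom.comp_apply] at e4
    rw [e2] at e4
    exact e4
  rw [← h2]
  rw [map_sub, sub_eq_zero] at h1
  exact h1

end

end Groth.Agent.Lib.helper6
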