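import Mathlib
import Groth.Agent.Lib.helper6.PSeriesFS
import Groth.Agent.Lib.helper6.AdicLift

set_option autoImplicit false
set_option linter.style.haveILetI false

namespace Groth.Agent.Lib.helper6

universe u

section

variable {n : ℕ} {A : Type u} [CommRing A] {C : Type u} [CommRing C] [Algebra A C]

lemma H6_evalNil_X (c : Fin n → C) (M : ℕ) (hM : 1 ≤ M) (hM2 : 2 ≤ M) (hc : ∀ i, c i ^ M = 0)
    (i : Fin n) : H6_evalNil (A := A) c M hM hc (MvPowerSeries.X i) = c i := by
  rw [H6_evalNil_apply]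
  have h1 : MvPowerSeries.trunc' A (H6_boxN n M) (MvPowerSeries.X i : MvPowerSeries (Fin n) A) =
      MvPolynomial.X i := by
    have hmem : Finsupp.single i 1 ∈ Finset.Iic (H6_boxN n M) := by
      rw [Finset.mem_Iic, H6_le_boxN hM]
      intro j
      by_cases hij : i = j
      · subst hij
        rw [Finsupp.single_eq_same]; omega
      · rw [Finsupp.single_eq_of_ne' hij]; omega
    exact MvPowerSeries.truncFinset_monomial (R := A) (1 : A) hmem
  rw [h1, MvPolynomial.aeval_X]

lemma H6_ker_le_span_X :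
    RingHom.ker (MvPowerSeries.constantCoeff : MvPowerSeries (Fin n) A →+* A) ≤
      Ideal.span (Set.range (MvPowerSeries.X : Fin n → MvPowerSeries (Fin n) A)) := by
  intro G hG
  rw [RingHom.mem_ker] at hG
  have h1 := H6_ps_mem_span (A := A) 1 (Finset.univ : Finset (Fin n)) G (fun m hm => by
    have hm0 : m = 0 := by
      ext i
      have := hm i (Finset.mem_univ i)
      rw [Finsupp.zero_apply]; omega
    rw [hm0, MvPowerSeries.coeff_zero_eq_constantCoeff_apply]
    exact hG)
  have h2 : ((fun i => (MvPowerSeries.X i : MvPowerSeries (Fin n) A) ^ 1) ''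
      ((Finset.univ : Finset (Fin n)) : Set (Fin n))) =
      Set.range (MvPowerSeries.X : Fin n → MvPowerSeries (Fin n) A) := by
    rw [Finset.coe_univ, Set.image_univ]
    congr 1
    funext i
    exact pow_one _
  rw [h2] at h1
  exact h1

lemma H6_hom_kills (𝔞 : Ideal A) (k : ℕ) (hk : (𝔞 ^ k).map (algebraMap A C) = ⊥)
    (g : MvPowerSeries (Fin n) A →ₐ[A] C) (hg : ∀ i, IsNilpotent (g (MvPowerSeries.X i))) :
    ∃ m : ℕ, ∀ x ∈ (𝔞.map (MvPowerSeries.C : A →+* MvPowerSeries (Fin n) A) ⊔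
        RingHom.ker (MvPowerSeries.constantCoeff : MvPowerSeries (Fin n) A →+* A)) ^ m,
      g x = 0 := by
  set Z : Ideal C := Ideal.span (Set.range (fun i => g (MvPowerSeries.X i))) with hZ
  have hZfg : Z.FG := Submodule.fg_span (Set.finite_range _)
  have hZnil : IsNilpotent Z := by
    rw [Ideal.FG.isNilpotent_iff_le_nilradical hZfg, hZ, Ideal.span_le]
    rintro _ ⟨i, rfl⟩
    exact hg i
  obtain ⟨D, hD⟩ := hZnil
  rw [Ideal.zero_eq_bot] at hD
  have h1 : (Z ⊔ 𝔞.map (algebraMap A C)) ^ D ≤ 𝔞.map (algebraMap A C) :=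
    H6_sup_pow_le Z _ D (by rw [hD]; exact bot_le)
  have h2 : (Z ⊔ 𝔞.map (algebraMap A C)) ^ (D * k) = ⊥ := by
    rw [eq_bot_iff, pow_mul]
    refine (Ideal.pow_right_mono h1 k).trans ?_
    rw [← Ideal.map_pow, hk]
  have hC : (g : MvPowerSeries (Fin n) A →+* C).comp
      (MvPowerSeries.C : A →+* MvPowerSeries (Fin n) A) = algebraMap A C := by
    ext a
    show g (MvPowerSeries.C a) = _
    have : (MvPowerSeries.C a : MvPowerSeries (Fin n) A) =
        algebraMap A (MvPowerSeries (Fin n) A) a := by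
      rw [MvPowerSeries.algebraMap_apply, Algebra.algebraMap_self, RingHom.id_apply]
    rw [this, g.commutes]
  have h3 : (𝔞.map (MvPowerSeries.C : A →+* MvPowerSeries (Fin n) A) ⊔
        RingHom.ker (MvPowerSeries.constantCoeff : MvPowerSeries (Fin n) A →+* A)).map
        (g : MvPowerSeries (Fin n) A →+* C) ≤ Z ⊔ 𝔞.map (algebraMap A C) := by
    rw [Ideal.map_sup, Ideal.map_map, hC, sup_comm]
    refine sup_le_sup_right ?_ _
    refine (Ideal.map_mono H6_ker_le_span_X).trans ?_
    rw [Ideal.map_span, Ideal.span_le]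
    rintro _ ⟨_, ⟨i, rfl⟩, rfl⟩
    exact Ideal.subset_span ⟨i, rfl⟩
  refine ⟨D * k, fun x hx => ?_⟩
  have h4 : (g : MvPowerSeries (Fin n) A →+* C) x ∈ (Z ⊔ 𝔞.map (algebraMap A C)) ^ (D * k) := by
    refine Ideal.pow_right_mono h3 _ ?_
    rw [← Ideal.map_pow]
    exact Ideal.mem_map_of_mem _ hx
  rw [h2, Ideal.mem_bot] at h4
  exact h4

end

end Groth.Agent.Lib.helper6
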