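import Mathlib

/-! Localizations of a product of domains at a prime ideal. -/

namespace Groth.Agent.Lib.helper6

variable {ι : Type*} {R : ι → Type*} [∀ i, CommRing (R i)]

open Classical in
/-- indicator idempotent of a subset of the index set -/
noncomputable def H6_ind (R : ι → Type*) [∀ i, CommRing (R i)] (S : Set ι) : ∀ i, R i :=
  fun i => if i ∈ S then 1 else 0

theorem H6_ind_apply_mem {S : Set ι} {i : ι} (hi : i ∈ S) : H6_ind R S i = 1 := by
  simp [H6_ind, hi]

theorem H6_ind_apply_not_mem {S : Set ι} {i : ι} (hi : i ∉ S) : H6_ind R S i = 0 := by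
  simp [H6_ind, hi]

theorem H6_ind_mul_compl (S : Set ι) : H6_ind R S * H6_ind R Sᶜ = 0 := by
  funext i
  by_cases hi : i ∈ S <;> simp [H6_ind, hi]

theorem H6_ind_add_compl (S : Set ι) : H6_ind R S + H6_ind R Sᶜ = 1 := by
  funext i
  by_cases hi : i ∈ S <;> simp [H6_ind, hi]

theorem H6_ind_compl_not_mem (P : Ideal (∀ i, R i)) [P.IsPrime] (S : Set ι)
    (h : H6_ind R S ∈ P) : H6_ind R Sᶜ ∉ P := by
  intro h2
  have : (1 : ∀ i, R i) ∈ P := by
    rw [← H6_ind_add_compl (R := R) S]
    exact P.add_mem h h2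
  exact (Ideal.IsPrime.ne_top ‹_›) ((Ideal.eq_top_iff_one P).mpr this)

theorem H6_ind_union_not_mem (P : Ideal (∀ i, R i)) [P.IsPrime] (S T : Set ι)
    (h : H6_ind R (S ∪ T) ∉ P) : H6_ind R S ∉ P ∨ H6_ind R T ∉ P := by
  by_contra hc
  push Not at hc
  apply h
  have : H6_ind R (S ∪ T) = H6_ind R S + H6_ind R T - H6_ind R S * H6_ind R T := by
    funext i
    by_cases hi : i ∈ S <;> by_cases hj : i ∈ T <;> simp [H6_ind, hi, hj]
  rw [this]
  exact P.sub_mem (P.add_mem hc.1 hc.2) (P.mul_mem_right _ hc.1)

/-- two elements agreeing on a "large" set become equal in the localization -/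
theorem H6_algebraMap_eq_of_eqOn (P : Ideal (∀ i, R i)) [P.IsPrime] (S : Set ι)
    (hS : H6_ind R S ∉ P) (a b : ∀ i, R i) (hab : ∀ i ∈ S, a i = b i) :
    algebraMap (∀ i, R i) (Localization.AtPrime P) a =
      algebraMap (∀ i, R i) (Localization.AtPrime P) b := by
  rw [IsLocalization.eq_iff_exists P.primeCompl]
  refine ⟨⟨H6_ind R S, hS⟩, ?_⟩
  funext i
  by_cases hi : i ∈ S
  · simp [H6_ind, hi, hab i hi]
  · simp [H6_ind, hi]

theorem H6_algebraMap_eq_zero_iff [∀ i, IsDomain (R i)] (P : Ideal (∀ i, R i)) [P.IsPrime]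
    (f : ∀ i, R i) :
    algebraMap (∀ i, R i) (Localization.AtPrime P) f = 0 ↔ H6_ind R {i | f i = 0} ∉ P := by
  constructor
  · intro h0 hmem
    rw [IsLocalization.map_eq_zero_iff P.primeCompl] at h0
    obtain ⟨c, hc⟩ := h0
    apply c.2
    have : (c : ∀ i, R i) = c * H6_ind R {i | f i = 0} := by
      funext i
      by_cases hi : f i = 0
      · simp [H6_ind, hi]
      · have h1 := congrFun hc i
        simp only [Pi.mul_apply, Pi.zero_apply, mul_eq_zero] at h1
        rcases h1 with h1 | h1
        · simp [h1]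
        · exact absurd h1 hi
    rw [this]
    exact P.mul_mem_left _ hmem
  · intro h
    rw [← map_zero (algebraMap (∀ i, R i) (Localization.AtPrime P))]
    apply H6_algebraMap_eq_of_eqOn P _ h
    intro i hi
    exact hi

theorem H6_isDomain_localization_pi [∀ i, IsDomain (R i)] (P : Ideal (∀ i, R i)) [P.IsPrime] :
    IsDomain (Localization.AtPrime P) := by
  haveI : NoZeroDivisors (Localization.AtPrime P) := by
    constructor
    intro x y hxy
    obtain ⟨f, s, rfl⟩ := IsLocalization.exists_mk'_eq P.primeCompl x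
    obtain ⟨g, t, rfl⟩ := IsLocalization.exists_mk'_eq P.primeCompl y
    rw [← IsLocalization.mk'_mul, IsLocalization.mk'_eq_zero_iff] at hxy
    obtain ⟨c, hc⟩ := hxy
    have hfg : algebraMap (∀ i, R i) (Localization.AtPrime P) (f * g) = 0 := by
      rw [IsLocalization.map_eq_zero_iff P.primeCompl]
      exact ⟨c, hc⟩
    rw [H6_algebraMap_eq_zero_iff] at hfg
    have hset : {i | (f * g) i = 0} = {i | f i = 0} ∪ {i | g i = 0} := by
      ext i
      simp [mul_eq_zero]
    rw [hset] at hfg
    rcases H6_ind_union_not_mem P _ _ hfg with h | h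
    · left
      rw [IsLocalization.mk'_eq_zero_iff]
      have := (H6_algebraMap_eq_zero_iff P f).mpr h
      rw [IsLocalization.map_eq_zero_iff P.primeCompl] at this
      exact this
    · right
      rw [IsLocalization.mk'_eq_zero_iff]
      have := (H6_algebraMap_eq_zero_iff P g).mpr h
      rw [IsLocalization.map_eq_zero_iff P.primeCompl] at this
      exact this
  exact NoZeroDivisors.to_isDomain _

theorem H6_ind_inter_not_mem (P : Ideal (∀ i, R i)) [P.IsPrime] (S T : Set ι)
    (hS : H6_ind R S ∉ P) (hT : H6_ind R T ∉ P) : H6_ind R (S ∩ T) ∉ P := by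
  have : H6_ind R (S ∩ T) = H6_ind R S * H6_ind R T := by
    funext i
    by_cases hi : i ∈ S <;> by_cases hj : i ∈ T <;> simp [H6_ind, hi, hj]
  rw [this]
  intro h
  rcases (Ideal.IsPrime.mem_or_mem ‹_› h) with h | h
  · exact hS h
  · exact hT h

open Polynomial in
/-- A domain is integrally closed iff every "homogenised monic relation" forces divisibility. -/
theorem H6_isIntegrallyClosed_iff_dvd (D : Type*) [CommRing D] [IsDomain D] :
    IsIntegrallyClosed D ↔ ∀ (a b : D), b ≠ 0 → ∀ (n : ℕ) (c : ℕ → D),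
      a ^ n + ∑ j ∈ Finset.range n, c j * a ^ j * b ^ (n - j) = 0 → b ∣ a := by
  constructor
  · intro hIC a b hb n c hrel
    have hbK : algebraMap D (FractionRing D) b ≠ 0 := by
      simpa using hb
    have hint : IsIntegral D (algebraMap D (FractionRing D) a / algebraMap D (FractionRing D) b) := by
      refine ⟨X ^ n + ∑ j : Fin n, C (c j) * X ^ (j : ℕ),
        monic_X_pow_add (degree_sum_fin_lt _), ?_⟩
      simp only [eval₂_add, eval₂_pow, eval₂_X, eval₂_finset_sum, eval₂_mul, eval₂_C]
      rw [Fin.sum_univ_eq_sum_range (fun j => algebraMap D (FractionRing D) (c j) *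
        (algebraMap D (FractionRing D) a / algebraMap D (FractionRing D) b) ^ j) n]
      have hbn : (algebraMap D (FractionRing D) b) ^ n ≠ 0 := pow_ne_zero _ hbK
      apply (mul_right_injective₀ hbn)
      simp only [mul_zero]
      rw [mul_add, Finset.mul_sum]
      have h0 := congrArg (algebraMap D (FractionRing D)) hrel
      rw [map_add, map_sum, map_zero] at h0
      rw [← h0]
      congr 1
      · rw [map_pow, div_pow, mul_div_cancel₀ _ hbn]
      · apply Finset.sum_congr rfl
        intro j hj
        rw [Finset.mem_range] at hj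
        obtain ⟨k, rfl⟩ := Nat.exists_eq_add_of_le hj.le
        rw [map_mul, map_mul, map_pow, map_pow, Nat.add_sub_cancel_left, div_pow, pow_add]
        field_simp
    obtain ⟨d, hd⟩ := IsIntegrallyClosed.isIntegral_iff.mp hint
    refine ⟨d, ?_⟩
    apply IsFractionRing.injective D (FractionRing D)
    rw [map_mul, hd, mul_div_cancel₀ _ hbK]
  · intro h
    rw [isIntegrallyClosed_iff (FractionRing D)]
    intro x hx
    obtain ⟨a, b, hb, rfl⟩ := IsFractionRing.div_surjective (A := D) x
    obtain ⟨p, hp_monic, hp⟩ := hx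
    have h1 := scaleRoots_eval₂_eq_zero_of_eval₂_div_eq_zero
      (IsFractionRing.injective D (FractionRing D)) hp hb
    rw [eval₂_at_apply] at h1
    have h2 : eval a (scaleRoots p b) = 0 := by
      apply IsFractionRing.injective D (FractionRing D)
      rw [h1, map_zero]
    rw [eval_eq_sum_range, natDegree_scaleRoots, Finset.sum_range_succ] at h2
    have hb0 : b ≠ 0 := nonZeroDivisors.ne_zero hb
    have hdvd : b ∣ a := by
      apply h a b hb0 p.natDegree p.coeff
      rw [← h2, add_comm]
      congr 1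
      · apply Finset.sum_congr rfl
        intro j _
        rw [coeff_scaleRoots]
        ring
      · rw [coeff_scaleRoots, hp_monic.coeff_natDegree]
        simp
    obtain ⟨d, rfl⟩ := hdvd
    refine ⟨d, ?_⟩
    have hbK : algebraMap D (FractionRing D) b ≠ 0 := by
      simpa using hb0
    rw [map_mul, mul_div_cancel_left₀ _ hbK]

end Groth.Agent.Lib.helper6
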