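import Mathlib
import Groth.Prelude.Def_W4sga6xxiiiPolyMap

set_option autoImplicit false
set_option linter.style.haveILetI false

open Polynomial W4sga6xxiii

namespace Groth.Agent.Lib.helper6

theorem H6_descPochhammer_eval_int (j : ℕ) (n : ℤ) :
    (descPochhammer ℚ j).eval (n : ℚ) = (j.factorial : ℚ) * ((Ring.choose n j : ℤ) : ℚ) := by
  rw [← descPochhammer_map (Int.castRingHom ℚ) j]
  have h := eval_intCast_map (Int.castRingHom ℚ) (descPochhammer ℤ j) n
  rw [h, eval_eq_smeval, Ring.descPochhammer_eq_factorial_smul_choose]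
  simp

theorem H6_polyMap_poly {G : Type*} [AddCommGroup G] (f : G → ℚ) (hf : IsPolyMap f) (z : G) :
    ∃ P : Polynomial ℚ, ∀ n : ℤ, P.eval (n : ℚ) = f (n • z) := by
  obtain ⟨m, y, -, hy⟩ := hf 1 (fun _ => z)
  refine ⟨∑ k : Fin 1 → Fin (m + 1),
    C (y k / (((k 0 : ℕ).factorial : ℚ))) * descPochhammer ℚ (k 0 : ℕ), fun n => ?_⟩
  have h := hy (fun _ => n)
  simp only [Finset.univ_unique, Finset.sum_singleton, Finset.prod_singleton] at h
  rw [h, eval_finset_sum]
  refine Finset.sum_congr rfl fun k _ => ?_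
  rw [eval_mul, eval_C, H6_descPochhammer_eval_int]
  have hk : ((k 0 : ℕ).factorial : ℚ) ≠ 0 := by positivity
  have hd : (default : Fin 1) = 0 := rfl
  rw [hd, zsmul_eq_mul]
  field_simp

/-- integer-valued polynomials: `d! * leadingCoeff` is an integer -/
theorem H6_intValued_lc (Q : Polynomial ℚ) (hQ : ∀ n : ℤ, ∃ z : ℤ, Q.eval (n : ℚ) = z) :
    ∃ z : ℤ, (Q.natDegree.factorial : ℚ) * Q.leadingCoeff = z := by
  have h1 := congrFun (Polynomial.fwdDiff_iter_degree_eq_factorial Q) 0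
  rw [fwdDiff_iter_eq_sum_shift] at h1
  simp only [Pi.smul_apply, smul_eq_mul, zero_add, nsmul_eq_mul, mul_one] at h1
  choose g hg using hQ
  refine ⟨∑ k ∈ Finset.range (Q.natDegree + 1),
    ((-1 : ℤ) ^ (Q.natDegree - k) * (Q.natDegree.choose k : ℤ)) * g k, ?_⟩
  have h2 : (Q.natDegree.factorial : ℚ) * Q.leadingCoeff =
      ∑ k ∈ Finset.range (Q.natDegree + 1),
        ((-1 : ℤ) ^ (Q.natDegree - k) * (Q.natDegree.choose k : ℤ)) • Q.eval (k : ℚ) := by
    rw [h1, mul_comm]
    simp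
  rw [h2]
  push_cast
  refine Finset.sum_congr rfl fun k _ => ?_
  have := hg (k : ℤ)
  simp only [Int.cast_natCast] at this
  rw [this]
  simp

end Groth.Agent.Lib.helper6
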