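import Mathlib
import Groth.Agent.Lib.helper6.PolyMapConst

set_option autoImplicit false
set_option linter.style.haveILetI false

open Polynomial W4sga6xxiii

namespace Groth.Agent.Lib.helper6

theorem H6_infinite_int_eval (P Q : Polynomial ℚ) (h : ∀ n : ℤ, P.eval (n : ℚ) = Q.eval (n : ℚ)) :
    P = Q := by
  apply Polynomial.eq_of_infinite_eval_eq
  have : Set.range (fun n : ℤ => (n : ℚ)) ⊆ {x | eval x P = eval x Q} := by
    rintro _ ⟨n, rfl⟩
    exact h n
  exact (Set.infinite_range_of_injective Int.cast_injective).mono this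

theorem H6_exists_div_pow {G : Type*} [AddCommGroup G] (G' : AddSubgroup G) (p : ℕ)
    (hdiv : ∀ x ∈ G', ∃ y ∈ G', p • y = x) (x : G) (hx : x ∈ G') (s : ℕ) :
    ∃ y ∈ G', (p ^ s) • y = x := by
  induction s with
  | zero => exact ⟨x, hx, by simp⟩
  | succ s ih =>
    obtain ⟨y, hy, hyx⟩ := ih
    obtain ⟨z, hz, hzy⟩ := hdiv y hy
    refine ⟨z, hz, ?_⟩
    rw [pow_succ, mul_smul, hzy, hyx]

theorem H6_polyMap_const {G : Type*} [AddCommGroup G] (G' : AddSubgroup G)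
    (p : ℕ) (hp : p.Prime) (hdiv : ∀ x ∈ G', ∃ y ∈ G', p • y = x)
    (htor : ∀ x : G, ∃ n : ℤ, n ≠ 0 ∧ n • x ∈ G')
    (f : G → ℚ) (hf : IsPolyMap f) (hint : ∀ x, ∃ z : ℤ, f x = z) (x : G) : f x = f 0 := by
  obtain ⟨P, hP⟩ := H6_polyMap_poly f hf x
  obtain ⟨N, hN0, hN⟩ := htor x
  by_cases hd : P.natDegree = 0
  · have h1 := hP 1
    have h0 := hP 0
    rw [Polynomial.eq_C_of_natDegree_eq_zero hd] at h1 h0
    simp only [eval_C, one_smul, zero_smul] at h1 h0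
    rw [← h1, ← h0]
  exfalso
  -- the polynomial for `N • x`
  have hNq : (N : ℚ) ≠ 0 := by exact_mod_cast hN0
  have hlin : ∀ c : ℚ, c ≠ 0 → (C c * X : Polynomial ℚ).natDegree = 1 := fun c hc =>
    natDegree_C_mul_X c hc
  obtain ⟨Pt, hPt⟩ : ∃ Pt : Polynomial ℚ, Pt = P.comp (C (N : ℚ) * X) := ⟨_, rfl⟩
  have hPt_eval : ∀ n : ℤ, Pt.eval (n : ℚ) = f (n • (N • x)) := by
    intro n
    rw [hPt, eval_comp, eval_mul, eval_C, eval_X, smul_smul, ← hP]
    push_cast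
    rw [mul_comm]
  have hPt_deg : Pt.natDegree = P.natDegree := by
    rw [hPt, natDegree_comp, hlin _ hNq, mul_one]
  have hPt_lc : Pt.leadingCoeff ≠ 0 := by
    rw [Ne, leadingCoeff_eq_zero]
    intro h0
    rw [h0] at hPt_deg
    exact hd (by simpa using hPt_deg.symm)
  -- integrality
  have key : ∀ s : ℕ, ∃ z : ℤ,
      (Pt.natDegree.factorial : ℚ) * Pt.leadingCoeff = z * ((p : ℚ) ^ s) ^ Pt.natDegree := by
    intro s
    obtain ⟨y, hy, hys⟩ := H6_exists_div_pow G' p hdiv (N • x) hN s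
    obtain ⟨Q, hQ⟩ := H6_polyMap_poly f hf y
    have hpq : ((p : ℚ) ^ s) ≠ 0 := pow_ne_zero _ (by exact_mod_cast hp.ne_zero)
    have heq : Pt = Q.comp (C ((p : ℚ) ^ s) * X) := by
      apply H6_infinite_int_eval
      intro n
      rw [hPt_eval, eval_comp, eval_mul, eval_C, eval_X, ← hys]
      have := hQ (n * (p ^ s : ℕ))
      rw [mul_smul, natCast_zsmul] at this
      rw [← this]
      push_cast
      rw [mul_comm]
    have hQdeg : Q.natDegree = Pt.natDegree := by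
      rw [heq, natDegree_comp, hlin _ hpq, mul_one]
    have hQlc : Pt.leadingCoeff = Q.leadingCoeff * ((p : ℚ) ^ s) ^ Pt.natDegree := by
      conv_lhs => rw [heq]
      rw [leadingCoeff_comp (by rw [hlin _ hpq]; exact one_ne_zero), leadingCoeff_mul,
        leadingCoeff_C, leadingCoeff_X, mul_one, hQdeg]
    obtain ⟨z, hz⟩ := H6_intValued_lc Q (fun n => by rw [hQ]; exact hint _)
    refine ⟨z, ?_⟩
    rw [hQlc, ← mul_assoc, ← hQdeg, hz]
  obtain ⟨z0, hz0⟩ := key 0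
  simp only [pow_zero, one_pow, mul_one] at hz0
  have hz0ne : z0 ≠ 0 := by
    intro h
    rw [h, Int.cast_zero] at hz0
    have : (Pt.natDegree.factorial : ℚ) ≠ 0 := by positivity
    exact (mul_ne_zero this hPt_lc) hz0
  obtain ⟨z, hz⟩ := key z0.natAbs
  have hint2 : z0 = z * ((p : ℤ) ^ z0.natAbs) ^ Pt.natDegree := by
    have : (z0 : ℚ) = ((z * ((p : ℤ) ^ z0.natAbs) ^ Pt.natDegree : ℤ) : ℚ) := by
      rw [← hz0, hz]
      push_cast
      rfl
    exact_mod_cast this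
  have hdvd : ((p : ℤ) ^ z0.natAbs) ∣ z0 := by
    have h1 : ((p : ℤ) ^ z0.natAbs) ∣ ((p : ℤ) ^ z0.natAbs) ^ Pt.natDegree :=
      dvd_pow_self _ (by rw [hPt_deg]; exact hd)
    have h2 := Dvd.dvd.mul_left h1 z
    rwa [← hint2] at h2
  have hle := Int.natAbs_le_of_dvd_ne_zero hdvd hz0ne
  rw [Int.natAbs_pow, Int.natAbs_natCast] at hle
  have := Nat.lt_pow_self hp.one_lt (n := z0.natAbs)
  omega

end Groth.Agent.Lib.helper6
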