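import Mathlib

set_option autoImplicit false
universe u
open CategoryTheory ProfiniteGrp ProfiniteGrp.ProfiniteCompletion

namespace Groth.Agent.Lib.helper6

variable (G : Type u) [Group G]

/-- discrete topology on the coordinates -/
instance H6_discrete (H : FiniteIndexNormalSubgroup G) :
    DiscreteTopology ((diagram (GrpCat.of G)).obj H) := ⟨rfl⟩

/-- coordinate projection is continuous -/
theorem H6_continuous_coord (H : FiniteIndexNormalSubgroup G) :
    Continuous (fun x : completion (GrpCat.of G) => x.1 H) :=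
  ((limitCone (diagram (GrpCat.of G))).π.app H).hom.continuous_toFun

example (H : FiniteIndexNormalSubgroup G) (x : completion (GrpCat.of G)) : G ⧸ H.toSubgroup := x.1 H

theorem H6_etaFn_coord (H : FiniteIndexNormalSubgroup G) (g : G) :
    (etaFn (GrpCat.of G) g).1 H = (QuotientGroup.mk g : G ⧸ H.toSubgroup) := rfl

end Groth.Agent.Lib.helper6

namespace Groth.Agent.Lib.helper6

variable {G G' : Type u} [Group G] [Group G']

theorem H6_map_etaFn (f : G →* G') (g : G) :
    (profiniteCompletion.map (GrpCat.ofHom f)).hom (etaFn (GrpCat.of G) g) =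
      etaFn (GrpCat.of G') (f g) := by
  have := lift_eta (G := GrpCat.of G) (GrpCat.ofHom f ≫ eta (GrpCat.of G'))
  exact ConcreteCategory.congr_hom this g

/-- the induced map on coordinates -/
def H6_qmap (f : G →* G') (K : FiniteIndexNormalSubgroup G') :
    (diagram (GrpCat.of G)).obj (K.comap f) → (diagram (GrpCat.of G')).obj K :=
  fun y => QuotientGroup.map (K.comap f).toSubgroup K.toSubgroup f (fun _ h => h) y

theorem H6_map_coord (f : G →* G') (K : FiniteIndexNormalSubgroup G')
    (x : completion (GrpCat.of G)) :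
    ((profiniteCompletion.map (GrpCat.ofHom f)).hom x).1 K =
      QuotientGroup.map (K.comap f).toSubgroup K.toSubgroup f (fun _ h => h) (x.1 (K.comap f)) := by
  have h1 : Continuous (fun x : completion (GrpCat.of G) =>
      ((profiniteCompletion.map (GrpCat.ofHom f)).hom x).1 K) :=
    (H6_continuous_coord G' K).comp (profiniteCompletion.map (GrpCat.ofHom f)).hom.continuous_toFun
  have h2 : Continuous (fun x : completion (GrpCat.of G) => H6_qmap f K (x.1 (K.comap f))) :=
    (continuous_of_discreteTopology (f := H6_qmap f K)).comp (H6_continuous_coord G (K.comap f))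
  have := (denseRange (G := GrpCat.of G)).equalizer h1 h2 (by
    funext g
    simp only [Function.comp_apply]
    rw [H6_map_etaFn]
    rfl)
  exact congrFun this x

end Groth.Agent.Lib.helper6

namespace Groth.Agent.Lib.helper6

variable {G : Type u} [Group G]

theorem H6_mem_closure (S : Set G) (x : completion (GrpCat.of G))
    (h : ∀ H : FiniteIndexNormalSubgroup G, ∃ s ∈ S, x.1 H = (QuotientGroup.mk s : G ⧸ H.toSubgroup)) :
    x ∈ closure (etaFn (GrpCat.of G) '' S) := by
  rw [mem_closure_iff]
  rintro U ⟨s, hsO, hsv⟩ hxU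
  obtain ⟨spc, hspc⟩ := x
  subst hsv
  have hxU' : spc ∈ s := hxU
  rcases (isOpen_pi_iff.mp hsO) _ hxU' with ⟨J, fJ, hJ1, hJ2⟩
  let M : Subgroup G := iInf fun (j : J) => j.val.toSubgroup
  have hM : M.Normal := Subgroup.normal_iInf_normal fun j => inferInstance
  have hMFinite : M.FiniteIndex := by
    apply Subgroup.finiteIndex_iInf
    infer_instance
  let m : FiniteIndexNormalSubgroup G := { toSubgroup := M }
  obtain ⟨s0, hs0, hx0⟩ := h m
  refine ⟨etaFn (GrpCat.of G) s0, ?_, s0, hs0, rfl⟩
  show (etaFn (GrpCat.of G) s0).1 ∈ s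
  apply hJ2
  intro a a_in_J
  let M_to_Na : m ⟶ a := (iInf_le (fun (j : J) => (j.val.toSubgroup)) ⟨a, a_in_J⟩).hom
  rw [← (etaFn (GrpCat.of G) s0).property M_to_Na]
  dsimp [etaFn] at ⊢ hx0
  rw [← hx0]
  exact Set.mem_of_eq_of_mem (hspc M_to_Na) (hJ1 a a_in_J).right

end Groth.Agent.Lib.helper6
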