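import Mathlib
import Groth.Agent.S13363

set_option autoImplicit false
universe u

namespace Groth.Agent.Lib.helper6

/-- In a commutative group, an element that is not divisible is avoided by a finite index
subgroup (multiplicative form of S13363 for the discrete topology). -/
theorem H6_exists_finiteIndex_not_mem {G : Type u} [CommGroup G] (x : G) (k : ℕ) (hk : 0 < k)
    (hx : ¬ ∃ y : G, y ^ k = x) : ∃ B : Subgroup G, B.FiniteIndex ∧ x ∉ B := by
  letI : TopologicalSpace (Additive G) := ⊥
  haveI : DiscreteTopology (Additive G) := ⟨rfl⟩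
  have h := (Groth.Agent.S13363.result (A := Additive G)
    (fun n _ => isOpen_discrete _) (Additive.ofMul x)).mpr (by
      intro hall
      obtain ⟨b, hb⟩ := hall k hk
      exact hx ⟨Additive.toMul b, by
        have := congrArg Additive.toMul hb
        simpa using this⟩)
  obtain ⟨B, -, hB, hxB⟩ := h
  refine ⟨AddSubgroup.toSubgroup' B, ?_, ?_⟩
  · constructor
    have : (AddSubgroup.toSubgroup' B).index = B.index := rfl
    rw [this]
    exact hB.index_ne_zero
  · simpa using hxB

/-- Key lemma for injectivity of profinite completions of subgroups. -/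
theorem H6_exists_finiteIndex_inter_le {A : Type u} [CommGroup A] (A' : Subgroup A)
    (H' : Subgroup A') [H'.FiniteIndex] (N : ℕ) (hN : 0 < N)
    (htors : ∀ x : A ⧸ A', IsOfFinOrder x → x ^ N = 1) :
    ∃ H : Subgroup A, H.FiniteIndex ∧ ∀ a : A', (a : A) ∈ H → a ∈ H' := by
  classical
  set n := H'.index with hn
  have hnpos : 0 < n := Nat.pos_of_ne_zero Subgroup.FiniteIndex.index_ne_zero
  set H'' : Subgroup A := H'.map A'.subtype with hH''
  have hmem'' : ∀ a : A', (a : A) ∈ H'' ↔ a ∈ H' := by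
    intro a
    constructor
    · rintro ⟨b, hb, hba⟩
      have : b = a := Subtype.ext hba
      rwa [← this]
    · intro ha
      exact ⟨a, ha, rfl⟩
  -- Step 1
  have step1 : ∀ a : A', a ∉ H' → ∃ B : Subgroup A, B.FiniteIndex ∧ H'' ≤ B ∧ (a : A) ∉ B := by
    intro a ha
    have hnd : ¬ ∃ y : A ⧸ H'', y ^ (N * n) = (QuotientGroup.mk (a : A) : A ⧸ H'') := by
      rintro ⟨y, hy⟩
      obtain ⟨b, rfl⟩ := QuotientGroup.mk_surjective y
      have h1 : (b ^ (N * n))⁻¹ * (a : A) ∈ H'' := by
        rw [← QuotientGroup.eq]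
        exact hy
      have hH''A' : H'' ≤ A' := by
        rintro _ ⟨c, -, rfl⟩
        exact c.2
      have h2 : b ^ (N * n) ∈ A' := by
        have h3 : (b ^ (N * n))⁻¹ ∈ A' := by
          have := A'.mul_mem (hH''A' h1) (A'.inv_mem a.2)
          simpa using this
        simpa using A'.inv_mem h3
      have h4 : (QuotientGroup.mk b : A ⧸ A') ^ (N * n) = 1 := by
        rw [← QuotientGroup.mk_pow]
        exact (QuotientGroup.eq_one_iff _).mpr h2
      have h5 : IsOfFinOrder (QuotientGroup.mk b : A ⧸ A') :=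
        isOfFinOrder_iff_pow_eq_one.mpr ⟨N * n, Nat.mul_pos hN hnpos, h4⟩
      have h6 : b ^ N ∈ A' := by
        have := htors _ h5
        rw [← QuotientGroup.mk_pow] at this
        exact (QuotientGroup.eq_one_iff _).mp this
      have h7 : (⟨b ^ N, h6⟩ : A') ^ n ∈ H' := Subgroup.pow_index_mem H' _
      have h8 : b ^ (N * n) ∈ H'' := by
        have : ((⟨b ^ N, h6⟩ : A') ^ n : A') = ⟨b ^ (N * n), h2⟩ := by
          apply Subtype.ext
          simp [pow_mul]
        rw [this] at h7
        exact (hmem'' ⟨b ^ (N * n), h2⟩).mpr h7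
      have h9 : (a : A) ∈ H'' := by
        have := H''.mul_mem h8 h1
        simpa using this
      exact ha ((hmem'' a).mp h9)
    obtain ⟨B₀, hB₀, hxB₀⟩ := H6_exists_finiteIndex_not_mem
      (QuotientGroup.mk (a : A) : A ⧸ H'') (N * n) (Nat.mul_pos hN hnpos) hnd
    refine ⟨B₀.comap (QuotientGroup.mk' H''), ?_, ?_, ?_⟩
    · constructor
      rw [Subgroup.index_comap_of_surjective _ (QuotientGroup.mk'_surjective H'')]
      exact hB₀.index_ne_zero
    · intro h hh
      rw [Subgroup.mem_comap]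
      have : (QuotientGroup.mk' H'') h = 1 := (QuotientGroup.eq_one_iff _).mpr hh
      rw [this]
      exact B₀.one_mem
    · rw [Subgroup.mem_comap]
      exact hxB₀
  -- Step 2
  haveI : Finite (A' ⧸ H') := Subgroup.finite_quotient_of_finiteIndex
  have hout : ∀ c : A' ⧸ H', c ≠ 1 → (Quotient.out c : A') ∉ H' := by
    intro c hc hmem
    apply hc
    rw [← QuotientGroup.out_eq' c]
    exact (QuotientGroup.eq_one_iff _).mpr hmem
  choose! B hBfin hBle hBnot using fun c : {c : A' ⧸ H' // c ≠ 1} => step1 _ (hout c.1 c.2)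
  refine ⟨⨅ c, B c, Subgroup.finiteIndex_iInf hBfin, ?_⟩
  intro a ha
  by_contra hna
  have hc : (QuotientGroup.mk a : A' ⧸ H') ≠ 1 := by
    intro h1
    exact hna ((QuotientGroup.eq_one_iff _).mp h1)
  obtain ⟨h, hh⟩ := QuotientGroup.mk_out_eq_mul H' a
  have haB : (a : A) ∈ B ⟨_, hc⟩ := (Subgroup.mem_iInf.mp ha) ⟨_, hc⟩
  have hhB : ((h : A') : A) ∈ B ⟨_, hc⟩ := hBle _ ((hmem'' _).mpr h.2)
  apply hBnot ⟨_, hc⟩
  show ((Quotient.out (QuotientGroup.mk a : A' ⧸ H') : A') : A) ∈ B ⟨_, hc⟩
  rw [hh]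
  exact (B ⟨_, hc⟩).mul_mem haB hhB

end Groth.Agent.Lib.helper6
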