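import Mathlib
import Groth.Prelude.Def_CAlgX

set_option autoImplicit false
set_option linter.style.haveILetI false

namespace Groth.Agent.Lib.helper6
open MvPolynomial

universe u

section

variable {A : Type u} [CommRing A] {c : ℕ}

lemma H6_homog_degree {F : MvPolynomial (Fin c) A} {n : ℕ} (hF : F.IsHomogeneous n)
    {d : Fin c →₀ ℕ} (hd : coeff d F ≠ 0) : ∑ i, d i = n := by
  have h := hF hd
  simp only [Finsupp.weight_apply, Pi.one_apply, smul_eq_mul, mul_one] at h
  rw [← h, Finsupp.sum_fintype]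
  intro i; rfl

/-- the value of a homogeneous polynomial of degree `n` lies in `J^n`. -/
lemma H6_eval_mem_pow (f : Fin c → A) {F : MvPolynomial (Fin c) A} {n : ℕ}
    (hF : F.IsHomogeneous n) : eval f F ∈ Ideal.span (Set.range f) ^ n := by
  rw [eval_eq']
  refine Ideal.sum_mem _ fun d hd => ?_
  refine Ideal.mul_mem_left _ _ ?_
  rw [← H6_homog_degree hF (mem_support_iff.1 hd), ← Finset.prod_pow_eq_pow_sum]
  exact Ideal.prod_mem_prod fun i _ => Ideal.pow_mem_pow
    (Ideal.subset_span (Set.mem_range_self i)) _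

/-- if all coefficients lie in `J`, the value of a homogeneous polynomial of degree `n` lies in
`J^(n+1)`. -/
lemma H6_eval_mem_pow_succ (f : Fin c → A) {F : MvPolynomial (Fin c) A} {n : ℕ}
    (hF : F.IsHomogeneous n) (hc : ∀ d, coeff d F ∈ Ideal.span (Set.range f)) :
    eval f F ∈ Ideal.span (Set.range f) ^ (n + 1) := by
  rw [eval_eq', pow_succ']
  refine Ideal.sum_mem _ fun d hd => ?_
  refine Ideal.mul_mem_mul (hc d) ?_
  rw [← H6_homog_degree hF (mem_support_iff.1 hd), ← Finset.prod_pow_eq_pow_sum]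
  exact Ideal.prod_mem_prod fun i _ => Ideal.pow_mem_pow
    (Ideal.subset_span (Set.mem_range_self i)) _

lemma H6_exists_homog_of_mem_pow (f : Fin c → A) : ∀ (n : ℕ) (z : A),
    z ∈ Ideal.span (Set.range f) ^ n →
    ∃ G : MvPolynomial (Fin c) A, G.IsHomogeneous n ∧ eval f G = z := by
  intro n
  induction n with
  | zero =>
    intro z _
    exact ⟨C z, isHomogeneous_C _ _, eval_C _⟩
  | succ n ih =>
    intro z hz
    rw [pow_succ'] at hz
    refine Submodule.mul_induction_on hz ?_ ?_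
    · intro x hx w hw
      obtain ⟨a, rfl⟩ := (Ideal.mem_span_range_iff_exists_fun).1 hx
      obtain ⟨G, hG, rfl⟩ := ih w hw
      refine ⟨(∑ i, C (a i) * X i) * G, ?_, ?_⟩
      · have h1 : (∑ i, C (a i) * X i : MvPolynomial (Fin c) A).IsHomogeneous 1 :=
          IsHomogeneous.sum _ _ _ (fun i _ => (isHomogeneous_X _ i).C_mul _)
        have := h1.mul hG
        rwa [add_comm] at this
      · rw [map_mul, map_sum]
        simp
    · rintro x y ⟨G, hG, rfl⟩ ⟨G', hG', rfl⟩
      exact ⟨G + G', hG.add hG', map_add _ _ _⟩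

lemma H6_exists_homog_coeff_mem (f : Fin c → A) (n : ℕ) (z : A)
    (hz : z ∈ Ideal.span (Set.range f) ^ (n + 1)) :
    ∃ F : MvPolynomial (Fin c) A, F.IsHomogeneous n ∧
      (∀ d, coeff d F ∈ Ideal.span (Set.range f)) ∧ eval f F = z := by
  rw [pow_succ'] at hz
  refine Submodule.mul_induction_on hz ?_ ?_
  · intro x hx w hw
    obtain ⟨G, hG, rfl⟩ := H6_exists_homog_of_mem_pow f n w hw
    refine ⟨C x * G, hG.C_mul x, fun d => ?_, ?_⟩
    · rw [coeff_C_mul]
      exact Ideal.mul_mem_right _ _ hx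
    · rw [map_mul, eval_C]
  · rintro x y ⟨G, hG, hcG, rfl⟩ ⟨G', hG', hcG', rfl⟩
    refine ⟨G + G', hG.add hG', fun d => ?_, map_add _ _ _⟩
    rw [coeff_add]
    exact Ideal.add_mem _ (hcG d) (hcG' d)

/-- a nonzerodivisor modulo a quasi-regular ideal is a nonzerodivisor modulo its powers. -/
lemma H6_nzd_pow (g : Fin c → A) (hg : CAlgX.IsQuasiRegular g) (x : A)
    (hx : ∀ y, x * y ∈ Ideal.span (Set.range g) → y ∈ Ideal.span (Set.range g)) :
    ∀ (ν : ℕ) (y : A), x * y ∈ Ideal.span (Set.range g) ^ ν → y ∈ Ideal.span (Set.range g) ^ ν := by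
  intro ν
  induction ν with
  | zero => intro y _; rw [pow_zero, Ideal.one_eq_top]; trivial
  | succ ν ih =>
    intro y hy
    have hy' : y ∈ Ideal.span (Set.range g) ^ ν := ih y (Ideal.pow_le_pow_right (Nat.le_succ ν) hy)
    obtain ⟨F, hF, rfl⟩ := H6_exists_homog_of_mem_pow g ν y hy'
    have h1 : ∀ d, coeff d (C x * F) ∈ Ideal.span (Set.range g) :=
      hg ν (C x * F) (hF.C_mul x) (by rwa [map_mul, eval_C])
    have h2 : ∀ d, coeff d F ∈ Ideal.span (Set.range g) := fun d => by
      have := h1 d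
      rw [coeff_C_mul] at this
      exact hx _ this
    exact H6_eval_mem_pow_succ g hF h2

lemma H6_eval_of_homog_zero (g : Fin c → A) {F : MvPolynomial (Fin c) A} (hF : F.IsHomogeneous 0) :
    eval g F = coeff 0 F ∧ ∀ d, coeff d F ≠ 0 → d = 0 := by
  have h0 : F.totalDegree = 0 := Nat.le_zero.1 hF.totalDegree_le
  have h1 : F = C (coeff 0 F) := totalDegree_eq_zero_iff_eq_C.1 h0
  constructor
  · conv_lhs => rw [h1, eval_C]
  · intro d hd
    rw [h1, coeff_C] at hd
    by_contra hne
    rw [if_neg (Ne.symm hne)] at hd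
    exact hd rfl

end

end Groth.Agent.Lib.helper6
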