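import Mathlib
import Groth.Prelude.Def_CAlgX
import Groth.Agent.Lib.helper6.QReg1

set_option autoImplicit false
set_option linter.style.haveILetI false

namespace Groth.Agent.Lib.helper6
open MvPolynomial

universe u

section

variable {A : Type u} [CommRing A] {c : ℕ}

/-- expansion of the value of a homogeneous polynomial along the first variable. -/
lemma H6_eval_cons (a : A) (g : Fin c → A) {F : MvPolynomial (Fin (c + 1)) A} {ν : ℕ}
    (hF : F.IsHomogeneous ν) :
    eval (Fin.cons a g : Fin (c + 1) → A) F =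
      ∑ k ∈ Finset.range (ν + 1), a ^ k * eval g ((finSuccEquiv A c F).coeff k) := by
  rw [eval_eq_eval_mv_eval']
  have hdeg : (Polynomial.map (eval g) (finSuccEquiv A c F)).natDegree < ν + 1 := by
    refine lt_of_le_of_lt (Polynomial.natDegree_map_le) ?_
    rw [natDegree_finSuccEquiv]
    exact Nat.lt_succ_of_le ((degreeOf_le_totalDegree F 0).trans hF.totalDegree_le)
  rw [Polynomial.eval_eq_sum_range' hdeg]
  refine Finset.sum_congr rfl fun k _ => ?_
  rw [Polynomial.coeff_map, mul_comm]

lemma H6_span_cons (a : A) (g : Fin c → A) :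
    Ideal.span (Set.range (Fin.cons a g : Fin (c + 1) → A)) =
      Ideal.span {a} ⊔ Ideal.span (Set.range g) := by
  rw [Fin.range_cons, Set.insert_eq, Ideal.span_union]

variable (a : A) (g : Fin c → A) (hg : CAlgX.IsQuasiRegular g)
  (ha : ∀ y, a * y ∈ Ideal.span (Set.range g) → y ∈ Ideal.span (Set.range g))

include hg ha in
/-- the family form of quasi-regularity of `(a, g)`. -/
lemma H6_qr_family : ∀ (ν : ℕ) (p : ℕ → MvPolynomial (Fin c) A),
    (∀ k ≤ ν, (p k).IsHomogeneous (ν - k)) →
    ∑ k ∈ Finset.range (ν + 1), a ^ k * eval g (p k) ∈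
      Ideal.span (Set.range (Fin.cons a g : Fin (c + 1) → A)) ^ (ν + 1) →
    ∀ k ≤ ν, ∀ d, coeff d (p k) ∈ Ideal.span (Set.range (Fin.cons a g : Fin (c + 1) → A)) := by
  have hI₀ : Ideal.span (Set.range g) ≤
      Ideal.span (Set.range (Fin.cons a g : Fin (c + 1) → A)) := by
    rw [H6_span_cons]; exact le_sup_right
  have haI : a ∈ Ideal.span (Set.range (Fin.cons a g : Fin (c + 1) → A)) := by
    rw [H6_span_cons]; exact Ideal.mem_sup_left (Ideal.subset_span rfl)
  intro ν
  induction ν with
  | zero =>
    intro p hp hS k hk d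
    obtain rfl : k = 0 := Nat.le_zero.1 hk
    rw [zero_add, Finset.sum_range_one, pow_zero, one_mul, pow_one] at hS
    obtain ⟨h1, h2⟩ := H6_eval_of_homog_zero g (hp 0 le_rfl)
    by_cases hd : coeff d (p 0) = 0
    · rw [hd]; exact Ideal.zero_mem _
    · rw [h2 d hd, ← h1]; exact hS
  | succ ν ih =>
    intro p hp hS
    -- reduce to the case where the sum vanishes
    obtain ⟨F'', hF'', hcF'', hevF''⟩ := H6_exists_homog_coeff_mem
      (Fin.cons a g : Fin (c + 1) → A) (ν + 1) _ hS
    rw [H6_eval_cons a g hF''] at hevF''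
    set p'' : ℕ → MvPolynomial (Fin c) A := fun k => (finSuccEquiv A c F'').coeff k with hp''
    have hp''h : ∀ k ≤ ν + 1, (p'' k).IsHomogeneous (ν + 1 - k) := fun k hk =>
      hF''.finSuccEquiv_coeff_isHomogeneous k (ν + 1 - k) (by omega)
    have hp''c : ∀ k d, coeff d (p'' k) ∈
        Ideal.span (Set.range (Fin.cons a g : Fin (c + 1) → A)) := by
      intro k d
      rw [hp'', finSuccEquiv_coeff_coeff]
      exact hcF'' _
    set p' : ℕ → MvPolynomial (Fin c) A := fun k => p k - p'' k with hp'
    have hp'h : ∀ k ≤ ν + 1, (p' k).IsHomogeneous (ν + 1 - k) := fun k hk =>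
      (hp k hk).sub (hp''h k hk)
    have hS0 : ∑ k ∈ Finset.range (ν + 1 + 1), a ^ k * eval g (p' k) = 0 := by
      simp only [hp', map_sub, mul_sub, Finset.sum_sub_distrib]
      rw [hevF'', sub_self]
    suffices h : ∀ k ≤ ν + 1, ∀ d, coeff d (p' k) ∈
        Ideal.span (Set.range (Fin.cons a g : Fin (c + 1) → A)) by
      intro k hk d
      have h1 := h k hk d
      have h2 := hp''c k d
      have : coeff d (p k) = coeff d (p' k) + coeff d (p'' k) := by
        simp only [hp', coeff_sub]; ring
      rw [this]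
      exact Ideal.add_mem _ h1 h2
    -- now the sum vanishes
    rw [Finset.sum_range_succ', pow_zero, one_mul] at hS0
    set h := ∑ k ∈ Finset.range (ν + 1), a ^ k * eval g (p' (k + 1)) with hh
    have e1 : ∑ k ∈ Finset.range (ν + 1), a ^ (k + 1) * eval g (p' (k + 1)) = a * h := by
      rw [hh, Finset.mul_sum]
      refine Finset.sum_congr rfl fun k _ => ?_
      rw [pow_succ]; ring
    rw [e1] at hS0
    have e0mem : eval g (p' 0) ∈ Ideal.span (Set.range g) ^ (ν + 1) :=
      H6_eval_mem_pow g (hp'h 0 (Nat.zero_le _))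
    have hah : a * h ∈ Ideal.span (Set.range g) ^ (ν + 1) := by
      have : a * h = -eval g (p' 0) := by linear_combination hS0
      rw [this]
      exact Ideal.neg_mem_iff _ |>.2 e0mem
    have hhmem : h ∈ Ideal.span (Set.range g) ^ (ν + 1) := H6_nzd_pow g hg a ha _ _ hah
    -- coefficients of the shifted family
    have hshift := ih (fun k => p' (k + 1))
      (fun k hk => by
        have := hp'h (k + 1) (by omega)
        have e : ν + 1 - (k + 1) = ν - k := by omega
        rwa [e] at this)
      (Ideal.pow_right_mono hI₀ _ hhmem)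
    -- the constant term
    obtain ⟨h₀, hh₀, hevh₀⟩ := H6_exists_homog_of_mem_pow g (ν + 1) h hhmem
    have hq : (p' 0 + C a * h₀).IsHomogeneous (ν + 1) :=
      (hp'h 0 (Nat.zero_le _)).add (hh₀.C_mul a)
    have hqev : eval g (p' 0 + C a * h₀) ∈ Ideal.span (Set.range g) ^ (ν + 1 + 1) := by
      rw [map_add, map_mul, eval_C, hevh₀]
      have : eval g (p' 0) + a * h = 0 := by linear_combination hS0
      rw [this]
      exact Ideal.zero_mem _
    have hqc := hg (ν + 1) _ hq hqev
    intro k hk d
    rcases Nat.eq_zero_or_pos k with rfl | hkpos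
    · have h1 := hI₀ (hqc d)
      rw [coeff_add, coeff_C_mul] at h1
      have h2 : a * coeff d h₀ ∈ Ideal.span (Set.range (Fin.cons a g : Fin (c + 1) → A)) :=
        Ideal.mul_mem_right _ _ haI
      have := Ideal.sub_mem _ h1 h2
      rwa [add_sub_cancel_right] at this
    · obtain ⟨k', rfl⟩ : ∃ k', k = k' + 1 := ⟨k - 1, by omega⟩
      exact hshift k' (by omega) d

include hg ha in
theorem H6_qr_cons : CAlgX.IsQuasiRegular (Fin.cons a g : Fin (c + 1) → A) := by
  intro ν F hF hev d
  rw [H6_eval_cons a g hF] at hev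
  have h := H6_qr_family a g hg ha ν (fun k => (finSuccEquiv A c F).coeff k)
    (fun k hk => hF.finSuccEquiv_coeff_isHomogeneous k (ν - k) (by omega)) hev
  by_cases hd : coeff d F = 0
  · rw [hd]; exact Ideal.zero_mem _
  · have hdeg := H6_homog_degree hF hd
    have hd0 : d 0 ≤ ν := by
      rw [← hdeg]
      exact Finset.single_le_sum (f := fun i => d i) (fun _ _ => Nat.zero_le _) (Finset.mem_univ 0)
    have := h (d 0) hd0 d.tail
    rw [finSuccEquiv_coeff_coeff, Finsupp.cons_tail] at this
    exact this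

end

end Groth.Agent.Lib.helper6
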