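import Mathlib
import Groth.Prelude.Def_CAlgX
import Groth.Agent.Lib.helper6.QReg2

set_option autoImplicit false
set_option linter.style.haveILetI false

namespace Groth.Agent.Lib.helper6
open MvPolynomial

universe u

section

variable {A : Type u} [CommRing A]

lemma H6_qr_comp_equiv {c : ℕ} (f : Fin c → A) (σ : Fin c ≃ Fin c)
    (hf : CAlgX.IsQuasiRegular f) : CAlgX.IsQuasiRegular (f ∘ σ) := by
  intro n P hP hev d
  have hspan : Ideal.span (Set.range (f ∘ σ)) = Ideal.span (Set.range f) := by
    rw [σ.surjective.range_comp f]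
  rw [hspan] at hev ⊢
  have h1 := hf n (rename σ P) (hP.rename_isHomogeneous) (by rwa [eval_rename])
  have := h1 (d.mapDomain σ)
  rwa [coeff_rename_mapDomain σ σ.injective] at this

lemma H6_qr_zero (f : Fin 0 → A) : CAlgX.IsQuasiRegular f := by
  intro n P hP hev d
  have hspan : Ideal.span (Set.range f) = ⊥ := by
    rw [Set.range_eq_empty, Ideal.span_empty]
  rw [hspan] at hev ⊢
  rw [← Ideal.zero_eq_bot, zero_pow (Nat.succ_ne_zero n), Ideal.zero_eq_bot, Ideal.mem_bot] at hev
  have hP' : P = C (coeff 0 P) := MvPolynomial.eq_C_of_isEmpty P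
  rw [hP', eval_C] at hev
  rw [Subsingleton.elim d 0, hev]
  exact Ideal.zero_mem _

theorem H6_qr_of_regular : ∀ (c : ℕ) (f : Fin c → A),
    RingTheory.Sequence.IsWeaklyRegular A (List.ofFn f) → CAlgX.IsQuasiRegular f := by
  intro c
  induction c with
  | zero => intro f _; exact H6_qr_zero f
  | succ c ih =>
    intro f hf
    obtain ⟨g, hgdef⟩ : ∃ g : Fin c → A, g = fun i => f i.castSucc := ⟨_, rfl⟩
    obtain ⟨a, hadef⟩ : ∃ a : A, a = f (Fin.last c) := ⟨_, rfl⟩
    have hlist : List.ofFn f = List.ofFn g ++ [a] := by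
      rw [List.ofFn_succ', hgdef, hadef, List.concat_eq_append]
    rw [hlist, RingTheory.Sequence.isWeaklyRegular_append_iff] at hf
    obtain ⟨hg, ha⟩ := hf
    rw [RingTheory.Sequence.isWeaklyRegular_singleton_iff] at ha
    have hofList : Ideal.ofList (List.ofFn g) = Ideal.span (Set.range g) := by
      unfold Ideal.ofList
      congr 1
      ext x
      simp [List.mem_ofFn]
    have htop : (Ideal.ofList (List.ofFn g) • ⊤ : Submodule A A) = Ideal.span (Set.range g) := by
      rw [hofList, smul_eq_mul, Ideal.mul_top]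
    have ha' : ∀ y, a * y ∈ Ideal.span (Set.range g) → y ∈ Ideal.span (Set.range g) := by
      intro y hy
      have hy' : a * y ∈ (Ideal.ofList (List.ofFn g) • ⊤ : Submodule A A) := by
        rw [htop]; exact hy
      have h1 : (Submodule.Quotient.mk y :
          A ⧸ (Ideal.ofList (List.ofFn g) • ⊤ : Submodule A A)) = 0 := by
        apply ha
        show a • (Submodule.Quotient.mk y :
          A ⧸ (Ideal.ofList (List.ofFn g) • ⊤ : Submodule A A)) = a • 0
        rw [smul_zero, ← Submodule.Quotient.mk_smul, Submodule.Quotient.mk_eq_zero, smul_eq_mul]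
        exact hy'
      rw [Submodule.Quotient.mk_eq_zero, htop] at h1
      exact h1
    have hqr := H6_qr_cons a g (ih g hg) ha'
    have hf' : f = (Fin.cons a g : Fin (c + 1) → A) ∘ (finRotate (c + 1)) := by
      funext i
      refine Fin.lastCases ?_ ?_ i
      · rw [Function.comp_apply, finRotate_last, Fin.cons_zero, hadef]
      · intro j
        rw [Function.comp_apply, finRotate_succ_apply, Fin.coeSucc_eq_succ, Fin.cons_succ, hgdef]
    rw [hf']
    exact H6_qr_comp_equiv _ _ hqr

end

end Groth.Agent.Lib.helper6
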