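import Mathlib
import Groth.Prelude.Def_CAlgX
import Groth.Agent.Lib.helper6.QReg3

set_option autoImplicit false
set_option linter.style.haveILetI false

namespace Groth.Agent.Lib.helper6
open MvPolynomial

universe u

section

variable {A : Type u} [CommRing A] (J : Ideal A) {r : ℕ} (f : Fin r → A)
  (hf : RingTheory.Sequence.IsWeaklyRegular (A ⧸ J) (List.ofFn f))

include hf in
lemma H6_qr_quotient :
    CAlgX.IsQuasiRegular (fun i => Ideal.Quotient.mk J (f i)) := by
  apply H6_qr_of_regular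
  have h1 : List.ofFn (fun i => Ideal.Quotient.mk J (f i)) =
      (List.ofFn f).map (algebraMap A (A ⧸ J)) := by
    rw [List.map_ofFn]
    rfl
  rw [h1, RingTheory.Sequence.isWeaklyRegular_map_algebraMap_iff]
  exact hf

include hf in
lemma H6_inf_pow_step (N : ℕ) :
    J ⊓ Ideal.span (Set.range f) ^ N ≤
      J * Ideal.span (Set.range f) ^ N ⊔ J ⊓ Ideal.span (Set.range f) ^ (N + 1) := by
  classical
  rintro x ⟨hxJ, hxR⟩
  obtain ⟨P, hP, rfl⟩ := H6_exists_homog_of_mem_pow f N x hxR
  have hqr := H6_qr_quotient J f hf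
  have hspan : Ideal.span (Set.range fun i => Ideal.Quotient.mk J (f i)) =
      (Ideal.span (Set.range f)).map (Ideal.Quotient.mk J) := by
    rw [Ideal.map_span, ← Set.range_comp]
    rfl
  have hev : eval (fun i => Ideal.Quotient.mk J (f i)) (MvPolynomial.map (Ideal.Quotient.mk J) P) =
      0 := by
    have h1 : (fun i => Ideal.Quotient.mk J (f i)) = (Ideal.Quotient.mk J) ∘ f := rfl
    rw [h1, eval_map, ← eval₂_comp]
    exact Ideal.Quotient.eq_zero_iff_mem.2 hxJ
  have hcoef := hqr N (MvPolynomial.map (Ideal.Quotient.mk J) P) (hP.map _)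
    (by rw [hev]; exact Ideal.zero_mem _)
  have hcoef' : ∀ d, coeff d P ∈ Ideal.span (Set.range f) ⊔ J := by
    intro d
    have h := hcoef d
    rw [coeff_map, hspan] at h
    obtain ⟨y, hy, hyd⟩ := (Ideal.mem_map_iff_of_surjective _ Ideal.Quotient.mk_surjective).1 h
    have h2 : coeff d P - y ∈ J := by
      rw [← Ideal.Quotient.eq]; exact hyd.symm
    have : coeff d P = y + (coeff d P - y) := by ring
    rw [this]
    exact Submodule.add_mem_sup hy h2
  have hmono : ∀ d ∈ P.support, ∏ i, f i ^ d i ∈ Ideal.span (Set.range f) ^ N := by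
    intro d hd
    rw [← H6_homog_degree hP (mem_support_iff.1 hd), ← Finset.prod_pow_eq_pow_sum]
    exact Ideal.prod_mem_prod fun i _ => Ideal.pow_mem_pow
      (Ideal.subset_span (Set.mem_range_self i)) _
  have hex : ∀ d, ∃ rr ∈ Ideal.span (Set.range f), ∃ jj ∈ J, rr + jj = coeff d P := fun d =>
    Submodule.mem_sup.1 (hcoef' d)
  choose rr hrr jj hjj hsum using hex
  have hx : eval f P = ∑ d ∈ P.support, jj d * ∏ i, f i ^ d i +
      ∑ d ∈ P.support, rr d * ∏ i, f i ^ d i := by
    rw [eval_eq', ← Finset.sum_add_distrib]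
    refine Finset.sum_congr rfl fun d _ => ?_
    rw [← hsum d]; ring
  have hu : ∑ d ∈ P.support, jj d * ∏ i, f i ^ d i ∈ J * Ideal.span (Set.range f) ^ N :=
    Ideal.sum_mem _ fun d hd => Ideal.mul_mem_mul (hjj d) (hmono d hd)
  have hv : ∑ d ∈ P.support, rr d * ∏ i, f i ^ d i ∈ Ideal.span (Set.range f) ^ (N + 1) := by
    rw [pow_succ']
    exact Ideal.sum_mem _ fun d hd => Ideal.mul_mem_mul (hrr d) (hmono d hd)
  have hvJ : ∑ d ∈ P.support, rr d * ∏ i, f i ^ d i ∈ J := by
    have h1 : ∑ d ∈ P.support, rr d * ∏ i, f i ^ d i =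
        eval f P - ∑ d ∈ P.support, jj d * ∏ i, f i ^ d i := by rw [hx]; ring
    rw [h1]
    exact Ideal.sub_mem _ hxJ (Ideal.mul_le_left hu)
  rw [hx]
  exact Submodule.add_mem_sup hu ⟨hvJ, hv⟩

include hf in
theorem H6_inf_pow_eq (n N : ℕ) (hnN : n ≤ N) :
    J ⊓ Ideal.span (Set.range f) ^ n =
      J * Ideal.span (Set.range f) ^ n ⊔ J ⊓ Ideal.span (Set.range f) ^ N := by
  apply le_antisymm
  · induction N, hnN using Nat.le_induction with
    | base => exact le_sup_right
    | succ N hN ih =>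
      refine ih.trans (sup_le le_sup_left ?_)
      refine (H6_inf_pow_step J f hf N).trans (sup_le ?_ le_sup_right)
      exact le_sup_of_le_left (Ideal.mul_mono_right (Ideal.pow_le_pow_right hN))
  · refine sup_le (le_inf Ideal.mul_le_left Ideal.mul_le_right) ?_
    exact inf_le_inf_left _ (Ideal.pow_le_pow_right hnN)

include hf in
theorem H6_inf_pow_eq_mul [IsNoetherianRing A]
    (hrad : Ideal.span (Set.range f) ≤ (⊥ : Ideal A).jacobson) (n : ℕ) :
    J ⊓ Ideal.span (Set.range f) ^ n = J * Ideal.span (Set.range f) ^ n := by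
  apply le_antisymm
  · intro x hx
    set K := J * Ideal.span (Set.range f) ^ n with hK
    have hall : ∀ N, x ∈ K ⊔ Ideal.span (Set.range f) ^ N := by
      intro N
      rcases le_total n N with h | h
      · have := (H6_inf_pow_eq J f hf n N h).le hx
        exact (sup_le_sup_left inf_le_right K :
          K ⊔ J ⊓ Ideal.span (Set.range f) ^ N ≤ K ⊔ Ideal.span (Set.range f) ^ N) this
      · exact Ideal.mem_sup_right (Ideal.pow_le_pow_right h hx.2)
    have hkrull := Ideal.iInf_pow_smul_eq_bot_of_le_jacobson (M := A ⧸ K) _ hrad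
    have hmk : (Submodule.Quotient.mk x : A ⧸ K) ∈
        (⨅ i : ℕ, Ideal.span (Set.range f) ^ i • ⊤ : Submodule A (A ⧸ K)) := by
      rw [Submodule.mem_iInf]
      intro N
      obtain ⟨k, hk, y, hy, rfl⟩ := Submodule.mem_sup.1 (hall N)
      have h1 : (Submodule.Quotient.mk (k + y) : A ⧸ K) = y • Submodule.Quotient.mk (1 : A) := by
        rw [← Submodule.Quotient.mk_smul, smul_eq_mul, mul_one, Submodule.Quotient.eq]
        simpa using hk
      rw [h1]
      exact Submodule.smul_mem_smul hy Submodule.mem_top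
    rw [hkrull, Submodule.mem_bot, Submodule.Quotient.mk_eq_zero] at hmk
    exact hmk
  · exact le_inf Ideal.mul_le_left Ideal.mul_le_right

include hf in
theorem H6_inf_sq_eq [IsNoetherianRing A]
    (hrad : Ideal.span (Set.range f) ≤ (⊥ : Ideal A).jacobson) :
    J ⊓ (J ⊔ Ideal.span (Set.range f)) ^ 2 = J * (J ⊔ Ideal.span (Set.range f)) := by
  apply le_antisymm
  · rintro x ⟨hxJ, hxQ⟩
    have hQ2 : (J ⊔ Ideal.span (Set.range f)) ^ 2 ≤
        J * (J ⊔ Ideal.span (Set.range f)) ⊔ Ideal.span (Set.range f) ^ 2 := by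
      rw [pow_two, Ideal.sup_mul]
      refine sup_le le_sup_left ?_
      rw [Ideal.mul_sup]
      refine sup_le ?_ ?_
      · rw [mul_comm]
        exact le_sup_of_le_left (Ideal.mul_mono_right le_sup_right)
      · rw [← pow_two]; exact le_sup_right
    obtain ⟨u, hu, v, hv, rfl⟩ := Submodule.mem_sup.1 (hQ2 hxQ)
    have hvJ : v ∈ J := by
      have := Ideal.sub_mem _ hxJ (Ideal.mul_le_left hu)
      rwa [add_sub_cancel_left] at this
    have hv2 : v ∈ J * Ideal.span (Set.range f) ^ 2 := by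
      rw [← H6_inf_pow_eq_mul J f hf hrad 2]
      exact ⟨hvJ, hv⟩
    refine Ideal.add_mem _ hu ?_
    refine Ideal.mul_mono_right ?_ hv2
    exact (Ideal.pow_le_self two_ne_zero).trans le_sup_right
  · refine le_inf Ideal.mul_le_left ?_
    rw [pow_two]
    exact Ideal.mul_mono_left le_sup_left

end

end Groth.Agent.Lib.helper6
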