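import Mathlib
import Groth.Prelude.Def_CAlgX

set_option autoImplicit false
set_option linter.style.haveILetI false

namespace Groth.Agent.Lib.helper6
open MvPolynomial

universe u

section

variable {A : Type u} [CommRing A] {n : ℕ}

/-- linear substitution by a matrix -/
noncomputable def H6_lin {R : Type u} [CommRing R] (m : Fin n → Fin n → R) :
    Fin n → MvPolynomial (Fin n) R := fun i => ∑ j, C (m i j) * X j

lemma H6_lin_homog {R : Type u} [CommRing R] (m : Fin n → Fin n → R) (i : Fin n) :
    (H6_lin m i).IsHomogeneous 1 := by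
  unfold H6_lin
  exact IsHomogeneous.sum _ _ _ fun j _ => isHomogeneous_C_mul_X _ _

lemma H6_lin_eval {R : Type u} [CommRing R] (m : Fin n → Fin n → R) (f : Fin n → R) (i : Fin n) :
    eval f (H6_lin m i) = ∑ j, m i j * f j := by
  unfold H6_lin
  simp

lemma H6_lin_map {R S : Type u} [CommRing R] [CommRing S] (φ : R →+* S)
    (m : Fin n → Fin n → R) (i : Fin n) :
    map φ (H6_lin m i) = H6_lin (fun a b => φ (m a b)) i := by
  unfold H6_lin
  simp

lemma H6_lin_bind {R : Type u} [CommRing R] (m m' : Fin n → Fin n → R) (i : Fin n) :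
    bind₁ (H6_lin m') (H6_lin m i) = H6_lin (fun a b => ∑ j, m a j * m' j b) i := by
  unfold H6_lin
  simp only [map_sum, map_mul, bind₁_C_right, bind₁_X_right, Finset.mul_sum, Finset.sum_mul]
  rw [Finset.sum_comm]
  refine Finset.sum_congr rfl fun b _ => Finset.sum_congr rfl fun j _ => ?_
  rw [← mul_assoc]

lemma H6_lin_one {R : Type u} [CommRing R] (i : Fin n) :
    H6_lin (fun a b => if a = b then (1 : R) else 0) i = X i := by
  unfold H6_lin
  rw [Finset.sum_eq_single i]
  · simp
  · intro b _ hb
    simp [Ne.symm hb]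
  · intro h; exact absurd (Finset.mem_univ i) h

/-- quasi-regularity only depends on the ideal (for sequences of the same length). -/
theorem H6_qr_of_span_eq (f f' : Fin n → A)
    (hf : CAlgX.IsQuasiRegular f) (h : Ideal.span (Set.range f') = Ideal.span (Set.range f)) :
    CAlgX.IsQuasiRegular f' := by
  classical
  obtain ⟨J, hJ⟩ : ∃ J, J = Ideal.span (Set.range f) := ⟨_, rfl⟩
  rw [← hJ] at h
  -- the matrices
  have h1 : ∀ i, ∃ a : Fin n → A, ∑ j, a j * f j = f' i := fun i =>
    (Ideal.mem_span_range_iff_exists_fun).1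
      (by rw [← hJ, ← h]; exact Ideal.subset_span (Set.mem_range_self i) :
        f' i ∈ Ideal.span (Set.range f))
  have h2 : ∀ j, ∃ a : Fin n → A, ∑ i, a i * f' i = f j := fun j =>
    (Ideal.mem_span_range_iff_exists_fun).1
      (by rw [h, hJ]; exact Ideal.subset_span (Set.mem_range_self j) :
        f j ∈ Ideal.span (Set.range f'))
  choose m hm using h1
  choose m' hm' using h2
  -- M'M - 1 kills f
  have hrel : ∀ j, ∑ k, ((∑ i, m' j i * m i k) - if j = k then 1 else 0) * f k = 0 := by
    intro j
    simp only [sub_mul, Finset.sum_sub_distrib, ite_mul, one_mul, zero_mul,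
      Finset.sum_ite_eq, Finset.mem_univ, if_true]
    rw [sub_eq_zero]
    conv_rhs => rw [← hm' j]
    simp only [← hm, Finset.mul_sum, Finset.sum_mul]
    rw [Finset.sum_comm]
    refine Finset.sum_congr rfl fun b _ => Finset.sum_congr rfl fun j _ => ?_
    rw [← mul_assoc]
  have hmem : ∀ j k, ((∑ i, m' j i * m i k) - if j = k then 1 else 0) ∈ J := by
    intro j k
    have hP : (H6_lin (fun a b => (∑ i, m' a i * m i b) - if a = b then 1 else 0) j).IsHomogeneous 1 :=
      H6_lin_homog _ _
    have := hf 1 _ hP (by rw [H6_lin_eval, hrel j]; exact Ideal.zero_mem _) (Finsupp.single k 1)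
    unfold H6_lin at this
    rw [coeff_sum, Finset.sum_eq_single k] at this
    · rw [coeff_C_mul, coeff_X, if_pos rfl, mul_one, ← hJ] at this
      exact this
    · intro b _ hb
      rw [coeff_C_mul, coeff_X, if_neg, mul_zero]
      intro hh
      exact hb (Finsupp.single_left_injective one_ne_zero hh)
    · intro hh; exact absurd (Finset.mem_univ k) hh
  -- matrices over A/J
  let φ : A →+* A ⧸ J := Ideal.Quotient.mk J
  let Mb : Matrix (Fin n) (Fin n) (A ⧸ J) := Matrix.of fun i j => φ (m i j)
  let Mb' : Matrix (Fin n) (Fin n) (A ⧸ J) := Matrix.of fun i j => φ (m' i j)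
  have hM1 : Mb' * Mb = 1 := by
    ext j k
    rw [Matrix.mul_apply, Matrix.one_apply]
    have := (Ideal.Quotient.eq_zero_iff_mem).2 (hmem j k)
    rw [map_sub, sub_eq_zero, map_sum] at this
    simp only [map_mul] at this
    rw [show (∑ i, Mb' j i * Mb i k) = ∑ i, φ (m' j i) * φ (m i k) from rfl, this]
    split_ifs <;> simp
  have hM2 : Mb * Mb' = 1 := mul_eq_one_comm.1 hM1
  have hM2' : ∀ a b, (∑ j, φ (m a j) * φ (m' j b)) = if a = b then 1 else 0 := by
    intro a b
    have := congrFun (congrFun hM2 a) b
    rw [Matrix.mul_apply, Matrix.one_apply] at this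
    exact this
  -- main
  intro ν P' hP' hev d
  rw [h] at hev ⊢
  set P := bind₁ (H6_lin m) P' with hPdef
  have hPh : P.IsHomogeneous ν := by
    have := hP'.aeval (S := A) (H6_lin m) (H6_lin_homog m)
    rwa [one_mul] at this
  have hPev : eval f P = eval f' P' := by
    have := aeval_bind₁ (S := A) f (H6_lin m) P'
    rw [← hPdef] at this
    have e1 : (aeval f : MvPolynomial (Fin n) A →ₐ[A] A) P = eval f P := by
      rw [aeval_def]; rfl
    rw [e1] at this
    rw [this]
    have e2 : (fun i => (aeval f : MvPolynomial (Fin n) A →ₐ[A] A) (H6_lin m i)) = f' := by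
      funext i
      rw [aeval_def]
      change eval f (H6_lin m i) = f' i
      rw [H6_lin_eval, hm]
    rw [e2, aeval_def]; rfl
  have hPc : ∀ d, coeff d P ∈ J := by
    rw [hJ]
    exact hf ν P hPh (by rw [hPev, ← hJ]; exact hev)
  have hP0 : map φ P = 0 := by
    ext d
    rw [coeff_map, coeff_zero]
    exact (Ideal.Quotient.eq_zero_iff_mem).2 (hPc d)
  have hP'0 : map φ P' = 0 := by
    have e1 : map φ P = bind₁ (H6_lin fun a b => φ (m a b)) (map φ P') := by
      rw [hPdef, map_bind₁]
      have : (fun i => map φ (H6_lin m i)) = H6_lin (fun a b => φ (m a b)) :=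
        funext fun i => H6_lin_map φ m i
      rw [this]
    have e2 : bind₁ (H6_lin fun a b => φ (m' a b)) (map φ P) = map φ P' := by
      rw [e1, bind₁_bind₁]
      have : (fun i => bind₁ (H6_lin fun a b => φ (m' a b)) (H6_lin (fun a b => φ (m a b)) i))
          = X := by
        funext i
        rw [H6_lin_bind]
        simp only [hM2']
        exact H6_lin_one i
      rw [this, bind₁_X_left]
      rfl
    rw [← e2, hP0, map_zero]
  have := congrArg (coeff d) hP'0
  rw [coeff_map, coeff_zero] at this
  exact (Ideal.Quotient.eq_zero_iff_mem).1 this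

end

end Groth.Agent.Lib.helper6
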