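import Mathlib
import Groth.Prelude.Def_CAlgX
import Groth.Agent.Lib.helper6.QReg5

set_option autoImplicit false
set_option linter.style.haveILetI false

namespace Groth.Agent.Lib.helper6
open MvPolynomial

universe u

section

variable {A : Type u} [CommRing A]

lemma H6_mk_smul_cot (I : Ideal A) (a : A) (x : I.Cotangent) :
    (Ideal.Quotient.mk I a) • x = a • x := by
  rw [← Ideal.Quotient.algebraMap_eq, algebraMap_smul]

/-- a quasi-regular sequence generating `I` gives a basis of `I/I²`. -/
theorem H6_qr_cotangent_basis (I : Ideal A) {m : ℕ} (f : Fin m → I)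
    (hq : CAlgX.IsQuasiRegular (fun i => (f i : A)))
    (hs : Ideal.span (Set.range fun i => (f i : A)) = I) :
    LinearIndependent (A ⧸ I) (fun i => I.toCotangent (f i)) ∧
      Submodule.span (A ⧸ I) (Set.range fun i => I.toCotangent (f i)) = ⊤ := by
  classical
  constructor
  · rw [Fintype.linearIndependent_iff]
    intro c hc i
    choose a ha using fun i => Ideal.Quotient.mk_surjective (c i)
    have h0 : I.toCotangent (∑ i, a i • f i) = 0 := by
      rw [map_sum, ← hc]
      refine Finset.sum_congr rfl fun i _ => ?_
      rw [map_smul, ← ha i, H6_mk_smul_cot]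
    rw [Ideal.toCotangent_eq_zero] at h0
    have hP : (∑ i, C (a i) * X i : MvPolynomial (Fin m) A).IsHomogeneous 1 :=
      IsHomogeneous.sum _ _ _ fun j _ => isHomogeneous_C_mul_X _ _
    have hev : eval (fun i => (f i : A)) (∑ i, C (a i) * X i) =
        ((∑ i, a i • f i : I) : A) := by
      simp
    have := hq 1 _ hP (by rw [hev, hs]; exact h0) (Finsupp.single i 1)
    rw [coeff_sum, Finset.sum_eq_single i, hs] at this
    · rw [coeff_C_mul, coeff_X, if_pos rfl, mul_one] at this
      rw [← ha i]
      exact (Ideal.Quotient.eq_zero_iff_mem).2 this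
    · intro b _ hb
      rw [coeff_C_mul, coeff_X, if_neg, mul_zero]
      intro hh
      exact hb (Finsupp.single_left_injective one_ne_zero hh)
    · intro hh; exact absurd (Finset.mem_univ i) hh
  · rw [eq_top_iff]
    intro x _
    obtain ⟨y, rfl⟩ := I.toCotangent_surjective x
    have hy : (y : A) ∈ Ideal.span (Set.range fun i => (f i : A)) := by rw [hs]; exact y.2
    obtain ⟨a, ha⟩ := (Ideal.mem_span_range_iff_exists_fun).1 hy
    have : y = ∑ i, a i • f i := by
      apply Subtype.ext
      rw [← ha]
      simp
    rw [this, map_sum]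
    refine Submodule.sum_mem _ fun i _ => ?_
    rw [map_smul, ← H6_mk_smul_cot]
    exact Submodule.smul_mem _ _ (Submodule.subset_span (Set.mem_range_self i))

/-- Nakayama: if the classes span `I/I²` and `I` is f.g. inside the Jacobson radical, then
the elements generate `I`. -/
theorem H6_span_eq_of_cotangent_span (I : Ideal A) (hfg : I.FG)
    (hI : I ≤ Ideal.jacobson ⊥) {m : ℕ} (f : Fin m → I)
    (hs : Submodule.span (A ⧸ I) (Set.range fun i => I.toCotangent (f i)) = ⊤) :
    Ideal.span (Set.range fun i => (f i : A)) = I := by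
  classical
  refine le_antisymm ?_ ?_
  · rw [Ideal.span_le]
    rintro _ ⟨i, rfl⟩
    exact (f i).2
  · refine Submodule.le_of_le_smul_of_le_jacobson_bot (I := I) hfg hI ?_
    intro x hx
    have hx' : I.toCotangent ⟨x, hx⟩ ∈
        Submodule.span (A ⧸ I) (Set.range fun i => I.toCotangent (f i)) := by
      rw [hs]; trivial
    obtain ⟨c, hc⟩ := (Submodule.mem_span_range_iff_exists_fun _).1 hx'
    choose a ha using fun i => Ideal.Quotient.mk_surjective (c i)
    have h0 : I.toCotangent (⟨x, hx⟩ - ∑ i, a i • f i) = 0 := by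
      rw [map_sub, ← hc, sub_eq_zero, map_sum]
      refine Finset.sum_congr rfl fun i _ => ?_
      rw [map_smul, ← ha i, H6_mk_smul_cot]
    rw [Ideal.toCotangent_eq_zero, pow_two] at h0
    have hx2 : x = (∑ i, a i * (f i : A)) + (x - ∑ i, a i * (f i : A)) := by ring
    rw [hx2]
    refine Submodule.add_mem_sup ?_ ?_
    · exact Ideal.sum_mem _ fun i _ => Ideal.mul_mem_left _ _
        (Ideal.subset_span (Set.mem_range_self i))
    · rw [smul_eq_mul]
      convert h0 using 1
      simp

end

end Groth.Agent.Lib.helper6
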