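import Mathlib
import Groth.Prelude.Def_CAlgX
import Groth.Agent.Lib.helper6.QReg1

set_option autoImplicit false
set_option linter.style.haveILetI false

namespace Groth.Agent.Lib.helper6
open MvPolynomial

universe u

section

variable {A : Type u} [CommRing A] {c : ℕ}

/-- key step: if `ω ∈ I^i` and `f₀ ω ∈ I^(i+2)` then `ω ∈ I^(i+1)`. -/
lemma H6_qr_mul_step (f : Fin (c + 1) → A) (hq : CAlgX.IsQuasiRegular f) (i : ℕ) (ω : A)
    (hω : ω ∈ Ideal.span (Set.range f) ^ i)
    (h : f 0 * ω ∈ Ideal.span (Set.range f) ^ (i + 2)) :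
    ω ∈ Ideal.span (Set.range f) ^ (i + 1) := by
  obtain ⟨H, hH, rfl⟩ := H6_exists_homog_of_mem_pow f i ω hω
  have hXH : (X 0 * H).IsHomogeneous (i + 1) := by
    have := hH.mul (isHomogeneous_X A (0 : Fin (c + 1)))
    rwa [mul_comm] at this
  have hc := hq (i + 1) (X 0 * H) hXH (by rw [map_mul, eval_X]; exact h)
  refine H6_eval_mem_pow_succ f hH fun d => ?_
  have := hc (Finsupp.single 0 1 + d)
  rwa [coeff_X_mul] at this

lemma H6_qr_nzd (f : Fin (c + 1) → A) (hq : CAlgX.IsQuasiRegular f)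
    (hK : ⨅ n : ℕ, Ideal.span (Set.range f) ^ n = ⊥) (ξ : A) (h : f 0 * ξ = 0) : ξ = 0 := by
  have h1 : ∀ i : ℕ, ξ ∈ Ideal.span (Set.range f) ^ i := by
    intro i
    induction i with
    | zero => simp
    | succ i ih => exact H6_qr_mul_step f hq i ξ ih (by rw [h]; exact zero_mem _)
  have h2 : ξ ∈ ⨅ n : ℕ, Ideal.span (Set.range f) ^ n := (Ideal.mem_iInf).2 h1
  rwa [hK, Ideal.mem_bot] at h2

lemma H6_exists_homog_lift {R S : Type u} [CommRing R] [CommRing S] (φ : R →+* S)
    (hφ : Function.Surjective φ) {σ : Type} (P : MvPolynomial σ S) (ν : ℕ)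
    (hP : P.IsHomogeneous ν) :
    ∃ Q : MvPolynomial σ R, Q.IsHomogeneous ν ∧ map φ Q = P := by
  classical
  choose s hs using hφ
  refine ⟨∑ d ∈ P.support, monomial d (s (coeff d P)), ?_, ?_⟩
  · refine IsHomogeneous.sum _ _ _ fun d hd => ?_
    refine isHomogeneous_monomial _ ?_
    by_contra hne
    exact (mem_support_iff.1 hd) (hP.coeff_eq_zero hne)
  · rw [map_sum]
    simp only [map_monomial, hs]
    exact P.support_sum_monomial_coeff

/-- Step 2 of Matsumura 16.3: the tail of a quasi-regular sequence is quasi-regular modulo the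
first element. -/
theorem H6_qr_tail_quotient (f : Fin (c + 1) → A) (hq : CAlgX.IsQuasiRegular f) :
    CAlgX.IsQuasiRegular
      (fun i : Fin c => Ideal.Quotient.mk (Ideal.span {f 0}) (f i.succ)) := by
  classical
  obtain ⟨I, hI⟩ : ∃ I, I = Ideal.span (Set.range f) := ⟨_, rfl⟩
  obtain ⟨φ, hφdef⟩ : ∃ φ : A →+* A ⧸ Ideal.span {f 0}, φ = Ideal.Quotient.mk _ := ⟨_, rfl⟩
  have hφs : Function.Surjective φ := by rw [hφdef]; exact Ideal.Quotient.mk_surjective
  have hφ0 : φ (f 0) = 0 := by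
    rw [hφdef]
    exact (Ideal.Quotient.eq_zero_iff_mem).2 (Ideal.mem_span_singleton_self _)
  have hfI : ∀ j, f j ∈ I := fun j => by rw [hI]; exact Ideal.subset_span (Set.mem_range_self j)
  have hspan : Ideal.span (Set.range fun i : Fin c => φ (f i.succ)) = I.map φ := by
    apply le_antisymm
    · rw [Ideal.span_le]
      rintro _ ⟨i, rfl⟩
      exact Ideal.mem_map_of_mem _ (hfI _)
    · rw [Ideal.map_le_iff_le_comap, hI, Ideal.span_le]
      rintro _ ⟨j, rfl⟩
      rw [SetLike.mem_coe, Ideal.mem_comap]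
      refine Fin.cases ?_ (fun i => ?_) j
      · rw [hφ0]; exact zero_mem _
      · exact Ideal.subset_span (Set.mem_range_self i)
  rw [← hφdef]
  intro ν Pb hPb hev d
  rw [hspan] at hev ⊢
  obtain ⟨P, hP, rfl⟩ := H6_exists_homog_lift φ hφs Pb ν hPb
  rw [coeff_map]
  refine Ideal.mem_map_of_mem _ ?_
  -- the polynomial in c+1 variables
  obtain ⟨Pt, hPtdef⟩ : ∃ Pt : MvPolynomial (Fin (c + 1)) A, Pt = rename Fin.succ P := ⟨_, rfl⟩
  have hPt : Pt.IsHomogeneous ν := by rw [hPtdef]; exact hP.rename_isHomogeneous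
  have hevPt : eval f Pt = eval (fun i : Fin c => f i.succ) P := by
    rw [hPtdef, eval_rename]; rfl
  have hcoef : ∀ d : Fin c →₀ ℕ, coeff (d.mapDomain Fin.succ) Pt = coeff d P := by
    intro d
    rw [hPtdef, coeff_rename_mapDomain _ (Fin.succ_injective c)]
  have hd0 : ∀ d : Fin c →₀ ℕ, (d.mapDomain Fin.succ) (0 : Fin (c + 1)) = 0 := by
    intro d
    apply Finsupp.mapDomain_of_notMem_range
    rintro ⟨i, hi⟩
    exact Fin.succ_ne_zero i hi
  have hev2 : φ (eval (fun i : Fin c => f i.succ) P) ∈ (I ^ (ν + 1)).map φ := by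
    rw [Ideal.map_pow]
    convert hev using 1
    rw [eval_map]
    have := eval₂_comp_left φ (RingHom.id A) (fun i : Fin c => f i.succ) P
    rw [RingHom.comp_id] at this
    exact this
  obtain ⟨z, hz, hzeq⟩ := (Ideal.mem_map_iff_of_surjective φ hφs).1 hev2
  have hker : eval f Pt - z ∈ Ideal.span {f 0} := by
    rw [← Ideal.Quotient.eq, ← hφdef, hzeq, hevPt]
  obtain ⟨ω, hω⟩ := Ideal.mem_span_singleton'.1 hker
  have hω' : f 0 * ω = eval f Pt - z := by rw [← hω, mul_comm]
  have hPtI : eval f Pt ∈ I ^ ν := by rw [hI]; exact H6_eval_mem_pow f hPt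
  have haω : f 0 * ω ∈ I ^ ν := by
    rw [hω']
    exact sub_mem hPtI (Ideal.pow_le_pow_right (Nat.le_succ ν) hz)
  rw [← hcoef d]
  rcases Nat.eq_zero_or_pos ν with h0 | hpos
  · subst h0
    have hQ : (Pt - C (f 0 * ω)).IsHomogeneous 0 := hPt.sub (isHomogeneous_C _ _)
    have hevQ : eval f (Pt - C (f 0 * ω)) ∈ Ideal.span (Set.range f) ^ (0 + 1) := by
      rw [map_sub, eval_C, hω', sub_sub_cancel, ← hI]
      exact hz
    have := hq 0 _ hQ hevQ (d.mapDomain Fin.succ)
    rw [coeff_sub, ← hI] at this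
    have h2 : coeff (d.mapDomain Fin.succ) (C (f 0 * ω) : MvPolynomial (Fin (c + 1)) A) ∈ I := by
      rw [coeff_C]
      split_ifs
      · exact Ideal.mul_mem_right _ _ (hfI 0)
      · exact zero_mem _
    have h3 := add_mem this h2
    rwa [sub_add_cancel] at h3
  · obtain ⟨k, rfl⟩ : ∃ k, ν = k + 1 := ⟨ν - 1, by omega⟩
    have hωk : ∀ i, i ≤ k → ω ∈ I ^ i := by
      intro i
      induction i with
      | zero => intro _; simp
      | succ i ih =>
        intro hi
        rw [hI]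
        refine H6_qr_mul_step f hq i ω (hI ▸ ih (by omega)) ?_
        rw [← hI]
        exact Ideal.pow_le_pow_right (by omega) haω
    obtain ⟨H, hH, hHev⟩ := H6_exists_homog_of_mem_pow f k ω (hI ▸ hωk k le_rfl)
    have hXH : (X 0 * H).IsHomogeneous (k + 1) := by
      have := hH.mul (isHomogeneous_X A (0 : Fin (c + 1)))
      rwa [mul_comm] at this
    have hQ : (Pt - X 0 * H).IsHomogeneous (k + 1) := hPt.sub hXH
    have hevQ : eval f (Pt - X 0 * H) ∈ Ideal.span (Set.range f) ^ (k + 1 + 1) := by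
      rw [map_sub, map_mul, eval_X, hHev, hω', sub_sub_cancel, ← hI]
      exact hz
    have := hq (k + 1) _ hQ hevQ (d.mapDomain Fin.succ)
    rw [coeff_sub, ← hI] at this
    have h2 : coeff (d.mapDomain Fin.succ) (X 0 * H : MvPolynomial (Fin (c + 1)) A) = 0 := by
      rw [coeff_X_mul', if_neg]
      rw [Finsupp.mem_support_iff, not_not]
      exact hd0 d
    rwa [h2, sub_zero] at this

end

end Groth.Agent.Lib.helper6
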