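import Mathlib
import Groth.Prelude.Def_CAlgX
import Groth.Agent.Lib.helper6.QReg7

set_option autoImplicit false
set_option linter.style.haveILetI false

namespace Groth.Agent.Lib.helper6
open MvPolynomial
open scoped Pointwise

universe u

lemma H6_mk_mem_jacobson {A : Type u} [CommRing A] (J : Ideal A) (x : A)
    (hx : x ∈ Ring.jacobson A) : Ideal.Quotient.mk J x ∈ Ring.jacobson (A ⧸ J) := by
  rw [Ring.jacobson_eq_sInf_isMaximal, Ideal.mem_sInf]
  intro m hm
  have hm' : m.IsMaximal := hm
  haveI : (m.comap (Ideal.Quotient.mk J)).IsMaximal :=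
    Ideal.comap_isMaximal_of_surjective _ Ideal.Quotient.mk_surjective
  exact Ring.jacobson_le_of_isMaximal (m.comap (Ideal.Quotient.mk J)) hx

/-- Matsumura 16.3: in a Noetherian ring a quasi-regular sequence in the Jacobson radical is
(weakly) regular. -/
theorem H6_regular_of_qr : ∀ (c : ℕ) (A : Type u) [CommRing A] [IsNoetherianRing A]
    (f : Fin c → A), (∀ i, f i ∈ Ring.jacobson A) → CAlgX.IsQuasiRegular f →
    RingTheory.Sequence.IsWeaklyRegular A (List.ofFn f) := by
  intro c
  induction c with
  | zero =>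
    intro A _ _ f _ _
    rw [List.ofFn_zero]
    exact RingTheory.Sequence.IsWeaklyRegular.nil A A
  | succ c ih =>
    intro A _ _ f hf hq
    rw [List.ofFn_succ]
    refine RingTheory.Sequence.IsWeaklyRegular.cons ?_ ?_
    · have hle : Ideal.span (Set.range f) ≤ Ideal.jacobson ⊥ := by
        rw [Ideal.span_le]
        rintro _ ⟨i, rfl⟩
        rw [SetLike.mem_coe, Ideal.jacobson_bot]
        exact hf i
      have hK : ⨅ n : ℕ, Ideal.span (Set.range f) ^ n = ⊥ := by
        convert (Ideal.span (Set.range f)).iInf_pow_smul_eq_bot_of_le_jacobson (M := A) hle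
        rw [smul_eq_mul, ← Ideal.one_eq_top, mul_one]
      intro x y hxy
      have h0 : f 0 * (x - y) = 0 := by
        rw [mul_sub, sub_eq_zero]
        exact hxy
      exact sub_eq_zero.1 (H6_qr_nzd f hq hK _ h0)
    · have h1 := ih (A ⧸ Ideal.span {f 0}) (fun i => Ideal.Quotient.mk _ (f i.succ))
        (fun i => H6_mk_mem_jacobson _ _ (hf _)) (H6_qr_tail_quotient f hq)
      have h2 : List.ofFn (fun i : Fin c => Ideal.Quotient.mk (Ideal.span {f 0}) (f i.succ)) =
          (List.ofFn fun i : Fin c => f i.succ).map (algebraMap A (A ⧸ Ideal.span {f 0})) := by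
        rw [List.map_ofFn]
        rfl
      rw [h2, RingTheory.Sequence.isWeaklyRegular_map_algebraMap_iff] at h1
      have heq : (Ideal.span {f 0} : Submodule A A) = (f 0 • ⊤ : Submodule A A) := by
        rw [← Submodule.ideal_span_singleton_smul, smul_eq_mul, Ideal.mul_top]
      let e : (A ⧸ Ideal.span {f 0}) ≃ₗ[A] QuotSMulTop (f 0) A :=
        Submodule.quotEquivOfEq _ _ heq
      exact (e.isWeaklyRegular_congr _).1 h1

end Groth.Agent.Lib.helper6
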