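import Mathlib
import Groth.Prelude.Def_QuadGrp

set_option autoImplicit false
set_option linter.style.haveILetI false

namespace Groth.Agent.Lib.helper6
open QuadGrp Matrix

variable {n : ℕ}

/-- upper triangular matrix of a coefficient function -/
def H6_triMat {S : Type*} [CommRing S] (a : Sym2 (Fin n) → S) : Matrix (Fin n) (Fin n) S :=
  Matrix.of fun i j => if i = j then a s(i, j) else if i < j then a s(i, j) else 0

/-- polar matrix of a coefficient function -/
def H6_polMat {S : Type*} [CommRing S] (a : Sym2 (Fin n) → S) : Matrix (Fin n) (Fin n) S :=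
  Matrix.of fun i j => if i = j then 2 * a s(i, j) else a s(i, j)

lemma H6_polMat_eq {S : Type*} [CommRing S] (a : Sym2 (Fin n) → S) :
    H6_polMat a = H6_triMat a + (H6_triMat a)ᵀ := by
  ext i j
  simp only [H6_polMat, H6_triMat, Matrix.of_apply, Matrix.add_apply, Matrix.transpose_apply]
  by_cases h : i = j
  · subst h; simp [two_mul]
  · rcases lt_or_gt_of_ne h with h' | h'
    · simp [h, Ne.symm h, h', not_lt.2 h'.le]
    · simp [h, Ne.symm h, h', not_lt.2 h'.le, Sym2.eq_swap (a := j)]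

/-- transformed coefficients -/
def H6_trans {S : Type*} [CommRing S] (a : Sym2 (Fin n) → S) (G : Matrix (Fin n) (Fin n) S) :
    Sym2 (Fin n) → S :=
  Sym2.lift ⟨fun i j => if i = j then (Gᵀ * H6_triMat a * G) i i
    else (Gᵀ * H6_triMat a * G) i j + (Gᵀ * H6_triMat a * G) j i, fun i j => by
    by_cases h : i = j
    · subst h; rfl
    · dsimp only
      rw [if_neg h, if_neg (Ne.symm h), add_comm]⟩

lemma H6_trans_mk {S : Type*} [CommRing S] (a : Sym2 (Fin n) → S) (G : Matrix (Fin n) (Fin n) S)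
    (i j : Fin n) :
    H6_trans a G s(i, j) = if i = j then (Gᵀ * H6_triMat a * G) i i
    else (Gᵀ * H6_triMat a * G) i j + (Gᵀ * H6_triMat a * G) j i := rfl

lemma H6_polMat_trans {S : Type*} [CommRing S] (a : Sym2 (Fin n) → S)
    (G : Matrix (Fin n) (Fin n) S) :
    H6_polMat (H6_trans a G) = Gᵀ * H6_polMat a * G := by
  have h1 : Gᵀ * H6_polMat a * G = Gᵀ * H6_triMat a * G + (Gᵀ * H6_triMat a * G)ᵀ := by
    rw [H6_polMat_eq, Matrix.mul_add, Matrix.add_mul, Matrix.transpose_mul, Matrix.transpose_mul,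
      Matrix.transpose_transpose]
    simp only [Matrix.mul_assoc]
  rw [h1]
  ext i j
  simp only [H6_polMat, Matrix.of_apply, H6_trans_mk, Matrix.add_apply, Matrix.transpose_apply]
  by_cases h : i = j
  · subst h; simp [two_mul]
  · simp [h]

lemma H6_eval_discUniv {S : Type*} [CommRing S] (a : Sym2 (Fin n) → S) :
    MvPolynomial.eval₂ (Int.castRingHom S) a (discUniv n) = (H6_polMat a).det := by
  have := RingHom.map_det (MvPolynomial.eval₂Hom (Int.castRingHom S) a) (univPolarMat n)
  rw [discUniv]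
  rw [MvPolynomial.coe_eval₂Hom] at this
  rw [this]
  congr 1
  ext i j
  simp only [RingHom.mapMatrix_apply, Matrix.map_apply, univPolarMat, Matrix.of_apply, H6_polMat,
    MvPolynomial.coe_eval₂Hom]
  by_cases h : i = j
  · simp [h]
  · simp [h]

/-- determinant of a symmetric matrix with zero diagonal of odd size in characteristic 2 -/
lemma H6_det_alt_odd {S : Type*} [CommRing S] [CharP S 2] (hn : Odd n)
    (M : Matrix (Fin n) (Fin n) S) (hs : ∀ i j, M i j = M j i) (hd : ∀ i, M i i = 0) :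
    M.det = 0 := by
  rw [Matrix.det_apply]
  refine Finset.sum_involution (fun σ _ => σ⁻¹) ?_ ?_ (fun _ _ => Finset.mem_univ _)
    (fun σ _ => inv_inv σ)
  · intro σ _
    have : ∏ i, M (σ⁻¹ i) i = ∏ i, M (σ i) i := by
      rw [← Equiv.prod_comp σ (fun i => M (σ⁻¹ i) i)]
      refine Finset.prod_congr rfl fun i _ => ?_
      simp [hs (σ i) i]
    rw [Equiv.Perm.sign_inv, this, ← two_smul ℕ]
    simp [CharTwo.two_eq_zero]
  · intro σ _ hne hσ
    apply hne
    have hσ2 : σ ^ 2 ^ 1 = 1 := by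
      rw [pow_one, sq]
      calc σ * σ = σ⁻¹ * σ := by rw [hσ]
        _ = 1 := inv_mul_cancel σ
    haveI : Fact (Nat.Prime 2) := ⟨Nat.prime_two⟩
    obtain ⟨i, hi⟩ := Equiv.Perm.exists_fixed_point_of_prime (p := 2) (n := 1)
      (by rw [Fintype.card_fin]; exact fun h => (Nat.not_even_iff_odd.2 hn) (even_iff_two_dvd.2 h)) hσ2
    have : ∏ j, M (σ j) j = 0 := Finset.prod_eq_zero (Finset.mem_univ i) (by rw [hi, hd])
    rw [this, smul_zero]

lemma H6_two_mul_halfDiscUniv (hn : Odd n) : 2 * halfDiscUniv n = discUniv n := by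
  have h0 : MvPolynomial.map (Int.castRingHom (ZMod 2)) (discUniv n) = 0 := by
    have := RingHom.map_det (MvPolynomial.map (Int.castRingHom (ZMod 2))
      (σ := Sym2 (Fin n))) (univPolarMat n)
    rw [discUniv, this]
    apply H6_det_alt_odd hn
    · intro i j
      simp only [RingHom.mapMatrix_apply, Matrix.map_apply, univPolarMat, Matrix.of_apply]
      by_cases h : i = j
      · subst h; rfl
      · rw [if_neg h, if_neg (Ne.symm h), Sym2.eq_swap]
    · intro i
      simp only [RingHom.mapMatrix_apply, Matrix.map_apply, univPolarMat, Matrix.of_apply, if_true,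
        map_mul, map_ofNat]
      have h2 : (2 : MvPolynomial (Sym2 (Fin n)) (ZMod 2)) = 0 := CharTwo.two_eq_zero
      rw [h2, zero_mul]
  ext s
  have hc : (2 : MvPolynomial (Sym2 (Fin n)) ℤ) = MvPolynomial.C 2 := by simp
  rw [hc, MvPolynomial.coeff_C_mul, coeff_halfDiscUniv]
  have h1 := congrArg (MvPolynomial.coeff s) h0
  rw [MvPolynomial.coeff_map, MvPolynomial.coeff_zero] at h1
  have h2 : (2 : ℤ) ∣ MvPolynomial.coeff s (discUniv n) := by
    have := (ZMod.intCast_zmod_eq_zero_iff_dvd (MvPolynomial.coeff s (discUniv n)) 2).1 h1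
    exact_mod_cast this
  exact Int.mul_ediv_cancel' h2

lemma H6_two_mul_eval_halfDisc {S : Type*} [CommRing S] (hn : Odd n) (a : Sym2 (Fin n) → S) :
    2 * MvPolynomial.eval₂ (Int.castRingHom S) a (halfDiscUniv n) = (H6_polMat a).det := by
  rw [← H6_eval_discUniv, ← H6_two_mul_halfDiscUniv hn, MvPolynomial.eval₂_mul]
  congr 1
  have hc : (2 : MvPolynomial (Sym2 (Fin n)) ℤ) = MvPolynomial.C 2 := by simp
  rw [hc, MvPolynomial.eval₂_C]
  simp

/-- The transformation identity in a ring where 2 is a non-zero-divisor. -/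
lemma H6_halfDisc_trans_of_two {S : Type*} [CommRing S] (hn : Odd n)
    (h2 : ∀ x y : S, 2 * x = 2 * y → x = y)
    (a : Sym2 (Fin n) → S) (G : Matrix (Fin n) (Fin n) S) :
    MvPolynomial.eval₂ (Int.castRingHom S) (H6_trans a G) (halfDiscUniv n) =
      G.det ^ 2 * MvPolynomial.eval₂ (Int.castRingHom S) a (halfDiscUniv n) := by
  apply h2
  rw [H6_two_mul_eval_halfDisc hn, H6_polMat_trans, Matrix.det_mul, Matrix.det_mul,
    Matrix.det_transpose, ← H6_two_mul_eval_halfDisc hn a]
  ring

lemma H6_triMat_map {S S' : Type*} [CommRing S] [CommRing S'] (φ : S →+* S')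
    (a : Sym2 (Fin n) → S) : H6_triMat (φ ∘ a) = (H6_triMat a).map φ := by
  ext i j
  simp only [H6_triMat, Matrix.of_apply, Matrix.map_apply, Function.comp_apply]
  split_ifs <;> simp

lemma H6_trans_map {S S' : Type*} [CommRing S] [CommRing S'] (φ : S →+* S')
    (a : Sym2 (Fin n) → S) (G : Matrix (Fin n) (Fin n) S) :
    φ ∘ H6_trans a G = H6_trans (φ ∘ a) (G.map φ) := by
  funext s
  induction s using Sym2.ind with
  | _ i j =>
    have key : (G.map φ)ᵀ * H6_triMat (φ ∘ a) * (G.map φ) = (Gᵀ * H6_triMat a * G).map φ := by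
      rw [H6_triMat_map, Matrix.map_mul, Matrix.map_mul, Matrix.transpose_map]
    rw [Function.comp_apply, H6_trans_mk, H6_trans_mk, key]
    by_cases h : i = j
    · simp [h]
    · simp [h]

/-- The transformation identity in any commutative ring. -/
lemma H6_halfDisc_trans {R : Type*} [CommRing R] (hn : Odd n)
    (a : Sym2 (Fin n) → R) (G : Matrix (Fin n) (Fin n) R) :
    MvPolynomial.eval₂ (Int.castRingHom R) (H6_trans a G) (halfDiscUniv n) =
      G.det ^ 2 * MvPolynomial.eval₂ (Int.castRingHom R) a (halfDiscUniv n) := by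
  obtain ⟨U, hU⟩ : ∃ U : Type, U = MvPolynomial (Sym2 (Fin n) ⊕ Fin n × Fin n) ℤ := ⟨_, rfl⟩
  let aU : Sym2 (Fin n) → MvPolynomial (Sym2 (Fin n) ⊕ Fin n × Fin n) ℤ :=
    fun s => MvPolynomial.X (Sum.inl s)
  let GU : Matrix (Fin n) (Fin n) (MvPolynomial (Sym2 (Fin n) ⊕ Fin n × Fin n) ℤ) :=
    Matrix.of fun i j => MvPolynomial.X (Sum.inr (i, j))
  let φ : MvPolynomial (Sym2 (Fin n) ⊕ Fin n × Fin n) ℤ →+* R :=
    MvPolynomial.eval₂Hom (Int.castRingHom R) (Sum.elim a (fun p => G p.1 p.2))
  have ha : φ ∘ aU = a := by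
    funext s
    simp [φ, aU]
  have hG : GU.map φ = G := by
    ext i j
    simp [φ, GU]
  have hU := H6_halfDisc_trans_of_two hn (S := MvPolynomial (Sym2 (Fin n) ⊕ Fin n × Fin n) ℤ)
    (fun x y h => mul_left_cancel₀ (two_ne_zero) h) aU GU
  have := congrArg φ hU
  rw [MvPolynomial.eval₂_comp_left φ, map_mul, map_pow, RingHom.map_det,
    MvPolynomial.eval₂_comp_left φ, H6_trans_map, ha, RingHom.mapMatrix_apply, hG] at this
  have hcast : φ.comp (Int.castRingHom _) = Int.castRingHom R := RingHom.ext_int _ _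
  rw [hcast] at this
  exact this

end Groth.Agent.Lib.helper6
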