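import Mathlib
import Groth.Prelude.Def_QuadGrp
import Groth.Agent.Lib.helper6.QuadHalfDisc

set_option autoImplicit false
set_option linter.style.haveILetI false

namespace Groth.Agent.Lib.helper6
open QuadGrp Matrix

variable {n : ℕ}

lemma H6_toBilin_eq_triMat {R : Type*} [CommRing R] {M : Type*} [AddCommGroup M] [Module R M]
    (b : Module.Basis (Fin n) R M) (Q : QuadraticForm R M) (k l : Fin n) :
    Q.toBilin b (b k) (b l) = H6_triMat (coeffs b (LinearEquiv.refl R R) Q) k l := by
  rw [QuadraticMap.toBilin_apply]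
  simp only [H6_triMat, Matrix.of_apply, coeffs_mk, LinearEquiv.refl_apply]
  by_cases h : k = l
  · simp [h]
  · simp [h]

lemma H6_bilin_comp {R : Type*} [CommRing R] {M : Type*} [AddCommGroup M] [Module R M]
    (b : Module.Basis (Fin n) R M) (Q : QuadraticForm R M) (g : M →ₗ[R] M) (i j : Fin n) :
    Q.toBilin b (g (b i)) (g (b j)) =
      ((LinearMap.toMatrix b b g)ᵀ * H6_triMat (coeffs b (LinearEquiv.refl R R) Q) *
        (LinearMap.toMatrix b b g)) i j := by
  have hi : g (b i) = ∑ k, (LinearMap.toMatrix b b g) k i • b k := by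
    simp only [LinearMap.toMatrix_apply]
    exact (b.sum_repr (g (b i))).symm
  have hj : g (b j) = ∑ l, (LinearMap.toMatrix b b g) l j • b l := by
    simp only [LinearMap.toMatrix_apply]
    exact (b.sum_repr (g (b j))).symm
  rw [hi, hj]
  simp only [map_sum, LinearMap.sum_apply, map_smul, LinearMap.smul_apply, H6_toBilin_eq_triMat,
    smul_eq_mul, Matrix.mul_apply, Matrix.transpose_apply, Finset.sum_mul]
  refine Finset.sum_congr rfl fun l _ => ?_
  rw [Finset.mul_sum]
  refine Finset.sum_congr rfl fun k _ => ?_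
  ring

lemma H6_coeffs_comp {R : Type*} [CommRing R] {M : Type*} [AddCommGroup M] [Module R M]
    (b : Module.Basis (Fin n) R M) (Q : QuadraticForm R M) (g : M →ₗ[R] M) :
    coeffs b (LinearEquiv.refl R R) (Q.comp g) =
      H6_trans (coeffs b (LinearEquiv.refl R R) Q) (LinearMap.toMatrix b b g) := by
  funext s
  induction s using Sym2.ind with
  | _ i j =>
    rw [coeffs_mk, H6_trans_mk]
    have hQ : ∀ x, Q x = Q.toBilin b x x := fun x => by
      conv_lhs => rw [← QuadraticMap.toQuadraticMap_toBilin Q b]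
      rfl
    by_cases h : i = j
    · subst h
      rw [if_pos rfl, if_pos rfl, LinearEquiv.refl_apply, QuadraticMap.comp_apply, hQ,
        H6_bilin_comp]
    · rw [if_neg h, if_neg h, LinearEquiv.refl_apply, ← H6_bilin_comp, ← H6_bilin_comp]
      have : QuadraticMap.polar (Q.comp g) (b i) (b j) = QuadraticMap.polar Q (g (b i)) (g (b j)) := by
        simp [QuadraticMap.polar, QuadraticMap.comp_apply]
      rw [this]
      conv_lhs => rw [← QuadraticMap.toQuadraticMap_toBilin Q b]
      rw [LinearMap.BilinMap.polar_toQuadraticMap]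

theorem H6_halfDisc_comp {R : Type*} [CommRing R] {M : Type*} [AddCommGroup M] [Module R M]
    (hn : Odd n) (b : Module.Basis (Fin n) R M) (Q : QuadraticForm R M) (g : M →ₗ[R] M) :
    QuadGrp.halfDisc b (LinearEquiv.refl R R) (Q.comp g) =
      LinearMap.det g ^ 2 * QuadGrp.halfDisc b (LinearEquiv.refl R R) Q := by
  rw [halfDisc, halfDisc, H6_coeffs_comp, H6_halfDisc_trans hn, LinearMap.det_toMatrix]

end Groth.Agent.Lib.helper6
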