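import Mathlib

set_option autoImplicit false

namespace Groth.Agent.Lib.helper6

universe u v

lemma H6_torsionBy_artinian (A : Type u) [CommRing A] [IsNoetherianRing A] (M : Type v)
    [AddCommGroup M] [Module A M] [hM : Module.Finite A M] :
    ∃ T : Finset (Ideal A), (∀ 𝔭 ∈ T, 𝔭.IsPrime ∧ ¬ 𝔭.IsMaximal) ∧
      ∀ a : A, (∀ 𝔭 ∈ T, a ∉ 𝔭) → IsArtinian A (Submodule.torsionBy A M a) := by
  classical
  induction hM using IsNoetherianRing.induction_on_isQuotientEquivQuotientPrime A with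
  | subsingleton N => exact ⟨∅, by simp, fun a _ => inferInstance⟩
  | quotient N p e =>
    by_cases hp : p.asIdeal.IsMaximal
    · refine ⟨∅, by simp, fun a _ => ?_⟩
      have h1 : IsSimpleModule A (A ⧸ p.asIdeal) :=
        isSimpleModule_iff_isCoatom.2 (Ideal.isMaximal_def.1 hp)
      have h2 : IsArtinian A (A ⧸ p.asIdeal) := inferInstance
      have h3 : IsArtinian A N := isArtinian_of_injective e.toLinearMap e.injective
      infer_instance
    · refine ⟨{p.asIdeal}, by simpa using ⟨p.isPrime, hp⟩, fun a ha => ?_⟩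
      have ha' : a ∉ p.asIdeal := ha _ (Finset.mem_singleton_self _)
      have : Submodule.torsionBy A N a = ⊥ := by
        rw [eq_bot_iff]
        intro x hx
        rw [Submodule.mem_torsionBy_iff] at hx
        have h1 : a • e x = 0 := by rw [← map_smul, hx, map_zero]
        obtain ⟨y, hy⟩ := Ideal.Quotient.mk_surjective (e x)
        rw [← hy, ← Ideal.Quotient.mk_eq_mk, ← Submodule.Quotient.mk_smul,
          Submodule.Quotient.mk_eq_zero, smul_eq_mul] at h1
        have hy' : y ∈ p.asIdeal := (p.isPrime.mem_or_mem h1).resolve_left ha'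
        have : e x = 0 := by rw [← hy]; exact Ideal.Quotient.eq_zero_iff_mem.2 hy'
        exact (Submodule.mem_bot A).2 (e.map_eq_zero_iff.1 this)
      rw [this]
      infer_instance
  | exact N1 N2 N3 f g hf hg hfg ih1 ih3 =>
    obtain ⟨T1, hT1, h1⟩ := ih1
    obtain ⟨T3, hT3, h3⟩ := ih3
    refine ⟨T1 ∪ T3, ?_, fun a ha => ?_⟩
    · intro 𝔭 h𝔭
      rcases Finset.mem_union.1 h𝔭 with h | h
      · exact hT1 _ h
      · exact hT3 _ h
    · have i1 := h1 a (fun 𝔭 h => ha 𝔭 (Finset.mem_union_left _ h))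
      have i3 := h3 a (fun 𝔭 h => ha 𝔭 (Finset.mem_union_right _ h))
      have hf' : ∀ x ∈ Submodule.torsionBy A N1 a, f x ∈ Submodule.torsionBy A N2 a := by
        intro x hx
        rw [Submodule.mem_torsionBy_iff] at hx ⊢
        rw [← map_smul, hx, map_zero]
      have hg' : ∀ x ∈ Submodule.torsionBy A N2 a, g x ∈ Submodule.torsionBy A N3 a := by
        intro x hx
        rw [Submodule.mem_torsionBy_iff] at hx ⊢
        rw [← map_smul, hx, map_zero]
      refine isArtinian_of_range_eq_ker (f.restrict hf') (g.restrict hg') ?_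
      ext ⟨x, hx⟩
      rw [LinearMap.mem_range, LinearMap.mem_ker]
      constructor
      · rintro ⟨⟨y, hy⟩, hyx⟩
        have : f y = x := congrArg Subtype.val hyx
        apply Subtype.ext
        change g x = 0
        rw [← this]
        exact hfg.apply_apply_eq_zero y
      · intro hgx
        have hgx' : g x = 0 := congrArg Subtype.val hgx
        obtain ⟨y, rfl⟩ := (hfg x).1 hgx'
        refine ⟨⟨y, ?_⟩, Subtype.ext rfl⟩
        rw [Submodule.mem_torsionBy_iff] at hx ⊢
        apply hf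
        rw [map_smul, hx, map_zero]

lemma H6_isMaximal_of_X_mem {k : Type*} [Field k] {σ : Type*} (𝔭 : Ideal (MvPolynomial σ k))
    (hne : 𝔭 ≠ ⊤) (hX : ∀ j, MvPolynomial.X j ∈ 𝔭) : 𝔭.IsMaximal := by
  classical
  have hsub : ∀ g : MvPolynomial σ k, g - MvPolynomial.C (MvPolynomial.constantCoeff g) ∈ 𝔭 := by
    intro g
    have h1 : Ideal.span (MvPolynomial.X '' (Set.univ : Set σ) : Set (MvPolynomial σ k)) ≤ 𝔭 := by
      rw [Ideal.span_le]
      rintro _ ⟨j, -, rfl⟩
      exact hX j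
    apply h1
    rw [MvPolynomial.mem_ideal_span_X_image]
    intro m hm
    have hm0 : m ≠ 0 := by
      rintro rfl
      rw [MvPolynomial.mem_support_iff] at hm
      apply hm
      simp [MvPolynomial.constantCoeff_eq]
    obtain ⟨i, hi⟩ : ∃ i, m i ≠ 0 := by
      by_contra hcon
      push Not at hcon
      exact hm0 (Finsupp.ext hcon)
    exact ⟨i, Set.mem_univ _, hi⟩
  rw [Ideal.isMaximal_iff]
  refine ⟨fun h => hne ((Ideal.eq_top_iff_one _).2 h), fun J g hle hg hgJ => ?_⟩
  have hc : MvPolynomial.constantCoeff g ≠ 0 := by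
    intro h0
    have := hsub g
    rw [h0, map_zero, sub_zero] at this
    exact hg this
  have h2 : MvPolynomial.C (MvPolynomial.constantCoeff g) ∈ J := by
    have := J.sub_mem hgJ (hle (hsub g))
    rwa [sub_sub_cancel] at this
  have h3 := J.mul_mem_left (MvPolynomial.C (MvPolynomial.constantCoeff g)⁻¹) h2
  rwa [← map_mul, inv_mul_cancel₀ hc, map_one] at h3

lemma H6_exists_homog_avoid (k : Type*) [Field k] [Infinite k] (σ : Type*) [Nonempty σ] (d : ℕ)
    (T : Finset (Ideal (MvPolynomial σ k))) (hT : ∀ 𝔭 ∈ T, 𝔭.IsPrime ∧ ¬ 𝔭.IsMaximal) :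
    ∃ f : MvPolynomial σ k, f.IsHomogeneous d ∧ f ≠ 0 ∧ ∀ 𝔭 ∈ T, f ∉ 𝔭 := by
  classical
  obtain ⟨V, hV⟩ : ∃ V : Submodule k (MvPolynomial σ k),
    V = MvPolynomial.homogeneousSubmodule σ k d := ⟨_, rfl⟩
  have hXV : ∀ j : σ, (MvPolynomial.X j : MvPolynomial σ k) ^ d ∈ V := by
    intro j
    rw [hV, MvPolynomial.mem_homogeneousSubmodule]
    exact MvPolynomial.isHomogeneous_X_pow j d
  obtain ⟨W, hW⟩ : ∃ W : Ideal (MvPolynomial σ k) → Submodule k ↥V,
    W = fun 𝔭 => (𝔭.restrictScalars k).comap V.subtype := ⟨_, rfl⟩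
  have htop : (⊤ : Submodule k ↥V) ∉ insert ⊥ (T.image W) := by
    intro h
    rcases Finset.mem_insert.1 h with h | h
    · obtain ⟨j⟩ := ‹Nonempty σ›
      have : (⟨_, hXV j⟩ : ↥V) ∈ (⊥ : Submodule k ↥V) := by rw [← h]; trivial
      rw [Submodule.mem_bot] at this
      have := congrArg Subtype.val this
      simp at this
    · obtain ⟨𝔭, h𝔭, h𝔭W⟩ := Finset.mem_image.1 h
      obtain ⟨hprime, hnmax⟩ := hT 𝔭 h𝔭
      apply hnmax
      refine H6_isMaximal_of_X_mem 𝔭 hprime.ne_top fun j => ?_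
      have : (⟨_, hXV j⟩ : ↥V) ∈ W 𝔭 := by rw [h𝔭W]; trivial
      rw [hW] at this
      exact hprime.mem_of_pow_mem d this
  have hne := Subspace.biUnion_ne_univ_of_top_notMem htop
  obtain ⟨v, hv⟩ : ∃ v : ↥V, v ∉ ⋃ p ∈ insert ⊥ (T.image W), (p : Set ↥V) := by
    by_contra hcon
    push Not at hcon
    exact hne (Set.eq_univ_of_forall hcon)
  simp only [Set.mem_iUnion, not_exists] at hv
  refine ⟨v.1, ?_, ?_, fun 𝔭 h𝔭 hmem => ?_⟩
  · have h1 : (v : MvPolynomial σ k) ∈ V := v.2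
    have h2 : (v : MvPolynomial σ k) ∈ MvPolynomial.homogeneousSubmodule σ k d := hV ▸ h1
    exact (MvPolynomial.mem_homogeneousSubmodule _ _).1 h2
  · intro h0
    apply hv ⊥ (Finset.mem_insert_self _ _)
    rw [SetLike.mem_coe, Submodule.mem_bot]
    exact Subtype.ext h0
  · apply hv (W 𝔭) (Finset.mem_insert_of_mem (Finset.mem_image_of_mem _ h𝔭))
    rw [hW]
    exact hmem

theorem H6_exists_homog_quasiRegular (k : Type u) [Field k] [Infinite k] (r d : ℕ)
    (M : Type u) [AddCommGroup M] [Module (MvPolynomial (Fin (r + 1)) k) M]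
    [Module.Finite (MvPolynomial (Fin (r + 1)) k) M] :
    ∃ f : MvPolynomial (Fin (r + 1)) k, f.IsHomogeneous d ∧ f ≠ 0 ∧
      IsFiniteLength (MvPolynomial (Fin (r + 1)) k)
        ↥(Submodule.torsionBy (MvPolynomial (Fin (r + 1)) k) M f) := by
  obtain ⟨T, hT, hart⟩ := H6_torsionBy_artinian (MvPolynomial (Fin (r + 1)) k) M
  obtain ⟨f, hf, hf0, hfT⟩ := H6_exists_homog_avoid k (Fin (r + 1)) d T hT
  refine ⟨f, hf, hf0, isFiniteLength_iff_isNoetherian_isArtinian.2 ⟨inferInstance, hart f hfT⟩⟩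

end Groth.Agent.Lib.helper6
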