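import Mathlib
import Groth.Agent.Lib.helper6.MaxSubfield

set_option autoImplicit false
set_option linter.style.haveILetI false
universe u v

namespace Groth.Agent.Lib.helper6

section

variable {k : Type u} [Field k]

/-- The commutator with `i` of a general element `α + β i + γ j + δ ij`. -/
theorem H6_quat_comm {D : Type v} [Ring D] [Algebra k D]
    (i j : D) (a : k) (hi : i * i = a • (1 : D)) (hij : i * j = -(j * i)) (α β γ δ : k) :
    i * (α • (1 : D) + β • i + γ • j + δ • (i * j)) -
      (α • (1 : D) + β • i + γ • j + δ • (i * j)) * i =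
      ((2 * γ) • i + (2 * δ * a) • (1 : D)) * j := by
  have hji : j * i = -(i * j) := by rw [hij, neg_neg]
  have e1 : i * (i * j) = a • j := by rw [← mul_assoc, hi, smul_mul_assoc, one_mul]
  have e2 : i * j * i = -(a • j) := by rw [mul_assoc, hji, mul_neg, e1]
  simp only [mul_add, add_mul, mul_smul_comm, smul_mul_assoc, mul_one, one_mul, e1, e2, hji]
  simp only [mul_smul, two_smul, add_smul, smul_neg, smul_add]
  abel

/-- Anticommuting `i`, `j` with `i² = a ≠ 0` in a domain of characteristic not two give linearly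
independent `1, i, j, ij`. -/
theorem H6_quat_indep {D : Type v} [Ring D] [NoZeroDivisors D] [Algebra k D] [Nontrivial D]
    (h2 : (2 : k) ≠ 0) (i j : D) (a : k) (ha : a ≠ 0) (hi : i * i = a • (1 : D))
    (hij : i * j = -(j * i)) (hj : j ≠ 0) (hi1 : ∀ α β : k, α • (1 : D) + β • i = 0 → α = 0 ∧ β = 0)
    (α β γ δ : k) (h : α • (1 : D) + β • i + γ • j + δ • (i * j) = 0) :
    α = 0 ∧ β = 0 ∧ γ = 0 ∧ δ = 0 := by
  have h3 : i * (α • (1 : D) + β • i + γ • j + δ • (i * j)) -
      (α • (1 : D) + β • i + γ • j + δ • (i * j)) * i = 0 := by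
    rw [h, mul_zero, zero_mul, sub_zero]
  rw [H6_quat_comm i j a hi hij] at h3
  rcases mul_eq_zero.1 h3 with h5 | h5
  · have h6 := hi1 (2 * δ * a) (2 * γ) (by rw [add_comm]; exact h5)
    have hγ : γ = 0 := by
      rcases mul_eq_zero.1 h6.2 with h | h
      · exact absurd h h2
      · exact h
    have hδ : δ = 0 := by
      rcases mul_eq_zero.1 h6.1 with h | h
      · rcases mul_eq_zero.1 h with h' | h'
        · exact absurd h' h2
        · exact h'
      · exact absurd h ha
    rw [hγ, hδ, zero_smul, zero_smul, add_zero, add_zero] at h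
    obtain ⟨h7, h8⟩ := hi1 α β h
    exact ⟨h7, h8, hγ, hδ⟩
  · exact absurd h5 hj

/-- A four-dimensional central division algebra over a field of characteristic not two is a
quaternion algebra. -/
theorem H6_quat_of_dim4 (h2 : (2 : k) ≠ 0) {D : Type v} [DivisionRing D] [Algebra k D]
    [Algebra.IsCentral k D] (hD : Module.finrank k D = 4) :
    ∃ a b : k, Nonempty (QuaternionAlgebra k a 0 b ≃ₐ[k] D) := by
  classical
  haveI : FiniteDimensional k D := Module.finite_of_finrank_pos (by rw [hD]; norm_num)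
  obtain ⟨L, hLc, hL2⟩ := H6_exists_maximal_comm_subalgebra (k := k) (D := D) 2 (by rw [hD]; norm_num)
  -- pick x in L outside k
  obtain ⟨x, hxL, hxk⟩ : ∃ x ∈ L, x ∉ (⊥ : Subalgebra k D) := by
    by_contra hcon
    push_neg at hcon
    have : L ≤ ⊥ := fun x hx => hcon x hx
    have h1 : L = ⊥ := le_antisymm this bot_le
    rw [h1, Subalgebra.finrank_bot] at hL2
    norm_num at hL2
  have hx1 : ∀ α β : k, α • (1 : D) + β • x = 0 → α = 0 ∧ β = 0 := by
    intro α β h
    by_cases hβ : β = 0
    · rw [hβ, zero_smul, add_zero] at h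
      refine ⟨?_, hβ⟩
      by_contra hα
      have := (smul_eq_zero.1 h).resolve_left hα
      exact one_ne_zero this
    · exfalso
      apply hxk
      have : x = algebraMap k D (-(β⁻¹ * α)) := by
        rw [Algebra.algebraMap_eq_smul_one, neg_smul, mul_smul]
        have h1 : β • x = -(α • (1 : D)) := by rw [eq_neg_iff_add_eq_zero, add_comm]; exact h
        have h0 : x = β⁻¹ • (β • x) := by rw [smul_smul, inv_mul_cancel₀ hβ, one_smul]
        rw [h0, h1, smul_neg]
      rw [this]
      exact Subalgebra.algebraMap_mem _ _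
  -- x² ∈ span {1, x}
  have hspan : ∃ t s : k, x * x = t • (1 : D) + s • x := by
    have hli : LinearIndependent k ![(⟨1, L.one_mem⟩ : L), ⟨x, hxL⟩] := by
      rw [LinearIndependent.pair_iff]
      intro α β h
      have := congrArg Subtype.val h
      exact hx1 α β this
    have hsp : Submodule.span k (Set.range ![(⟨1, L.one_mem⟩ : L), ⟨x, hxL⟩]) = ⊤ := by
      apply hli.span_eq_top_of_card_eq_finrank'
      rw [hL2]
      rfl
    have hmem : (⟨x * x, L.mul_mem hxL hxL⟩ : L) ∈
        Submodule.span k (Set.range ![(⟨1, L.one_mem⟩ : L), ⟨x, hxL⟩]) := by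
      rw [hsp]; trivial
    rw [Matrix.range_cons, Matrix.range_cons, Matrix.range_empty, Set.union_empty,
      Set.union_singleton, Submodule.mem_span_pair] at hmem
    obtain ⟨s, t, hst⟩ := hmem
    refine ⟨t, s, ?_⟩
    have := congrArg Subtype.val hst
    rw [add_comm]
    exact this.symm
  obtain ⟨t, s, hts⟩ := hspan
  -- complete the square
  obtain ⟨i, hi⟩ : ∃ i : D, i = x - (s / 2) • (1 : D) := ⟨_, rfl⟩
  obtain ⟨a, ha⟩ : ∃ a : k, a = t + s ^ 2 / 4 := ⟨_, rfl⟩
  have h4 : (4 : k) ≠ 0 := by
    have : (4 : k) = 2 * 2 := by norm_num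
    rw [this]
    exact mul_ne_zero h2 h2
  have hii : i * i = a • (1 : D) := by
    rw [hi, sub_mul, mul_sub, mul_sub, hts, smul_mul_assoc, one_mul, mul_smul_comm, mul_one,
      smul_mul_assoc, one_mul, ha]
    have e1 : (s / 2) • (s / 2) • (1 : D) = (s ^ 2 / 4) • (1 : D) := by
      rw [smul_smul]
      congr 1
      field_simp
      ring
    have e2 : (s / 2) • x + (s / 2) • x = s • x := by
      rw [← add_smul]
      congr 1
      field_simp
      ring
    rw [e1, add_smul]
    have : t • (1 : D) + s • x - (s / 2) • x - ((s / 2) • x - (s ^ 2 / 4) • (1 : D)) =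
        t • (1 : D) + (s ^ 2 / 4) • (1 : D) + (s • x - ((s / 2) • x + (s / 2) • x)) := by abel
    rw [this, e2, sub_self, add_zero]
  have hi1 : ∀ α β : k, α • (1 : D) + β • i = 0 → α = 0 ∧ β = 0 := by
    intro α β h
    rw [hi, smul_sub, smul_smul] at h
    have h' : (α - β * (s / 2)) • (1 : D) + β • x = 0 := by
      rw [sub_smul]
      rw [← h]
      abel
    obtain ⟨h5, h6⟩ := hx1 _ _ h'
    rw [h6, zero_mul, sub_zero] at h5
    exact ⟨h5, h6⟩
  have hi0 : i ≠ 0 := by
    intro h0
    have := hi1 0 1 (by rw [zero_smul, one_smul, zero_add]; exact h0)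
    exact one_ne_zero this.2
  have ha0 : a ≠ 0 := by
    intro h0
    rw [h0, zero_smul] at hii
    exact hi0 (mul_self_eq_zero.1 hii)
  -- i is not central: find j
  obtain ⟨y, hy⟩ : ∃ y : D, i * y - y * i ≠ 0 := by
    by_contra hcon
    push_neg at hcon
    have hc : i ∈ Subalgebra.center k D := by
      rw [Subalgebra.mem_center_iff]
      intro y
      exact (sub_eq_zero.1 (hcon y)).symm
    obtain ⟨r, hr⟩ := (Algebra.IsCentral.mem_center_iff k).1 hc
    have := hi1 (-r) 1 (by
      rw [one_smul, neg_smul, ← Algebra.algebraMap_eq_smul_one, hr]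
      exact neg_add_cancel _)
    exact one_ne_zero this.2
  obtain ⟨j, hj⟩ : ∃ j : D, j = i * y - y * i := ⟨_, rfl⟩
  have hj0 : j ≠ 0 := hj ▸ hy
  have hij : i * j = -(j * i) := by
    have e1 : i * (i * y) = a • y := by rw [← mul_assoc, hii, smul_mul_assoc, one_mul]
    have e2 : y * i * i = a • y := by rw [mul_assoc, hii, mul_smul_comm, mul_one]
    rw [hj, mul_sub, sub_mul, e1, e2, mul_assoc]
    abel
  have hji : j * i = -(i * j) := by rw [hij, neg_neg]
  have hindep := H6_quat_indep h2 i j a ha0 hii hij hj0 hi1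
  -- the basis
  have hspan4 : ∀ z : D, ∃ α β γ δ : k, z = α • (1 : D) + β • i + γ • j + δ • (i * j) := by
    have hli : LinearIndependent k ![(1 : D), i, j, i * j] := by
      rw [Fintype.linearIndependent_iff]
      intro g hg
      rw [Fin.sum_univ_four] at hg
      simp only [Matrix.cons_val_zero, Matrix.cons_val_one, Matrix.cons_val_two,
        Matrix.cons_val_three, Matrix.head_cons, Matrix.tail_cons] at hg
      obtain ⟨h0, h1, h2', h3⟩ := hindep (g 0) (g 1) (g 2) (g 3) (by
        convert hg using 2)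
      intro l
      fin_cases l
      · exact h0
      · exact h1
      · exact h2'
      · exact h3
    have hsp : Submodule.span k (Set.range ![(1 : D), i, j, i * j]) = ⊤ := by
      apply hli.span_eq_top_of_card_eq_finrank'
      rw [hD]
      rfl
    intro z
    have hz : z ∈ Submodule.span k (Set.range ![(1 : D), i, j, i * j]) := by rw [hsp]; trivial
    rw [Submodule.mem_span_range_iff_exists_fun] at hz
    obtain ⟨c, hc⟩ := hz
    rw [Fin.sum_univ_four] at hc
    exact ⟨c 0, c 1, c 2, c 3, hc.symm⟩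
  -- j² is a scalar
  obtain ⟨b, hb⟩ : ∃ b : k, j * j = b • (1 : D) := by
    obtain ⟨α, β, γ, δ, hjj⟩ := hspan4 (j * j)
    have hc1 : i * (j * j) = (j * j) * i := by
      rw [← mul_assoc, hij, neg_mul, mul_assoc, hij, mul_neg, neg_neg, ← mul_assoc]
    have h6 : i * (j * j) - (j * j) * i = 0 := sub_eq_zero.2 hc1
    rw [hjj, H6_quat_comm i j a hii hij] at h6
    have h7 : (2 * γ) • i + (2 * δ * a) • (1 : D) = 0 :=
      (mul_eq_zero.1 h6).resolve_right hj0
    obtain ⟨h8, h9⟩ := hi1 (2 * δ * a) (2 * γ) (by rw [add_comm]; exact h7)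
    have hγ : γ = 0 := (mul_eq_zero.1 h9).resolve_left h2
    have hδ : δ = 0 :=
      (mul_eq_zero.1 ((mul_eq_zero.1 h8).resolve_right ha0)).resolve_left h2
    rw [hγ, hδ, zero_smul, zero_smul, add_zero, add_zero] at hjj
    -- commute with j
    have hc2 : j * (j * j) = (j * j) * j := (mul_assoc j j j).symm
    rw [hjj, mul_add, add_mul, mul_smul_comm, mul_smul_comm, smul_mul_assoc, smul_mul_assoc,
      mul_one, one_mul, hji, smul_neg] at hc2
    have h10 : (2 * β) • (i * j) = 0 := by
      have := add_left_cancel hc2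
      rw [two_mul, add_smul]
      nth_rewrite 1 [← this]
      exact neg_add_cancel _
    have h11 := hindep 0 0 0 (2 * β) (by
      rw [zero_smul, zero_smul, zero_smul, zero_add, zero_add, zero_add]; exact h10)
    have hβ : β = 0 := (mul_eq_zero.1 h11.2.2.2).resolve_left h2
    rw [hβ, zero_smul, add_zero] at hjj
    exact ⟨α, hjj⟩
  -- the quaternion basis
  let q : QuaternionAlgebra.Basis D a 0 b :=
    { i := i
      j := j
      k := i * j
      i_mul_i := by rw [hii, zero_smul, add_zero]
      j_mul_j := hb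
      i_mul_j := rfl
      j_mul_i := by rw [zero_smul, zero_sub, hji] }
  have hinj : Function.Injective q.liftHom := by
    rw [injective_iff_map_eq_zero]
    intro z hz
    have hz' : algebraMap k D z.re + z.imI • i + z.imJ • j + z.imK • (i * j) = 0 := hz
    rw [Algebra.algebraMap_eq_smul_one] at hz'
    obtain ⟨h0, h1, h2', h3⟩ := hindep _ _ _ _ hz'
    ext <;> assumption
  have hbij : Function.Bijective q.liftHom :=
    ⟨hinj, (LinearMap.injective_iff_surjective_of_finrank_eq_finrank (f := q.liftHom.toLinearMap)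
      (by rw [QuaternionAlgebra.finrank_eq_four, hD])).1 hinj⟩
  exact ⟨a, b, ⟨AlgEquiv.ofBijective q.liftHom hbij⟩⟩

end

end Groth.Agent.Lib.helper6
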