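import Mathlib
import Groth.Prelude.Def_GSzCSA
import Groth.Agent.Lib.helper6.QuatDim4
import Groth.Agent.Lib.helper6.Index
import Groth.Agent.Lib.helper6.SkolemNoether

set_option autoImplicit false
set_option linter.style.haveILetI false
universe u v w

open scoped TensorProduct

namespace Groth.Agent.Lib.helper6

section

variable {k : Type u} [Field k]

/-- `A ⊗ Aᵐᵒᵖ` is Brauer trivial. -/
theorem H6_brEq_tensor_op (A : Type v) [Ring A] [Algebra k A] [Algebra.IsCentral k A]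
    [IsSimpleRing A] [FiniteDimensional k A] : H6_BrEq k (A ⊗[k] Aᵐᵒᵖ) k := by
  have h1 : H6_BrEq k (A ⊗[k] Aᵐᵒᵖ) (Module.End k A) :=
    H6_BrEq.of_algEquiv (AlgEquiv.ofBijective _ (H6_mulLeftRight_bijective k A))
  have h2 : H6_BrEq k (Module.End k A)
      (Matrix (Fin (Module.finrank k A)) (Fin (Module.finrank k A)) k) :=
    H6_BrEq.of_algEquiv (algEquivMatrix (Module.finBasis k A))
  exact (h1.trans h2).trans (H6_BrEq.matrix k _ Module.finrank_pos.ne')

/-- An algebra with an anti-automorphism has Brauer class of order dividing two. -/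
theorem H6_tpow_two_triv (Q : Type v) [Ring Q] [Algebra k Q] [Algebra.IsCentral k Q]
    [IsSimpleRing Q] [FiniteDimensional k Q] (σ : Q ≃ₐ[k] Qᵐᵒᵖ) :
    H6_BrEq k (CSAGal.tpow k Q 2) k := by
  have h1 : H6_BrEq k (CSAGal.tpow k Q 2) (Q ⊗[k] Q) :=
    H6_BrEq.of_algEquiv ((H6_tpowAdd k Q 1 1).trans
      (Algebra.TensorProduct.congr (H6_tpowOne k Q) (H6_tpowOne k Q)))
  have h2 : H6_BrEq k (Q ⊗[k] Q) (Q ⊗[k] Qᵐᵒᵖ) :=
    H6_BrEq.of_algEquiv (Algebra.TensorProduct.congr AlgEquiv.refl σ)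
  exact (h1.trans h2).trans (H6_brEq_tensor_op Q)

end

end Groth.Agent.Lib.helper6
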