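import Mathlib
import Groth.Agent.Lib.helper6.ArtReg

set_option autoImplicit false
universe uu
open TensorProduct

namespace Groth.Agent.Lib.helper6

/-- plumbing iso `k' ⊗[κ] (κ ⊗[k] K) ≃+* K ⊗[k] k'`. -/
noncomputable def H6_plumb (k κ K k' : Type*) [CommRing k] [CommRing κ] [CommRing K] [CommRing k']
    [Algebra k κ] [Algebra k K] [Algebra κ k'] [Algebra k k'] [IsScalarTower k κ k'] :
    k' ⊗[κ] (κ ⊗[k] K) ≃+* K ⊗[k] k' :=
  (Algebra.TensorProduct.cancelBaseChange k κ κ k' K).toRingEquiv.trans
    (Algebra.TensorProduct.comm k k' K).toRingEquiv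

theorem H6_artinian_tensor (k K k' : Type*) [Field k] [Field K] [CommRing k']
    [Algebra k K] [Algebra k k'] [Module.Finite k k'] : IsArtinianRing (K ⊗[k] k') :=
  IsArtinianRing.of_finite K _

/-- (⇐) core. -/
theorem H6_regular_of_geomRed (k κ K k' : Type*) [Field k] [Field κ] [Field K] [Field k']
    [Algebra k κ] [Algebra k K] [Algebra κ k'] [Algebra k k'] [IsScalarTower k κ k']
    [Module.Finite k k'] [Algebra.IsGeometricallyReduced k K] :
    IsRegularRing (k' ⊗[κ] (κ ⊗[k] K)) := by
  haveI : Algebra.IsAlgebraic k k' := Algebra.IsAlgebraic.of_finite k k'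
  haveI h1 : IsReduced (k' ⊗[k] K) := inferInstance
  haveI h2 : IsReduced (K ⊗[k] k') :=
    isReduced_of_injective (Algebra.TensorProduct.comm k K k').toRingEquiv.toRingHom
      (Algebra.TensorProduct.comm k K k').injective
  haveI h3 : IsArtinianRing (K ⊗[k] k') := H6_artinian_tensor k K k'
  haveI h4 : IsRegularRing (K ⊗[k] k') := H6_regular_of_artinian_reduced _
  exact IsRegularRing.of_ringEquiv (H6_plumb k κ K k').symm

/-- (⇒) core. -/
theorem H6_reduced_of_regular (k κ K k' : Type*) [Field k] [Field κ] [Field K] [Field k']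
    [Algebra k κ] [Algebra k K] [Algebra κ k'] [Algebra k k'] [IsScalarTower k κ k']
    [Module.Finite k k'] (h : IsRegularRing (k' ⊗[κ] (κ ⊗[k] K))) :
    IsReduced (K ⊗[k] k') := by
  haveI h3 : IsArtinianRing (K ⊗[k] k') := H6_artinian_tensor k K k'
  haveI h4 : IsRegularRing (K ⊗[k] k') := IsRegularRing.of_ringEquiv (H6_plumb k κ K k')
  exact H6_reduced_of_artinian_regular _

end Groth.Agent.Lib.helper6

namespace Groth.Agent.Lib.helper6

/-- (⇒) for an f.g. subalgebra of the algebraic closure. -/
theorem H6_reduced_of_regular_sub_aux (k κ K : Type*) (B : Type uu) [Field k] [Field κ] [Field K] [CommRing B]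
    [Algebra k κ] [Algebra k K] [Algebra k B] (hB : IsField B) [Module.Finite k B]
    (e : κ ≃ₐ[k] k)
    (hgr : ∀ (k' : Type uu) [Field k'] [Algebra κ k'], Module.Finite κ k' →
      IsRegularRing (k' ⊗[κ] (κ ⊗[k] K))) :
    IsReduced (K ⊗[k] B) := by
  letI : Field B := hB.toField
  letI : Algebra κ B := ((algebraMap k B).comp (e : κ →+* k)).toAlgebra
  haveI : IsScalarTower k κ B := IsScalarTower.of_algebraMap_eq (fun x => by
    change algebraMap k B x = algebraMap k B (e (algebraMap k κ x))
    rw [e.commutes]; rfl)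
  haveI : Module.Finite κ B := Module.Finite.of_restrictScalars_finite k κ B
  exact H6_reduced_of_regular k κ K B (hgr B inferInstance)

end Groth.Agent.Lib.helper6

namespace Groth.Agent.Lib.helper6

theorem H6_reduced_of_regular_sub (k K : Type uu) [Field k] [Field K] [Algebra k K]
    (B : Subalgebra k (AlgebraicClosure k)) (hB : B.FG)
    (hgr : ∀ (k' : Type uu) [Field k'] [Algebra (⊥ : Ideal k).ResidueField k'],
      Module.Finite (⊥ : Ideal k).ResidueField k' →
      IsRegularRing (k' ⊗[(⊥ : Ideal k).ResidueField] ((⊥ : Ideal k).ResidueField ⊗[k] K))) :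
    IsReduced (K ⊗[k] B) := by
  have hBf : IsField B := Subalgebra.isField_of_algebraic B
  haveI : Algebra.FiniteType k B := (Subalgebra.fg_iff_finiteType B).mp hB
  haveI : Algebra.IsIntegral k B := Algebra.IsIntegral.of_injective B.val Subtype.val_injective
  haveI : Module.Finite k B := Algebra.IsIntegral.finite
  exact H6_reduced_of_regular_sub_aux k (⊥ : Ideal k).ResidueField K B hBf
    (⊥ : Ideal k).algEquivResidueFieldOfField.symm hgr

end Groth.Agent.Lib.helper6
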