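import Mathlib

set_option autoImplicit false
set_option linter.style.haveILetI false
universe u

open RingTheory.Sequence

namespace Groth.Agent.Lib.helper6

theorem H6_ofList_ofFn {A : Type u} [CommRing A] {p : ℕ} (x : Fin p → A) :
    Ideal.ofList (List.ofFn x) = Ideal.span (Set.range x) := by
  unfold Ideal.ofList
  congr 1
  ext r
  simp [List.mem_ofFn]

theorem H6_regseq_rel (A : Type u) [CommRing A] :
    ∀ (p : ℕ) (x : Fin p → A), IsWeaklyRegular A (List.ofFn x) →
      ∀ a : Fin p → A, ∑ i, a i * x i = 0 → ∀ i, a i ∈ Ideal.span (Set.range x) := by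
  intro p
  induction p with
  | zero => intro x _ a _ i; exact i.elim0
  | succ p ih =>
    intro x hreg a hsum
    obtain ⟨x', hx'⟩ : ∃ x' : Fin p → A, x' = fun i => x i.castSucc := ⟨_, rfl⟩
    have hlist : List.ofFn x = List.ofFn x' ++ [x (Fin.last p)] := by
      rw [List.ofFn_succ', List.concat_eq_append, hx']
    rw [hlist, isWeaklyRegular_append_iff, isWeaklyRegular_singleton_iff] at hreg
    obtain ⟨h1, h2⟩ := hreg
    have hJ'J : Ideal.span (Set.range x') ≤ Ideal.span (Set.range x) := by
      apply Ideal.span_mono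
      rintro _ ⟨i, rfl⟩
      exact ⟨i.castSucc, by rw [hx']⟩
    have hlastJ : x (Fin.last p) ∈ Ideal.span (Set.range x) :=
      Ideal.subset_span ⟨_, rfl⟩
    rw [Fin.sum_univ_castSucc] at hsum
    have hsumJ' : ∑ i : Fin p, a i.castSucc * x i.castSucc ∈ Ideal.span (Set.range x') := by
      apply Ideal.sum_mem
      intro i _
      apply Ideal.mul_mem_left
      apply Ideal.subset_span
      exact ⟨i, by rw [hx']⟩
    have h3 : a (Fin.last p) * x (Fin.last p) ∈ Ideal.span (Set.range x') := by
      have : a (Fin.last p) * x (Fin.last p) = -∑ i : Fin p, a i.castSucc * x i.castSucc := by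
        linear_combination hsum
      rw [this]
      exact (Ideal.neg_mem_iff _).2 hsumJ'
    have htop : (Ideal.ofList (List.ofFn x') • ⊤ : Submodule A A) = Ideal.span (Set.range x') := by
      rw [H6_ofList_ofFn]
      show Ideal.span (Set.range x') • (⊤ : Ideal A) = _
      rw [smul_eq_mul, Ideal.mul_top]
    have h4 : a (Fin.last p) ∈ Ideal.span (Set.range x') := by
      have h5 : x (Fin.last p) •
          (Submodule.Quotient.mk (a (Fin.last p)) :
            A ⧸ (Ideal.ofList (List.ofFn x') • ⊤ : Submodule A A)) =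
          x (Fin.last p) • 0 := by
        rw [smul_zero, ← Submodule.Quotient.mk_smul, Submodule.Quotient.mk_eq_zero, htop,
          smul_eq_mul, mul_comm]
        exact h3
      have h6 := h2 h5
      rw [Submodule.Quotient.mk_eq_zero, htop] at h6
      exact h6
    obtain ⟨c, hc⟩ := (Ideal.mem_span_range_iff_exists_fun).1 h4
    have h7 : ∑ i : Fin p, (a i.castSucc + c i * x (Fin.last p)) * x' i = 0 := by
      have e1 : ∑ i : Fin p, (a i.castSucc + c i * x (Fin.last p)) * x' i =
          ∑ i : Fin p, a i.castSucc * x i.castSucc + (∑ i : Fin p, c i * x' i) * x (Fin.last p) := by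
        rw [Finset.sum_mul, ← Finset.sum_add_distrib]
        refine Finset.sum_congr rfl (fun i _ => ?_)
        rw [hx']
        ring
      rw [e1, hc]
      exact hsum
    have h8 := ih x' h1 _ h7
    intro i
    refine Fin.lastCases ?_ (fun j => ?_) i
    · exact hJ'J h4
    · have : a j.castSucc = (a j.castSucc + c j * x (Fin.last p)) - c j * x (Fin.last p) := by ring
      rw [this]
      exact Ideal.sub_mem _ (hJ'J (h8 j)) (Ideal.mul_mem_left _ _ hlastJ)

theorem H6_mem_sq_span_range {A : Type u} [CommRing A] {p : ℕ} (x : Fin p → A) (y : A)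
    (hy : y ∈ Ideal.span (Set.range x) ^ 2) :
    ∃ b : Fin p → A, (∀ i, b i ∈ Ideal.span (Set.range x)) ∧ y = ∑ i, b i * x i := by
  rw [pow_two] at hy
  refine Submodule.mul_induction_on hy ?_ ?_
  · intro m hm n hn
    obtain ⟨c, hc⟩ := (Ideal.mem_span_range_iff_exists_fun).1 hn
    refine ⟨fun i => m * c i, fun i => Ideal.mul_mem_right _ _ hm, ?_⟩
    rw [← hc, Finset.mul_sum]
    refine Finset.sum_congr rfl (fun i _ => ?_)
    ring
  · rintro y₁ y₂ ⟨b₁, hb₁, rfl⟩ ⟨b₂, hb₂, rfl⟩
    refine ⟨fun i => b₁ i + b₂ i, fun i => Ideal.add_mem _ (hb₁ i) (hb₂ i), ?_⟩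
    rw [← Finset.sum_add_distrib]
    refine Finset.sum_congr rfl (fun i _ => ?_)
    ring

theorem H6_regseq_rel_sq (A : Type u) [CommRing A] (p : ℕ) (x : Fin p → A)
    (hreg : IsWeaklyRegular A (List.ofFn x)) (a : Fin p → A)
    (h : ∑ i, a i * x i ∈ Ideal.span (Set.range x) ^ 2) : ∀ i, a i ∈ Ideal.span (Set.range x) := by
  obtain ⟨b, hb, hsum⟩ := H6_mem_sq_span_range x _ h
  have h0 : ∑ i, (a i - b i) * x i = 0 := by
    have : ∑ i, (a i - b i) * x i = ∑ i, a i * x i - ∑ i, b i * x i := by
      rw [← Finset.sum_sub_distrib]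
      refine Finset.sum_congr rfl (fun i _ => ?_)
      ring
    rw [this, hsum, sub_self]
  have h1 := H6_regseq_rel A p x hreg _ h0
  intro i
  have : a i = (a i - b i) + b i := by ring
  rw [this]
  exact Ideal.add_mem _ (h1 i) (hb i)

end Groth.Agent.Lib.helper6
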