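import Mathlib
import Groth.Prelude.Def_LocRes
import Groth.Agent.Lib.helper6.ResidueInv

set_option autoImplicit false
set_option linter.style.haveILetI false
universe u

open PowerSeries
open scoped PowerSeries

namespace Groth.Agent.Lib.helper6

section Universal2

theorem H6_coeff_pow_general_charZero {R : Type*} [CommRing R] [IsDomain R] [CharZero R]
    (g : R⟦X⟧) (n b : ℕ) (hn : 1 ≤ n) (hb : 1 ≤ b) :
    coeff (b * n - 1) (g ^ (n - 1) * d⁄dX R g) = (b : R) * coeff (b * n) (g ^ n) := by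
  have hbn : 1 ≤ b * n := Nat.mul_pos hb hn
  have h1 := coeff_derivative (g ^ n) (b * n - 1)
  rw [derivative_pow, Nat.sub_add_cancel hbn] at h1
  have h2 : coeff (b * n - 1) ((n : R⟦X⟧) * g ^ (n - 1) * d⁄dX R g) =
      (n : R) * coeff (b * n - 1) (g ^ (n - 1) * d⁄dX R g) := by
    rw [mul_assoc]
    have : (n : R⟦X⟧) = C (n : R) := by simp
    rw [this, coeff_C_mul]
  rw [h2] at h1
  have hn0 : (n : R) ≠ 0 := by
    have : n ≠ 0 := by omega
    exact_mod_cast this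
  have h3 : ((b * n - 1 : ℕ) : R) + 1 = (b : R) * (n : R) := by
    have : ((b * n - 1 : ℕ) + 1 : ℕ) = b * n := Nat.sub_add_cancel hbn
    exact_mod_cast this
  rw [h3] at h1
  apply mul_left_cancel₀ hn0
  rw [h1]; ring

theorem H6_coeff_pow_general {R : Type*} [CommRing R] (g : R⟦X⟧) (n b : ℕ) (hn : 1 ≤ n)
    (hb : 1 ≤ b) :
    coeff (b * n - 1) (g ^ (n - 1) * d⁄dX R g) = (b : R) * coeff (b * n) (g ^ n) := by
  obtain ⟨G, hG⟩ : ∃ G : (MvPolynomial ℕ ℤ)⟦X⟧, G = PowerSeries.mk (fun i => MvPolynomial.X i) :=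
    ⟨_, rfl⟩
  obtain ⟨φ, hφ⟩ : ∃ φ : MvPolynomial ℕ ℤ →+* R,
      φ = MvPolynomial.eval₂Hom (Int.castRingHom R) (fun i => coeff i g) := ⟨_, rfl⟩
  have hg : PowerSeries.map φ G = g := by
    ext n
    rw [coeff_map, hG, coeff_mk, hφ, MvPolynomial.eval₂Hom_X']
  have key := H6_coeff_pow_general_charZero G n b hn hb
  have e1 : coeff (b * n) (g ^ n) = φ (coeff (b * n) (G ^ n)) := by
    rw [← coeff_map, (PowerSeries.map φ).map_pow, hg]
  have e2 : coeff (b * n - 1) (g ^ (n - 1) * d⁄dX R g) =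
      φ (coeff (b * n - 1) (G ^ (n - 1) * d⁄dX _ G)) := by
    rw [← coeff_map, (PowerSeries.map φ).map_mul, (PowerSeries.map φ).map_pow, H6_map_derivative, hg]
  rw [e1, e2, key, map_mul, map_natCast]

end Universal2

section LaurentRes

variable {F : Type u} [Field F]

/-- `Res (G^(n-1) dG) = 0` for `n ≥ 1`, in every characteristic. -/
theorem H6_res_pow_D (G : LaurentSeries F) (n : ℕ) (hn : 1 ≤ n) :
    (G ^ (n - 1) * LocRes.D F G).coeff (-1) = 0 := by
  obtain ⟨a, ha⟩ : ∃ a : ℤ, a = G.order := ⟨_, rfl⟩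
  obtain ⟨p, hp⟩ : ∃ p : PowerSeries F, p = G.powerSeriesPart := ⟨_, rfl⟩
  have hGp : HahnSeries.single a (1 : F) * HahnSeries.ofPowerSeries ℤ F p = G := by
    rw [ha, hp]; exact LaurentSeries.single_order_mul_powerSeriesPart G
  have hDG : LocRes.D F G = HahnSeries.single a (1 : F) *
      HahnSeries.ofPowerSeries ℤ F (d⁄dX F p) +
      HahnSeries.single (a - 1) (a • (1 : F)) * HahnSeries.ofPowerSeries ℤ F p := by
    rw [← hGp, LocRes.D_apply, LocRes.derivative_single_mul, ← LocRes.D_apply, LocRes.D_coe]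
  have hpow : G ^ (n - 1) = HahnSeries.single ((n - 1 : ℕ) • a) (1 : F) *
      HahnSeries.ofPowerSeries ℤ F (p ^ (n - 1)) := by
    rw [← hGp, mul_pow, HahnSeries.single_pow, one_pow, map_pow]
  have e1 : HahnSeries.single ((n - 1 : ℕ) • a) (1 : F) * HahnSeries.single a (1 : F) =
      HahnSeries.single ((n : ℤ) * a) (1 : F) := by
    rw [HahnSeries.single_mul_single, one_mul]
    have : (n - 1 : ℕ) • a + a = (n : ℤ) * a := by
      rw [nsmul_eq_mul, Nat.cast_sub hn]; push_cast; ring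
    rw [this]
  have e2 : HahnSeries.single ((n - 1 : ℕ) • a) (1 : F) * HahnSeries.single (a - 1) (a • (1 : F)) =
      HahnSeries.single ((n : ℤ) * a - 1) (a • (1 : F)) := by
    rw [HahnSeries.single_mul_single, one_mul]
    have : (n - 1 : ℕ) • a + (a - 1) = (n : ℤ) * a - 1 := by
      rw [nsmul_eq_mul, Nat.cast_sub hn]; push_cast; ring
    rw [this]
  have e3 : p ^ (n - 1) * p = p ^ n := by rw [← pow_succ, Nat.sub_add_cancel hn]
  have hprod : G ^ (n - 1) * LocRes.D F G =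
      HahnSeries.single ((n : ℤ) * a) (1 : F) *
        HahnSeries.ofPowerSeries ℤ F (p ^ (n - 1) * d⁄dX F p) +
      HahnSeries.single ((n : ℤ) * a - 1) (a • (1 : F)) * HahnSeries.ofPowerSeries ℤ F (p ^ n) := by
    rw [hpow, hDG, ← e3, map_mul, map_mul]
    linear_combination (HahnSeries.ofPowerSeries ℤ F (p ^ (n - 1)) *
      HahnSeries.ofPowerSeries ℤ F (d⁄dX F p)) * e1 +
      (HahnSeries.ofPowerSeries ℤ F (p ^ (n - 1)) * HahnSeries.ofPowerSeries ℤ F p) * e2
  rw [hprod, HahnSeries.coeff_add, HahnSeries.coeff_single_mul, HahnSeries.coeff_single_mul, one_mul,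
    PowerSeries.coeff_coe, PowerSeries.coeff_coe]
  have hn' : (0 : ℤ) < n := by exact_mod_cast hn
  rcases lt_trichotomy a 0 with h | h | h
  · -- a < 0
    obtain ⟨b, hb⟩ : ∃ b : ℕ, a = -(b : ℤ) := ⟨a.natAbs, by omega⟩
    have hb1 : 1 ≤ b := by omega
    have i1 : (-1 : ℤ) - (n : ℤ) * a = ((b * n - 1 : ℕ) : ℤ) := by
      have : 1 ≤ b * n := Nat.mul_pos hb1 hn
      rw [Nat.cast_sub this, hb]; push_cast; ring
    have i2 : (-1 : ℤ) - ((n : ℤ) * a - 1) = ((b * n : ℕ) : ℤ) := by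
      rw [hb]; push_cast; ring
    rw [i1, i2, if_neg (by omega), if_neg (by omega), Int.natAbs_natCast, Int.natAbs_natCast,
      H6_coeff_pow_general p n b hn hb1, hb]
    simp
  · subst h
    rw [if_pos (by omega)]
    simp
  · have h1 : (n : ℤ) * a > 0 := mul_pos hn' h
    rw [if_pos (by omega), if_pos (by omega)]
    simp

theorem H6_res_zpow_D (G : LaurentSeries F) (n : ℤ) (hn : n ≠ 0) :
    (G ^ (n - 1) * LocRes.D F G).coeff (-1) = 0 := by
  by_cases hG : G = 0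
  · rw [hG, map_zero, mul_zero]; rfl
  rcases lt_or_gt_of_ne hn with h | h
  · -- n < 0
    obtain ⟨m, hm⟩ : ∃ m : ℕ, n = -(m : ℤ) := ⟨n.natAbs, by omega⟩
    have hm1 : 1 ≤ m := by omega
    have hGH : G * G⁻¹ = 1 := mul_inv_cancel₀ hG
    have hD : LocRes.D F G⁻¹ = -(G⁻¹ * G⁻¹ * LocRes.D F G) := by
      have := congrArg (LocRes.D F) hGH
      rw [Derivation.leibniz, Derivation.map_one_eq_zero, smul_eq_mul, smul_eq_mul] at this
      have h2 : G⁻¹ * (G * LocRes.D F G⁻¹ + G⁻¹ * LocRes.D F G) = 0 := by rw [this, mul_zero]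
      have h3 : G⁻¹ * G = 1 := inv_mul_cancel₀ hG
      linear_combination h2 - (LocRes.D F G⁻¹) * h3
    have hpow : G ^ (n - 1) = G⁻¹ ^ (m - 1) * (G⁻¹ * G⁻¹) := by
      have : n - 1 = -((m + 1 : ℕ) : ℤ) := by rw [hm]; push_cast; ring
      rw [this, zpow_neg, zpow_natCast, ← inv_pow]
      have : m + 1 = (m - 1) + 2 := by omega
      rw [this, pow_add, pow_two]
    have key := H6_res_pow_D G⁻¹ m hm1
    rw [hD, mul_neg, HahnSeries.coeff_neg, neg_eq_zero] at key
    rw [hpow, mul_assoc]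
    exact key
  · obtain ⟨m, hm⟩ : ∃ m : ℕ, n = (m : ℤ) := ⟨n.natAbs, by omega⟩
    have hm1 : 1 ≤ m := by omega
    have : n - 1 = ((m - 1 : ℕ) : ℤ) := by rw [hm, Nat.cast_sub hm1]; simp
    rw [this, zpow_natCast]
    exact H6_res_pow_D G m hm1

end LaurentRes

end Groth.Agent.Lib.helper6
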