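import Mathlib

set_option autoImplicit false
set_option linter.style.haveILetI false
universe u v w

namespace Groth.Agent.Lib.helper6

section Reynolds

variable {R : Type u} [CommRing R] {G : Type v} [Group G] [Fintype G]
  {M : Type w} [AddCommGroup M] [Module R M]
  (σ : G → M →ₗ[R] M) (hmul : ∀ g h : G, σ (g * h) = (σ g).comp (σ h))
  (u : R) (hu : u * (Fintype.card G : R) = 1)

/-- The Reynolds operator. -/
noncomputable def H6_reynolds : M →ₗ[R] M := u • ∑ g : G, σ g

include hmul in
theorem H6_reynolds_fixed (h : G) (m : M) : σ h (H6_reynolds σ u m) = H6_reynolds σ u m := by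
  unfold H6_reynolds
  rw [LinearMap.smul_apply, LinearMap.sum_apply, map_smul, map_sum]
  congr 1
  have : ∀ g : G, σ h (σ g m) = σ (h * g) m := fun g => by rw [hmul]; rfl
  simp only [this]
  exact Fintype.sum_bijective (fun g => h * g) (Group.mulLeft_bijective h) _ _ (fun _ => rfl)

include hu in
theorem H6_reynolds_of_fixed (m : M) (hm : ∀ g, σ g m = m) : H6_reynolds σ u m = m := by
  unfold H6_reynolds
  rw [LinearMap.smul_apply, LinearMap.sum_apply]
  simp only [hm]
  rw [Finset.sum_const, Finset.card_univ, ← Nat.cast_smul_eq_nsmul R, smul_smul, hu, one_smul]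

include hmul hu in
theorem H6_invariants_retract :
    ∃ (r : M →ₗ[R] ↥(⨅ g : G, LinearMap.eqLocus (σ g) LinearMap.id)),
      r.comp (⨅ g : G, LinearMap.eqLocus (σ g) LinearMap.id).subtype = LinearMap.id ∧
      (⨅ g : G, LinearMap.eqLocus (σ g) LinearMap.id).subtype.comp r = H6_reynolds σ u := by
  have hmem : ∀ m, H6_reynolds σ u m ∈ ⨅ g : G, LinearMap.eqLocus (σ g) LinearMap.id := by
    intro m
    rw [Submodule.mem_iInf]
    intro g
    rw [LinearMap.mem_eqLocus]
    exact H6_reynolds_fixed σ hmul u g m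
  refine ⟨(H6_reynolds σ u).codRestrict _ hmem, ?_, ?_⟩
  · ext ⟨m, hm⟩
    rw [Submodule.mem_iInf] at hm
    simp only [LinearMap.comp_apply, Submodule.subtype_apply, LinearMap.codRestrict_apply,
      LinearMap.id_apply]
    exact H6_reynolds_of_fixed σ u hu m (fun g => LinearMap.mem_eqLocus.1 (hm g))
  · ext m
    rfl

end Reynolds

end Groth.Agent.Lib.helper6
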