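import Mathlib
import Groth.Agent.Lib.helper4.Centralizer

set_option autoImplicit false
set_option linter.style.haveILetI false
universe u v

open Polynomial

namespace Groth.Agent.Lib.helper6

section Comm

variable {K : Type u} {L : Type v} [Field K] [Field L] [Algebra K L]

lemma H6_prod_scaled (x : L) (s : Multiset L)
    (hs : ∀ ρ ∈ s, ∃ ζ : K, ζ ≠ 0 ∧ ρ = algebraMap K L ζ * x) :
    ∃ c : K, c ≠ 0 ∧ s.prod = algebraMap K L c * x ^ Multiset.card s := by
  induction s using Multiset.induction with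
  | empty => exact ⟨1, one_ne_zero, by simp⟩
  | cons ρ s ih =>
    obtain ⟨c, hc, hcs⟩ := ih (fun ρ' h => hs ρ' (Multiset.mem_cons_of_mem h))
    obtain ⟨ζ, hζ, rfl⟩ := hs ρ (Multiset.mem_cons_self _ _)
    refine ⟨ζ * c, mul_ne_zero hζ hc, ?_⟩
    rw [Multiset.prod_cons, hcs, Multiset.card_cons, map_mul, pow_succ]
    ring

theorem H6_pow_natDegree_minpoly_mem (hK : ∀ n : ℕ, 0 < n → (X ^ n - 1 : K[X]).Splits)
    (x : L) (hx0 : x ≠ 0) (m : ℕ) (hm : 0 < m) (a : K) (ha : x ^ m = algebraMap K L a)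
    (hint : IsIntegral K x) :
    x ^ (minpoly K x).natDegree ∈ (algebraMap K L).range := by
  obtain ⟨μ, hμ⟩ : ∃ μ : K[X], μ = minpoly K x := ⟨_, rfl⟩
  have hμmonic : μ.Monic := hμ ▸ minpoly.monic hint
  have hdvd : μ ∣ X ^ m - C a := by
    rw [hμ]
    apply minpoly.dvd
    simp [ha]
  have hdvdL : μ.map (algebraMap K L) ∣ X ^ m - C (x ^ m) := by
    have := Polynomial.map_dvd (algebraMap K L) hdvd
    simpa [ha] using this
  have hsplit1 : ((X ^ m - 1 : K[X]).map (algebraMap K L)).Splits := (hK m hm).map _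
  have hsplit2 : (X ^ m - C (x ^ m) : L[X]).Splits := by
    have h1 : (X ^ m - C (x ^ m) : L[X]) =
        C (x ^ m) * ((X ^ m - 1 : K[X]).map (algebraMap K L)).comp (C x⁻¹ * X) := by
      simp only [Polynomial.map_sub, Polynomial.map_pow, Polynomial.map_X, Polynomial.map_one,
        sub_comp, pow_comp, X_comp, one_comp, mul_pow, mul_sub, mul_one]
      rw [← mul_assoc, ← C_pow, ← C_mul, ← mul_pow, mul_inv_cancel₀ hx0, one_pow, C_1, one_mul]
    rw [h1]
    refine Splits.C_mul (hsplit1.comp_of_natDegree_le_one ?_) _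
    exact (natDegree_C_mul_le _ _).trans natDegree_X_le
  have hne : (X ^ m - C (x ^ m) : L[X]) ≠ 0 := X_pow_sub_C_ne_zero hm _
  have hsplitμ : (μ.map (algebraMap K L)).Splits := hsplit2.of_dvd hne hdvdL
  have hroots : ∀ ρ ∈ (μ.map (algebraMap K L)).roots,
      ∃ ζ : K, ζ ≠ 0 ∧ ρ = algebraMap K L ζ * x := by
    intro ρ hρ
    have hρ1 : (X ^ m - C (x ^ m) : L[X]).IsRoot ρ := by
      have h1 := (mem_roots (hμmonic.map _).ne_zero).1 hρ
      obtain ⟨q, hq⟩ := hdvdL
      rw [IsRoot.def, hq, eval_mul, h1.eq_zero, zero_mul]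
    have hρm : ρ ^ m = x ^ m := by
      have := hρ1.eq_zero
      simpa [sub_eq_zero] using this
    have hρ0 : ρ ≠ 0 := by
      rintro rfl
      rw [zero_pow hm.ne'] at hρm
      exact pow_ne_zero m hx0 hρm.symm
    have hroot : ((X ^ m - 1 : K[X]).map (algebraMap K L)).IsRoot (ρ / x) := by
      simp [div_pow, hρm, div_self (pow_ne_zero m hx0)]
    obtain ⟨ζ, hζ⟩ := (hK m hm).mem_range_of_isRoot (X_pow_sub_C_ne_zero hm (1 : K)) hroot
    refine ⟨ζ, ?_, ?_⟩
    · rintro rfl
      rw [map_zero] at hζ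
      exact hρ0 (by
        have := hζ.symm
        rw [div_eq_zero_iff] at this
        exact this.resolve_right hx0)
    · change algebraMap K L ζ = ρ / x at hζ
      rw [hζ, div_mul_cancel₀ _ hx0]
  obtain ⟨c, hc, hprod⟩ := H6_prod_scaled x _ hroots
  have hcoeff := hsplitμ.coeff_zero_eq_prod_roots_of_monic (hμmonic.map _)
  rw [hprod, ← hsplitμ.natDegree_eq_card_roots, coeff_map, hμmonic.natDegree_map] at hcoeff
  rw [← hμ]
  refine ⟨μ.coeff 0 * (-1) ^ μ.natDegree * c⁻¹, ?_⟩
  rw [map_mul, map_mul, hcoeff, map_pow, map_neg, map_one, map_inv₀]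
  have hc' : algebraMap K L c ≠ 0 := (_root_.map_ne_zero _).2 hc
  have hsq : ((-1 : L) ^ μ.natDegree) * (-1) ^ μ.natDegree = 1 := by
    rw [← mul_pow]; simp
  calc (-1 : L) ^ μ.natDegree * (algebraMap K L c * x ^ μ.natDegree) * (-1) ^ μ.natDegree *
        (algebraMap K L c)⁻¹
      = ((-1 : L) ^ μ.natDegree * (-1) ^ μ.natDegree) *
        (algebraMap K L c * (algebraMap K L c)⁻¹) * x ^ μ.natDegree := by ring
    _ = x ^ μ.natDegree := by rw [hsq, mul_inv_cancel₀ hc', one_mul, one_mul]

end Comm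

section Div

variable {k : Type u} [Field k]

/-- A maximal commutative subalgebra containing `x` of a central division algebra of dimension
`d²` has dimension `d`. -/
theorem H6_exists_maximal_comm_subalgebra_mem {D : Type v} [DivisionRing D] [Algebra k D]
    [Algebra.IsCentral k D] [FiniteDimensional k D] (d : ℕ) (hd : Module.finrank k D = d ^ 2)
    (x₀ : D) :
    ∃ L : Subalgebra k D, x₀ ∈ L ∧ (∀ x ∈ L, ∀ y ∈ L, x * y = y * x) ∧
      Module.finrank k L = d := by
  classical
  let P : ℕ → Prop := fun n => ∃ L : Subalgebra k D, x₀ ∈ L ∧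
    (∀ x ∈ L, ∀ y ∈ L, x * y = y * x) ∧ Module.finrank k L = n
  have hP1 : P (Module.finrank k (Algebra.adjoin k ({x₀} : Set D))) := by
    refine ⟨Algebra.adjoin k {x₀}, Algebra.subset_adjoin rfl, ?_, rfl⟩
    have hs : ∀ a ∈ ({x₀} : Set D), ∀ b ∈ ({x₀} : Set D), a * b = b * a := by
      rintro a ha b hb
      rw [Set.mem_singleton_iff] at ha hb
      rw [ha, hb]
    letI := Algebra.adjoinCommRingOfComm k hs
    intro a ha b hb
    have := mul_comm (⟨a, ha⟩ : Algebra.adjoin k ({x₀} : Set D)) ⟨b, hb⟩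
    exact congrArg Subtype.val this
  have hbound : ∀ n, P n → n ≤ Module.finrank k D := by
    rintro n ⟨L, -, -, rfl⟩
    exact Submodule.finrank_le (Subalgebra.toSubmodule L)
  obtain ⟨L, hx₀, hLc, hLn⟩ : P (Nat.findGreatest P (Module.finrank k D)) :=
    Nat.findGreatest_spec (hbound _ hP1) hP1
  have hmax : ∀ L' : Subalgebra k D, x₀ ∈ L' → (∀ x ∈ L', ∀ y ∈ L', x * y = y * x) →
      Module.finrank k L' ≤ Module.finrank k L := by
    intro L' hx h
    rw [hLn]
    exact Nat.le_findGreatest (hbound _ ⟨L', hx, h, rfl⟩) ⟨L', hx, h, rfl⟩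
  refine ⟨L, hx₀, hLc, ?_⟩
  have hcent : Subalgebra.centralizer k (L : Set D) = L := by
    apply le_antisymm
    · intro x hx
      rw [Subalgebra.mem_centralizer_iff] at hx
      let s : Set D := (L : Set D) ∪ {x}
      have hs : ∀ a ∈ s, ∀ b ∈ s, a * b = b * a := by
        rintro a (ha | ha) b (hb | hb)
        · exact hLc a ha b hb
        · rw [Set.mem_singleton_iff] at hb
          rw [hb]
          exact (hx a ha)
        · rw [Set.mem_singleton_iff] at ha
          rw [ha]
          exact (hx b hb).symm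
        · rw [Set.mem_singleton_iff] at ha hb
          rw [ha, hb]
      letI := Algebra.adjoinCommRingOfComm k hs
      have hcomm' : ∀ a ∈ Algebra.adjoin k s, ∀ b ∈ Algebra.adjoin k s, a * b = b * a := by
        intro a ha b hb
        have := mul_comm (⟨a, ha⟩ : Algebra.adjoin k s) ⟨b, hb⟩
        exact congrArg Subtype.val this
      have hle : L ≤ Algebra.adjoin k s := by
        intro a ha
        exact Algebra.subset_adjoin (Set.mem_union_left _ ha)
      have h1 := hmax _ (hle hx₀) hcomm'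
      have h2 : Subalgebra.toSubmodule L = Subalgebra.toSubmodule (Algebra.adjoin k s) :=
        Submodule.eq_of_le_of_finrank_le hle h1
      have h3 : x ∈ Subalgebra.toSubmodule (Algebra.adjoin k s) :=
        Algebra.subset_adjoin (Set.mem_union_right _ rfl)
      rw [← h2] at h3
      exact h3
    · intro x hx
      rw [Subalgebra.mem_centralizer_iff]
      intro y hy
      exact hLc y hy x hx
  letI : DivisionRing L := divisionRingOfFiniteDimensional k L
  haveI : IsSimpleRing L := inferInstance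
  obtain ⟨-, hdim⟩ := Groth.Agent.H4.H4_centralizer_main k D L
  rw [hcent, hd] at hdim
  exact (Nat.pow_left_injective (by norm_num : 2 ≠ 0) (by
    show d ^ 2 = Module.finrank k L ^ 2
    rw [hdim, pow_two])).symm

theorem H6_pow_degree_mem_center (hK : ∀ n : ℕ, 0 < n → (X ^ n - 1 : k[X]).Splits)
    {A : Type v} [DivisionRing A] [Algebra k A] [Algebra.IsCentral k A] [FiniteDimensional k A]
    (n : ℕ) (hn : Module.finrank k A = n ^ 2)
    (x : A) (hxm : ∃ m : ℕ, 0 < m ∧ x ^ m ∈ (algebraMap k A).range) :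
    x ^ n ∈ (algebraMap k A).range := by
  classical
  have hn0 : n ≠ 0 := by
    rintro rfl
    have : 0 < Module.finrank k A := Module.finrank_pos
    omega
  by_cases hx0 : x = 0
  · subst hx0
    exact ⟨0, by rw [map_zero, zero_pow hn0]⟩
  obtain ⟨m, hm, a, ha⟩ := hxm
  obtain ⟨L, hxL, hLc, hLd⟩ := H6_exists_maximal_comm_subalgebra_mem n hn x
  letI : CommRing L :=
    { (inferInstance : Ring L) with
      mul_comm := fun a b => Subtype.ext (hLc a a.2 b b.2) }
  letI : Field L := fieldOfFiniteDimensional k L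
  obtain ⟨xL, hxL'⟩ : ∃ xL : L, xL = ⟨x, hxL⟩ := ⟨_, rfl⟩
  have hxL0 : xL ≠ 0 := by
    rw [hxL']
    intro h
    exact hx0 (congrArg Subtype.val h)
  have haL : xL ^ m = algebraMap k L a := by
    rw [hxL']
    apply Subtype.ext
    exact ha.symm
  have hint : IsIntegral k xL := Algebra.IsIntegral.isIntegral xL
  obtain ⟨c, hc⟩ := H6_pow_natDegree_minpoly_mem hK xL hxL0 m hm a haL hint
  have hr : (minpoly k xL).natDegree ∣ n := by
    have h1 := IntermediateField.adjoin.finrank hint
    have h2 := Module.finrank_mul_finrank k (IntermediateField.adjoin k ({xL} : Set L)) L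
    rw [h1, hLd] at h2
    exact ⟨_, h2.symm⟩
  obtain ⟨q, hq⟩ := hr
  refine ⟨c ^ q, ?_⟩
  have h3 : x ^ (minpoly k xL).natDegree = algebraMap k A c := by
    have h4 := congrArg Subtype.val hc
    have h5 : ((xL ^ (minpoly k xL).natDegree : L) : A) = x ^ (minpoly k xL).natDegree := by
      rw [hxL']; rfl
    rw [h5] at h4
    exact h4.symm
  rw [hq, pow_mul, h3, map_pow]

end Div

end Groth.Agent.Lib.helper6
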