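import Mathlib
import Groth.Prelude.Def_GSzCSA
import Groth.Agent.Lib.helper6.RootsUnityDiv
import Groth.Agent.Lib.helper6.RedNormBasic

set_option autoImplicit false
set_option linter.style.haveILetI false
universe u v

open Polynomial

namespace Groth.Agent.Lib.helper6

theorem H6_pow_coprimePart_mem_center
    (K : Type u) [Field K] (p : ℕ) [Fact p.Prime] [CharP K p]
    (hK : ∀ n : ℕ, 0 < n → (X ^ n - 1 : K[X]).Splits)
    (A : Type v) [DivisionRing A] [Algebra K A] [Algebra.IsCentral K A] [FiniteDimensional K A]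
    (n n' m : ℕ) (hA : Module.finrank K A = n ^ 2) (hn : n = n' * p ^ m) (hn' : ¬ p ∣ n')
    (N : A →* K) (hN : CSAGal.IsRedNorm K A N)
    (x : A) (hx : x ≠ 0) (hxr : ∃ r : ℕ, 0 < r ∧ x ^ r ∈ (algebraMap K A).range)
    (hNx : ∃ b : K, b ≠ 0 ∧ N x = b ^ (p ^ m)) :
    x ^ n' ∈ (algebraMap K A).range := by
  classical
  have hp : p.Prime := Fact.out
  haveI : ExpChar K p := ExpChar.prime hp
  haveI : CharP A p := charP_of_injective_algebraMap (algebraMap K A).injective p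
  obtain ⟨c, hc⟩ := H6_pow_degree_mem_center hK n hA x hxr
  obtain ⟨b, hb0, hb⟩ := hNx
  have hc0 : c ≠ 0 := by
    rintro rfl
    rw [map_zero] at hc
    exact hx (pow_eq_zero_iff (by
      rintro rfl
      have : 0 < Module.finrank K A := Module.finrank_pos
      omega) |>.1 hc.symm)
  have hnorm : ∀ a : A, Algebra.norm K a = N a ^ n := by
    intro a
    obtain ⟨K', _, _, _, n₁, φ, hφ⟩ := hN
    have e1 : n₁ = n := H6_size_eq K A n hA K' n₁ φ
    subst e1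
    apply (algebraMap K K').injective
    rw [(H6_norm_trace_baseChange_matrix K A K' n₁ φ a).1, map_pow, hφ]
  obtain ⟨q, hq⟩ : ∃ q, q = p ^ m := ⟨_, rfl⟩
  have hq0 : q ≠ 0 := by rw [hq]; exact pow_ne_zero _ hp.ne_zero
  obtain ⟨y, hy⟩ : ∃ y, y = x ^ n' := ⟨_, rfl⟩
  have hyq : y ^ q = algebraMap K A c := by
    rw [hy, ← pow_mul, hq, ← hn, hc]
  have hNy : N y = b ^ n := by
    rw [hy, map_pow, hb, ← pow_mul, mul_comm, ← hn]
  have h1 : (b ^ q) ^ (n ^ 2) = c ^ (n ^ 2) := by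
    have h2 : (Algebra.norm K y) ^ q = c ^ (n ^ 2) := by
      rw [← map_pow, hyq, Algebra.norm_algebraMap, hA]
    rw [hnorm, hNy] at h2
    rw [← h2]
    ring
  obtain ⟨ω, hω⟩ : ∃ ω, ω = b ^ q / c := ⟨_, rfl⟩
  have hω0 : ω ≠ 0 := by
    rw [hω]; exact div_ne_zero (pow_ne_zero _ hb0) hc0
  have hω1 : ω ^ (n ^ 2) = 1 := by
    rw [hω, div_pow, h1, div_self (pow_ne_zero _ hc0)]
  have hω2 : ω ^ (n' ^ 2) = 1 := by
    have : n ^ 2 = p ^ (2 * m) * n' ^ 2 := by rw [hn]; ring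
    rw [this] at hω1
    exact (ExpChar.pow_prime_pow_mul_eq_one_iff p (2 * m) (n' ^ 2) ω).1 hω1
  have hcop : Nat.Coprime q (n' ^ 2) := by
    rw [hq]
    exact Nat.Coprime.pow _ _ ((Nat.Prime.coprime_iff_not_dvd hp).2 hn')
  have hbez := Nat.gcd_eq_gcd_ab q (n' ^ 2)
  rw [hcop.gcd_eq_one] at hbez
  obtain ⟨u, hu⟩ : ∃ u : ℤ, u = Nat.gcdA q (n' ^ 2) := ⟨_, rfl⟩
  obtain ⟨v, hv⟩ : ∃ v : ℤ, v = Nat.gcdB q (n' ^ 2) := ⟨_, rfl⟩
  rw [← hu, ← hv] at hbez
  have hωu : (ω ^ u) ^ q = ω := by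
    have h3 : ω ^ ((q : ℤ) * u + ((n' ^ 2 : ℕ) : ℤ) * v) = ω := by
      rw [← hbez]; simp
    rw [zpow_add₀ hω0, zpow_mul, zpow_mul, zpow_natCast, zpow_natCast, hω2, one_zpow, mul_one,
      ← zpow_natCast, ← zpow_mul, mul_comm, zpow_mul, zpow_natCast] at h3
    exact h3
  obtain ⟨w, hw⟩ : ∃ w, w = ω ^ u * b⁻¹ := ⟨_, rfl⟩
  have hwq : c * w ^ q = 1 := by
    rw [hw, mul_pow, hωu, hω, inv_pow]
    field_simp
  have hw0 : w ≠ 0 := by
    rintro rfl
    rw [zero_pow hq0, mul_zero] at hwq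
    exact zero_ne_one hwq
  obtain ⟨z, hz⟩ : ∃ z, z = y * algebraMap K A w := ⟨_, rfl⟩
  have hzq : z ^ q = 1 := by
    have hcomm : Commute y (algebraMap K A w) := (Algebra.commutes w y).symm
    rw [hz, hcomm.mul_pow, hyq, ← map_pow, ← map_mul, hwq, map_one]
  have hz1 : z = 1 := by
    have h4 : (z - 1) ^ p ^ m = z ^ p ^ m - 1 ^ p ^ m :=
      sub_pow_char_pow_of_commute _ _ (Commute.one_right z)
    rw [← hq, hzq, one_pow, sub_self] at h4
    exact sub_eq_zero.1 ((pow_eq_zero_iff hq0).1 h4)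
  refine ⟨w⁻¹, ?_⟩
  rw [← hy]
  have h5 : y * algebraMap K A w = 1 := by rw [← hz, hz1]
  calc algebraMap K A w⁻¹ = (y * algebraMap K A w) * algebraMap K A w⁻¹ := by rw [h5, one_mul]
    _ = y := by rw [mul_assoc, ← map_mul, mul_inv_cancel₀ hw0, map_one, mul_one]

end Groth.Agent.Lib.helper6
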