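import Mathlib
import Groth.Prelude.Def_ArtFun5
import Groth.Agent.Lib.helper6.CRingQuot
import Groth.Agent.Lib.helper6.ArtHfin
import Groth.Agent.Lib.helper6.ArtFunBasic
import Groth.Agent.Lib.helper6.ArtFirstOrder
import Groth.Agent.Lib.helper6.ArtPull
import Groth.Agent.Lib.helper6.ArtSquares
import Groth.Agent.S12728

set_option autoImplicit false
universe u v

open ArtFun ArtFun.Art CategoryTheory

namespace Groth.Agent.Lib.helper6

variable {Λ : Type u} {k : Type u} [CommRing Λ] [Field k] [Algebra Λ k]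

section Der

variable {R : Type u} [CommRing R] [Algebra Λ R] {resR : R →ₐ[Λ] k}

/-- the `ε`-coefficient of a tangent vector of `h_R` -/
def H6_der (φ : HomSet R resR (dual Λ k)) : R → k := fun r => H6_sn (φ.1 r)

theorem H6_der_add (φ : HomSet R resR (dual Λ k)) (r s : R) :
    H6_der φ (r + s) = H6_der φ r + H6_der φ s := by
  show H6_sn (φ.1 (r + s)) = _
  rw [map_add, H6_sn_add]
  rfl

theorem H6_homSet_res (φ : HomSet R resR (dual Λ k)) (r : R) : (dual Λ k).res (φ.1 r) = resR r :=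
  congrArg (fun ψ : R →ₐ[Λ] k => ψ r) φ.2

theorem H6_der_mul (φ : HomSet R resR (dual Λ k)) (r s : R) :
    H6_der φ (r * s) = resR r * H6_der φ s + resR s * H6_der φ r := by
  show H6_sn (φ.1 (r * s)) = _
  rw [map_mul, H6_sn_mul, H6_homSet_res, H6_homSet_res]
  rfl

theorem H6_der_alg (φ : HomSet R resR (dual Λ k)) (l : Λ) : H6_der φ (algebraMap Λ R l) = 0 := by
  show H6_sn (φ.1 (algebraMap Λ R l)) = 0
  rw [AlgHom.commutes, H6_sn_algebraMap]

theorem H6_homSet_dual_apply (φ : HomSet R resR (dual Λ k)) (r : R) :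
    φ.1 r = H6_dn (resR r) (H6_der φ r) := by
  rw [← H6_homSet_res φ r]
  exact (H6_dn_eta (φ.1 r)).symm

theorem H6_homSet_dual_eq_zero (φ : HomSet R resR (dual Λ k)) (r : R) (h1 : resR r = 0)
    (h2 : H6_der φ r = 0) : φ.1 r = 0 := by
  rw [H6_homSet_dual_apply, h1, h2, H6_dn_zero]

/-- linear combinations of tangent vectors of `h_R` -/
theorem H6_homSet_lincomb (φ₁ φ₂ : HomSet R resR (dual Λ k)) (c : k) :
    ∃ φ : HomSet R resR (dual Λ k), ∀ r, H6_der φ r = H6_der φ₁ r + c * H6_der φ₂ r := by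
  obtain ⟨φ, hφ⟩ := H6_homSet_of_derivation (Λ := Λ) resR (fun r => H6_der φ₁ r + c * H6_der φ₂ r)
    (fun r s => by simp only [H6_der_add]; ring)
    (fun r s => by simp only [H6_der_mul]; ring)
    (fun l => by simp only [H6_der_alg]; ring)
  refine ⟨φ, fun r => ?_⟩
  show H6_sn (φ.1 r) = _
  rw [hφ, H6_sn_dn]

/-- the zero tangent vector of `h_R` -/
def H6_homSet_zero (resR : R →ₐ[Λ] k) : HomSet R resR (dual Λ k) :=
  HomSet.map (baseToDual : base Λ k ⟶ dual Λ k) ⟨resR, AlgHom.id_comp _⟩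

theorem H6_der_zero (r : R) : H6_der (H6_homSet_zero (Λ := Λ) resR) r = 0 := rfl

/-- linearity of the characteristic map of a family -/
theorem H6_family_lincomb {F : Art Λ k ⥤ Type v} [T : TangentStr F] (ξ : Family R resR F)
    (φ₁ φ₂ φ : HomSet R resR (dual Λ k)) (c : k)
    (h : ∀ r, H6_der φ r = H6_der φ₁ r + c * H6_der φ₂ r) :
    TangentSpace.mk (F := F) (ξ.app _ φ) =
      TangentSpace.mk (F := F) (ξ.app _ φ₁) + c • TangentSpace.mk (F := F) (ξ.app _ φ₂) := by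
  obtain ⟨w, hw1, hw2⟩ := H6_fibreProd_lift (isFibreProd_dual2 (Λ := Λ) (k := k)) φ₁
    (HomSet.map (scale c) φ₂) (by
      rw [H6_homSet_base_unique resR (HomSet.map _ φ₁), H6_homSet_base_unique resR (HomSet.map _ _)])
  have hplus : HomSet.map plus w = φ := by
    apply H6_homSet_dual_ext
    intro r
    show H6_sn ((plus : dual2 Λ k ⟶ dual Λ k) (w.1 r)) = H6_der φ r
    rw [H6_sn_plus, h]
    have e1 : (pr₁ : dual2 Λ k ⟶ dual Λ k) (w.1 r) = φ₁.1 r :=
      congrArg (fun ψ : HomSet R resR (dual Λ k) => ψ.1 r) hw1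
    have e2 : (pr₂ : dual2 Λ k ⟶ dual Λ k) (w.1 r) = (scale c : dual Λ k ⟶ dual Λ k) (φ₂.1 r) :=
      congrArg (fun ψ : HomSet R resR (dual Λ k) => ψ.1 r) hw2
    rw [e1, e2, H6_sn_scale]
    rfl
  rw [← hplus, ξ.natural, H6_tangent_add F (ξ.app _ w)]
  congr 1
  · show F.map pr₁ (ξ.app _ w) = ξ.app _ φ₁
    rw [← ξ.natural, hw1]
  · show TangentSpace.mk (F := F) (F.map pr₂ (ξ.app _ w)) = _
    rw [← ξ.natural, hw2, ξ.natural]
    exact H6_tangent_smul F c (ξ.app _ φ₂)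

/-- Invariance of the characteristic map under adding a multiple of a difference of two tangent
vectors with the same image; uses only `Heps` (no vector space structure on the tangent space of `F`). -/
theorem H6_family_twist [IsNoetherianRing Λ] [Module.Finite Λ k] {F : Art Λ k ⥤ Type v} (h2 : Heps F)
    (ξ : Family R resR F) (φ φ₁ φ₂ φ' : HomSet R resR (dual Λ k)) (c : k)
    (hξ : ξ.app _ φ₁ = ξ.app _ φ₂)
    (h' : ∀ r, H6_der φ' r = H6_der φ r + c * (H6_der φ₁ r - H6_der φ₂ r)) :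
    ξ.app _ φ' = ξ.app _ φ := by
  classical
  have hbase : ∀ {A : Art Λ k} (χ χ' : HomSet R resR A) ,
      HomSet.map (toBase A) χ = HomSet.map (toBase A) χ' := by
    intro A χ χ'
    rw [H6_homSet_base_unique resR (HomSet.map _ χ), H6_homSet_base_unique resR (HomSet.map _ χ')]
  obtain ⟨E₃, q₁, q₂, hE₃⟩ := H6_art_pullback_exists (toBase (dual2 Λ k)) (toBase (dual Λ k))
    (dual Λ k).res_surjective
  obtain ⟨u, hu1, hu2⟩ := H6_fibreProd_lift (isFibreProd_dual2 (Λ := Λ) (k := k)) φ φ₁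
    (by
      rw [H6_homSet_base_unique resR (HomSet.map _ φ), H6_homSet_base_unique resR (HomSet.map _ φ₁)])
  obtain ⟨w, hw1, hw2⟩ := H6_fibreProd_lift hE₃ u φ₂ (by
      rw [H6_homSet_base_unique resR (HomSet.map _ u), H6_homSet_base_unique resR (HomSet.map _ φ₂)])
  obtain ⟨w', hw'1, hw'2⟩ := H6_fibreProd_lift hE₃ u φ₁ (by
      rw [H6_homSet_base_unique resR (HomSet.map _ u), H6_homSet_base_unique resR (HomSet.map _ φ₁)])
  have hww' : ξ.app _ w = ξ.app _ w' := by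
    apply (h2 q₁ q₂ hE₃).1
    apply FibProd.ext
    · show F.map q₁ (ξ.app _ w) = F.map q₁ (ξ.app _ w')
      rw [← ξ.natural, ← ξ.natural, hw1, hw'1]
    · show F.map q₂ (ξ.app _ w) = F.map q₂ (ξ.app _ w')
      rw [← ξ.natural, ← ξ.natural, hw2, hw'2, hξ]
  obtain ⟨ν₀, hν₀1, hν₀2⟩ := H6_fibreProd_lift_hom (isFibreProd_dual2 (Λ := Λ) (k := k))
    (pr₁ : dual2 Λ k ⟶ dual Λ k) ((pr₂ : dual2 Λ k ⟶ dual Λ k) ≫ scale c) (by
      rw [eq_toBase (pr₁ ≫ _), eq_toBase ((pr₂ ≫ scale c) ≫ _)])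
  obtain ⟨ν, hν1, hν2⟩ := H6_fibreProd_lift_hom (isFibreProd_dual2 (Λ := Λ) (k := k))
    (q₁ ≫ ν₀ ≫ plus) (q₂ ≫ scale (-c)) (by
      rw [eq_toBase ((q₁ ≫ ν₀ ≫ plus) ≫ _), eq_toBase ((q₂ ≫ scale (-c)) ≫ _)])
  have hν₀1app : ∀ x, (pr₁ : dual2 Λ k ⟶ dual Λ k) (ν₀ x) = (pr₁ : dual2 Λ k ⟶ dual Λ k) x := fun x =>
    congrArg (fun g : dual2 Λ k ⟶ dual Λ k => g x) hν₀1
  have hν₀2app : ∀ x, (pr₂ : dual2 Λ k ⟶ dual Λ k) (ν₀ x) =
      (scale c : dual Λ k ⟶ dual Λ k) ((pr₂ : dual2 Λ k ⟶ dual Λ k) x) := fun x =>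
    congrArg (fun g : dual2 Λ k ⟶ dual Λ k => g x) hν₀2
  have hν1app : ∀ x, (pr₁ : dual2 Λ k ⟶ dual Λ k) (ν x) =
      (plus : dual2 Λ k ⟶ dual Λ k) (ν₀ (q₁ x)) := fun x =>
    congrArg (fun g : E₃ ⟶ dual Λ k => g x) hν1
  have hν2app : ∀ x, (pr₂ : dual2 Λ k ⟶ dual Λ k) (ν x) =
      (scale (-c) : dual Λ k ⟶ dual Λ k) (q₂ x) := fun x =>
    congrArg (fun g : E₃ ⟶ dual Λ k => g x) hν2
  have hL : ∀ x : E₃, H6_sn ((plus : dual2 Λ k ⟶ dual Λ k) (ν x)) =
      H6_sn ((pr₁ : dual2 Λ k ⟶ dual Λ k) (q₁ x)) + c * H6_sn ((pr₂ : dual2 Λ k ⟶ dual Λ k) (q₁ x))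
        + (-c) * H6_sn (q₂ x) := by
    intro x
    rw [H6_sn_plus, hν1app, hν2app, H6_sn_plus, hν₀1app, hν₀2app, H6_sn_scale, H6_sn_scale]
  have hu1app : ∀ r, (pr₁ : dual2 Λ k ⟶ dual Λ k) (u.1 r) = φ.1 r := fun r =>
    congrArg (fun χ : HomSet R resR (dual Λ k) => χ.1 r) hu1
  have hu2app : ∀ r, (pr₂ : dual2 Λ k ⟶ dual Λ k) (u.1 r) = φ₁.1 r := fun r =>
    congrArg (fun χ : HomSet R resR (dual Λ k) => χ.1 r) hu2
  have hw1app : ∀ r, q₁ (w.1 r) = u.1 r := fun r =>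
    congrArg (fun χ : HomSet R resR (dual2 Λ k) => χ.1 r) hw1
  have hw2app : ∀ r, q₂ (w.1 r) = φ₂.1 r := fun r =>
    congrArg (fun χ : HomSet R resR (dual Λ k) => χ.1 r) hw2
  have hw'1app : ∀ r, q₁ (w'.1 r) = u.1 r := fun r =>
    congrArg (fun χ : HomSet R resR (dual2 Λ k) => χ.1 r) hw'1
  have hw'2app : ∀ r, q₂ (w'.1 r) = φ₁.1 r := fun r =>
    congrArg (fun χ : HomSet R resR (dual Λ k) => χ.1 r) hw'2
  have e1 : HomSet.map (ν ≫ plus) w = φ' := by
    apply H6_homSet_dual_ext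
    intro r
    show H6_sn ((plus : dual2 Λ k ⟶ dual Λ k) (ν (w.1 r))) = H6_der φ' r
    rw [hL, hw1app, hw2app, hu1app, hu2app, h']
    show H6_der φ r + c * H6_der φ₁ r + -c * H6_der φ₂ r = _
    ring
  have e2 : HomSet.map (ν ≫ plus) w' = φ := by
    apply H6_homSet_dual_ext
    intro r
    show H6_sn ((plus : dual2 Λ k ⟶ dual Λ k) (ν (w'.1 r))) = H6_der φ r
    rw [hL, hw'1app, hw'2app, hu1app, hu2app]
    show H6_der φ r + c * H6_der φ₁ r + -c * H6_der φ₁ r = _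
    ring
  rw [← e1, ← e2, ξ.natural, ξ.natural, hww']

end Der

/-- From a versal family to a hull, by passing to a maximal quotient which stays versal.  The
hypothesis `hc` says that the family is injective on tangent vectors factoring through the residue
field. -/
theorem H6_exists_miniversal_quot [IsNoetherianRing Λ] [Module.Finite Λ k] (F : Art Λ k ⥤ Type v)
    (h0 : H0 F) (h1 : S1 F) (h2 : Heps F)
    (R : CRing Λ k) (ξ : Family R.carrier R.res F) (hvers : IsVersal ξ)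
    (hc : ∀ φ₁ φ₂ : HomSet R.carrier R.res (dual Λ k),
      (∀ x ∈ IsLocalRing.maximalIdeal R.carrier, φ₁.1 x = 0) →
      (∀ x ∈ IsLocalRing.maximalIdeal R.carrier, φ₂.1 x = 0) →
      ξ.app _ φ₁ = ξ.app _ φ₂ → φ₁ = φ₂) :
    ∃ (b : Ideal R.carrier) (hb : b ≤ IsLocalRing.maximalIdeal R.carrier),
      IsMiniversal (ξ.along (H6_cringQuotMk R b hb) (H6_cringQuotMk_res R b hb)) := by
  classical
  set m := IsLocalRing.maximalIdeal R.carrier with hm
  obtain ⟨hT, hL⟩ := (Groth.Agent.S12728.result h0 h1 h2 R ξ).1 hvers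
  have hT' : ∀ v : F.obj (dual Λ k), ∃ φ : HomSet R.carrier R.res (dual Λ k), ξ.app _ φ = v := hT
  let Q1 : Ideal R.carrier → Prop := fun b => ∀ v : F.obj (dual Λ k),
    ∃ φ : HomSet R.carrier R.res (dual Λ k), (∀ j ∈ b, φ.1 j = 0) ∧ ξ.app _ φ = v
  let Q2 : Ideal R.carrier → Prop := fun b => ∀ ⦃B A : Art Λ k⦄ (μ : B ⟶ A), IsSmallExt μ →
    ∀ φ : HomSet R.carrier R.res A, (∀ j ∈ b, φ.1 j = 0) → ∀ y : F.obj B, F.map μ y = ξ.app A φ →
      ∃ ψ : HomSet R.carrier R.res B, (∀ j ∈ b, ψ.1 j = 0) ∧ HomSet.map μ ψ = φ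
  let VV : Set (Ideal R.carrier) := {b | b ≤ m ∧ Q1 b ∧ Q2 b}
  have hbot : (⊥ : Ideal R.carrier) ∈ VV := by
    refine ⟨bot_le, ?_, ?_⟩
    · intro v
      obtain ⟨φ, hφ⟩ := hT' v
      refine ⟨φ, fun j hj => ?_, hφ⟩
      rw [Ideal.mem_bot] at hj
      rw [hj, map_zero]
    · intro B A μ hμ φ _ y hy
      obtain ⟨ψ, hψ⟩ := hL μ hμ φ y hy
      refine ⟨ψ, fun j hj => ?_, hψ⟩
      rw [Ideal.mem_bot] at hj
      rw [hj, map_zero]
  obtain ⟨b, hbV, hmax⟩ := set_has_maximal_iff_noetherian.2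
    (inferInstance : IsNoetherian R.carrier R.carrier) VV ⟨⊥, hbot⟩
  obtain ⟨hbm, hQ1, hQ2⟩ := hbV
  let R' := H6_cringQuot R b hbm
  let ξ' : Family R'.carrier R'.res F :=
    ξ.along (H6_cringQuotMk R b hbm) (H6_cringQuotMk_res R b hbm)
  have hξ' : ∀ {A : Art Λ k} (ψ : HomSet R'.carrier R'.res A),
      ξ'.app A ψ = ξ.app A (H6_cringQuotRestr R b hbm ψ) := fun ψ => rfl
  have hrestr_inj : ∀ {A : Art Λ k} (χ₁ χ₂ : HomSet R'.carrier R'.res A),
      H6_cringQuotRestr R b hbm χ₁ = H6_cringQuotRestr R b hbm χ₂ → χ₁ = χ₂ := by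
    intro A χ₁ χ₂ h
    rw [← H6_cringQuotLift_restr R b hbm χ₁, ← H6_cringQuotLift_restr R b hbm χ₂]
    congr 1
  have hsurj' : ∀ v : F.obj (dual Λ k), ∃ ψ : HomSet R'.carrier R'.res (dual Λ k), ξ'.app _ ψ = v := by
    intro v
    obtain ⟨φ, hφb, hφ⟩ := hQ1 v
    refine ⟨H6_cringQuotLift R b hbm φ hφb, ?_⟩
    rw [hξ', H6_cringQuotRestr_lift]
    exact hφ
  have hvers' : IsVersal ξ' := by
    rw [Groth.Agent.S12728.result h0 h1 h2 R' ξ']
    refine ⟨hsurj', ?_⟩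
    intro B A μ hμ ψ y hy
    obtain ⟨ψt, hψtb, hψt⟩ := hQ2 μ hμ (H6_cringQuotRestr R b hbm ψ)
      (H6_cringQuotRestr_kills R b hbm ψ) y hy
    refine ⟨H6_cringQuotLift R b hbm ψt hψtb, ?_⟩
    apply hrestr_inj
    rw [H6_cringQuotRestr_map, H6_cringQuotRestr_lift, hψt]
  refine ⟨b, hbm, hvers', ?_, hsurj'⟩
  -- injectivity on tangent vectors
  intro ψ₁ ψ₂ hψ
  apply hrestr_inj
  set φ₁ := H6_cringQuotRestr R b hbm ψ₁ with hφ₁
  set φ₂ := H6_cringQuotRestr R b hbm ψ₂ with hφ₂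
  have hξφ : ξ.app _ φ₁ = ξ.app _ φ₂ := hψ
  have hφ₁b : ∀ j ∈ b, φ₁.1 j = 0 := H6_cringQuotRestr_kills R b hbm ψ₁
  have hφ₂b : ∀ j ∈ b, φ₂.1 j = 0 := H6_cringQuotRestr_kills R b hbm ψ₂
  by_contra hne
  let D : R.carrier → k := fun r => H6_der φ₁ r - H6_der φ₂ r
  have hDb : ∀ j ∈ b, D j = 0 := by
    intro j hj
    show H6_sn (φ₁.1 j) - H6_sn (φ₂.1 j) = 0
    rw [hφ₁b j hj, hφ₂b j hj, sub_self]
  -- tangent vectors φ + c (φ₁ - φ₂)
  have twist : ∀ (φ : HomSet R.carrier R.res (dual Λ k)) (c : k),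
      ∃ φ' : HomSet R.carrier R.res (dual Λ k), (∀ r, H6_der φ' r = H6_der φ r + c * D r) ∧
        ξ.app _ φ' = ξ.app _ φ := by
    intro φ c
    obtain ⟨φa, hφa⟩ := H6_homSet_lincomb φ φ₁ c
    obtain ⟨φ', hφ'⟩ := H6_homSet_lincomb φa φ₂ (-c)
    have hder : ∀ r, H6_der φ' r = H6_der φ r + c * D r := by
      intro r
      rw [hφ', hφa]
      show _ = _ + c * (H6_der φ₁ r - H6_der φ₂ r)
      ring
    exact ⟨φ', hder, H6_family_twist h2 ξ φ φ₁ φ₂ φ' c hξφ hder⟩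
  -- a point of the maximal ideal where D does not vanish
  have hx : ∃ x ∈ m, D x ≠ 0 := by
    by_contra hcon
    push_neg at hcon
    obtain ⟨φD, hφD, hξD⟩ := twist (H6_homSet_zero R.res) 1
    have hD' : ∀ r, H6_der φD r = D r := by
      intro r
      rw [hφD, H6_der_zero, zero_add, one_mul]
    have hkill0 : ∀ x ∈ m, (H6_homSet_zero (Λ := Λ) R.res).1 x = 0 := by
      intro x hx
      apply H6_homSet_dual_eq_zero
      · exact (CRing.mem_maximalIdeal_iff R x).1 hx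
      · rfl
    have hkillD : ∀ x ∈ m, φD.1 x = 0 := by
      intro x hx
      apply H6_homSet_dual_eq_zero
      · exact (CRing.mem_maximalIdeal_iff R x).1 hx
      · rw [hD', hcon x hx]
    have heq := hc φD (H6_homSet_zero R.res) hkillD hkill0 hξD
    apply hne
    apply H6_homSet_dual_ext
    intro r
    have : D r = 0 := by
      rw [← hD', heq, H6_der_zero]
    exact sub_eq_zero.1 this
  obtain ⟨x, hxm, hDx⟩ := hx
  have hxres : R.res x = 0 := (CRing.mem_maximalIdeal_iff R x).1 hxm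
  have hxb : x ∉ b := fun h => hDx (hDb x h)
  let b' : Ideal R.carrier := b ⊔ Ideal.span {x}
  have hb'm : b' ≤ m := sup_le hbm ((Ideal.span_singleton_le_iff_mem _).2 hxm)
  have hlt : b < b' := by
    refine lt_of_le_of_ne le_sup_left ?_
    intro heq
    apply hxb
    rw [heq]
    exact Ideal.mem_sup_right (Ideal.subset_span rfl)
  have hkillb' : ∀ {A : Art Λ k} (φ : HomSet R.carrier R.res A), (∀ j ∈ b, φ.1 j = 0) → φ.1 x = 0 →
      ∀ j ∈ b', φ.1 j = 0 := by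
    intro A φ hφb hφx j hj
    have hle : b' ≤ RingHom.ker φ.1 := by
      apply sup_le
      · intro j hj
        exact hφb j hj
      · rw [Ideal.span_singleton_le_iff_mem]
        exact hφx
    exact hle hj
  apply hmax b' ?_ hlt
  refine ⟨hb'm, ?_, ?_⟩
  · -- Q1
    intro v
    obtain ⟨φ, hφb, hφ⟩ := hQ1 v
    obtain ⟨φ', hφ', hξφ'⟩ := twist φ (-(H6_der φ x) / D x)
    refine ⟨φ', ?_, hξφ'.trans hφ⟩
    apply hkillb'
    · intro j hj
      apply H6_homSet_dual_eq_zero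
      · exact (CRing.mem_maximalIdeal_iff R j).1 (hbm hj)
      · rw [hφ', hDb j hj, mul_zero, add_zero]
        show H6_sn (φ.1 j) = 0
        rw [hφb j hj]
        rfl
    · apply H6_homSet_dual_eq_zero _ _ hxres
      rw [hφ', div_mul_cancel₀ _ hDx, add_neg_cancel]
  · -- Q2
    intro B A μ hμ φ hφb' y hy
    have hφb : ∀ j ∈ b, φ.1 j = 0 := fun j hj => hφb' j (Ideal.mem_sup_left hj)
    have hφx : φ.1 x = 0 := hφb' x (Ideal.mem_sup_right (Ideal.subset_span rfl))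
    obtain ⟨ψ, hψb, hψ⟩ := hQ2 μ hμ φ hφb y hy
    obtain ⟨t, ht⟩ := hμ.2.2.1
    have ht' : RingHom.ker μ.toAlgHom = Ideal.span {t} := ht
    have hψx : ψ.1 x ∈ RingHom.ker μ.toAlgHom := by
      rw [RingHom.mem_ker]
      show μ (ψ.1 x) = 0
      have := congrArg (fun χ : HomSet R.carrier R.res A => χ.1 x) hψ
      exact this.trans hφx
    rw [ht'] at hψx
    obtain ⟨β, hβ⟩ := Ideal.mem_span_singleton'.1 hψx
    obtain ⟨χ, hχ, -⟩ := twist (H6_homSet_zero R.res) (-(B.res β) / D x)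
    have hχ' : ∀ r, H6_der χ r = -(B.res β) / D x * D r := by
      intro r
      rw [hχ, H6_der_zero, zero_add]
    obtain ⟨C, π₁, π₂, α, δ, hC, hsq, -, -, -, hform⟩ := H6_smallExt_tangent_gen μ hμ t ht'
    obtain ⟨w, hw1, hw2⟩ := H6_fibreProd_lift hC ψ χ (by
      rw [H6_homSet_base_unique R.res (HomSet.map _ ψ), H6_homSet_base_unique R.res (HomSet.map _ χ)])
    have hw1app : ∀ r, π₁ (w.1 r) = ψ.1 r := fun r =>
      congrArg (fun χ : HomSet R.carrier R.res B => χ.1 r) hw1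
    have hw2app : ∀ r, π₂ (w.1 r) = χ.1 r := fun r =>
      congrArg (fun χ : HomSet R.carrier R.res (dual Λ k) => χ.1 r) hw2
    refine ⟨HomSet.map α w, ?_, ?_⟩
    · apply hkillb'
      · intro j hj
        show α (w.1 j) = 0
        rw [hform (w.1 j) 0 (by
          rw [map_zero, hw2app]
          show 0 = H6_der χ j
          rw [hχ', hDb j hj, mul_zero]), hw1app, hψb j hj, zero_mul, add_zero]
      · show α (w.1 x) = 0
        rw [hform (w.1 x) (-β) (by
          rw [map_neg, hw2app]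
          show _ = H6_der χ x
          rw [hχ', div_mul_cancel₀ _ hDx]), hw1app, ← hβ]
        ring
    · rw [← H6_homSet_map_comp, ← hsq.w, H6_homSet_map_comp, hw1, hψ]

theorem H6_hasHull_of_versal [IsNoetherianRing Λ] [Module.Finite Λ k] (F : Art Λ k ⥤ Type v)
    (h0 : H0 F) (h1 : S1 F) (h2 : Heps F)
    (R : CRing Λ k) (ξ : Family R.carrier R.res F) (hvers : IsVersal ξ)
    (hc : ∀ φ₁ φ₂ : HomSet R.carrier R.res (dual Λ k),
      (∀ x ∈ IsLocalRing.maximalIdeal R.carrier, φ₁.1 x = 0) →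
      (∀ x ∈ IsLocalRing.maximalIdeal R.carrier, φ₂.1 x = 0) →
      ξ.app _ φ₁ = ξ.app _ φ₂ → φ₁ = φ₂) : HasHull F := by
  obtain ⟨b, hb, hmini⟩ := H6_exists_miniversal_quot F h0 h1 h2 R ξ hvers hc
  exact ⟨⟨H6_cringQuot R b hb, _, hmini⟩⟩

end Groth.Agent.Lib.helper6

namespace Groth.Agent.Lib.helper6

open ArtFun ArtFun.Art CategoryTheory

variable {Λ : Type u} {k : Type u} [CommRing Λ] [Field k] [Algebra Λ k]

/-- If `k` has no nonzero `Λ`-derivation, a tangent vector of `h_R` killing the maximal ideal is zero. -/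
theorem H6_der_eq_zero_of_subsingleton (hk : Subsingleton (Derivation Λ k k)) (R : CRing Λ k)
    (φ : HomSet R.carrier R.res (dual Λ k))
    (hφ : ∀ x ∈ IsLocalRing.maximalIdeal R.carrier, φ.1 x = 0) (r : R.carrier) : H6_der φ r = 0 := by
  classical
  let D : R.carrier → k := H6_der φ
  have hDm : ∀ x ∈ IsLocalRing.maximalIdeal R.carrier, D x = 0 := by
    intro x hx
    show H6_sn (φ.1 x) = 0
    rw [hφ x hx]
    rfl
  let s : k → R.carrier := Function.surjInv R.res_surjective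
  have hs : ∀ c, R.res (s c) = c := Function.surjInv_eq R.res_surjective
  have key : ∀ r, D (s (R.res r)) = D r := by
    intro r
    have hmem : s (R.res r) - r ∈ IsLocalRing.maximalIdeal R.carrier := by
      rw [CRing.mem_maximalIdeal_iff, map_sub, hs, sub_self]
    have e : s (R.res r) = r + (s (R.res r) - r) := by ring
    rw [e, show D (r + (s (R.res r) - r)) = D r + D (s (R.res r) - r) from H6_der_add φ _ _,
      hDm _ hmem, add_zero]
  let Dbar : k →ₗ[Λ] k :=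
    { toFun := fun c => D (s c)
      map_add' := by
        intro c c'
        obtain ⟨r, rfl⟩ := R.res_surjective c
        obtain ⟨r', rfl⟩ := R.res_surjective c'
        rw [← map_add, key, key, key]
        exact H6_der_add φ r r'
      map_smul' := by
        intro l c
        obtain ⟨r, rfl⟩ := R.res_surjective c
        rw [← map_smul, key, key, RingHom.id_apply, Algebra.smul_def]
        show H6_der φ (algebraMap Λ R.carrier l * r) = _
        rw [H6_der_mul, H6_der_alg, mul_zero, add_zero, AlgHom.commutes, Algebra.smul_def] }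
  have hleib : ∀ a b : k, Dbar (a * b) = a • Dbar b + b • Dbar a := by
    intro a b
    obtain ⟨r, rfl⟩ := R.res_surjective a
    obtain ⟨r', rfl⟩ := R.res_surjective b
    show D (s (R.res r * R.res r')) = R.res r • D (s (R.res r')) + R.res r' • D (s (R.res r))
    rw [← map_mul, key, key, key]
    exact H6_der_mul φ r r'
  let Dd : Derivation Λ k k := Derivation.mk' Dbar hleib
  have hDd : Dd = 0 := Subsingleton.elim _ _
  have : Dd (R.res r) = 0 := by rw [hDd]; rfl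
  have h2 : Dd (R.res r) = D r := key r
  exact h2.symm.trans this

theorem H6_hasHull [IsNoetherianRing Λ] [Module.Finite Λ k] (hk : Subsingleton (Derivation Λ k k))
    (F : Art Λ k ⥤ Type v) (h0 : H0 F) (h1 : S1 F) (h2 : Heps F)
    (R : CRing Λ k) (ξ : Family R.carrier R.res F) (hvers : IsVersal ξ) : HasHull F := by
  apply H6_hasHull_of_versal F h0 h1 h2 R ξ hvers
  intro φ₁ φ₂ h₁ h₂ _
  apply H6_homSet_dual_ext
  intro r
  have e1 := H6_der_eq_zero_of_subsingleton hk R φ₁ h₁ r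
  have e2 := H6_der_eq_zero_of_subsingleton hk R φ₂ h₂ r
  exact e1.trans e2.symm

end Groth.Agent.Lib.helper6
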