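import Mathlib
import Groth.Prelude.Def_ArtFun5
import Groth.Agent.Lib.helper6.ArtInd
import Groth.Agent.Lib.helper6.ArtTan
import Groth.Agent.Lib.helper6.ArtFunBasic
import Groth.Agent.Lib.helper6.ArtSquares

set_option autoImplicit false
universe u v

open ArtFun ArtFun.Art CategoryTheory

namespace Groth.Agent.Lib.helper6

variable {Λ : Type u} {k : Type u} [CommRing Λ] [Field k] [Algebra Λ k]

/-- A miniversal family of a functor satisfying `H0` and `HSq` is universal. -/
theorem H6_universal_of_miniversal [IsNoetherianRing Λ] [Module.Finite Λ k] (F : Art Λ k ⥤ Type v)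
    (h0 : H0 F) (h4 : HSq F) {R : Type u} [CommRing R] [Algebra Λ R] {resR : R →ₐ[Λ] k}
    (ξ : Family R resR F) (hmini : IsMiniversal ξ) : IsUniversal ξ := by
  classical
  intro A
  refine ⟨?_, H6_versal_surjective ξ hmini.1 h0.2 A⟩
  have key := H6_surjective_induction (Λ := Λ) (k := k)
    (fun A B f => ∀ x₁ x₂ : HomSet R resR B, ξ.app B x₁ = ξ.app B x₂ →
      HomSet.map f x₁ = HomSet.map f x₂ → x₁ = x₂)
    ?_ ?_ ?_ (toBase A) A.res_surjective
  · intro x₁ x₂ hx
    apply key x₁ x₂ hx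
    rw [H6_homSet_base_unique resR (HomSet.map _ x₁), H6_homSet_base_unique resR (HomSet.map _ x₂)]
  · intro A B e he x₁ x₂ _ hx
    have := congrArg (HomSet.map (inv e)) hx
    rwa [← H6_homSet_map_comp, ← H6_homSet_map_comp, IsIso.hom_inv_id, H6_homSet_map_id,
      H6_homSet_map_id] at this
  · intro A A' μ hμ x₁ x₂ hξx hμx
    obtain ⟨C, π₁, π₂, α, δ, hC, hsq, hδ1, hδα, hδ2⟩ := H6_smallExt_tangent μ hμ
    obtain ⟨z, hz1, hz2⟩ := H6_fibreProd_lift hsq x₁ x₂ hμx
    have hw : ξ.app C z = F.map δ (ξ.app A' x₁) := by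
      apply (h4 π₁ α μ hsq hμ).1
      apply FibProd.ext
      · show F.map π₁ (ξ.app C z) = F.map π₁ (F.map δ (ξ.app A' x₁))
        rw [← FunctorToTypes.map_comp_apply, hδ1, FunctorToTypes.map_id_apply, ← ξ.natural, hz1]
      · show F.map α (ξ.app C z) = F.map α (F.map δ (ξ.app A' x₁))
        rw [← FunctorToTypes.map_comp_apply, hδα, FunctorToTypes.map_id_apply, ← ξ.natural, hz2, hξx]
    have hπ₂ : HomSet.map π₂ z = HomSet.map π₂ (HomSet.map δ x₁) := by
      apply hmini.2.1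
      rw [ξ.natural, ξ.natural, ξ.natural, hw]
    have hπ₁ : HomSet.map π₁ z = HomSet.map π₁ (HomSet.map δ x₁) := by
      rw [hz1, ← H6_homSet_map_comp, hδ1, H6_homSet_map_id]
    have hzz : z = HomSet.map δ x₁ := by
      apply Subtype.ext
      apply AlgHom.ext
      intro r
      apply hC.inj
      · exact congrArg (fun χ : HomSet R resR A' => χ.1 r) hπ₁
      · exact congrArg (fun χ : HomSet R resR (dual Λ k) => χ.1 r) hπ₂
    rw [← hz2, hzz, ← H6_homSet_map_comp, hδα, H6_homSet_map_id]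
  · intro A B C p q hp hq x₁ x₂ hξx hx
    apply hp x₁ x₂ hξx
    apply hq
    · rw [ξ.natural, ξ.natural, hξx]
    · rw [← H6_homSet_map_comp, ← H6_homSet_map_comp]
      exact hx

/-- The functor `h_R` turns fibre-product squares into bijections. -/
theorem H6_hR_cmp_bijective {R : Type u} [CommRing R] [Algebra Λ R] {resR : R →ₐ[Λ] k}
    {B A A' A'' : Art Λ k} {p' : B ⟶ A'} {p'' : B ⟶ A''} {f' : A' ⟶ A} {f'' : A'' ⟶ A}
    (h : IsFibreProd p' p'' f' f'') : Function.Bijective (cmp (hR R resR) h) := by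
  constructor
  · intro z₁ z₂ hz
    have hz1 : HomSet.map p' z₁ = HomSet.map p' z₂ := congrArg (fun t => t.1.1) hz
    have hz2 : HomSet.map p'' z₁ = HomSet.map p'' z₂ := congrArg (fun t => t.1.2) hz
    apply Subtype.ext
    apply AlgHom.ext
    intro r
    apply h.inj
    · exact congrArg (fun χ : HomSet R resR A' => χ.1 r) hz1
    · exact congrArg (fun χ : HomSet R resR A'' => χ.1 r) hz2
  · intro y
    obtain ⟨ψ, h1, h2⟩ := H6_fibreProd_lift h y.1.1 y.1.2 y.2
    exact ⟨ψ, FibProd.ext h1 h2⟩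

/-- Comparison maps of a functor with a universal family are bijective. -/
theorem H6_cmp_bijective_of_universal (F : Art Λ k ⥤ Type v) {R : Type u} [CommRing R] [Algebra Λ R]
    {resR : R →ₐ[Λ] k} (ξ : Family R resR F) (hξ : IsUniversal ξ)
    {B A A' A'' : Art Λ k} {p' : B ⟶ A'} {p'' : B ⟶ A''} {f' : A' ⟶ A} {f'' : A'' ⟶ A}
    (h : IsFibreProd p' p'' f' f'') : Function.Bijective (cmp F h) := by
  have hR := H6_hR_cmp_bijective (R := R) (resR := resR) h
  constructor
  · intro z₁ z₂ hz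
    obtain ⟨x₁, rfl⟩ := (hξ B).2 z₁
    obtain ⟨x₂, rfl⟩ := (hξ B).2 z₂
    have hz1 : F.map p' (ξ.app B x₁) = F.map p' (ξ.app B x₂) := congrArg (fun t => t.1.1) hz
    have hz2 : F.map p'' (ξ.app B x₁) = F.map p'' (ξ.app B x₂) := congrArg (fun t => t.1.2) hz
    rw [← ξ.natural, ← ξ.natural] at hz1 hz2
    have e1 := (hξ A').1 hz1
    have e2 := (hξ A'').1 hz2
    congr 1
    apply hR.1
    exact FibProd.ext e1 e2
  · intro y
    obtain ⟨x', hx'⟩ := (hξ A').2 y.1.1
    obtain ⟨x'', hx''⟩ := (hξ A'').2 y.1.2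
    have hcompat : HomSet.map f' x' = HomSet.map f'' x'' := by
      apply (hξ A).1
      rw [ξ.natural, ξ.natural, hx', hx'']
      exact y.2
    obtain ⟨ψ, hψ⟩ := hR.2 ⟨(x', x''), hcompat⟩
    have hψ1 : HomSet.map p' ψ = x' := congrArg (fun t => t.1.1) hψ
    have hψ2 : HomSet.map p'' ψ = x'' := congrArg (fun t => t.1.2) hψ
    refine ⟨ξ.app B ψ, FibProd.ext ?_ ?_⟩
    · show F.map p' (ξ.app B ψ) = y.1.1
      rw [← ξ.natural, hψ1, hx']
    · show F.map p'' (ξ.app B ψ) = y.1.2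
      rw [← ξ.natural, hψ2, hx'']

end Groth.Agent.Lib.helper6
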