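import Mathlib
import Groth.Prelude.Def_ArtFun5
import Groth.Agent.Lib.helper6.ArtMinIdeal
import Groth.Agent.Lib.helper6.ArtFormal
import Groth.Agent.Lib.helper6.ArtRS
import Groth.Agent.Lib.helper6.ArtPull
import Groth.Agent.Lib.helper6.ArtSquares

set_option autoImplicit false
universe u v

open ArtFun ArtFun.Art CategoryTheory

namespace Groth.Agent.Lib.helper6

variable {Λ : Type u} {k : Type u} [CommRing Λ] [Field k] [Algebra Λ k]

section Factor

variable {R : Type u} [CommRing R] [Algebra Λ R] {resR : R →ₐ[Λ] k}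

/-- A map killing the kernel of a surjective element of `h_R(A)` factors through `A`. -/
theorem H6_homSet_factor {A B : Art Λ k} (π : HomSet R resR A) (hπ : Function.Surjective π.1)
    (φ : HomSet R resR B) (h : ∀ r, π.1 r = 0 → φ.1 r = 0) :
    ∃ g : A ⟶ B, HomSet.map g π = φ := by
  classical
  let s : A → R := Function.surjInv hπ
  have hs : ∀ a, π.1 (s a) = a := Function.surjInv_eq hπ
  have key : ∀ r, φ.1 (s (π.1 r)) = φ.1 r := by
    intro r
    rw [← sub_eq_zero, ← map_sub]
    apply h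
    rw [map_sub, hs, sub_self]
  let g₀ : A →ₐ[Λ] B :=
    { toFun := fun a => φ.1 (s a)
      map_one' := by
        have := key 1
        rw [map_one, map_one] at this
        exact this
      map_mul' := by
        intro a a'
        obtain ⟨r, rfl⟩ := hπ a
        obtain ⟨r', rfl⟩ := hπ a'
        rw [← map_mul, key, key, key, map_mul]
      map_zero' := by
        have := key 0
        rw [map_zero, map_zero] at this
        exact this
      map_add' := by
        intro a a'
        obtain ⟨r, rfl⟩ := hπ a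
        obtain ⟨r', rfl⟩ := hπ a'
        rw [← map_add, key, key, key, map_add]
      commutes' := by
        intro l
        have := key (algebraMap Λ R l)
        rw [AlgHom.commutes, AlgHom.commutes] at this
        exact this }
  have hg₀ : ∀ r, g₀ (π.1 r) = φ.1 r := key
  refine ⟨⟨g₀, ?_⟩, ?_⟩
  · apply AlgHom.ext
    intro a
    obtain ⟨r, rfl⟩ := hπ a
    show B.res (g₀ (π.1 r)) = A.res (π.1 r)
    rw [hg₀]
    have h1 : B.res (φ.1 r) = resR r := congrArg (fun ψ : R →ₐ[Λ] k => ψ r) φ.2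
    have h2 : A.res (π.1 r) = resR r := congrArg (fun ψ : R →ₐ[Λ] k => ψ r) π.2
    rw [h1, h2]
  · apply Subtype.ext
    apply AlgHom.ext
    intro r
    exact hg₀ r

theorem H6_homSet_epi {A B : Art Λ k} (π : HomSet R resR A) (hπ : Function.Surjective π.1)
    (g g' : A ⟶ B) (h : HomSet.map g π = HomSet.map g' π) : g = g' := by
  apply Art.hom_ext
  apply AlgHom.ext
  intro a
  obtain ⟨r, rfl⟩ := hπ a
  exact congrArg (fun ψ : HomSet R resR B => ψ.1 r) h

theorem H6_art_epi {A B C : Art Λ k} (q : A ⟶ B) (hq : Function.Surjective q) (g g' : B ⟶ C)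
    (h : q ≫ g = q ≫ g') : g = g' := by
  apply Art.hom_ext
  apply AlgHom.ext
  intro b
  obtain ⟨a, rfl⟩ := hq b
  exact congrArg (fun ψ : A ⟶ C => ψ a) h

end Factor

section CringArt

/-- Quotient of a coefficient ring by an ideal containing a power of the maximal ideal, as an object. -/
noncomputable def H6_cringArt (P : CRing Λ k) (c : Ideal P.carrier)
    (hc : c ≤ IsLocalRing.maximalIdeal P.carrier) (N : ℕ) (hN : P.mpow N ≤ c) : Art Λ k :=
  haveI : Nontrivial (P.carrier ⧸ c) :=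
    Ideal.Quotient.nontrivial_iff.2 (fun h => (IsLocalRing.maximalIdeal.isMaximal P.carrier).ne_top
      (top_le_iff.1 (h ▸ hc)))
  haveI : IsLocalRing (P.carrier ⧸ c) :=
    IsLocalRing.of_surjective' (Ideal.Quotient.mk c) Ideal.Quotient.mk_surjective
  haveI : IsArtinianRing (P.carrier ⧸ P.mpow N) := CRing.isArtinianRing_quot_mpow P N
  haveI : IsArtinianRing (P.carrier ⧸ c) :=
    (Ideal.Quotient.factor_surjective hN).isArtinianRing
  { carrier := P.carrier ⧸ c
    res := Ideal.Quotient.liftₐ c P.res (fun a ha => (CRing.mem_maximalIdeal_iff P a).1 (hc ha))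
    res_surjective := fun x => by
      obtain ⟨a, ha⟩ := P.res_surjective x
      exact ⟨Ideal.Quotient.mk c a, ha⟩ }

noncomputable def H6_cringArtMk (P : CRing Λ k) (c : Ideal P.carrier)
    (hc : c ≤ IsLocalRing.maximalIdeal P.carrier) (N : ℕ) (hN : P.mpow N ≤ c) :
    HomSet P.carrier P.res (H6_cringArt P c hc N hN) :=
  ⟨Ideal.Quotient.mkₐ Λ c, AlgHom.ext fun _ => rfl⟩

theorem H6_cringArtMk_surjective (P : CRing Λ k) (c : Ideal P.carrier)
    (hc : c ≤ IsLocalRing.maximalIdeal P.carrier) (N : ℕ) (hN : P.mpow N ≤ c) :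
    Function.Surjective (H6_cringArtMk P c hc N hN).1 := Ideal.Quotient.mk_surjective

theorem H6_cringArtMk_eq_zero_iff (P : CRing Λ k) (c : Ideal P.carrier)
    (hc : c ≤ IsLocalRing.maximalIdeal P.carrier) (N : ℕ) (hN : P.mpow N ≤ c) (a : P.carrier) :
    (H6_cringArtMk P c hc N hN).1 a = 0 ↔ a ∈ c := Ideal.Quotient.eq_zero_iff_mem

end CringArt

/-- A stage of the construction of a versal family: an Artinian quotient of `P` with an element of `F`. -/
structure H6_Stage (P : CRing Λ k) (F : Art Λ k ⥤ Type v) where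
  /-- the Artinian quotient -/
  R : Art Λ k
  /-- the quotient map -/
  π : HomSet P.carrier P.res R
  hπ : Function.Surjective π.1
  /-- the element -/
  ξ : F.obj R

theorem H6_homSet_res_app {R : Type u} [CommRing R] [Algebra Λ R] {resR : R →ₐ[Λ] k} {A : Art Λ k}
    (φ : HomSet R resR A) (r : R) : A.res (φ.1 r) = resR r :=
  congrArg (fun ψ : R →ₐ[Λ] k => ψ r) φ.2

theorem H6_stage_step [IsNoetherianRing Λ] [Module.Finite Λ k] {F : Art Λ k ⥤ Type v} (h1 : S1 F)
    (P : CRing Λ k) (hP : IsSmoothFunctor (hR P.carrier P.res)) (s : H6_Stage P F) :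
    ∃ (s' : H6_Stage P F) (τ : s'.R ⟶ s.R), HomSet.map τ s'.π = s.π ∧ F.map τ s'.ξ = s.ξ ∧
      ∀ ⦃B A : Art Λ k⦄ (μ : B ⟶ A), IsSmallExt μ → ∀ (g : s.R ⟶ A) (y : F.obj B),
        F.map μ y = F.map g s.ξ → ∃ g' : s'.R ⟶ B, g' ≫ μ = τ ≫ g := by
  classical
  set m := IsLocalRing.maximalIdeal P.carrier with hm
  set Jq : Ideal P.carrier := RingHom.ker s.π.1 with hJq
  have hmemJq : ∀ a, a ∈ Jq ↔ s.π.1 a = 0 := fun a => RingHom.mem_ker
  obtain ⟨N, hN⟩ := H6_homSet_kills_mpow P s.π
  have hNJ : P.mpow N ≤ Jq := fun x hx => (hmemJq x).2 (hN x hx)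
  let c : Ideal P.carrier := m * Jq
  have hc : c ≤ m := Ideal.mul_le_left
  have hcJ : c ≤ Jq := Ideal.mul_le_right
  have hcN : P.mpow (N + 1) ≤ c := by
    show m ^ (N + 1 + 1) ≤ m * Jq
    rw [pow_succ']
    exact Ideal.mul_mono_right hNJ
  let B₀ := H6_cringArt P c hc (N + 1) hcN
  let β := H6_cringArtMk P c hc (N + 1) hcN
  have hβ : Function.Surjective β.1 := H6_cringArtMk_surjective P c hc (N + 1) hcN
  have hβ0 : ∀ a, β.1 a = 0 ↔ a ∈ c := H6_cringArtMk_eq_zero_iff P c hc (N + 1) hcN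
  obtain ⟨p₀, hp₀⟩ := H6_homSet_factor β hβ s.π (fun r hr => (hmemJq r).1 (hcJ ((hβ0 r).1 hr)))
  have hp₀app : ∀ a, p₀ (β.1 a) = s.π.1 a := fun a =>
    congrArg (fun ψ : HomSet P.carrier P.res s.R => ψ.1 a) hp₀
  have hp₀surj : Function.Surjective p₀ := by
    intro r
    obtain ⟨a, rfl⟩ := s.hπ r
    exact ⟨β.1 a, hp₀app a⟩
  have hp₀semi : IsSemismallExt p₀ := by
    refine ⟨hp₀surj, ?_⟩
    rw [eq_bot_iff]
    intro x hx
    refine Submodule.mul_induction_on hx ?_ ?_
    · intro x hx y hy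
      obtain ⟨a, rfl⟩ := hβ x
      obtain ⟨j, rfl⟩ := hβ y
      have ha : a ∈ m := by
        rw [hm, CRing.mem_maximalIdeal_iff, ← H6_homSet_res_app β a]
        exact (Art.mem_maximalIdeal_iff B₀ _).1 hx
      have hj : j ∈ Jq := by
        rw [hmemJq, ← hp₀app]
        exact hy
      rw [Ideal.mem_bot, ← map_mul, hβ0]
      exact Ideal.mul_mem_mul ha hj
    · intro a b ha hb
      exact Ideal.add_mem _ ha hb
  obtain ⟨a₀, ⟨ha₀ker, ha₀m, y₀, hy₀⟩, hmin⟩ := H6_exists_least_liftable h1 p₀ hp₀semi s.ξ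
  let R' := Art.quot B₀ a₀ ha₀m
  let qm : B₀ ⟶ R' := Art.quotMk B₀ a₀ ha₀m
  let τ : R' ⟶ s.R := Art.quotFactor ha₀m p₀ ha₀ker
  have hqmτ : qm ≫ τ = p₀ := Art.quotMk_quotFactor ha₀m p₀ ha₀ker
  let s' : H6_Stage P F :=
    ⟨R', HomSet.map qm β, (Art.quotMk_surjective B₀ a₀ ha₀m).comp hβ, y₀⟩
  refine ⟨s', τ, ?_, hy₀, ?_⟩
  · show HomSet.map τ (HomSet.map qm β) = s.π
    rw [← H6_homSet_map_comp, hqmτ, hp₀]
  · intro B A μ hμ g y hy
    obtain ⟨C, pr₁, pr₂, hfp⟩ := H6_art_pullback_exists g μ hμ.1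
    obtain ⟨t, ht⟩ := hμ.2.2.1
    have ht' : RingHom.ker μ.toAlgHom = Ideal.span {t} := ht
    obtain ⟨tC, htC1, htC2, hkerpr₁, hpr₁small⟩ := H6_smallExt_baseChange hfp hμ t ht'
    obtain ⟨z, hz⟩ := h1 pr₁ pr₂ g μ hfp hμ.1 ⟨(s.ξ, y), hy.symm⟩
    have hz1 : F.map pr₁ z = s.ξ := congrArg (fun w => w.1.1) hz
    obtain ⟨h, hh⟩ := hP pr₁ hpr₁small.1 s.π
    have hh' : HomSet.map pr₁ h = s.π := hh
    have hh'app : ∀ a, pr₁ (h.1 a) = s.π.1 a := fun a =>
      congrArg (fun ψ : HomSet P.carrier P.res s.R => ψ.1 a) hh'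
    have hkillC : ∀ x ∈ IsLocalRing.maximalIdeal C, ∀ w ∈ RingHom.ker pr₁.toAlgHom, x * w = 0 := by
      intro x hx w hw
      have : x * w ∈ IsLocalRing.maximalIdeal C * RingHom.ker pr₁.toAlgHom := Ideal.mul_mem_mul hx hw
      rw [hpr₁small.2.2.2] at this
      exact this
    have hhc : ∀ r, β.1 r = 0 → h.1 r = 0 := by
      intro r hr
      have hrc : r ∈ c := (hβ0 r).1 hr
      refine Submodule.mul_induction_on hrc ?_ ?_
      · intro a ha j hj
        rw [map_mul]
        apply hkillC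
        · rw [Art.mem_maximalIdeal_iff, H6_homSet_res_app h a]
          exact (CRing.mem_maximalIdeal_iff P a).1 ha
        · rw [RingHom.mem_ker]
          show pr₁ (h.1 j) = 0
          rw [hh'app]
          exact (hmemJq j).1 hj
      · intro a b ha hb
        rw [map_add, ha, hb, add_zero]
    obtain ⟨hbar, hhbar⟩ := H6_homSet_factor β hβ h hhc
    have hhbarapp : ∀ a, hbar (β.1 a) = h.1 a := fun a =>
      congrArg (fun ψ : HomSet P.carrier P.res C => ψ.1 a) hhbar
    have hbar_pr₁ : hbar ≫ pr₁ = p₀ := by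
      apply H6_homSet_epi β hβ
      rw [H6_homSet_map_comp, hhbar, hh', hp₀]
    have hbar_pr₁app : ∀ b, pr₁ (hbar b) = p₀ b := fun b =>
      congrArg (fun ψ : B₀ ⟶ s.R => ψ b) hbar_pr₁
    have hclaim : a₀ ≤ RingHom.ker hbar.toAlgHom := by
      by_cases hsurj : Function.Surjective hbar
      · apply hmin
        obtain ⟨_, hKm, y', hy'⟩ := H6_liftable_ker (F := F) hbar hsurj z
        have hKle : RingHom.ker hbar.toAlgHom ≤ RingHom.ker p₀.toAlgHom := by
          intro b hb
          rw [RingHom.mem_ker] at hb ⊢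
          show p₀ b = 0
          rw [← hbar_pr₁app]
          have : hbar b = 0 := hb
          rw [this]
          exact map_zero pr₁.toAlgHom
        refine ⟨hKle, hKm, y', ?_⟩
        have e : Art.quotFactor hKm p₀ hKle = Art.quotFactor hKm hbar le_rfl ≫ pr₁ := by
          apply H6_quot_hom_ext
          intro b
          show p₀ b = pr₁ (hbar b)
          rw [hbar_pr₁app]
        rw [e, FunctorToTypes.map_comp_apply, hy', hz1]
      · apply ha₀ker.trans
        intro b hb
        rw [RingHom.mem_ker]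
        by_contra hne
        apply hsurj
        have hbk : hbar b ∈ RingHom.ker pr₁.toAlgHom := by
          rw [RingHom.mem_ker]
          show pr₁ (hbar b) = 0
          rw [hbar_pr₁app]
          exact hb
        have hbk' := hbk
        rw [hkerpr₁] at hbk'
        obtain ⟨c₁, hc₁⟩ := Ideal.mem_span_singleton'.1 hbk'
        have htCk : tC ∈ RingHom.ker pr₁.toAlgHom := by
          rw [hkerpr₁]; exact Ideal.mem_span_singleton_self tC
        have hc₁res : C.res c₁ ≠ 0 := by
          intro h0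
          apply hne
          show hbar b = 0
          rw [← hc₁]
          exact hkillC c₁ ((Art.mem_maximalIdeal_iff C c₁).2 h0) tC htCk
        intro c'
        obtain ⟨b', hb'⟩ := hp₀surj (pr₁ c')
        have hdk : c' - hbar b' ∈ RingHom.ker pr₁.toAlgHom := by
          rw [RingHom.mem_ker, map_sub]
          show pr₁ c' - pr₁ (hbar b') = 0
          rw [hbar_pr₁app, hb', sub_self]
        rw [hkerpr₁] at hdk
        obtain ⟨d, hd⟩ := Ideal.mem_span_singleton'.1 hdk
        obtain ⟨b'', hb''⟩ := B₀.res_surjective (C.res d / C.res c₁)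
        have hmC : hbar b'' * c₁ - d ∈ IsLocalRing.maximalIdeal C := by
          rw [Art.mem_maximalIdeal_iff, map_sub, map_mul, Art.res_app hbar b'', hb'',
            div_mul_cancel₀ _ hc₁res, sub_self]
        have h0 := hkillC _ hmC tC htCk
        rw [sub_mul, sub_eq_zero, mul_assoc, hc₁] at h0
        refine ⟨b' + b'' * b, ?_⟩
        show hbar (b' + b'' * b) = c'
        rw [map_add hbar.toAlgHom, map_mul hbar.toAlgHom]
        show hbar b' + hbar b'' * hbar b = c'
        rw [h0, hd]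
        ring
    let g'₀ : R' ⟶ C := Art.quotFactor ha₀m hbar hclaim
    have hg'₀ : g'₀ ≫ pr₁ = τ := by
      apply H6_quot_hom_ext
      intro b
      show pr₁ (hbar b) = p₀ b
      exact hbar_pr₁app b
    refine ⟨g'₀ ≫ pr₂, ?_⟩
    rw [Category.assoc, ← hfp.w, ← Category.assoc, hg'₀]

end Groth.Agent.Lib.helper6
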