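import Mathlib
import Groth.Prelude.Def_ArtFun5
import Groth.Agent.Lib.helper6.SchlessStep
import Groth.Agent.Lib.helper6.SmoothRing
import Groth.Agent.Lib.helper6.CRingQuot
import Groth.Agent.Lib.helper6.Chevalley
import Groth.Agent.Lib.helper6.ArtFirstOrder
import Groth.Agent.S12728

set_option autoImplicit false
universe u v

open ArtFun ArtFun.Art CategoryTheory

namespace Groth.Agent.Lib.helper6

variable {Λ : Type u} {k : Type u} [CommRing Λ] [Field k] [Algebra Λ k]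

/-- Existence of a versal family (Schlessinger's construction). -/
theorem H6_hasVersal [IsNoetherianRing Λ] [Module.Finite Λ k] (F : Art Λ k ⥤ Type v) [TangentStr F]
    (h0 : H0 F) (h1 : S1 F) (h2 : Heps F) (h3 : Hfin F) : HasVersal F := by
  classical
  obtain ⟨E, ξE, hE⟩ := H6_exists_tangent_surjective F h0 h2 h3
  obtain ⟨P, hP, πE, hπE⟩ := H6_exists_smooth_cover E
  let s₀ : H6_Stage P F := ⟨E, πE, hπE, ξE⟩
  choose nxt τ' hτπ hτξ hKP using H6_stage_step h1 P hP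
  let S : ℕ → H6_Stage P F := fun n => Nat.rec s₀ (fun _ s => nxt s) n
  have hS0 : S 0 = s₀ := rfl
  have hSsucc : ∀ n, S (n + 1) = nxt (S n) := fun n => rfl
  -- composite transitions
  have trans : ∀ q d, ∃ T : (S (q + d)).R ⟶ (S q).R,
      HomSet.map T (S (q + d)).π = (S q).π ∧ F.map T (S (q + d)).ξ = (S q).ξ := by
    intro q d
    induction d with
    | zero => exact ⟨𝟙 _, H6_homSet_map_id _, FunctorToTypes.map_id_apply _ _⟩
    | succ d ih =>
      obtain ⟨T, hT1, hT2⟩ := ih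
      refine ⟨τ' (S (q + d)) ≫ T, ?_, ?_⟩
      · show HomSet.map (τ' (S (q + d)) ≫ T) (nxt (S (q + d))).π = _
        rw [H6_homSet_map_comp, hτπ, hT1]
      · show F.map (τ' (S (q + d)) ≫ T) (nxt (S (q + d))).ξ = _
        rw [FunctorToTypes.map_comp_apply, hτξ, hT2]
  have WD' : ∀ {A : Art Λ k} (q d : ℕ) (g : (S q).R ⟶ A) (g' : (S (q + d)).R ⟶ A),
      HomSet.map g (S q).π = HomSet.map g' (S (q + d)).π →
        F.map g (S q).ξ = F.map g' (S (q + d)).ξ := by
    intro A q d g g' hgg'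
    obtain ⟨T, hT1, hT2⟩ := trans q d
    have : T ≫ g = g' := by
      apply H6_homSet_epi (S (q + d)).π (S (q + d)).hπ
      rw [H6_homSet_map_comp, hT1, hgg']
    rw [← this, FunctorToTypes.map_comp_apply, hT2]
  have WD : ∀ {A : Art Λ k} (q q' : ℕ) (g : (S q).R ⟶ A) (g' : (S q').R ⟶ A),
      HomSet.map g (S q).π = HomSet.map g' (S q').π → F.map g (S q).ξ = F.map g' (S q').ξ := by
    intro A q q' g g' hgg'
    rcases le_total q q' with hle | hle
    · obtain ⟨d, rfl⟩ := Nat.exists_eq_add_of_le hle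
      exact WD' q d g g' hgg'
    · obtain ⟨d, rfl⟩ := Nat.exists_eq_add_of_le hle
      exact (WD' q' d g' g hgg'.symm).symm
  -- the ideals
  let J : ℕ → Ideal P.carrier := fun n => RingHom.ker (S n).π.1
  have hJmem : ∀ n a, a ∈ J n ↔ (S n).π.1 a = 0 := fun n a => RingHom.mem_ker
  have hJsucc : ∀ n, J (n + 1) ≤ J n := by
    intro n a ha
    have ha' := (hJmem (n + 1) a).1 ha
    apply (hJmem n a).2
    have e : (S n).π.1 a = (τ' (S n)) ((S (n + 1)).π.1 a) :=
      (congrArg (fun ψ : HomSet P.carrier P.res (S n).R => ψ.1 a) (hτπ (S n))).symm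
    rw [e, ha']
    exact map_zero (τ' (S n)).toAlgHom
  have hJanti : Antitone J := antitone_nat_of_succ_le hJsucc
  let Jinf : Ideal P.carrier := ⨅ n, J n
  have hJ0m : J 0 ≤ IsLocalRing.maximalIdeal P.carrier := by
    intro a ha
    rw [CRing.mem_maximalIdeal_iff, ← H6_homSet_res_app (S 0).π a, (hJmem 0 a).1 ha]
    exact map_zero _
  have hJinfm : Jinf ≤ IsLocalRing.maximalIdeal P.carrier := (iInf_le J 0).trans hJ0m
  let R := H6_cringQuot P Jinf hJinfm
  -- factorisation through some stage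
  have hex : ∀ {A : Art Λ k} (φ : HomSet P.carrier P.res A), (∀ j ∈ Jinf, φ.1 j = 0) →
      ∃ (q : ℕ) (g : (S q).R ⟶ A), HomSet.map g (S q).π = φ := by
    intro A φ hφ
    obtain ⟨N, hN⟩ := H6_homSet_kills_mpow P φ
    obtain ⟨q, hq⟩ := H6_chevalley P J hJanti (N + 1)
    have hkill : ∀ r, (S q).π.1 r = 0 → φ.1 r = 0 := by
      intro r hr
      have hr' : r ∈ Jinf ⊔ IsLocalRing.maximalIdeal P.carrier ^ (N + 1) := hq ((hJmem q r).2 hr)
      obtain ⟨a, ha, b, hb, rfl⟩ := Submodule.mem_sup.1 hr'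
      rw [map_add, hφ a ha, hN b hb, add_zero]
    obtain ⟨g, hg⟩ := H6_homSet_factor (S q).π (S q).hπ φ hkill
    exact ⟨q, g, hg⟩
  have hexR : ∀ {A : Art Λ k} (φ : HomSet R.carrier R.res A),
      ∃ (q : ℕ) (g : (S q).R ⟶ A), HomSet.map g (S q).π = H6_cringQuotRestr P Jinf hJinfm φ :=
    fun φ => hex _ (H6_cringQuotRestr_kills P Jinf hJinfm φ)
  choose qq gg hgg using @hexR
  let ξ : Family R.carrier R.res F :=
    { app := fun A φ => F.map (gg φ) (S (qq φ)).ξ
      natural := by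
        intro A B f φ
        show F.map (gg (HomSet.map f φ)) (S (qq (HomSet.map f φ))).ξ = F.map f (F.map (gg φ) (S (qq φ)).ξ)
        rw [← FunctorToTypes.map_comp_apply]
        apply WD
        rw [hgg, H6_homSet_map_comp, hgg, H6_cringQuotRestr_map] }
  have hξeval : ∀ {A : Art Λ k} (φ : HomSet R.carrier R.res A) (q : ℕ) (g : (S q).R ⟶ A),
      HomSet.map g (S q).π = H6_cringQuotRestr P Jinf hJinfm φ → ξ.app A φ = F.map g (S q).ξ := by
    intro A φ q g hg
    show F.map (gg φ) (S (qq φ)).ξ = F.map g (S q).ξ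
    apply WD
    rw [hgg, hg]
  have hkillJ : ∀ (q : ℕ) {A : Art Λ k} (g : (S q).R ⟶ A), ∀ j ∈ Jinf,
      (HomSet.map g (S q).π).1 j = 0 := by
    intro q A g j hj
    have hjq : j ∈ J q := (Ideal.mem_iInf.1 hj) q
    show g ((S q).π.1 j) = 0
    rw [(hJmem q j).1 hjq]
    exact map_zero g.toAlgHom
  refine ⟨⟨R, ξ, ?_⟩⟩
  rw [Groth.Agent.S12728.result h0 h1 h2 R ξ]
  constructor
  · intro v
    obtain ⟨χ, hχ⟩ := hE v
    let φ : HomSet R.carrier R.res (dual Λ k) :=
      H6_cringQuotLift P Jinf hJinfm (HomSet.map χ (S 0).π) (hkillJ 0 χ)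
    refine ⟨φ, ?_⟩
    show ξ.app _ φ = v
    rw [hξeval φ 0 χ (H6_cringQuotRestr_lift P Jinf hJinfm _ _).symm]
    exact hχ
  · intro B A μ hμ φ y hy
    have hy' : F.map μ y = F.map (gg φ) (S (qq φ)).ξ := hy
    obtain ⟨g', hg'⟩ := hKP (S (qq φ)) μ hμ (gg φ) y hy'
    let ψ : HomSet R.carrier R.res B :=
      H6_cringQuotLift P Jinf hJinfm (HomSet.map g' (S (qq φ + 1)).π) (hkillJ (qq φ + 1) g')
    refine ⟨ψ, ?_⟩
    have hinj : ∀ χ₁ χ₂ : HomSet R.carrier R.res A,
        H6_cringQuotRestr P Jinf hJinfm χ₁ = H6_cringQuotRestr P Jinf hJinfm χ₂ → χ₁ = χ₂ := by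
      intro χ₁ χ₂ h
      rw [← H6_cringQuotLift_restr P Jinf hJinfm χ₁, ← H6_cringQuotLift_restr P Jinf hJinfm χ₂]
      congr 1
    apply hinj
    rw [H6_cringQuotRestr_map, H6_cringQuotRestr_lift, ← hgg φ, ← H6_homSet_map_comp, hg',
      H6_homSet_map_comp]
    congr 1
    exact hτπ (S (qq φ))

end Groth.Agent.Lib.helper6
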