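import Mathlib
import Groth.Prelude.Def_ArtFun5
import Groth.Agent.Lib.helper6.SchlessVersal
import Groth.Agent.Lib.helper6.SchlessHull
import Groth.Agent.Lib.helper6.SchlessProRep
import Groth.Agent.Lib.helper6.ArtProRep
import Groth.Agent.S12731

set_option autoImplicit false
universe u v

open ArtFun ArtFun.Art CategoryTheory

namespace Groth.Agent.Lib.helper6

variable {Λ : Type u} {k : Type u} [CommRing Λ] [Field k] [Algebra Λ k]

/-- Schlessinger's criterion, sufficiency: `H0`, `Hbar`, `Heps`, `Hfin`, `HSq` give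
pro-representability when `k` has no nonzero `Λ`-derivations. -/
theorem H6_isProrepresentable [IsNoetherianRing Λ] [Module.Finite Λ k]
    (hk : Subsingleton (Derivation Λ k k)) (F : Art Λ k ⥤ Type v) [TangentStr F]
    (h0 : H0 F) (h1 : Hbar F) (h2 : Heps F) (h3 : Hfin F) (h4 : HSq F) : IsProrepresentable F := by
  have hS1 : S1 F := H6_s1_of_hbar F h1
  obtain ⟨⟨R, ξ, hvers⟩⟩ := H6_hasVersal F h0 hS1 h2 h3
  obtain ⟨⟨R', ξ', hmini⟩⟩ := H6_hasHull hk F h0 hS1 h2 R ξ hvers
  exact ⟨⟨R', ξ', H6_universal_of_miniversal F h0 h4 ξ' hmini⟩⟩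

/-- Necessity. -/
theorem H6_conditions_of_isProrepresentable [IsNoetherianRing Λ] [Module.Finite Λ k]
    (F : Art Λ k ⥤ Type v) [TangentStr F] (h0 : H0 F) (h : IsProrepresentable F) :
    IsLeftExact F ∧ Hfin F := by
  obtain ⟨⟨R, ξ, huniv⟩⟩ := h
  have hhull : HasHull F := ⟨⟨R, ξ, H6_versal_of_universal ξ huniv, huniv _⟩⟩
  obtain ⟨-, -, hfin⟩ := Groth.Agent.S12731.result F h0 hhull
  exact ⟨fun B A A' A'' p' p'' f' f'' h => H6_cmp_bijective_of_universal F ξ huniv h, hfin⟩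

end Groth.Agent.Lib.helper6
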