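import Mathlib
import Groth.Prelude.Def_CAlgX
import Groth.Agent.Lib.helper6.AdicProj
import Groth.Agent.Lib.helper6.DerivExtField

set_option autoImplicit false
set_option linter.style.haveILetI false
open TensorProduct

namespace Groth.Agent.Lib.helper6

universe u

/-- derivations into a "residue" algebra extend along an adically formally smooth map. -/
theorem H6_deriv_ext_resid (k A κ : Type u) [CommRing k] [CommRing A] [CommRing κ] [Algebra k A]
    [Algebra A κ] [Algebra k κ] [IsScalarTower k A κ] (𝔪 : Ideal A)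
    (h𝔪 : ∀ x ∈ 𝔪, algebraMap A κ x = 0)
    (hfs : CAlgX.IsAdicFormallySmooth k A 𝔪)
    (D : k → κ) (hD1 : D 1 = 0) (hDadd : ∀ a b, D (a + b) = D a + D b)
    (hDmul : ∀ a b, D (a * b) = algebraMap k κ a * D b + algebraMap k κ b * D a) :
    ∃ D' : A → κ, (∀ a b, D' (a + b) = D' a + D' b) ∧
      (∀ a b, D' (a * b) = algebraMap A κ a * D' b + algebraMap A κ b * D' a) ∧
      ∀ c : k, D' (algebraMap k A c) = D c := by
  have hD0 : D 0 = 0 := by
    have := hDadd 0 0
    rw [add_zero] at this
    exact (add_eq_left.mp this.symm)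
  let τ : k →+* TrivSqZeroExt κ κ :=
    { toFun := fun c => TrivSqZeroExt.inl (algebraMap k κ c) + TrivSqZeroExt.inr (D c)
      map_one' := by
        ext
        · simp
        · simp [hD1]
      map_mul' := fun x y => by
        ext
        · simp
        · simp only [hDmul, smul_eq_mul, TrivSqZeroExt.snd_add,
            TrivSqZeroExt.snd_inl, TrivSqZeroExt.snd_inr, zero_add, TrivSqZeroExt.snd_mul,
            TrivSqZeroExt.fst_add, TrivSqZeroExt.fst_inl, TrivSqZeroExt.fst_inr, add_zero,
            op_smul_eq_smul]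
      map_zero' := by
        ext
        · simp
        · simp [hD0]
      map_add' := fun x y => by
        ext
        · simp
        · simp only [hDadd, TrivSqZeroExt.snd_add, TrivSqZeroExt.snd_inl, TrivSqZeroExt.snd_inr,
            zero_add] }
  letI : Algebra k (TrivSqZeroExt κ κ) := τ.toAlgebra
  have halg : ∀ c : k, algebraMap k (TrivSqZeroExt κ κ) c =
      TrivSqZeroExt.inl (algebraMap k κ c) + TrivSqZeroExt.inr (D c) := fun _ => rfl
  let J : Ideal (TrivSqZeroExt κ κ) :=
    RingHom.ker (TrivSqZeroExt.fstHom κ κ κ : TrivSqZeroExt κ κ →ₐ[κ] κ).toRingHom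
  have hJmem : ∀ x : TrivSqZeroExt κ κ, x ∈ J ↔ x.fst = 0 := fun x => Iff.rfl
  have hJ2 : J ^ 2 = ⊥ := by
    rw [← le_bot_iff, pow_two, Ideal.mul_le]
    intro x hx y hy
    rw [H6_tsze_mul_eq_zero (C := κ) (N := κ) x y ((hJmem x).1 hx) ((hJmem y).1 hy)]
    exact zero_mem _
  let ψ : A →ₐ[k] TrivSqZeroExt κ κ ⧸ J :=
    { toRingHom := (Ideal.Quotient.mk J).comp ((TrivSqZeroExt.inlHom κ κ).comp (algebraMap A κ))
      commutes' := fun c => by
        show Ideal.Quotient.mk J (TrivSqZeroExt.inl (algebraMap A κ (algebraMap k A c))) =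
          Ideal.Quotient.mk J (algebraMap k (TrivSqZeroExt κ κ) c)
        rw [Ideal.Quotient.eq, hJmem, halg, ← IsScalarTower.algebraMap_apply]
        simp }
  have hψ : ∀ a, ψ a = Ideal.Quotient.mk J (TrivSqZeroExt.inl (algebraMap A κ a)) := fun _ => rfl
  obtain ⟨χ, hχ⟩ := hfs (TrivSqZeroExt κ κ) J hJ2 ψ ⟨1, fun x hx => by
    rw [pow_one] at hx
    rw [hψ, h𝔪 x hx, TrivSqZeroExt.inl_zero, map_zero]⟩
  have hfst : ∀ a, (χ a).fst = algebraMap A κ a := by
    intro a
    have h1 : Ideal.Quotient.mk J (χ a) = ψ a := AlgHom.congr_fun hχ a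
    rw [hψ, Ideal.Quotient.eq, hJmem] at h1
    simpa [sub_eq_zero] using h1
  refine ⟨fun a => (χ a).snd, fun a b => ?_, fun a b => ?_, fun c => ?_⟩
  · show (χ (a + b)).snd = _
    rw [map_add, TrivSqZeroExt.snd_add]
  · show (χ (a * b)).snd = _
    rw [map_mul, TrivSqZeroExt.snd_mul, hfst, hfst, op_smul_eq_smul, smul_eq_mul, smul_eq_mul]
  · show (χ (algebraMap k A c)).snd = _
    rw [χ.commutes, halg]
    simp

end Groth.Agent.Lib.helper6

namespace Groth.Agent.Lib.helper6

universe u

theorem H6_inj_of_deriv_ext' (k K κ : Type u) [Field k] [Field K] [Field κ] [Algebra k K]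
    [Algebra K κ] [Algebra k κ] [IsScalarTower k K κ]
    (hext : ∀ D : Derivation ℤ k K, ∃ D'' : Derivation ℤ K κ,
      ∀ a : k, D'' (algebraMap k K a) = algebraMap K κ (D a)) :
    Function.Injective (KaehlerDifferential.mapBaseChange ℤ k K) := by
  rw [injective_iff_map_eq_zero]
  intro y hy
  by_contra hy0
  obtain ⟨φ, hφ⟩ : ∃ φ : Module.Dual K (K ⊗[k] Ω[k⁄ℤ]), φ y ≠ 0 := by
    by_contra hcon
    push_neg at hcon
    exact hy0 ((Module.forall_dual_apply_eq_zero_iff K y).mp hcon)
  let ψ : Ω[k⁄ℤ] →ₗ[k] K := (φ.restrictScalars k).comp (TensorProduct.mk k K Ω[k⁄ℤ] 1)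
  obtain ⟨D'', hD''⟩ := hext (ψ.compDer (KaehlerDifferential.D ℤ k))
  have hψ : ((Algebra.linearMap K κ).restrictScalars k).comp ψ =
      (D''.liftKaehlerDifferential.restrictScalars k).comp
      (KaehlerDifferential.map ℤ ℤ k K) := by
    apply Derivation.liftKaehlerDifferential_unique
    ext a
    show algebraMap K κ (ψ (KaehlerDifferential.D ℤ k a)) =
      D''.liftKaehlerDifferential (KaehlerDifferential.map ℤ ℤ k K (KaehlerDifferential.D ℤ k a))
    rw [KaehlerDifferential.map_D, Derivation.liftKaehlerDifferential_comp_D, hD'']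
    rfl
  have hφeq : ∀ z : K ⊗[k] Ω[k⁄ℤ], algebraMap K κ (φ z) =
      D''.liftKaehlerDifferential (KaehlerDifferential.mapBaseChange ℤ k K z) := by
    intro z
    induction z using TensorProduct.induction_on with
    | zero => simp
    | tmul b ω =>
      rw [KaehlerDifferential.mapBaseChange_tmul, map_smul]
      have : b ⊗ₜ[k] ω = b • ((1 : K) ⊗ₜ[k] ω) := by
        rw [TensorProduct.smul_tmul', smul_eq_mul, mul_one]
      rw [this, map_smul, smul_eq_mul, map_mul, Algebra.smul_def]
      congr 1
      exact LinearMap.congr_fun hψ ω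
    | add a b ha hb => rw [map_add, map_add, map_add, map_add, ha, hb]
  apply hφ
  have h0 : algebraMap K κ (φ y) = 0 := by rw [hφeq, hy, map_zero]
  exact (map_eq_zero (algebraMap K κ)).mp h0

end Groth.Agent.Lib.helper6

namespace Groth.Agent.Lib.helper6

universe u

theorem H6_subfield_sep (k A K : Type u) [Field k] [CommRing A] [IsLocalRing A] [Algebra k A]
    (h : CAlgX.IsAdicFormallySmooth k A (IsLocalRing.maximalIdeal A))
    [Field K] [Algebra k K] [Algebra K A] [IsScalarTower k K A] :
    Algebra.IsGeometricallyReduced k K := by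
  apply H6_geomRed_of_kaehler_inj_int
  haveI : IsScalarTower K A (IsLocalRing.ResidueField A) := inferInstance
  haveI : IsScalarTower k A (IsLocalRing.ResidueField A) := inferInstance
  haveI : IsScalarTower k K (IsLocalRing.ResidueField A) :=
    IsScalarTower.of_algebraMap_eq (fun c => by
      rw [IsScalarTower.algebraMap_apply k A (IsLocalRing.ResidueField A),
        IsScalarTower.algebraMap_apply K A (IsLocalRing.ResidueField A),
        ← IsScalarTower.algebraMap_apply k K A])
  apply H6_inj_of_deriv_ext' k K (IsLocalRing.ResidueField A)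
  intro D₀
  obtain ⟨D', hadd, hmul, hext⟩ := H6_deriv_ext_resid k A (IsLocalRing.ResidueField A)
    (IsLocalRing.maximalIdeal A)
    (fun x hx => (IsLocalRing.residue_eq_zero_iff x).mpr hx) h
    (fun c => algebraMap K (IsLocalRing.ResidueField A) (D₀ c))
    (by simp) (fun a b => by simp [map_add])
    (fun a b => by
      show algebraMap K (IsLocalRing.ResidueField A) (D₀ (a * b)) = _
      rw [Derivation.leibniz, map_add, Algebra.smul_def, Algebra.smul_def, map_mul, map_mul,
        ← IsScalarTower.algebraMap_apply k K, ← IsScalarTower.algebraMap_apply k K])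
  have h1 : D' 1 = 0 := by
    have := hmul 1 1
    rw [mul_one, map_one, one_mul] at this
    exact add_eq_left.mp this.symm
  let f : K →+ IsLocalRing.ResidueField A :=
    AddMonoidHom.mk' (fun a => D' (algebraMap K A a)) (fun a b => by rw [map_add, hadd])
  refine ⟨{ toLinearMap := f.toIntLinearMap, map_one_eq_zero' := ?_, leibniz' := ?_ }, ?_⟩
  · show D' (algebraMap K A 1) = 0
    rw [map_one, h1]
  · intro a b
    show D' (algebraMap K A (a * b)) = a • D' (algebraMap K A b) + b • D' (algebraMap K A a)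
    rw [map_mul, hmul, Algebra.smul_def, Algebra.smul_def,
      ← IsScalarTower.algebraMap_apply K A, ← IsScalarTower.algebraMap_apply K A]
  · intro c
    show D' (algebraMap K A (algebraMap k K c)) = _
    rw [← IsScalarTower.algebraMap_apply k K A, hext]

end Groth.Agent.Lib.helper6
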