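import Mathlib
import Groth.Agent.Lib.helper6.AdicProj

set_option autoImplicit false
set_option linter.style.haveILetI false

namespace Groth.Agent.Lib.helper6

universe u
open TensorProduct

theorem H6_sym_omega_bijective (A : Type u) [CommRing A] (M : Type u)
    [AddCommGroup M] [Module A M] :
    Function.Bijective (LinearMap.liftBaseChange (SymmetricAlgebra A M)
      ((KaehlerDifferential.D A (SymmetricAlgebra A M)).toLinearMap.restrictScalars A ∘ₗ
        SymmetricAlgebra.ι A M)) := by
  classical
  let ℓ : M →ₗ[A] TrivSqZeroExt (SymmetricAlgebra A M) (SymmetricAlgebra A M ⊗[A] M) :=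
    (TrivSqZeroExt.inlAlgHom A (SymmetricAlgebra A M) (SymmetricAlgebra A M ⊗[A] M)).toLinearMap ∘ₗ
      SymmetricAlgebra.ι A M +
    ((TrivSqZeroExt.inrHom (SymmetricAlgebra A M) (SymmetricAlgebra A M ⊗[A] M)).restrictScalars
      A) ∘ₗ (TensorProduct.mk A (SymmetricAlgebra A M) M 1)
  have hℓ1 : ∀ m, (ℓ m).fst = SymmetricAlgebra.ι A M m := fun m => by simp [ℓ]
  have hℓ2 : ∀ m, (ℓ m).snd = (1 : SymmetricAlgebra A M) ⊗ₜ[A] m := fun m => by simp [ℓ]
  let v : SymmetricAlgebra A M →ₐ[A]
      TrivSqZeroExt (SymmetricAlgebra A M) (SymmetricAlgebra A M ⊗[A] M) :=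
    SymmetricAlgebra.lift ℓ
  have hvι : ∀ m, v (SymmetricAlgebra.ι A M m) = ℓ m := fun m =>
    SymmetricAlgebra.lift_ι_apply ℓ m
  have hv : ∀ c, (v c).fst = algebraMap (SymmetricAlgebra A M) (SymmetricAlgebra A M) c := by
    have h1 : (TrivSqZeroExt.fstHom A (SymmetricAlgebra A M)
        (SymmetricAlgebra A M ⊗[A] M)).comp v = AlgHom.id A (SymmetricAlgebra A M) := by
      apply SymmetricAlgebra.algHom_ext
      ext m
      show (v (SymmetricAlgebra.ι A M m)).fst = SymmetricAlgebra.ι A M m
      rw [hvι, hℓ1]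
    intro c
    exact congrArg (fun g => g c) h1
  let D : Derivation A (SymmetricAlgebra A M) (SymmetricAlgebra A M ⊗[A] M) := H6_homDeriv v hv
  have hDι : ∀ m, D (SymmetricAlgebra.ι A M m) = (1 : SymmetricAlgebra A M) ⊗ₜ[A] m := by
    intro m
    show (v (SymmetricAlgebra.ι A M m)).snd = _
    rw [hvι, hℓ2]
  let L := D.liftKaehlerDifferential
  set φ := LinearMap.liftBaseChange (SymmetricAlgebra A M)
      ((KaehlerDifferential.D A (SymmetricAlgebra A M)).toLinearMap.restrictScalars A ∘ₗ
        SymmetricAlgebra.ι A M) with hφ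
  have hφt : ∀ (c : SymmetricAlgebra A M) (m : M), φ (c ⊗ₜ[A] m) =
      c • KaehlerDifferential.D A (SymmetricAlgebra A M) (SymmetricAlgebra.ι A M m) := by
    intro c m
    rw [hφ, LinearMap.liftBaseChange_tmul]
    rfl
  have h1 : L ∘ₗ φ = LinearMap.id := by
    apply TensorProduct.AlgebraTensorModule.ext
    intro c m
    rw [LinearMap.comp_apply, hφt, map_smul, LinearMap.id_apply]
    show c • D.liftKaehlerDifferential (KaehlerDifferential.D A _ (SymmetricAlgebra.ι A M m)) = _
    rw [Derivation.liftKaehlerDifferential_comp_D, hDι, TensorProduct.smul_tmul', smul_eq_mul,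
      mul_one]
  have h2 : φ ∘ₗ L = LinearMap.id := by
    apply Derivation.liftKaehlerDifferential_unique
    ext c
    show φ (D.liftKaehlerDifferential (KaehlerDifferential.D A _ c)) =
      KaehlerDifferential.D A _ c
    rw [Derivation.liftKaehlerDifferential_comp_D]
    induction c using SymmetricAlgebra.induction with
    | algebraMap r => rw [Derivation.map_algebraMap, Derivation.map_algebraMap, map_zero]
    | ι m => rw [hDι, hφt, one_smul]
    | mul a b ha hb =>
      rw [Derivation.leibniz, Derivation.leibniz, map_add, map_smul, map_smul, ha, hb]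
    | add a b ha hb => rw [map_add, map_add, map_add, ha, hb]
  constructor
  · intro x y hxy
    have := congrArg L hxy
    have e1 := congrArg (fun g => g x) h1
    have e2 := congrArg (fun g => g y) h1
    simp only [LinearMap.comp_apply, LinearMap.id_apply] at e1 e2
    rw [← e1, ← e2]
    exact this
  · intro y
    refine ⟨L y, ?_⟩
    exact congrArg (fun g => g y) h2

end Groth.Agent.Lib.helper6
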