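import Mathlib
import Groth.Prelude.Def_W4bk4goldsch45p2

set_option autoImplicit false

namespace Groth.Agent.Lib.helper6

open FunFld

section Abstract
variable {K M : Type*} [Field K] [AddCommGroup M] [Module K M]

/-- the triangular hypothesis -/
def H6_Tri (c c' : ℕ → M) (a : ℕ → K) : Prop :=
  ∀ j, ∃ w ∈ Submodule.span K (c '' Set.Iio j), c' j = a j • c j + w

lemma H6_tri_span {c c' : ℕ → M} {a : ℕ → K} (ha : ∀ j, a j ≠ 0) (h : H6_Tri c c' a) (j : ℕ) :
    Submodule.span K (c' '' Set.Iio j) = Submodule.span K (c '' Set.Iio j) := by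
  induction j with
  | zero => simp
  | succ j ih =>
    have hI : Set.Iio (j + 1) = insert j (Set.Iio j) := by
      ext m; simp only [Set.mem_Iio, Set.mem_insert_iff]; omega
    rw [hI, Set.image_insert_eq, Set.image_insert_eq, Submodule.span_insert, Submodule.span_insert,
      ih]
    obtain ⟨w, hw, hc'⟩ := h j
    apply le_antisymm
    · refine sup_le ?_ le_sup_right
      rw [Submodule.span_singleton_le_iff_mem, hc']
      exact add_mem (Submodule.smul_mem _ _ (Submodule.mem_sup_left
        (Submodule.mem_span_singleton_self _))) (Submodule.mem_sup_right hw)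
    · refine sup_le ?_ le_sup_right
      rw [Submodule.span_singleton_le_iff_mem]
      have : c j = (a j)⁻¹ • c' j - (a j)⁻¹ • w := by
        rw [hc', smul_add, smul_smul, inv_mul_cancel₀ (ha j), one_smul, add_sub_cancel_right]
      rw [this]
      exact sub_mem (Submodule.smul_mem _ _ (Submodule.mem_sup_left
        (Submodule.mem_span_singleton_self _))) (Submodule.smul_mem _ _ (Submodule.mem_sup_right hw))

lemma H6_tri_jump {c c' : ℕ → M} {a : ℕ → K} (ha : ∀ j, a j ≠ 0) (h : H6_Tri c c' a) (j : ℕ) :
    IsJump K c' j ↔ IsJump K c j := by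
  unfold IsJump
  rw [H6_tri_span ha h j]
  obtain ⟨w, hw, hc'⟩ := h j
  rw [hc', not_iff_not]
  constructor
  · intro h1
    have h2 : a j • c j ∈ Submodule.span K (c '' Set.Iio j) := by
      have := sub_mem h1 hw
      rwa [add_sub_cancel_right] at this
    have := Submodule.smul_mem _ (a j)⁻¹ h2
    rwa [smul_smul, inv_mul_cancel₀ (ha j), one_smul] at this
  · intro h1
    exact add_mem (Submodule.smul_mem _ _ h1) hw

lemma H6_tri_orders {c c' : ℕ → M} {a : ℕ → K} (ha : ∀ j, a j ≠ 0) (h : H6_Tri c c' a) {n : ℕ}
    (J : Fin n → ℕ) : IsOrders K c' J ↔ IsOrders K c J := by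
  unfold IsOrders
  simp only [H6_tri_jump ha h]

/-- span reduction for an order sequence -/
lemma H6_orders_span {c : ℕ → M} {n : ℕ} {J : Fin n → ℕ} (hJ : IsOrders K c J) (j : ℕ) :
    Submodule.span K (c '' Set.Iio (j + 1)) =
      Submodule.span K (insert (c 0) ((fun m => c (J m + 1)) '' {m | J m < j})) := by
  induction j with
  | zero =>
    have : {m : Fin n | J m < 0} = ∅ := by ext m; simp
    rw [this]
    have h1 : Set.Iio (0 + 1) = {0} := by ext m; simp
    simp [h1]
  | succ j ih =>
    have hI : Set.Iio (j + 1 + 1) = insert (j + 1) (Set.Iio (j + 1)) := by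
      ext m; simp only [Set.mem_Iio, Set.mem_insert_iff]; omega
    rw [hI, Set.image_insert_eq, Submodule.span_insert, ih]
    by_cases hj : j ∈ Set.range J
    · obtain ⟨m₀, rfl⟩ := hj
      have hset : {m : Fin n | J m < J m₀ + 1} = insert m₀ {m | J m < J m₀} := by
        ext m
        simp only [Set.mem_setOf_eq, Set.mem_insert_iff]
        constructor
        · intro h
          rcases Nat.lt_succ_iff_lt_or_eq.1 h with h | h
          · exact Or.inr h
          · exact Or.inl (hJ.1.injective h)
        · rintro (rfl | h)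
          · exact Nat.lt_succ_self _
          · exact Nat.lt_succ_of_lt h
      rw [hset, Set.image_insert_eq, Set.insert_comm]
      simp only [Submodule.span_insert]
    · have hnj : ¬ IsJump K c (j + 1) := fun h => hj ((hJ.2 j).2 h)
      unfold IsJump at hnj
      push Not at hnj
      rw [ih] at hnj
      have hset : {m : Fin n | J m < j + 1} = {m | J m < j} := by
        ext m
        simp only [Set.mem_setOf_eq]
        constructor
        · intro h
          rcases Nat.lt_succ_iff_lt_or_eq.1 h with h | h
          · exact h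
          · exact absurd ⟨m, h⟩ hj
        · exact fun h => Nat.lt_succ_of_lt h
      rw [hset]
      exact sup_eq_right.2 ((Submodule.span_singleton_le_iff_mem _ _).2 hnj)

end Abstract

section Det
variable {K : Type*} [Field K]

open Classical in
lemma H6_det_tri {m : ℕ} (N N' : Matrix (Fin m) (Fin m) K) (a : Fin m → K)
    (h : ∀ q, ∃ w ∈ Submodule.span K ((fun r : Fin m => (fun i => N i r)) '' {r | r < q}),
      (fun i => N' i q) = a q • (fun i => N i q) + w) :
    N'.det = (∏ q, a q) * N.det := by
  choose w hw hN' using h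
  have hl : ∀ q, ∃ l ∈ Finsupp.supported K K {r : Fin m | r < q},
      Finsupp.linearCombination K (fun r : Fin m => (fun i => N i r)) l = w q :=
    fun q => (Finsupp.mem_span_image_iff_linearCombination K).1 (hw q)
  choose l hl hlw using hl
  have hl0 : ∀ q r, ¬ r < q → l q r = 0 := by
    intro q r hr
    by_contra hne
    exact hr ((hl q) (Finsupp.mem_support_iff.2 hne))
  obtain ⟨U, hU⟩ : ∃ U : Matrix (Fin m) (Fin m) K,
      U = Matrix.of fun r q => l q r + if r = q then a q else 0 := ⟨_, rfl⟩
  have hprod : N' = N * U := by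
    ext i q
    have h1 := congrFun (hN' q) i
    simp only [Pi.add_apply, Pi.smul_apply, smul_eq_mul] at h1
    rw [h1, ← hlw q, Finsupp.linearCombination_apply, Finsupp.sum_fintype _ _ (by simp),
      Matrix.mul_apply, hU]
    simp only [Matrix.of_apply, mul_add, Finset.sum_add_distrib, Finset.sum_apply, Pi.smul_apply,
      smul_eq_mul, mul_ite, mul_zero, Finset.sum_ite_eq', Finset.mem_univ, if_true]
    rw [add_comm, mul_comm (a q)]
    congr 1
    exact Finset.sum_congr rfl fun r _ => mul_comm _ _
  have htri : U.BlockTriangular id := by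
    intro r q hrq
    simp only [id] at hrq
    rw [hU, Matrix.of_apply, hl0 q r (not_lt.2 hrq.le), if_neg hrq.ne', add_zero]
  have hdiag : ∀ q, U q q = a q := by
    intro q
    rw [hU, Matrix.of_apply, hl0 q q (lt_irrefl _), if_pos rfl, zero_add]
  rw [hprod, Matrix.det_mul, Matrix.det_of_isUpperTriangular htri, mul_comm]
  simp only [hdiag]

end Det

section Concrete
variable {k K : Type*} [Field k] [Field K] [Algebra k K]

lemma H6_hcol_tri {ι : Type*} (τ : K →ₐ[k] K) (H : K →ₐ[k] PowerSeries K)
    (hH : ∀ y : K, PowerSeries.constantCoeff (H y) = y) (φ : ι → K) (y : K) :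
    H6_Tri (K := K) (hcol τ H φ) (hcol τ H (y • φ)) (fun j => if j = 0 then τ y else y) := by
  intro j
  cases j with
  | zero =>
    refine ⟨0, zero_mem _, ?_⟩
    funext i
    simp [hcol]
  | succ j =>
    refine ⟨∑ m ∈ Finset.range j, PowerSeries.coeff (m + 1) (H y) • hcol τ H φ (j - (m + 1) + 1),
      ?_, ?_⟩
    · refine Submodule.sum_mem _ fun m hm => Submodule.smul_mem _ _
        (Submodule.subset_span ⟨j - (m + 1) + 1, ?_, rfl⟩)
      have := Finset.mem_range.1 hm
      simp only [Set.mem_Iio]; omega
    · funext i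
      beta_reduce
      rw [if_neg (Nat.succ_ne_zero j)]
      simp only [hcol, Pi.smul_apply, smul_eq_mul, map_mul, LocRes.hasseD_apply,
        PowerSeries.coeff_mul, Pi.add_apply, Finset.sum_apply]
      rw [Finset.Nat.sum_antidiagonal_eq_sum_range_succ
        (fun a b => PowerSeries.coeff a (H y) * PowerSeries.coeff b (H (φ i))),
        Finset.sum_range_succ']
      simp only [PowerSeries.coeff_zero_eq_constantCoeff_apply, hH, Nat.sub_zero]
      rw [add_comm]

theorem H6_wronsk_scale {n : ℕ} (φ : Fin (n + 1) → K)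
    (τ : K →ₐ[k] K) (H : K →ₐ[k] PowerSeries K)
    (hH : ∀ y : K, PowerSeries.constantCoeff (H y) = y) (y : K) (hy : y ≠ 0) :
    (∀ J : Fin n → ℕ, IsOrders K (hcol τ H (y • φ)) J ↔ IsOrders K (hcol τ H φ) J) ∧
    ∀ J : Fin n → ℕ, IsOrders K (hcol τ H φ) J →
      (wrMat τ H (y • φ) J).det = τ y * y ^ n * (wrMat τ H φ J).det := by
  have htri := H6_hcol_tri τ H hH φ y
  have ha : ∀ j : ℕ, (fun j => if j = 0 then τ y else y) j ≠ 0 := by
    intro j
    beta_reduce
    split_ifs
    · exact (map_ne_zero τ).2 hy
    · exact hy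
  refine ⟨fun J => H6_tri_orders ha htri J, fun J hJ => ?_⟩
  have key := H6_det_tri (wrMat τ H φ J) (wrMat τ H (y • φ) J)
    (Fin.cases (τ y) (fun _ => y)) ?_
  · rw [key, Fin.prod_univ_succ]
    simp
  · intro q
    cases q using Fin.cases with
    | zero =>
      refine ⟨0, zero_mem _, ?_⟩
      funext i
      simp [wrMat]
    | succ l =>
      obtain ⟨w, hw, hc'⟩ := htri (J l + 1)
      refine ⟨w, ?_, ?_⟩
      · rw [H6_orders_span hJ (J l)] at hw
        refine Submodule.span_mono ?_ hw
        intro v hv
        rcases hv with rfl | ⟨m, hm, rfl⟩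
        · exact ⟨0, Fin.succ_pos l, by funext i; simp [wrMat, hcol]⟩
        · refine ⟨m.succ, ?_, by funext i; simp [wrMat, hcol]⟩
          have : m < l := hJ.1.lt_iff_lt.1 hm
          exact Fin.succ_lt_succ_iff.2 this
      · beta_reduce at hc'
        rw [if_neg (Nat.succ_ne_zero _)] at hc'
        funext i
        have := congrFun hc' i
        simpa [wrMat, hcol] using this

end Concrete

end Groth.Agent.Lib.helper6
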