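import Mathlib
import Groth.Agent.Lib.helper6.WronskScale

set_option autoImplicit false
set_option linter.style.haveILetI false

namespace Groth.Agent.Lib.helper6

open FunFld

section Abstract
variable {K M : Type*} [Field K] [AddCommGroup M] [Module K M]

lemma H6_jump_card [FiniteDimensional K M] (c : ℕ → M) (S : Finset ℕ)
    (hS : ∀ j ∈ S, IsJump K c j) : S.card ≤ Module.finrank K M := by
  classical
  have hli : LinearIndepOn K c (S : Set ℕ) := by
    induction S using Finset.induction_on_max with
    | empty => simp
    | insert a s ha ih =>
      rw [Finset.coe_insert]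
      refine (ih fun j hj => hS j (Finset.mem_insert_of_mem hj)).insert ?_
      have hj := hS a (Finset.mem_insert_self a s)
      intro hmem
      exact hj (Submodule.span_mono (Set.image_mono fun x hx => ha x hx) hmem)
  have h := hli.linearIndependent.fintype_card_le_finrank
  simpa using h

/-- the flag of spans -/
lemma H6_span_Iio_succ (c : ℕ → M) (j : ℕ) :
    Submodule.span K (c '' Set.Iio (j + 1)) =
      Submodule.span K (c '' Set.Iio j) ⊔ Submodule.span K {c j} := by
  have hI : Set.Iio (j + 1) = insert j (Set.Iio j) := by
    ext m; simp only [Set.mem_Iio, Set.mem_insert_iff]; omega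
  rw [hI, Set.image_insert_eq, Submodule.span_insert, sup_comm]

lemma H6_span_Iio_mono (c : ℕ → M) {i j : ℕ} (h : i ≤ j) :
    Submodule.span K (c '' Set.Iio i) ≤ Submodule.span K (c '' Set.Iio j) :=
  Submodule.span_mono (Set.image_mono fun x hx => lt_of_lt_of_le hx h)

end Abstract

end Groth.Agent.Lib.helper6
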