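import Mathlib
import Groth.Agent.Lib.helper6.TauOrders

set_option autoImplicit false
set_option linter.style.haveILetI false

namespace Groth.Agent.Lib.helper6

open FunFld

section Abstract
variable {K M : Type*} [Field K] [AddCommGroup M] [Module K M]

lemma H6_jump_zero (c : ℕ → M) (h0 : c 0 ≠ 0) : IsJump K c 0 := by
  unfold IsJump
  have : Set.Iio (0 : ℕ) = ∅ := by ext m; simp
  rw [this, Set.image_empty, Submodule.span_empty]
  exact h0

/-- Step A: the extra vector lies in the span of the columns. -/
lemma H6_mem_span_cols [FiniteDimensional K M] {n : ℕ} (hfr : Module.finrank K M = n + 1)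
    (c : ℕ → M) (h0 : c 0 ≠ 0) (J : Fin n → ℕ) (hJ : IsOrders K c J) (t : M) :
    ∃ j, t ∈ Submodule.span K (c '' Set.Iio (j + 1)) := by
  classical
  by_contra hcon
  push Not at hcon
  obtain ⟨N', hN⟩ : ∃ N', ∀ l, J l + 1 < N' + 1 :=
    ⟨Finset.univ.sup J + 1, fun l => by
      have := Finset.le_sup (f := J) (Finset.mem_univ l); omega⟩
  obtain ⟨c'', hc''⟩ : ∃ c'' : ℕ → M, c'' = fun i => if i < N' + 1 then c i else t := ⟨_, rfl⟩
  have himg : ∀ i ≤ N' + 1, c'' '' Set.Iio i = c '' Set.Iio i := by
    intro i hi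
    apply Set.image_congr
    intro x hx
    rw [hc'']
    simp only
    rw [if_pos (lt_of_lt_of_le hx hi)]
  have hjump_lt : ∀ i < N' + 1, IsJump K c i → IsJump K c'' i := by
    intro i hi hji
    unfold IsJump at hji ⊢
    rw [himg i hi.le]
    have : c'' i = c i := by rw [hc'']; simp only; rw [if_pos hi]
    rw [this]
    exact hji
  have hjumpN : IsJump K c'' (N' + 1) := by
    unfold IsJump
    rw [himg (N' + 1) le_rfl]
    have : c'' (N' + 1) = t := by rw [hc'']; simp
    rw [this]
    exact hcon N'
  obtain ⟨S, hS⟩ : ∃ S : Finset ℕ,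
      S = insert (N' + 1) (insert 0 (Finset.univ.image fun l => J l + 1)) := ⟨_, rfl⟩
  have hSj : ∀ j ∈ S, IsJump K c'' j := by
    intro j hj
    rw [hS, Finset.mem_insert, Finset.mem_insert, Finset.mem_image] at hj
    rcases hj with rfl | rfl | ⟨l, -, rfl⟩
    · exact hjumpN
    · exact hjump_lt 0 (by omega) (H6_jump_zero c h0)
    · exact hjump_lt _ (hN l) ((hJ.2 (J l)).mp ⟨l, rfl⟩)
  have hcard : S.card = n + 2 := by
    rw [hS, Finset.card_insert_of_notMem, Finset.card_insert_of_notMem,
      Finset.card_image_of_injective, Finset.card_univ, Fintype.card_fin]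
    · intro a b hab
      exact hJ.1.injective (by simpa using hab)
    · simp
    · rw [Finset.mem_insert, Finset.mem_image]
      rintro (h | ⟨l, -, h⟩)
      · omega
      · have := hN l; omega
  have := H6_jump_card c'' S hSj
  omega

end Abstract

end Groth.Agent.Lib.helper6
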