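import Mathlib
import Groth.Agent.Lib.helper6.TauOrders2

set_option autoImplicit false
set_option linter.style.haveILetI false

namespace Groth.Agent.Lib.helper6

open FunFld

section Abstract
variable {K M : Type*} [Field K] [AddCommGroup M] [Module K M]

lemma H6_span_c' (c c' : ℕ → M) (hc' : ∀ j, c' (j + 1) = c (j + 1)) (h01 : c 1 = c 0) (j : ℕ) :
    Submodule.span K (c' '' Set.Iio (j + 2)) =
      Submodule.span K {c' 0} ⊔ Submodule.span K (c '' Set.Iio (j + 2)) := by
  have hI1 : Set.Iio (1 : ℕ) = {0} := by ext m; simp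
  induction j with
  | zero =>
    rw [show (0 + 2 : ℕ) = 1 + 1 from rfl, H6_span_Iio_succ c' 1, H6_span_Iio_succ c 1, hI1,
      Set.image_singleton, Set.image_singleton, hc' 0, h01, sup_idem]
  | succ j ih =>
    rw [show (j + 1 + 2 : ℕ) = (j + 2) + 1 from rfl, H6_span_Iio_succ c' (j + 2),
      H6_span_Iio_succ c (j + 2), ih, hc' (j + 1), sup_assoc]

/-- abstract description of the `τ`-orders -/
lemma H6_tau_orders [FiniteDimensional K M] {n : ℕ} (hfr : Module.finrank K M = n + 1)
    (c c' : ℕ → M) (hc' : ∀ j, c' (j + 1) = c (j + 1)) (h01 : c 1 = c 0) (h0 : c 0 ≠ 0)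
    (ht : c' 0 ∉ Submodule.span K {c 0}) (J : Fin n → ℕ) (hJ : IsOrders K c J) :
    ∃ m : Fin n, ∀ j : ℕ, IsJump K c' (j + 1) ↔ (j = 0 ∨ ∃ l, l ≠ m ∧ J l = j) := by
  classical
  have hI1 : Set.Iio (1 : ℕ) = {0} := by ext m; simp
  have hex := H6_mem_span_cols hfr c h0 J hJ (c' 0)
  obtain ⟨js, hjs⟩ : ∃ js, js = Nat.find hex := ⟨_, rfl⟩
  have hjs_mem : c' 0 ∈ Submodule.span K (c '' Set.Iio (js + 1)) := hjs ▸ Nat.find_spec hex
  have hjs_min : ∀ i, i < js → c' 0 ∉ Submodule.span K (c '' Set.Iio (i + 1)) :=
    fun i hi => Nat.find_min hex (hjs ▸ hi)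
  have hjs0 : js ≠ 0 := by
    rintro rfl
    rw [zero_add, hI1, Set.image_singleton] at hjs_mem
    exact ht hjs_mem
  obtain ⟨j0, rfl⟩ : ∃ j0, js = j0 + 1 := ⟨js - 1, by omega⟩
  have hnot : c' 0 ∉ Submodule.span K (c '' Set.Iio (j0 + 1)) := hjs_min j0 (Nat.lt_succ_self _)
  -- `c (j0+1)` is a jump of `c`
  have hjump : IsJump K c (j0 + 1) := by
    unfold IsJump
    intro hmem
    rw [H6_span_Iio_succ c (j0 + 1), sup_eq_left.mpr
      ((Submodule.span_singleton_le_iff_mem _ _).mpr hmem)] at hjs_mem
    exact hnot hjs_mem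
  obtain ⟨m, hm⟩ := (hJ.2 j0).mpr hjump
  refine ⟨m, fun j => ?_⟩
  cases j with
  | zero =>
    simp only [zero_add, true_or, iff_true]
    unfold IsJump
    rw [hI1, Set.image_singleton, hc' 0, h01]
    intro hmem
    obtain ⟨a, ha⟩ := Submodule.mem_span_singleton.mp hmem
    have ha0 : a ≠ 0 := by
      rintro rfl
      rw [zero_smul] at ha
      exact h0 ha.symm
    apply ht
    rw [Submodule.mem_span_singleton]
    refine ⟨a⁻¹, ?_⟩
    rw [← ha, smul_smul, inv_mul_cancel₀ ha0, one_smul]
  | succ i =>
    have hne0 : i + 1 ≠ 0 := Nat.succ_ne_zero i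
    simp only [hne0, false_or]
    have hjc' : IsJump K c' (i + 1 + 1) ↔
        c (i + 2) ∉ Submodule.span K {c' 0} ⊔ Submodule.span K (c '' Set.Iio (i + 2)) := by
      unfold IsJump
      rw [show i + 1 + 1 = i + 2 from rfl, H6_span_c' c c' hc' h01 i, hc' (i + 1)]
    rw [hjc']
    have hjc : (∃ l, J l = i + 1) ↔ c (i + 2) ∉ Submodule.span K (c '' Set.Iio (i + 2)) := by
      have := hJ.2 (i + 1)
      rw [Set.mem_range] at this
      exact this
    rcases lt_trichotomy (i + 1) j0 with hlt | heq | hgt
    · -- before the critical index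
      have hnotmem : c' 0 ∉ Submodule.span K (c '' Set.Iio (i + 2 + 1)) :=
        hjs_min (i + 2) (by omega)
      have hiff : c (i + 2) ∈ Submodule.span K {c' 0} ⊔ Submodule.span K (c '' Set.Iio (i + 2)) ↔
          c (i + 2) ∈ Submodule.span K (c '' Set.Iio (i + 2)) := by
        constructor
        · intro h
          obtain ⟨y, hy, u, hu, hyu⟩ := Submodule.mem_sup.mp h
          obtain ⟨a, rfl⟩ := Submodule.mem_span_singleton.mp hy
          by_cases ha : a = 0
          · rw [ha, zero_smul, zero_add] at hyu
            rw [← hyu]; exact hu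
          · exfalso
            apply hnotmem
            rw [H6_span_Iio_succ c (i + 2)]
            have : c' 0 = a⁻¹ • (c (i + 2) - u) := by
              rw [← hyu, add_sub_cancel_right, smul_smul, inv_mul_cancel₀ ha, one_smul]
            rw [this]
            apply Submodule.smul_mem
            apply Submodule.sub_mem
            · exact Submodule.mem_sup_right (Submodule.mem_span_singleton_self _)
            · exact Submodule.mem_sup_left hu
        · exact fun h => Submodule.mem_sup_right h
      rw [hiff, ← hjc]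
      constructor
      · rintro ⟨l, hl⟩
        refine ⟨l, ?_, hl⟩
        rintro rfl
        omega
      · rintro ⟨l, -, hl⟩
        exact ⟨l, hl⟩
    · -- at the critical index
      subst heq
      constructor
      · intro h
        exfalso
        apply h
        rw [H6_span_Iio_succ c (i + 1 + 1)] at hjs_mem
        obtain ⟨u, hu, y, hy, huy⟩ := Submodule.mem_sup.mp hjs_mem
        obtain ⟨a, rfl⟩ := Submodule.mem_span_singleton.mp hy
        have ha : a ≠ 0 := by
          rintro rfl
          rw [zero_smul, add_zero] at huy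
          exact hnot (huy ▸ hu)
        have : c (i + 2) = a⁻¹ • (c' 0 - u) := by
          rw [← huy, add_sub_cancel_left, smul_smul, inv_mul_cancel₀ ha, one_smul]
        rw [this]
        apply Submodule.smul_mem
        apply Submodule.sub_mem
        · exact Submodule.mem_sup_left (Submodule.mem_span_singleton_self _)
        · exact Submodule.mem_sup_right hu
      · rintro ⟨l, hl, hl2⟩
        exfalso
        apply hl
        apply hJ.1.injective
        rw [hl2, hm]
    · -- after the critical index
      have hle : Submodule.span K {c' 0} ≤ Submodule.span K (c '' Set.Iio (i + 2)) := by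
        rw [Submodule.span_singleton_le_iff_mem]
        exact H6_span_Iio_mono c (by omega) hjs_mem
      rw [sup_eq_right.mpr hle, ← hjc]
      constructor
      · rintro ⟨l, hl⟩
        refine ⟨l, ?_, hl⟩
        rintro rfl
        omega
      · rintro ⟨l, -, hl⟩
        exact ⟨l, hl⟩

end Abstract

end Groth.Agent.Lib.helper6
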