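import Mathlib
import Groth.Agent.Lib.helper6.TauOrders3

set_option autoImplicit false
set_option linter.style.haveILetI false

namespace Groth.Agent.Lib.helper6

open FunFld

section Concrete
variable {k K : Type*} [Field k] [Field K] [Algebra k K]

/-- an endomorphism fixing a generating set of the field is the identity -/
lemma H6_algHom_eq_id_of_adjoin (τ : K →ₐ[k] K) (S : Set K)
    (hS : IntermediateField.adjoin k S = ⊤) (h : ∀ x ∈ S, τ x = x) : τ = AlgHom.id k K := by
  let E : IntermediateField k K :=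
    Subalgebra.toIntermediateField (AlgHom.equalizer τ (AlgHom.id k K)) (by
      intro x hx
      rw [AlgHom.mem_equalizer] at hx ⊢
      rw [map_inv₀, hx]
      simp)
  have hle : IntermediateField.adjoin k S ≤ E := by
    rw [IntermediateField.adjoin_le_iff]
    intro x hx
    change x ∈ AlgHom.equalizer τ (AlgHom.id k K)
    rw [AlgHom.mem_equalizer]
    exact h x hx
  rw [hS] at hle
  ext x
  have : x ∈ E := hle trivial
  change x ∈ AlgHom.equalizer τ (AlgHom.id k K) at this
  rw [AlgHom.mem_equalizer] at this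
  exact this

theorem H6_tau_orders_concrete {n : ℕ} (φ : Fin (n + 1) → K)
    (h0 : φ 0 ≠ 0) (hbir : IntermediateField.adjoin k (Set.range fun i => φ i / φ 0) = ⊤)
    (τ : K →ₐ[k] K) (hτ : τ ≠ AlgHom.id k K) (s : K) (H : K →ₐ[k] PowerSeries K)
    (hH : LocRes.IsHasseFamily s H)
    (J : Fin n → ℕ) (hJ : IsOrders K (hcol (AlgHom.id k K) H φ) J) :
    ∃ m : Fin n, ∀ j : ℕ,
      IsJump K (hcol τ H φ) (j + 1) ↔ (j = 0 ∨ ∃ l, l ≠ m ∧ J l = j) := by
  have hfr : Module.finrank K (Fin (n + 1) → K) = n + 1 := by simp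
  have hc0 : hcol (AlgHom.id k K) H φ 0 = φ := by
    funext i; simp [hcol]
  have hc1 : hcol (AlgHom.id k K) H φ 1 = φ := by
    funext i
    simp only [hcol, LocRes.hasseD_apply, PowerSeries.coeff_zero_eq_constantCoeff]
    exact hH.2 (φ i)
  refine H6_tau_orders hfr (hcol (AlgHom.id k K) H φ) (hcol τ H φ) (fun j => rfl)
    (hc1.trans hc0.symm) ?_ ?_ J hJ
  · rw [hc0]
    intro h
    exact h0 (congrFun h 0)
  · rw [hc0]
    intro hmem
    obtain ⟨a, ha⟩ := Submodule.mem_span_singleton.mp hmem
    have hval : ∀ i, τ (φ i) = a * φ i := by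
      intro i
      have := congrFun ha i
      simp only [hcol, Pi.smul_apply, smul_eq_mul] at this
      exact this.symm
    have hτ0 : τ (φ 0) ≠ 0 := by
      rw [Ne, map_eq_zero]; exact h0
    have ha0 : a ≠ 0 := by
      rintro rfl
      rw [hval 0, zero_mul] at hτ0
      exact hτ0 rfl
    apply hτ
    apply H6_algHom_eq_id_of_adjoin τ _ hbir
    rintro _ ⟨i, rfl⟩
    simp only
    rw [map_div₀, hval i, hval 0, mul_div_mul_left _ _ ha0]

end Concrete

end Groth.Agent.Lib.helper6
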