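import Mathlib
import Groth.Agent.Lib.helper6.WronskScale

set_option autoImplicit false

namespace Groth.Agent.Lib.helper6

open FunFld

section
variable {K : Type*} [Field K]

open Classical in
/-- abstract minimality of the order sequence. -/
lemma H6_orders_min {n : ℕ} {c : ℕ → (Fin (n + 1) → K)} {J : Fin n → ℕ}
    (hJ : IsOrders K c J) (J' : Fin n → ℕ) (hJ' : StrictMono J')
    (N : Matrix (Fin (n + 1)) (Fin (n + 1)) K) (hN0 : ∀ i, N i 0 = c 0 i)
    (hNs : ∀ i (m : Fin n), N i m.succ = c (J' m + 1) i) (hdet : N.det ≠ 0) :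
    ∀ l, J l ≤ J' l := by
  intro l
  have hv : LinearIndependent K N.col := Matrix.linearIndependent_cols_of_det_ne_zero hdet
  obtain ⟨x, hx⟩ : ∃ x, x = J' l := ⟨_, rfl⟩
  obtain ⟨T, hT⟩ : ∃ T : Finset (Fin n), T = Finset.univ.filter (fun m : Fin n => J m < x + 1) :=
    ⟨_, rfl⟩
  obtain ⟨W, hW⟩ : ∃ W : Finset (Fin (n + 1) → K),
    W = insert (c 0) (T.image (fun m => c (J m + 1))) := ⟨_, rfl⟩
  have hWcard : W.card ≤ T.card + 1 := by
    rw [hW]
    exact (Finset.card_insert_le _ _).trans (Nat.succ_le_succ Finset.card_image_le)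
  have hS : Submodule.span K (c '' Set.Iio (x + 1 + 1)) = Submodule.span K (W : Set _) := by
    rw [H6_orders_span hJ (x + 1), hW, hT]
    congr 1
    ext z
    simp
  have hmem : ∀ q : {q : Fin (n + 1) // q ≤ l.succ}, N.col q ∈ Submodule.span K (W : Set _) := by
    rintro ⟨q, hq⟩
    rw [← hS]
    refine Submodule.subset_span ?_
    cases q using Fin.cases with
    | zero =>
      refine ⟨0, by simp, ?_⟩
      funext i; simp [Matrix.col, hN0]
    | succ m =>
      have hml : m ≤ l := Fin.succ_le_succ_iff.1 hq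
      have : J' m ≤ J' l := hJ'.monotone hml
      refine ⟨J' m + 1, by simp only [Set.mem_Iio]; omega, ?_⟩
      funext i; simp [Matrix.col, hNs]
  have hu : LinearIndependent K
      (fun q : {q : Fin (n + 1) // q ≤ l.succ} =>
        (⟨N.col q, hmem q⟩ : Submodule.span K (W : Set (Fin (n + 1) → K)))) := by
    apply LinearIndependent.of_comp (Submodule.span K (W : Set (Fin (n + 1) → K))).subtype
    exact hv.comp _ Subtype.val_injective
  have h1 := hu.fintype_card_le_finrank
  have h2 : Module.finrank K (Submodule.span K (W : Set (Fin (n + 1) → K))) ≤ W.card :=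
    finrank_span_finset_le_card W
  have h3 : Fintype.card {q : Fin (n + 1) // q ≤ l.succ} = (l : ℕ) + 2 := by
    rw [Fintype.card_subtype]
    have : (Finset.univ.filter fun q : Fin (n + 1) => q ≤ l.succ) = Finset.Iic l.succ := by
      ext q; simp
    rw [this, Fin.card_Iic]
    simp
  have h4 : (l : ℕ) + 1 ≤ T.card := by omega
  by_contra hcon
  push Not at hcon
  have h5 : T ⊆ Finset.Iio l := by
    intro m hm
    rw [hT, Finset.mem_filter] at hm
    rw [Finset.mem_Iio]
    have : J m < J l := by omega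
    exact hJ.1.lt_iff_lt.1 this
  have h6 := Finset.card_le_card h5
  rw [Fin.card_Iio] at h6
  omega

end

section Concrete
variable {k K : Type*} [Field k] [Field K] [Algebra k K]

theorem H6_wronsk_min {n : ℕ} (φ : Fin (n + 1) → K)
    (τ : K →ₐ[k] K) (H : K →ₐ[k] PowerSeries K)
    (J : Fin n → ℕ) (hJ : IsOrders K (hcol τ H φ) J)
    (J' : Fin n → ℕ) (hJ' : StrictMono J') (hdet : (wrMat τ H φ J').det ≠ 0) :
    ∀ l, J l ≤ J' l :=
  H6_orders_min hJ J' hJ' (wrMat τ H φ J') (fun i => by simp [wrMat, hcol])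
    (fun i m => by simp [wrMat, hcol]) hdet

end Concrete

end Groth.Agent.Lib.helper6
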